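import Cfsg.Agent.Lib.Char.Basic
import Mathlib.GroupTheory.GroupAction.Quotient
import Mathlib.Analysis.Complex.Polynomial.Basic

/-!
# Decomposition of characters, orthogonality relations, completeness
-/

namespace Cfsg.Agent.Char

open scoped ComplexConjugate
open Representation Module

set_option linter.style.haveILetI false

universe u v

variable {G : Type u} [Group G]

section Decomposition

variable {V : Type v} [AddCommGroup V] [Module ℂ V]

/-- The representation is the product of two complementary subrepresentations. -/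
noncomputable def prodEquivOfIsCompl (ρ : Representation ℂ G V) (A B : Subrepresentation ρ)
    (h : IsCompl A.toSubmodule B.toSubmodule) :
    Representation.Equiv (A.toRepresentation.prod B.toRepresentation) ρ :=
  Representation.Equiv.mk (Submodule.prodEquivOfIsCompl _ _ h) fun g => by
    refine LinearMap.ext fun x => ?_
    obtain ⟨a, b⟩ := x
    simp [Subrepresentation.toRepresentation]

/-- A representation of a finite group is trivial, irreducible, or splits properly. -/
theorem subsingleton_or_irreducible_or_split [Finite G] [FiniteDimensional ℂ V]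
    (ρ : Representation ℂ G V) :
    Subsingleton V ∨ ρ.IsIrreducible ∨ ∃ A B : Subrepresentation ρ,
      IsCompl A.toSubmodule B.toSubmodule ∧ finrank ℂ A.toSubmodule < finrank ℂ V ∧
        finrank ℂ B.toSubmodule < finrank ℂ V := by
  rcases subsingleton_or_nontrivial V with hV | hV
  · exact Or.inl hV
  refine Or.inr ?_
  by_cases hirr : ρ.IsIrreducible
  · exact Or.inl hirr
  refine Or.inr ?_
  have hbt : (⊥ : Subrepresentation ρ) ≠ ⊤ := fun he =>
    bot_ne_top (α := Submodule ℂ V) (congrArg Subrepresentation.toSubmodule he)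
  obtain ⟨A, hA0, hA1⟩ : ∃ A : Subrepresentation ρ, A ≠ ⊥ ∧ A ≠ ⊤ := by
    by_contra hcon
    push Not at hcon
    refine hirr { exists_pair_ne := ⟨⊥, ⊤, hbt⟩, eq_bot_or_eq_top := fun A => ?_ }
    by_cases h : A = ⊥
    · exact Or.inl h
    · exact Or.inr (hcon A h)
  haveI : NeZero (Nat.card G : ℂ) := ⟨Nat.cast_ne_zero.2 Nat.card_pos.ne'⟩
  haveI : ρ.IsSemisimpleRepresentation := inferInstance
  obtain ⟨B, hB⟩ := ComplementedLattice.exists_isCompl A
  have hA0' : A.toSubmodule ≠ ⊥ := fun he => hA0 (Subrepresentation.toSubmodule_injective he)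
  have hA1' : A.toSubmodule ≠ ⊤ := fun he => hA1 (Subrepresentation.toSubmodule_injective he)
  have hc : IsCompl A.toSubmodule B.toSubmodule := by
    constructor
    · rw [disjoint_iff, ← Subrepresentation.toSubmodule_inf, hB.inf_eq_bot]; rfl
    · rw [codisjoint_iff, ← Subrepresentation.toSubmodule_sup, hB.sup_eq_top]; rfl
  refine ⟨A, B, hc, Submodule.finrank_lt hA1', ?_⟩
  have h1 := Submodule.finrank_add_eq_of_isCompl hc
  have h2 : 0 < finrank ℂ A.toSubmodule := Nat.pos_of_ne_zero fun h0 =>
    hA0' (Submodule.finrank_eq_zero.1 h0)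
  omega

theorem character_eq_add_of_isCompl [FiniteDimensional ℂ V] (ρ : Representation ℂ G V)
    (A B : Subrepresentation ρ) (h : IsCompl A.toSubmodule B.toSubmodule) :
    ρ.character = A.toRepresentation.character + B.toRepresentation.character := by
  rw [← Representation.char_iso (prodEquivOfIsCompl ρ A B h)]
  funext g
  exact LinearMap.trace_prodMap' _ _

end Decomposition

/-- Every character is a sum of irreducible characters, as an induction principle. -/
theorem IsCharacter.induction_on [Finite G] {P : (G → ℂ) → Prop} {χ : G → ℂ}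
    (hχ : IsCharacter G χ) (zero : P 0)
    (add : ∀ φ ψ, IsCharacter G φ → IsCharacter G ψ → P φ → P ψ → P (φ + ψ))
    (irr : ∀ φ, IsIrrCharacter G φ → P φ) : P χ := by
  obtain ⟨n, ρ, rfl⟩ := hχ
  induction n using Nat.strong_induction_on with
  | _ n ih =>
    rcases subsingleton_or_irreducible_or_split ρ with h | h | ⟨A, B, hc, hA, hB⟩
    · have : ρ.character = 0 := by
        funext g
        simp [Representation.character, Subsingleton.elim (ρ g) 0]
      rw [this]; exact zero
    · exact irr _ (isIrrCharacter_character ρ h)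
    · rw [Module.finrank_fin_fun] at hA hB
      rw [character_eq_add_of_isCompl ρ A B hc]
      refine add _ _ (isCharacter_character _) (isCharacter_character _) ?_ ?_
      · rw [← character_conjRep A.toRepresentation (Module.finBasis ℂ A.toSubmodule).equivFun]
        exact ih _ hA _
      · rw [← character_conjRep B.toRepresentation (Module.finBasis ℂ B.toSubmodule).equivFun]
        exact ih _ hB _

/-! ### Row orthogonality -/

theorem classInner_irr_self [Fintype G] {χ : G → ℂ} (hχ : IsIrrCharacter G χ) :
    classInner χ χ = 1 := by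
  obtain ⟨n, ρ, hρ, rfl⟩ := hχ
  haveI := hρ
  rw [classInner_character, Representation.IsIrreducible.finrank_intertwiningMap_self, Nat.cast_one]

theorem classInner_irr_of_ne [Fintype G] {χ ψ : G → ℂ} (hχ : IsIrrCharacter G χ)
    (hψ : IsIrrCharacter G ψ) (hne : χ ≠ ψ) : classInner χ ψ = 0 := by
  obtain ⟨m, ρ, hρ, rfl⟩ := hχ
  obtain ⟨n, σ, hσ, rfl⟩ := hψ
  haveI := hρ
  haveI := hσ
  rw [classInner_character]
  rcases isEmpty_or_nonempty (Representation.Equiv σ ρ) with h | ⟨⟨φ⟩⟩
  · simp [finrank_eq_zero_of_subsingleton]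
  · exact absurd (Representation.char_iso φ).symm hne

open scoped Classical in
/-- The first orthogonality relation. -/
theorem classInner_irr [Fintype G] (χ ψ : IrrCharacter G) :
    classInner χ.1 ψ.1 = if χ = ψ then 1 else 0 := by
  split_ifs with h
  · rw [h]; exact classInner_irr_self ψ.2
  · exact classInner_irr_of_ne χ.2 ψ.2 fun he => h (Subtype.ext he)

theorem linearIndependent_irr [Finite G] :
    LinearIndependent ℂ (fun χ : IrrCharacter G => χ.1) := by
  classical
  haveI := Fintype.ofFinite G
  rw [linearIndependent_iff']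
  intro s c hc i hi
  have := congrArg (fun f => classInner f i.1) hc
  simpa [classInner_sum_left, classInner_smul_left, classInner_irr, hi] using this

instance irrFinite [Finite G] : Finite (IrrCharacter G) :=
  (linearIndependent_irr (G := G)).finite

noncomputable instance irrFintype [Finite G] : Fintype (IrrCharacter G) := Fintype.ofFinite _

variable [Fintype G]

theorem classInner_sum_irr_left (c : IrrCharacter G → ℂ) (ψ : IrrCharacter G) :
    classInner (∑ χ, c χ • χ.1) ψ.1 = c ψ := by
  classical
  simp [classInner_sum_left, classInner_smul_left, classInner_irr]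

/-! ### Completeness -/

/-- The operator `∑ c g • ρ g`. -/
noncomputable def opSum {V : Type v} [AddCommGroup V] [Module ℂ V] (c : G → ℂ)
    (ρ : Representation ℂ G V) : V →ₗ[ℂ] V :=
  ∑ g : G, c g • ρ g

theorem opSum_apply {V : Type v} [AddCommGroup V] [Module ℂ V] (c : G → ℂ)
    (ρ : Representation ℂ G V) (x : V) : opSum c ρ x = ∑ g : G, c g • ρ g x := by
  simp [opSum]

theorem opSum_comm {V : Type v} [AddCommGroup V] [Module ℂ V] {c : G → ℂ}
    (hc : IsClassFunction G c) (ρ : Representation ℂ G V) (h : G) (x : V) :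
    opSum c ρ (ρ h x) = ρ h (opSum c ρ x) := by
  simp only [opSum_apply, map_sum, map_smul]
  refine Fintype.sum_equiv (MulAut.conj h⁻¹).toEquiv _ _ fun g => ?_
  show c g • ρ g (ρ h x) = c (h⁻¹ * g * h⁻¹⁻¹) • ρ h (ρ (h⁻¹ * g * h⁻¹⁻¹) x)
  rw [hc g h⁻¹, ← Module.End.mul_apply, ← map_mul, ← Module.End.mul_apply, ← map_mul]
  group

theorem trace_opSum {V : Type v} [AddCommGroup V] [Module ℂ V] (c : G → ℂ)
    (ρ : Representation ℂ G V) :
    LinearMap.trace ℂ V (opSum c ρ) = ∑ g : G, c g * ρ.character g := by
  simp [opSum, Representation.character]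

/-- Schur: a class function acts on an irreducible representation as a scalar. -/
theorem exists_opSum_eq_smul {V : Type v} [AddCommGroup V] [Module ℂ V] [FiniteDimensional ℂ V]
    {c : G → ℂ} (hc : IsClassFunction G c) (ρ : Representation ℂ G V) [ρ.IsIrreducible] :
    ∃ a : ℂ, ∀ x, opSum c ρ x = a • x := by
  let f : IntertwiningMap ρ ρ :=
    LinearMap.intertwiningMap_of_isIntertwiningMap ρ ρ (opSum c ρ) (opSum_comm hc ρ)
  obtain ⟨a, ha⟩ :=
    (IsIrreducible.algebraMap_intertwiningMap_bijective_of_isAlgClosed (ρ := ρ)).2 f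
  refine ⟨a, fun x => ?_⟩
  have : (algebraMap ℂ (IntertwiningMap ρ ρ) a) x = f x := by rw [ha]
  rw [show f x = opSum c ρ x from rfl] at this
  rw [← this, Algebra.algebraMap_eq_smul_one]
  rfl

theorem opSum_eq_zero {c : G → ℂ} (hc : IsClassFunction G c)
    (h : ∀ χ : IrrCharacter G, ∑ g, c g * χ.1 g = 0) {V : Type v} [AddCommGroup V] [Module ℂ V]
    [FiniteDimensional ℂ V] (ρ : Representation ℂ G V) : opSum c ρ = 0 := by
  suffices H : ∀ (n : ℕ) (σ : Representation ℂ G (Fin n → ℂ)) (x : Fin n → ℂ),
      opSum c σ x = 0 by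
    let e := (Module.finBasis ℂ V).equivFun
    refine LinearMap.ext fun x => e.injective ?_
    have := H _ (conjRep ρ e) (e x)
    simp only [opSum_apply, conjRep_apply, LinearEquiv.symm_apply_apply] at this
    simpa [opSum_apply] using this
  intro n
  induction n using Nat.strong_induction_on with
  | _ n ih =>
    intro σ x
    rcases subsingleton_or_irreducible_or_split σ with hs | hs | ⟨A, B, hc', hA, hB⟩
    · exact Subsingleton.elim _ _
    · haveI := hs
      obtain ⟨a, ha⟩ := exists_opSum_eq_smul hc σ
      have hT : opSum c σ = a • LinearMap.id := LinearMap.ext fun y => by simp [ha]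
      have h0 := trace_opSum c σ
      rw [h ⟨_, isIrrCharacter_character σ hs⟩, hT] at h0
      haveI := nontrivial_of_isIrreducible σ
      have hn : (finrank ℂ (Fin n → ℂ) : ℂ) ≠ 0 := Nat.cast_ne_zero.2 Module.finrank_pos.ne'
      rw [map_smul, LinearMap.trace_id, smul_eq_mul, mul_eq_zero] at h0
      rw [ha, h0.resolve_right hn, zero_smul]
    · rw [Module.finrank_fin_fun] at hA hB
      have key : ∀ (S : Subrepresentation σ), finrank ℂ S.toSubmodule < n →
          ∀ y ∈ S.toSubmodule, opSum c σ y = 0 := by
        intro S hS y hy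
        let e := (Module.finBasis ℂ S.toSubmodule).equivFun
        have := ih _ hS (conjRep S.toRepresentation e) (e ⟨y, hy⟩)
        simp only [opSum_apply, conjRep_apply, LinearEquiv.symm_apply_apply, ← map_smul,
          ← map_sum, EmbeddingLike.map_eq_zero_iff] at this
        have h2 := congrArg Subtype.val this
        simp [Subrepresentation.toRepresentation] at h2
        rw [opSum_apply]
        exact h2
      obtain ⟨a, ha, b, hb, rfl⟩ := Submodule.mem_sup.1
        (show x ∈ A.toSubmodule ⊔ B.toSubmodule by rw [hc'.sup_eq_top]; trivial)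
      rw [map_add, key A hA a ha, key B hB b hb, add_zero]

/-- The right regular representation on functions. -/
noncomputable def funRep (G : Type u) [Group G] : Representation ℂ G (G → ℂ) where
  toFun g := LinearMap.funLeft ℂ ℂ (fun x => x * g)
  map_one' := by ext f x; simp [LinearMap.funLeft]
  map_mul' a b := by ext f x; simp [LinearMap.funLeft, mul_assoc]

@[simp] theorem funRep_apply {G : Type u} [Group G] (g x : G) (f : G → ℂ) : funRep G g f x = f (x * g) := rfl

/-- A class function orthogonal to all irreducible characters vanishes. -/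
theorem eq_zero_of_classInner_irr {f : G → ℂ} (hf : IsClassFunction G f)
    (h : ∀ χ : IrrCharacter G, classInner f χ.1 = 0) : f = 0 := by
  classical
  have hall : ∀ ψ, IsCharacter G ψ → classInner f ψ = 0 := fun ψ hψ =>
    IsCharacter.induction_on (P := fun φ => classInner f φ = 0) hψ (classInner_zero_right f)
      (fun φ ψ _ _ h1 h2 => by rw [classInner_add_right, h1, h2, add_zero])
      (fun φ hφ => h ⟨φ, hφ⟩)
  have hsum : ∀ χ : IrrCharacter G, ∑ g, f g * χ.1 g = 0 := fun χ => by
    have := hall _ (IsCharacter.conj (irr_isCharacter χ))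
    simp only [classInner, Complex.conj_conj, mul_eq_zero, inv_eq_zero] at this
    exact this.resolve_left card_ne_zero
  have := LinearMap.congr_fun (opSum_eq_zero hf hsum (funRep G)) (Pi.single 1 1)
  funext g
  have h2 := congrFun this g⁻¹
  simp [opSum_apply, Pi.single_apply, inv_mul_eq_one] at h2
  simpa using h2

/-- Every class function is the combination of the irreducible characters with its inner
products as coefficients. -/
theorem eq_sum_classInner_smul {f : G → ℂ} (hf : IsClassFunction G f) :
    f = ∑ χ : IrrCharacter G, classInner f χ.1 • χ.1 := by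
  refine sub_eq_zero.1 (eq_zero_of_classInner_irr ?_ fun ψ => ?_)
  · intro a b
    simp only [Pi.sub_apply, Finset.sum_apply, Pi.smul_apply]
    rw [hf a b]
    congr 1
    exact Finset.sum_congr rfl fun χ _ => by
      rw [IsCharacter.isClassFunction (irr_isCharacter χ) a b]
  · rw [classInner_sub_left, classInner_sum_irr_left, sub_self]

theorem classFun_ext {f f' : G → ℂ} (hf : IsClassFunction G f) (hf' : IsClassFunction G f')
    (h : ∀ χ : IrrCharacter G, classInner f χ.1 = classInner f' χ.1) : f = f' := by
  rw [eq_sum_classInner_smul hf, eq_sum_classInner_smul hf']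
  exact Finset.sum_congr rfl fun χ _ => by rw [h χ]

/-- Parseval. -/
theorem classInner_eq_sum {f f' : G → ℂ} (hf : IsClassFunction G f) :
    classInner f f' = ∑ χ : IrrCharacter G, classInner f χ.1 * classInner χ.1 f' := by
  conv_lhs => rw [eq_sum_classInner_smul hf]
  simp [classInner_sum_left, classInner_smul_left]

/-! ### Characters as combinations of irreducible ones -/

/-- The multiplicity of an irreducible character in a character. -/
theorem IsCharacter.exists_decomp {χ : G → ℂ} (hχ : IsCharacter G χ) :
    ∃ m : IrrCharacter G → ℕ, χ = ∑ ψ, (m ψ : ℂ) • ψ.1 ∧ ∀ ψ, classInner χ ψ.1 = m ψ := by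
  choose m hm using fun ψ : IrrCharacter G =>
    IsCharacter.exists_nat_classInner hχ (irr_isCharacter ψ)
  refine ⟨m, ?_, hm⟩
  conv_lhs => rw [eq_sum_classInner_smul (IsCharacter.isClassFunction hχ)]
  simp [hm]

theorem isCharacter_sum_nat_smul (m : IrrCharacter G → ℕ) :
    IsCharacter G (∑ ψ : IrrCharacter G, (m ψ : ℂ) • ψ.1) :=
  IsCharacter.sum _ fun ψ _ => IsCharacter.natCast_smul (irr_isCharacter ψ) _

/-- A class function is a character iff all its multiplicities are natural numbers. -/
theorem isCharacter_iff {f : G → ℂ} :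
    IsCharacter G f ↔ IsClassFunction G f ∧
      ∀ ψ : IrrCharacter G, ∃ n : ℕ, classInner f ψ.1 = n := by
  refine ⟨fun h => ⟨IsCharacter.isClassFunction h, fun ψ =>
    IsCharacter.exists_nat_classInner h (irr_isCharacter ψ)⟩, fun ⟨hc, h⟩ => ?_⟩
  choose m hm using h
  rw [eq_sum_classInner_smul hc]
  simp only [hm]
  exact isCharacter_sum_nat_smul m

/-- A character is irreducible iff it has norm one. -/
theorem isIrrCharacter_iff {χ : G → ℂ} :
    IsIrrCharacter G χ ↔ IsCharacter G χ ∧ classInner χ χ = 1 := by
  classical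
  refine ⟨fun h => ⟨IsIrrCharacter.isCharacter h, classInner_irr_self h⟩, fun ⟨h, h1⟩ => ?_⟩
  obtain ⟨m, hm, hm'⟩ := IsCharacter.exists_decomp h
  have hsq : ∑ ψ, m ψ * m ψ = 1 := by
    rw [classInner_eq_sum (IsCharacter.isClassFunction h)] at h1
    have : ∀ ψ : IrrCharacter G, classInner ψ.1 χ = (m ψ : ℂ) := fun ψ => by
      rw [← conj_classInner, hm', map_natCast]
    simp only [hm', this] at h1
    exact_mod_cast h1
  obtain ⟨ψ, hψ⟩ : ∃ ψ, m ψ ≠ 0 := by
    by_contra hcon
    push Not at hcon
    simp [hcon] at hsq
  rw [← Finset.add_sum_erase _ _ (Finset.mem_univ ψ)] at hsq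
  have hpos : 1 ≤ m ψ * m ψ := Nat.mul_pos (Nat.pos_of_ne_zero hψ) (Nat.pos_of_ne_zero hψ)
  have hrest : ∑ x ∈ Finset.univ.erase ψ, m x * m x = 0 := by omega
  have hψ1 : m ψ = 1 := by
    have : m ψ * m ψ = 1 := by omega
    exact Nat.eq_one_of_mul_eq_one_right this
  have : χ = ψ.1 := by
    rw [hm, ← Finset.add_sum_erase _ _ (Finset.mem_univ ψ), hψ1, Finset.sum_eq_zero, add_zero,
      Nat.cast_one, one_smul]
    intro x hx
    have := Nat.mul_self_inj.1 ((Finset.sum_eq_zero_iff.1 hrest x hx).trans (mul_zero 0).symm)
    rw [this, Nat.cast_zero, zero_smul]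
  rw [this]; exact ψ.2

/-! ### Column orthogonality -/

open scoped Classical in
/-- The indicator of a conjugacy class. -/
theorem isClassFunction_indicator {G : Type u} [Group G] (h : G) :
    IsClassFunction G (fun x => if IsConj h x then (1 : ℂ) else 0) := by
  intro g a
  have : IsConj g (a * g * a⁻¹) := isConj_iff.2 ⟨a, rfl⟩
  simp only [show IsConj h (a * g * a⁻¹) ↔ IsConj h g from
    ⟨fun h' => h'.trans this.symm, fun h' => h'.trans this⟩]

open scoped Classical in
theorem classInner_indicator (h : G) {χ : G → ℂ} (hχ : IsClassFunction G χ) :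
    classInner (fun x => if IsConj h x then (1 : ℂ) else 0) χ =
      (Nat.card G : ℂ)⁻¹ * (Nat.card {x : G // IsConj h x}) * conj (χ h) := by
  have h1 : ∀ x : G, (if IsConj h x then (1 : ℂ) else 0) * conj (χ x) =
      if IsConj h x then conj (χ h) else 0 := by
    intro x
    split_ifs with hx
    · rw [one_mul, IsClassFunction.apply_of_isConj hχ hx]
    · rw [zero_mul]
  simp only [classInner, h1, ← Finset.sum_filter, Finset.sum_const, nsmul_eq_mul,
    Nat.card_eq_fintype_card, Fintype.card_subtype, mul_assoc]

theorem card_centralizer_mul_card_conj {G : Type u} [Group G] (h : G) :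
    Nat.card (Subgroup.centralizer ({h} : Set G)) * Nat.card {x : G // IsConj h x} = Nat.card G := by
  have horb : MulAction.orbit (ConjAct G) h = {x : G | IsConj h x} := by
    ext x; exact ConjAct.mem_orbit_conjAct.trans isConj_comm
  have hst : Nat.card (MulAction.stabilizer (ConjAct G) h) =
      Nat.card (Subgroup.centralizer ({h} : Set G)) := by
    refine Nat.card_congr (Equiv.subtypeEquiv ConjAct.ofConjAct.toEquiv fun x => ?_)
    rw [MulAction.mem_stabilizer_iff, Subgroup.mem_centralizer_singleton_iff, ConjAct.smul_def]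
    exact ⟨fun e => (mul_inv_eq_iff_eq_mul.1 e), fun e => mul_inv_eq_iff_eq_mul.2 e⟩
  have e := MulAction.orbitProdStabilizerEquivGroup (ConjAct G) h
  have := Nat.card_congr e
  rw [Nat.card_prod, hst, Nat.card_congr (Equiv.setCongr horb)] at this
  rw [mul_comm]
  exact this.trans (Nat.card_congr ConjAct.ofConjAct.toEquiv)

open scoped Classical in
/-- The second orthogonality relation. -/
theorem sum_irr_mul_conj (g h : G) :
    ∑ χ : IrrCharacter G, χ.1 g * conj (χ.1 h) =
      if IsConj g h then (Nat.card (Subgroup.centralizer ({h} : Set G)) : ℂ) else 0 := by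
  have e := congrFun (eq_sum_classInner_smul (isClassFunction_indicator h)) g
  have e2 : ∀ χ : IrrCharacter G, classInner (fun x => if IsConj h x then (1 : ℂ) else 0) χ.1 =
      (Nat.card G : ℂ)⁻¹ * (Nat.card {x : G // IsConj h x}) * conj (χ.1 h) := fun χ =>
    classInner_indicator h (IsCharacter.isClassFunction (irr_isCharacter χ))
  simp only [e2, Finset.sum_apply, Pi.smul_apply, smul_eq_mul] at e
  simp only [mul_assoc, mul_comm (conj _) _, ← Finset.mul_sum] at e
  have hc : (Nat.card (Subgroup.centralizer ({h} : Set G)) : ℂ) * Nat.card {x : G // IsConj h x} =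
      Nat.card G := by exact_mod_cast card_centralizer_mul_card_conj h
  have hm : ((Nat.card {x : G // IsConj h x} : ℕ) : ℂ) ≠ 0 := by
    haveI : Nonempty {x : G // IsConj h x} := ⟨⟨h, IsConj.refl h⟩⟩
    exact Nat.cast_ne_zero.2 Nat.card_pos.ne'
  have hG : (Nat.card G : ℂ) ≠ 0 := card_ne_zero
  by_cases hgh : IsConj g h
  · rw [if_pos hgh.symm] at e
    rw [if_pos hgh]
    field_simp at e
    apply mul_right_cancel₀ hm
    linear_combination -hc - e
  · rw [if_neg fun h' => hgh h'.symm] at e
    rw [if_neg hgh]
    simpa [hG, hm] using e.symm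

theorem isConj_iff_forall_irr (g h : G) :
    IsConj g h ↔ ∀ χ : IrrCharacter G, χ.1 g = χ.1 h := by
  classical
  refine ⟨fun hgh χ => IsClassFunction.apply_of_isConj
    (IsCharacter.isClassFunction (irr_isCharacter χ)) hgh, fun H => ?_⟩
  by_contra hgh
  have h1 := sum_irr_mul_conj g h
  have h2 := sum_irr_mul_conj h h
  rw [if_neg hgh] at h1
  rw [if_pos (IsConj.refl h)] at h2
  simp only [H] at h1
  rw [h1] at h2
  exact Nat.card_pos.ne' (Nat.cast_eq_zero.1 h2.symm)

open scoped Classical in
/-- The regular character. -/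
theorem sum_irr_degree_mul (g : G) :
    ∑ χ : IrrCharacter G, χ.1 1 * χ.1 g = if g = 1 then (Nat.card G : ℂ) else 0 := by
  have := sum_irr_mul_conj g 1
  have h1 : ∀ χ : IrrCharacter G, conj (χ.1 1) = χ.1 1 := fun χ => by
    rw [apply_one_eq_degree, map_natCast]
  have hc : Nat.card (Subgroup.centralizer ({1} : Set G)) = Nat.card G := by
    have : Subgroup.centralizer ({1} : Set G) = ⊤ := by
      ext x; simp [Subgroup.mem_centralizer_singleton_iff]
    rw [this, Subgroup.card_top]
  simp only [h1, isConj_one_left, hc] at this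
  simpa [mul_comm] using this

theorem sum_irr_degree_sq : ∑ χ : IrrCharacter G, χ.1 1 ^ 2 = (Nat.card G : ℂ) := by
  simpa [sq] using sum_irr_degree_mul (1 : G)

theorem sum_degree_sq : ∑ χ : IrrCharacter G, degree χ ^ 2 = Nat.card G := by
  have := sum_irr_degree_sq (G := G)
  simp only [apply_one_eq_degree] at this
  exact_mod_cast this

omit [Fintype G] in
/-- There are as many irreducible characters as conjugacy classes. -/
theorem card_irr [Finite G] : Nat.card (IrrCharacter G) = Nat.card (ConjClasses G) := by
  haveI := Fintype.ofFinite G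
  haveI : Finite (ConjClasses G) := Finite.of_surjective _ ConjClasses.mk_surjective
  haveI := Fintype.ofFinite (ConjClasses G)
  let L : IrrCharacter G → ConjClasses G → ℂ := fun χ =>
    Quotient.lift χ.1 fun a b h =>
      IsClassFunction.apply_of_isConj (IsCharacter.isClassFunction (irr_isCharacter χ)) h
  let T : (ConjClasses G → ℂ) →ₗ[ℂ] (G → ℂ) := LinearMap.funLeft ℂ ℂ ConjClasses.mk
  have hT : Function.Injective T :=
    LinearMap.funLeft_injective_of_surjective _ _ _ ConjClasses.mk_surjective
  have hli : LinearIndependent ℂ L := LinearIndependent.of_comp T (linearIndependent_irr (G := G))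
  have hsp : ⊤ ≤ Submodule.span ℂ (Set.range L) := by
    intro f _
    have hc : IsClassFunction G (T f) := fun a b => by
      show f (ConjClasses.mk _) = f (ConjClasses.mk _)
      exact congrArg f (ConjClasses.mk_eq_mk_iff_isConj.2 (isConj_iff.2 ⟨b, rfl⟩).symm)
    have : f = ∑ χ, classInner (T f) χ.1 • L χ := by
      apply hT
      rw [map_sum]
      conv_lhs => rw [eq_sum_classInner_smul hc]
      exact Finset.sum_congr rfl fun χ _ => by rw [map_smul]; rfl
    rw [this]
    exact Submodule.sum_mem _ fun χ _ =>
      Submodule.smul_mem _ _ (Submodule.subset_span ⟨χ, rfl⟩)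
  have := Module.finrank_eq_card_basis (Basis.mk hli hsp)
  rw [Module.finrank_fintype_fun_eq_card] at this
  rw [Nat.card_eq_fintype_card, Nat.card_eq_fintype_card, this]

end Cfsg.Agent.Char
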