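import Cfsg.Agent.Lib.Char.Generalized

/-!
# Induction of class functions
-/

namespace Cfsg.Agent.Char

open scoped ComplexConjugate

set_option linter.style.haveILetI false

universe u

variable {G : Type u} [Group G]

theorem extendByZero_coe (H : Subgroup G) (θ : H → ℂ) (h : H) : extendByZero H θ h = θ h :=
  Subtype.val_injective.extend_apply θ (0 : G → ℂ) h

theorem extendByZero_of_notMem (H : Subgroup G) (θ : H → ℂ) {g : G} (hg : g ∉ H) :
    extendByZero H θ g = 0 := by
  refine Function.extend_apply' θ (0 : G → ℂ) g ?_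
  rintro ⟨a, rfl⟩
  exact hg a.2

theorem extendByZero_of_mem (H : Subgroup G) (θ : H → ℂ) {g : G} (hg : g ∈ H) :
    extendByZero H θ g = θ ⟨g, hg⟩ :=
  extendByZero_coe H θ ⟨g, hg⟩

theorem extendByZero_add (H : Subgroup G) (θ η : H → ℂ) :
    extendByZero H (θ + η) = extendByZero H θ + extendByZero H η := by
  funext g
  by_cases hg : g ∈ H
  · simp [extendByZero_of_mem, hg]
  · simp [extendByZero_of_notMem, hg]

theorem extendByZero_smul (H : Subgroup G) (c : ℂ) (θ : H → ℂ) :
    extendByZero H (c • θ) = c • extendByZero H θ := by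
  funext g
  by_cases hg : g ∈ H
  · simp [extendByZero_of_mem, hg]
  · simp [extendByZero_of_notMem, hg]

theorem sum_extendByZero_mul [Fintype G] (H : Subgroup G) [Fintype H] (θ : H → ℂ) (F : G → ℂ) :
    ∑ g : G, extendByZero H θ g * F g = ∑ h : H, θ h * F h := by
  refine (Fintype.sum_of_injective (Subtype.val : H → G) Subtype.val_injective _ _ ?_ ?_).symm
  · intro g hg
    rw [extendByZero_of_notMem H θ (fun h => hg ⟨⟨g, h⟩, rfl⟩), zero_mul]
  · intro h; rw [extendByZero_coe]

variable [Fintype G]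

theorem indFun_add (H : Subgroup G) (θ η : H → ℂ) :
    indFun H (θ + η) = indFun H θ + indFun H η := by
  funext g
  simp [indFun, extendByZero_add, Finset.sum_add_distrib, mul_add]

theorem indFun_smul (H : Subgroup G) (c : ℂ) (θ : H → ℂ) :
    indFun H (c • θ) = c • indFun H θ := by
  funext g
  simp [indFun, extendByZero_smul, Finset.mul_sum, mul_left_comm]

theorem indFun_zero (H : Subgroup G) : indFun H (0 : H → ℂ) = 0 := by
  simpa using indFun_smul H 0 0

theorem indFun_neg (H : Subgroup G) (θ : H → ℂ) : indFun H (-θ) = -indFun H θ := by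
  simpa using indFun_smul H (-1) θ

theorem indFun_sub (H : Subgroup G) (θ η : H → ℂ) :
    indFun H (θ - η) = indFun H θ - indFun H η := by
  rw [sub_eq_add_neg, indFun_add, indFun_neg, sub_eq_add_neg]

theorem indFun_sum {ι : Type*} (H : Subgroup G) (s : Finset ι) (θ : ι → H → ℂ) :
    indFun H (∑ i ∈ s, θ i) = ∑ i ∈ s, indFun H (θ i) := by
  classical
  induction s using Finset.induction with
  | empty => simp [indFun_zero]
  | insert i s hi ih => simp [Finset.sum_insert hi, indFun_add, ih]

theorem isClassFunction_indFun (H : Subgroup G) (θ : H → ℂ) :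
    IsClassFunction G (indFun H θ) := by
  intro g a
  simp only [indFun]
  congr 1
  refine Fintype.sum_equiv (Equiv.mulLeft a⁻¹) _ _ fun x => ?_
  congr 1
  simp [mul_assoc]

/-- Frobenius reciprocity. -/
theorem classInner_indFun (H : Subgroup G) [Fintype H] (θ : H → ℂ) {χ : G → ℂ}
    (hχ : IsClassFunction G χ) :
    classInner (indFun H θ) χ = classInner θ (fun h : H => χ h) := by
  have hx : ∀ x : G, ∑ g, extendByZero H θ (x⁻¹ * g * x) * conj (χ g) =
      ∑ h : H, θ h * conj (χ h) := by
    intro x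
    rw [← sum_extendByZero_mul H θ fun g => conj (χ g)]
    refine Fintype.sum_equiv (MulAut.conj x⁻¹).toEquiv _ _ fun g => ?_
    show _ = extendByZero H θ (x⁻¹ * g * x⁻¹⁻¹) * conj (χ (x⁻¹ * g * x⁻¹⁻¹))
    rw [hχ g x⁻¹, inv_inv]
  have key : ∑ g : G, indFun H θ g * conj (χ g) =
      (Nat.card H : ℂ)⁻¹ * ((Nat.card G : ℂ) * ∑ h : H, θ h * conj (χ h)) := by
    simp only [indFun, mul_assoc ((Nat.card H : ℂ)⁻¹), Finset.sum_mul, ← Finset.mul_sum]
    rw [Finset.sum_comm, Finset.sum_congr rfl fun x _ => hx x, Finset.sum_const, Finset.card_univ,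
      nsmul_eq_mul, ← Nat.card_eq_fintype_card]
  rw [classInner, classInner, key]
  field_simp [card_ne_zero (G := G)]

theorem classInner_indFun_right (H : Subgroup G) [Fintype H] (θ : H → ℂ) {χ : G → ℂ}
    (hχ : IsClassFunction G χ) :
    classInner χ (indFun H θ) = classInner (fun h : H => χ h) θ := by
  rw [← conj_classInner, classInner_indFun H θ hχ, conj_classInner]

theorem isCharacter_indFun (H : Subgroup G) {θ : H → ℂ} (hθ : IsCharacter H θ) :
    IsCharacter G (indFun H θ) := by
  haveI := Fintype.ofFinite H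
  refine isCharacter_iff.2 ⟨isClassFunction_indFun H θ, fun ψ => ?_⟩
  rw [classInner_indFun H θ (IsCharacter.isClassFunction (irr_isCharacter ψ))]
  exact IsCharacter.exists_nat_classInner hθ (IsCharacter.restrict (irr_isCharacter ψ) H)

theorem isGeneralizedCharacter_indFun (H : Subgroup G) {θ : H → ℂ}
    (hθ : IsGeneralizedCharacter H θ) : IsGeneralizedCharacter G (indFun H θ) := by
  obtain ⟨a, b, ha, hb, rfl⟩ := hθ
  exact ⟨_, _, isCharacter_indFun H ha, isCharacter_indFun H hb, indFun_sub H a b⟩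

theorem indFun_apply_one (H : Subgroup G) (θ : H → ℂ) :
    indFun H θ 1 = (H.index : ℂ) * θ 1 := by
  have hH : (Nat.card H : ℂ) ≠ 0 := Nat.cast_ne_zero.2 Nat.card_pos.ne'
  have hG : (Nat.card G : ℂ) = Nat.card H * H.index := by exact_mod_cast H.card_mul_index.symm
  simp only [indFun, mul_one, inv_mul_cancel, extendByZero_of_mem H θ H.one_mem, Finset.sum_const,
    Finset.card_univ, nsmul_eq_mul, ← Nat.card_eq_fintype_card, hG]
  rw [← mul_assoc, ← mul_assoc, inv_mul_cancel₀ hH, one_mul]
  rfl

theorem indFun_eq_zero_of_forall_notMem (H : Subgroup G) (θ : H → ℂ) {g : G}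
    (h : ∀ x : G, x⁻¹ * g * x ∉ H) : indFun H θ g = 0 := by
  simp [indFun, extendByZero_of_notMem, h]

theorem indFun_of_notMem_normal (N : Subgroup G) [N.Normal] (θ : N → ℂ) {g : G} (hg : g ∉ N) :
    indFun N θ g = 0 := by
  refine indFun_eq_zero_of_forall_notMem N θ fun x hx => hg ?_
  have := Subgroup.Normal.conj_mem ‹N.Normal› _ hx x
  simpa [mul_assoc] using this

/-- The projection formula. -/
theorem indFun_mul_restrict (H : Subgroup G) (θ : H → ℂ) {χ : G → ℂ}
    (hχ : IsClassFunction G χ) :
    indFun H (fun h : H => θ h * χ h) = indFun H θ * χ := by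
  funext g
  simp only [indFun, Pi.mul_apply, mul_assoc, Finset.sum_mul]
  congr 1
  refine Finset.sum_congr rfl fun x _ => ?_
  by_cases hm : x⁻¹ * (g * x) ∈ H
  · rw [extendByZero_of_mem _ _ hm, extendByZero_of_mem _ _ hm]
    congr 1
    have := hχ g x⁻¹
    simpa [mul_assoc] using this
  · rw [extendByZero_of_notMem _ _ hm, extendByZero_of_notMem _ _ hm, zero_mul]

end Cfsg.Agent.Char
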