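import Cfsg.Agent.Lib.Char.Orthogonality
import Mathlib.GroupTheory.Abelianization.Defs
import Mathlib.GroupTheory.FiniteAbelian.Duality
import Mathlib.RingTheory.RootsOfUnity.AlgebraicallyClosed

/-!
# Linear characters, abelian groups
-/

namespace Cfsg.Agent.Char

open scoped ComplexConjugate
open Representation Module

set_option linter.style.haveILetI false

universe u v

variable {G : Type u} [Group G]

/-- A character of degree one is a homomorphism. -/
theorem IsCharacter.exists_monoidHom {χ : G → ℂ} (h : IsCharacter G χ) (h1 : χ 1 = 1) :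
    ∃ lam : G →* ℂ, ⇑lam = χ := by
  obtain ⟨n, ρ, rfl⟩ := h
  have hn : n = 1 := by simpa using h1
  subst hn
  have htr : ∀ g, ρ.character g = ρ g (fun _ => 1) 0 := by
    intro g
    rw [Representation.character, LinearMap.trace_eq_matrix_trace ℂ (Pi.basisFun ℂ (Fin 1))]
    have hs : (Pi.single (0 : Fin 1) (1 : ℂ) : Fin 1 → ℂ) = fun _ => 1 := by
      funext i; rw [Subsingleton.elim i 0]; simp
    simp [Matrix.trace, hs]
  refine ⟨{ toFun := ρ.character, map_one' := by simp, map_mul' := fun a b => ?_ }, rfl⟩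
  simp only [htr, map_mul, Module.End.mul_apply]
  have hb : ρ b (fun _ => 1) = (ρ b (fun _ => 1) 0) • (fun _ => (1 : ℂ)) := by
    funext i; rw [Subsingleton.elim i 0]; simp
  conv_lhs => rw [hb, map_smul, Pi.smul_apply, smul_eq_mul, mul_comm]

/-- A linear character as an element of `IrrCharacter`. -/
noncomputable def linIrr (lam : G →* ℂ) : IrrCharacter G :=
  ⟨⇑lam, isIrrCharacter_of_monoidHom lam⟩

@[simp] theorem linIrr_apply (lam : G →* ℂ) (g : G) : (linIrr lam).1 g = lam g := rfl

theorem linIrr_injective : Function.Injective (linIrr (G := G)) := fun a b h =>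
  MonoidHom.ext fun g => congrFun (congrArg Subtype.val h) g

/-- Homomorphisms to `ℂ` are the irreducible characters of degree one. -/
noncomputable def linEquiv : (G →* ℂ) ≃ {χ : IrrCharacter G // χ.1 1 = 1} :=
  Equiv.ofBijective (fun lam => ⟨linIrr lam, map_one lam⟩)
    ⟨fun _ _ h => linIrr_injective (congrArg Subtype.val h), fun χ => by
      obtain ⟨lam, hl⟩ := IsCharacter.exists_monoidHom (irr_isCharacter χ.1) χ.2
      exact ⟨lam, Subtype.ext (Subtype.ext hl)⟩⟩

theorem normSq_linear [Finite G] (lam : G →* ℂ) (g : G) : lam g * conj (lam g) = 1 := by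
  rw [IsCharacter.conj_apply (IsIrrCharacter.isCharacter (isIrrCharacter_of_monoidHom lam)) g,
    ← map_mul, mul_inv_cancel, map_one]

/-- Twisting an irreducible character by a linear character. -/
theorem IsIrrCharacter.mul_linear [Finite G] {χ : G → ℂ} (h : IsIrrCharacter G χ) (lam : G →* ℂ) :
    IsIrrCharacter G (⇑lam * χ) := by
  haveI := Fintype.ofFinite G
  refine isIrrCharacter_iff.2 ⟨IsCharacter.mul
    (IsIrrCharacter.isCharacter (isIrrCharacter_of_monoidHom lam)) (IsIrrCharacter.isCharacter h), ?_⟩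
  rw [← classInner_irr_self h, classInner, classInner]
  congr 1
  refine Finset.sum_congr rfl fun g _ => ?_
  rw [Pi.mul_apply, map_mul]
  linear_combination χ g * conj (χ g) * normSq_linear lam g

theorem IsIrrCharacter.conj_fun [Finite G] {χ : G → ℂ} (h : IsIrrCharacter G χ) :
    IsIrrCharacter G (fun g => conj (χ g)) := by
  haveI := Fintype.ofFinite G
  refine isIrrCharacter_iff.2 ⟨IsCharacter.conj (IsIrrCharacter.isCharacter h), ?_⟩
  rw [← classInner_irr_self h, classInner, classInner]
  congr 1
  exact Finset.sum_congr rfl fun g _ => by simp [mul_comm]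

theorem card_monoidHom_complex [Finite G] : Nat.card (G →* ℂ) = (commutator G).index := by
  haveI : Finite (Abelianization G) := Finite.of_surjective (Abelianization.of (G := G))
    (QuotientGroup.mk_surjective)
  have e1 : (G →* ℂ) ≃ (Abelianization G →* ℂˣ) :=
    ({ toFun := fun f => f.toHomUnits
       invFun := fun f => (Units.coeHom ℂ).comp f
       left_inv := fun f => by ext g; rfl
       right_inv := fun f => by ext g; rfl } : (G →* ℂ) ≃ (G →* ℂˣ)).trans Abelianization.lift
  haveI : NeZero (Monoid.exponent (Abelianization G) : ℂ) :=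
    ⟨Nat.cast_ne_zero.2 Monoid.exponent_ne_zero_of_finite⟩
  rw [Nat.card_congr e1, CommGroup.card_monoidHom_of_hasEnoughRootsOfUnity]
  rfl

theorem card_linear [Finite G] :
    Nat.card {χ : IrrCharacter G // χ.1 1 = 1} = (commutator G).index := by
  rw [← Nat.card_congr linEquiv, card_monoidHom_complex]

theorem apply_one_of_comm (hG : ∀ a b : G, a * b = b * a) (χ : IrrCharacter G) : χ.1 1 = 1 := by
  obtain ⟨n, ρ, hρ, h⟩ := χ.2
  haveI := hρ
  haveI : IsMulCommutative G := ⟨⟨hG⟩⟩
  rw [← h, Representation.char_one, IsIrreducible.finrank_eq_one_of_isMulCommutative ρ,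
    Nat.cast_one]

theorem forall_apply_one_iff_comm [Finite G] :
    (∀ χ : IrrCharacter G, χ.1 1 = 1) ↔ ∀ a b : G, a * b = b * a := by
  refine ⟨fun h a b => ?_, fun h χ => apply_one_of_comm h χ⟩
  haveI := Fintype.ofFinite G
  have hc : IsConj (a * b) (b * a) := isConj_iff.2 ⟨b, by group⟩
  by_contra hab
  have h1 : ∑ χ : IrrCharacter G, χ.1 1 * χ.1 ((a * b) * (b * a)⁻¹) =
      ∑ χ : IrrCharacter G, χ.1 1 * χ.1 1 := by
    refine Finset.sum_congr rfl fun χ _ => ?_
    obtain ⟨lam, hl⟩ := IsCharacter.exists_monoidHom (irr_isCharacter χ) (h χ)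
    rw [← hl, map_mul, map_one]
    have := IsClassFunction.apply_of_isConj (IsCharacter.isClassFunction (irr_isCharacter χ)) hc
    rw [← hl] at this
    rw [this, ← map_mul, mul_inv_cancel, map_one]
  classical
  rw [sum_irr_degree_mul, sum_irr_degree_mul, if_pos rfl,
    if_neg (fun e => hab (mul_inv_eq_one.1 e))] at h1
  exact card_ne_zero h1.symm

end Cfsg.Agent.Char
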