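import Cfsg.Agent.Lib.Char.FrobeniusSchur
import Cfsg.Agent.Lib.Char.Orthogonality

/-!
# Real characters and the Frobenius–Schur theorem
-/

set_option linter.style.haveILetI false

namespace Cfsg.Agent.Char

open scoped ComplexConjugate

universe u

variable {G : Type u} [Group G] [Fintype G]

theorem IsIrrCharacter.conj {χ : G → ℂ} (h : IsIrrCharacter G χ) :
    IsIrrCharacter G (fun g => starRingEnd ℂ (χ g)) := by
  refine isIrrCharacter_iff.2 ⟨IsCharacter.conj (IsIrrCharacter.isCharacter h), ?_⟩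
  rw [← map_one (starRingEnd ℂ), ← classInner_irr_self h, conj_classInner]
  simp [classInner, mul_comm]

/-- The complex conjugate of an irreducible character. -/
noncomputable def conjIrr (χ : IrrCharacter G) : IrrCharacter G :=
  ⟨fun g => starRingEnd ℂ (χ.1 g), IsIrrCharacter.conj χ.2⟩

@[simp] theorem conjIrr_apply (χ : IrrCharacter G) (g : G) :
    (conjIrr χ).1 g = starRingEnd ℂ (χ.1 g) := rfl

theorem conjIrr_conjIrr (χ : IrrCharacter G) : conjIrr (conjIrr χ) = χ :=
  Subtype.ext (funext fun g => by simp)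

theorem conjIrr_eq_self_iff (χ : IrrCharacter G) :
    conjIrr χ = χ ↔ ∀ g, (χ.1 g).im = 0 := by
  rw [Subtype.ext_iff, funext_iff]
  simp [Complex.conj_eq_iff_im]

theorem avg_sq_eq_classInner (χ : IrrCharacter G) :
    (Nat.card G : ℂ)⁻¹ * ∑ g : G, χ.1 g * χ.1 g = classInner χ.1 (conjIrr χ).1 := by
  simp [classInner]

theorem fsIndicator_of_not_real (χ : IrrCharacter G) (h : ¬ ∀ g, (χ.1 g).im = 0) :
    fsIndicator χ.1 = 0 := by
  have h0 : classInner χ.1 (conjIrr χ).1 = 0 :=
    classInner_irr_of_ne χ.2 (conjIrr χ).2 fun he =>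
      h ((conjIrr_eq_self_iff χ).1 (Subtype.ext he).symm)
  rw [← avg_sq_eq_classInner] at h0
  exact fsIndicator_eq_zero (irr_isCharacter χ)
    ((mul_eq_zero.1 h0).resolve_left (inv_ne_zero card_ne_zero))

theorem fsIndicator_of_real (χ : IrrCharacter G) (h : ∀ g, (χ.1 g).im = 0) :
    fsIndicator χ.1 = 1 ∨ fsIndicator χ.1 = -1 :=
  fsIndicator_eq_one_or_neg_one (irr_isCharacter χ) (by
    rw [avg_sq_eq_classInner, (conjIrr_eq_self_iff χ).2 h]
    exact classInner_irr_self χ.2)

theorem fsIndicator_ne_zero_iff (χ : IrrCharacter G) :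
    fsIndicator χ.1 ≠ 0 ↔ ∀ g, (χ.1 g).im = 0 := by
  refine ⟨fun h => by_contra fun h' => h (fsIndicator_of_not_real χ h'), fun h => ?_⟩
  rcases fsIndicator_of_real χ h with e | e <;> simp [e]

theorem real_of_fsIndicator_eq_one (χ : IrrCharacter G) (h : fsIndicator χ.1 = 1) :
    ∀ g, (χ.1 g).im = 0 :=
  (fsIndicator_ne_zero_iff χ).1 (by simp [h])

theorem conj_fsIndicator (χ : IrrCharacter G) :
    starRingEnd ℂ (fsIndicator χ.1) = fsIndicator χ.1 := by
  by_cases h : ∀ g, (χ.1 g).im = 0
  · rcases fsIndicator_of_real χ h with e | e <;> simp [e]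
  · simp [fsIndicator_of_not_real χ h]

/-- The number of square roots of `g`, as a class function. -/
noncomputable def sqRootCount (g : G) : ℂ :=
  (Nat.card {u : G // u * u = g} : ℂ)

theorem sum_mul_eq_sum_sq (f : G → ℂ) :
    ∑ g : G, sqRootCount g * f g = ∑ u : G, f (u * u) := by
  classical
  rw [← Finset.sum_fiberwise Finset.univ (fun u : G => u * u) (fun u => f (u * u))]
  refine Finset.sum_congr rfl fun g _ => ?_
  rw [Finset.sum_congr rfl fun u hu => by rw [(Finset.mem_filter.1 hu).2], Finset.sum_const,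
    nsmul_eq_mul, sqRootCount, Nat.card_eq_fintype_card, Fintype.card_subtype]

/-- The Frobenius–Schur theorem. -/
theorem sqRootCount_eq_sum (g : G) :
    sqRootCount g = ∑ χ : IrrCharacter G, fsIndicator χ.1 * χ.1 g := by
  have hcf : IsClassFunction G (sqRootCount (G := G)) := fun a b => by
    unfold sqRootCount
    rw [Nat.card_congr ((MulAut.conj b).toEquiv.subtypeEquiv (p := fun u => u * u = a)
      (q := fun u => u * u = b * a * b⁻¹) fun u => by
        simp [show b * u * b⁻¹ * (b * u * b⁻¹) = b * (u * u) * b⁻¹ by group])]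
  have key : ∀ χ : IrrCharacter G, classInner sqRootCount χ.1 = fsIndicator χ.1 := fun χ => by
    rw [← conj_fsIndicator, classInner, sum_mul_eq_sum_sq, fsIndicator_eq_sum]
    simp
  conv_lhs => rw [eq_sum_classInner_smul hcf]
  simp [key]

end Cfsg.Agent.Char
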