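import Cfsg.Agent.Lib.Char.Brauer
import Cfsg.Agent.Lib.Blocks.CentralChar
import Cfsg.Agent.Lib.Blocks.LocalRing
import Cfsg.Agent.Lib.CharInt.Basic
import Cfsg.Agent.Lib.CharInt.Central

/-!
# Applications of Brauer's theorem: functions depending on the `p`-regular part

For `π`-splittings of nilpotent groups, the criterion through elementary subgroups for a class
function to have coefficients in an additive group, and the generalized characters
`p^a χ°` and `p^(a-b) χ°`.
-/

namespace Cfsg.Agent.Char

open scoped ComplexConjugate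

set_option linter.style.haveILetI false

universe u

theorem exists_int_of_isIntegral_mul {S : ℂ} {c N : ℤ} (hS : IsIntegral ℤ S) (hc : c ≠ 0)
    (h : (c : ℂ) * S = (N : ℂ)) : ∃ z : ℤ, S = (z : ℂ) := by
  have h1 : S = algebraMap ℚ ℂ ((N : ℚ) / (c : ℚ)) := by
    rw [map_div₀, map_intCast, map_intCast, eq_div_iff (Int.cast_ne_zero.mpr hc), mul_comm, h]
  rw [h1, isIntegral_algebraMap_iff (algebraMap ℚ ℂ).injective,
    IsIntegrallyClosed.isIntegral_iff] at hS
  obtain ⟨z, hz⟩ := hS
  refine ⟨z, ?_⟩
  rw [h1, ← hz]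
  simp

/-- In a finite nilpotent group the elements of order prime to `m` form a normal subgroup. -/
theorem exists_primeTo_subgroup {E : Type u} [Group E] [Finite E] [Group.IsNilpotent E] (m : ℕ) :
    ∃ V : Subgroup E, V.Normal ∧ (∀ x, x ∈ V ↔ (orderOf x).Coprime m) ∧
      (Nat.card V).Coprime m ∧ ∀ q : ℕ, q.Prime → ¬ q ∣ m → ¬ q ∣ V.index := by
  classical
  haveI := Fintype.ofFinite (Subgroup E)
  let S : Finset (Subgroup E) :=
    Finset.univ.filter fun N => N.Normal ∧ (Nat.card N).Coprime m
  set V : Subgroup E := S.sup id with hV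
  have hprop : V.Normal ∧ (Nat.card V).Coprime m := by
    rw [hV]
    refine Finset.sup_induction (p := fun N : Subgroup E => N.Normal ∧ (Nat.card N).Coprime m)
      ⟨inferInstance, by simp⟩ (fun A hA B hB => ⟨?_, ?_⟩) fun A hA => (Finset.mem_filter.1 hA).2
    · haveI := hA.1; haveI := hB.1; infer_instance
    · haveI := hB.1
      have h1 : B.relIndex (A ⊔ B) * Nat.card B = Nat.card (A ⊔ B : Subgroup E) := by
        rw [← Nat.card_congr (Subgroup.subgroupOfEquivOfLe (le_sup_right : B ≤ A ⊔ B)).toEquiv,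
          mul_comm]
        exact (B.subgroupOf (A ⊔ B)).card_mul_index
      rw [← h1, Subgroup.relIndex_sup_right]
      exact Nat.Coprime.mul_left (hA.2.coprime_dvd_left (Subgroup.relIndex_dvd_card _ _)) hB.2
  haveI := hprop.1
  have hidx : ∀ q : ℕ, q.Prime → ¬ q ∣ m → ¬ q ∣ V.index := by
    intro q hq hqm hdvd
    haveI := Fact.mk hq
    obtain ⟨P⟩ := (inferInstance : Nonempty (Sylow q E))
    have hle : (P : Subgroup E) ≤ V := by
      refine Finset.le_sup (f := id) (Finset.mem_filter.2 ⟨Finset.mem_univ _, ?_, ?_⟩)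
      · infer_instance
      · obtain ⟨k, hk⟩ := P.2.exists_card_eq
        rw [hk]
        exact ((hq.coprime_iff_not_dvd).2 hqm).pow_left k
    exact P.not_dvd_index (hdvd.trans (Subgroup.index_dvd_of_le hle))
  refine ⟨V, hprop.1, fun x => ⟨fun hx => ?_, fun hx => ?_⟩, hprop.2, hidx⟩
  · exact hprop.2.coprime_dvd_left (Subgroup.orderOf_dvd_natCard V hx)
  · rw [← QuotientGroup.eq_one_iff (N := V) x, ← orderOf_eq_one_iff]
    by_contra hne
    obtain ⟨q, hq, hqd⟩ := Nat.exists_prime_and_dvd hne
    have h1 : q ∣ orderOf x := hqd.trans (orderOf_map_dvd (QuotientGroup.mk' V) x)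
    have h2 : ¬ q ∣ m := fun h => hq.not_dvd_one (hx ▸ Nat.dvd_gcd h1 h)
    exact hidx q hq h2 (hqd.trans (orderOf_dvd_natCard _))

/-- In a finite nilpotent group the `p`-regular elements form a normal subgroup of `p`-power
index. -/
theorem exists_pRegular_subgroup {E : Type u} [Group E] [Finite E] [Group.IsNilpotent E] {p : ℕ}
    (hp : p.Prime) :
    ∃ (Q : Subgroup E) (k : ℕ), Q.Normal ∧ (∀ x, x ∈ Q ↔ ¬ p ∣ orderOf x) ∧ Q.index = p ^ k := by
  obtain ⟨V, hV, hmem, -, hidx⟩ := exists_primeTo_subgroup (E := E) p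
  refine ⟨V, V.index.primeFactorsList.length, hV,
    fun x => (hmem x).trans (Nat.coprime_comm.trans hp.coprime_iff_not_dvd), ?_⟩
  refine Nat.eq_prime_pow_of_unique_prime_dvd Subgroup.index_ne_zero_of_finite ?_
  intro q hq hqd
  by_contra hne
  exact hidx q hq (fun h => hne ((Nat.prime_dvd_prime_iff_eq hq hp).1 h)) hqd

variable {G : Type u} [Group G]

theorem isClassFunction_of_mul_left {f : G → ℂ} (hf : IsClassFunction G f) (c : ℂ) :
    IsClassFunction G (c • f) := fun g h => by simp [hf g h]

/-- The restriction of a function to the `p`-regular elements, extended by zero. -/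
noncomputable def regFun (p : ℕ) (f : G → ℂ) : G → ℂ :=
  fun x => if p ∣ orderOf x then 0 else f x

theorem isClassFunction_regFun (p : ℕ) {f : G → ℂ} (hf : IsClassFunction G f) :
    IsClassFunction G (regFun p f) := fun g h => by
  simp only [regFun, hf g h]
  rw [show orderOf (h * g * h⁻¹) = orderOf g from
    orderOf_injective (MulAut.conj h).toMonoidHom (MulAut.conj h).injective g]

theorem degree_dvd_natCard {G : Type u} [Group G] [Finite G] (χ : IrrCharacter G) :
    degree χ ∣ Nat.card G := by
  obtain ⟨n, ρ, hρ, he⟩ := χ.2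
  haveI := hρ
  have h1 : χ.1 1 = (n : ℂ) := by rw [← he]; simp
  rw [apply_one_eq_degree, Nat.cast_inj] at h1
  rw [h1]
  simpa using CharInt.finrank_dvd_natCard ρ

variable [Fintype G]

/-- If `⟨f|_E, λ⟩` lies in `R` for all linear characters of elementary subgroups, then so does
`⟨f, χ⟩` for every generalized character `χ`. -/
theorem classInner_mem_of_elementary (R : AddSubgroup ℂ) {f : G → ℂ} (hf : IsClassFunction G f)
    (h : ∀ (E : Subgroup G) [Fintype E] (p : ℕ) (lam : E →* ℂ), p.Prime → IsElementary p E →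
      classInner (fun e : E => f e) lam ∈ R) {χ : G → ℂ} (hχ : IsGeneralizedCharacter G χ) :
    classInner f χ ∈ R := by
  have hmem := IsGeneralizedCharacter.mem_elemLinInd hχ
  induction hmem using AddSubgroup.closure_induction with
  | mem g hg =>
    obtain ⟨E, lam, ⟨p, hp, hel⟩, rfl⟩ := hg
    haveI := Fintype.ofFinite E
    rw [classInner_indFun_right E _ hf]
    exact h E p lam hp hel
  | zero => rw [classInner_zero_right]; exact zero_mem R
  | add x y _ _ hx hy =>
    rw [classInner_add_right]
    exact add_mem (hx (isGeneralizedCharacter_of_mem x ‹_›)) (hy (isGeneralizedCharacter_of_mem y ‹_›))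
  | neg x _ hx =>
    rw [classInner_neg_right]
    exact neg_mem (hx (isGeneralizedCharacter_of_mem x ‹_›))
where
  isGeneralizedCharacter_of_mem (x : G → ℂ) (hx : x ∈ elemLinInd G) :
      IsGeneralizedCharacter G x := by
    induction hx using AddSubgroup.closure_induction with
    | mem g hg =>
      obtain ⟨E, lam, -, rfl⟩ := hg
      exact isGeneralizedCharacter_indFun E (IsCharacter.isGeneralized
        (IsIrrCharacter.isCharacter (isIrrCharacter_of_monoidHom lam)))
    | zero => exact IsGeneralizedCharacter.zero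
    | add a b _ _ ha hb => exact IsGeneralizedCharacter.add ha hb
    | neg a _ ha => exact IsGeneralizedCharacter.neg ha

/-- `p^a f°` is a generalized character when `f` is, `p^a` the `p`-part of the group order. -/
theorem isGeneralizedCharacter_pPow_smul_regFun {p : ℕ} (hp : p.Prime) {θ : G → ℂ}
    (hθ : IsGeneralizedCharacter G θ) :
    IsGeneralizedCharacter G
      (((p ^ (Nat.card G).factorization p : ℕ) : ℂ) • regFun p θ) := by
  refine isGeneralizedCharacter_of_elementary
    (isClassFunction_of_mul_left (isClassFunction_regFun p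
      (IsGeneralizedCharacter.isClassFunction hθ)) _) fun E q hq hE => ?_
  haveI := Fintype.ofFinite E
  haveI := IsElementary.isNilpotent hq hE
  obtain ⟨Q, k, hQn, hQ, hk⟩ := exists_pRegular_subgroup (E := E) hp
  haveI := hQn
  haveI := Fintype.ofFinite Q
  set a := (Nat.card G).factorization p
  have hka : k ≤ a := by
    refine (hp.pow_dvd_iff_le_factorization Nat.card_pos.ne').1 ?_
    rw [← hk]
    exact Q.index_dvd_card.trans E.card_subgroup_dvd_card
  have key : (fun e : E => (((p ^ a : ℕ) : ℂ) • regFun p θ) e) =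
      ((p ^ (a - k) : ℕ) : ℂ) • (indFun Q (fun _ => (1 : ℂ)) * fun e : E => θ e) := by
    funext e
    have hord : orderOf ((e : E) : G) = orderOf e := Subgroup.orderOf_coe e
    by_cases he : e ∈ Q
    · have hind : indFun Q (fun _ => (1 : ℂ)) e = (Q.index : ℂ) := by
        have hx : ∀ x : E, extendByZero Q (fun _ => (1 : ℂ)) (x⁻¹ * e * x) = 1 := fun x => by
          have := Subgroup.Normal.conj_mem hQn e he x⁻¹
          rw [inv_inv] at this
          rw [extendByZero_of_mem _ _ this]
        simp only [indFun, hx, Finset.sum_const, Finset.card_univ, nsmul_eq_mul, mul_one,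
          ← Nat.card_eq_fintype_card, ← Q.card_mul_index, Nat.cast_mul]
        rw [← mul_assoc, inv_mul_cancel₀ (card_ne_zero (G := Q)), one_mul]
      simp only [Pi.smul_apply, Pi.mul_apply, regFun, hord, if_neg ((hQ e).1 he), hind, hk,
        smul_eq_mul, ← mul_assoc, ← Nat.cast_mul, ← pow_add, Nat.sub_add_cancel hka]
    · have hd : p ∣ orderOf e := not_not.1 fun h => he ((hQ e).2 h)
      simp [regFun, hord, if_pos hd, indFun_of_notMem_normal Q _ he]
  rw [key]
  have := IsGeneralizedCharacter.intCast_smul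
    (IsGeneralizedCharacter.mul (IsCharacter.isGeneralized (isCharacter_indFun Q isCharacter_one))
      (IsGeneralizedCharacter.restrict hθ E)) ((p ^ (a - k) : ℕ) : ℤ)
  rwa [Int.cast_natCast] at this

/-- For `x` in the `p`-regular subgroup `Q` of an elementary subgroup, the `p`-part of `E` lies in
the centraliser of `x`. -/
theorem index_dvd_card_centralizer {E : Subgroup G} [Group.IsNilpotent E] {p k : ℕ}
    (hp : p.Prime) {Q : Subgroup E} [Q.Normal] (hQ : ∀ x, x ∈ Q ↔ ¬ p ∣ orderOf x)
    (hk : Q.index = p ^ k) {x : E} (hx : x ∈ Q) :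
    p ^ k ∣ Nat.card (Subgroup.centralizer ({(x : G)} : Set G)) := by
  haveI := Fact.mk hp
  obtain ⟨P⟩ := (inferInstance : Nonempty (Sylow p E))
  have hdisj : Disjoint (P : Subgroup E) Q := by
    rw [Subgroup.disjoint_def]
    intro z hz hzQ
    obtain ⟨j, hj⟩ := P.2 ⟨z, hz⟩
    have h1 : orderOf z ∣ p ^ j := orderOf_dvd_of_pow_eq_one (congrArg Subtype.val hj)
    have h2 : (orderOf z).Coprime (p ^ j) :=
      ((hp.coprime_iff_not_dvd.2 ((hQ z).1 hzQ)).symm).pow_right j
    exact orderOf_eq_one_iff.1 (Nat.eq_one_of_dvd_coprimes h2 dvd_rfl h1)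
  have hle : ((P : Subgroup E)).map E.subtype ≤ Subgroup.centralizer ({(x : G)} : Set G) := by
    rintro _ ⟨z, hz, rfl⟩
    rw [Subgroup.mem_centralizer_singleton_iff]
    exact congrArg Subtype.val
      (Subgroup.commute_of_normal_of_disjoint _ _ inferInstance inferInstance hdisj z x hz hx).eq
  refine dvd_trans ?_ (Subgroup.card_dvd_of_le hle)
  rw [Subgroup.card_map_of_injective E.subtype_injective]
  obtain ⟨j, hj⟩ := P.2.exists_card_eq
  rw [hj]
  refine pow_dvd_pow p ?_
  have h1 : p ^ k ∣ Nat.card E := hk ▸ Q.index_dvd_card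
  rw [hp.pow_dvd_iff_le_factorization Nat.card_pos.ne'] at h1
  have h2 := P.card_eq_multiplicity
  rw [hj] at h2
  exact h1.trans (Nat.pow_right_injective hp.two_le h2).ge

/-- `p^(a-b) χ°` is a generalized character when `p^b` is the `p`-part of `χ(1)`. -/
theorem isGeneralizedCharacter_pPow_sub_smul_regFun {p : ℕ} (hp : p.Prime) (χ : IrrCharacter G) :
    IsGeneralizedCharacter G
      (((p ^ ((Nat.card G).factorization p - (degree χ).factorization p) : ℕ) : ℂ) •
        regFun p χ.1) := by
  classical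
  refine isGeneralizedCharacter_of_elementary
    (isClassFunction_of_mul_left (isClassFunction_regFun p
      (IsCharacter.isClassFunction (irr_isCharacter χ))) _) fun E q hq hE => ?_
  haveI := Fintype.ofFinite E
  haveI := IsElementary.isNilpotent hq hE
  obtain ⟨Q, k, hQn, hQ, hk⟩ := exists_pRegular_subgroup (E := E) hp
  haveI := hQn
  haveI := Fintype.ofFinite Q
  set a := (Nat.card G).factorization p with ha
  set b := (degree χ).factorization p with hb
  set m := Nat.card G / p ^ a with hm
  set d' := degree χ / p ^ b with hd'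
  have hGm : p ^ a * m = Nat.card G := Nat.ordProj_mul_ordCompl_eq_self _ _
  have hdd : p ^ b * d' = degree χ := Nat.ordProj_mul_ordCompl_eq_self _ _
  have hmp : ¬ p ∣ m := Nat.not_dvd_ordCompl hp Nat.card_pos.ne'
  refine isGeneralizedCharacter_iff.2 ⟨?_, fun ψ => ?_⟩
  · exact fun g h => isClassFunction_of_mul_left (isClassFunction_regFun p
      (IsCharacter.isClassFunction (irr_isCharacter χ))) _ (g : G) (h : G)
  set c := classInner (fun e : E => (((p ^ (a - b) : ℕ) : ℂ) • regFun p χ.1) e) ψ.1 with hc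
  have hQp : ¬ p ∣ Nat.card Q := fun h => by
    obtain ⟨z, hz⟩ := exists_prime_orderOf_dvd_card' (hp := Fact.mk hp) p h
    exact (hQ (z : E)).1 z.2 (by rw [Subgroup.orderOf_coe, hz])
  have hpk : (Nat.card E : ℂ) = (p ^ k : ℕ) * (Nat.card Q : ℂ) := by
    rw [← Q.card_mul_index, hk]; push_cast; ring
  have hpkne : ((p ^ k : ℕ) : ℂ) ≠ 0 := Nat.cast_ne_zero.2 (pow_ne_zero _ hp.ne_zero)
  have hQne : (Nat.card Q : ℂ) ≠ 0 := card_ne_zero (G := Q)
  -- `c` in terms of a sum over `Q`
  have hcsum : c = (Nat.card E : ℂ)⁻¹ *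
      ∑ e : Q, ((p ^ (a - b) : ℕ) : ℂ) * χ.1 ((e : E) : G) * conj (ψ.1 e) := by
    rw [hc, classInner]
    congr 1
    refine (Fintype.sum_of_injective (Subtype.val : Q → E) Subtype.val_injective _ _ ?_ ?_).symm
    · intro e he
      have hd : p ∣ orderOf e := not_not.1 fun h => he ⟨⟨e, (hQ e).2 h⟩, rfl⟩
      simp [regFun, Subgroup.orderOf_coe, hd]
    · intro e
      have hnd := (hQ (e : E)).1 e.2
      simp only [Pi.smul_apply, smul_eq_mul, regFun, Subgroup.orderOf_coe]
      rw [if_neg (by simpa using hnd)]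
  -- a rational multiple
  obtain ⟨N, hN⟩ := IsGeneralizedCharacter.exists_int_classInner
    (IsCharacter.isGeneralized (IsCharacter.restrict
      (IsCharacter.restrict (irr_isCharacter χ) E) Q))
    (IsCharacter.isGeneralized (IsCharacter.restrict (irr_isCharacter ψ) Q))
  have hcN : ((p ^ k : ℕ) : ℂ) * c = ((p ^ (a - b) : ℕ) : ℂ) * N := by
    rw [hcsum, ← hN, classInner, hpk]
    simp only [mul_assoc, ← Finset.mul_sum]
    field_simp
  -- an integral multiple
  have hint : IsIntegral ℤ (((m * Nat.card Q : ℕ) : ℂ) * c) := by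
    have e1 : ((m * Nat.card Q : ℕ) : ℂ) * c =
        ∑ e : Q, ((m * p ^ (a - b) : ℕ) : ℂ) / ((p ^ k : ℕ) : ℂ) * χ.1 ((e : E) : G) *
          conj (ψ.1 e) := by
      rw [hcsum, hpk, Finset.mul_sum, Finset.mul_sum]
      refine Finset.sum_congr rfl fun e _ => ?_
      push_cast at hpkne ⊢
      field_simp
    rw [e1]
    refine IsIntegral.sum _ fun e _ => IsIntegral.mul ?_ ?_
    · obtain ⟨t, ht⟩ := index_dvd_card_centralizer hp hQ hk e.2
      set x : G := ((e : E) : G) with hx
      have hcard : (Subgroup.centralizer ({x} : Set G)).index * (p ^ k * t) = Nat.card G := by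
        rw [← ht, mul_comm]; exact (Subgroup.centralizer ({x} : Set G)).card_mul_index
      have hω := Blocks.isIntegral_centralChar χ x
      have hba : b ≤ a → p ^ (a - b) * p ^ b = p ^ a := fun h => by
        rw [← pow_add, Nat.sub_add_cancel h]
      have hba' : b ≤ a := by
        rw [hb, ha]
        exact (Nat.factorization_le_iff_dvd (degree_pos χ).ne' Nat.card_pos.ne').2
          (degree_dvd_natCard χ) p
      have : ((m * p ^ (a - b) : ℕ) : ℂ) / ((p ^ k : ℕ) : ℂ) * χ.1 x =
          ((d' * t : ℕ) : ℂ) * centralChar χ.1 x := by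
        have hnat : m * p ^ (a - b) * degree χ =
            d' * t * ((Subgroup.centralizer ({x} : Set G)).index) * p ^ k := by
          calc m * p ^ (a - b) * degree χ = d' * (p ^ (a - b) * p ^ b * m) := by rw [← hdd]; ring
            _ = d' * Nat.card G := by rw [hba hba', hGm]
            _ = _ := by rw [← hcard]; ring
        have hd0 : (degree χ : ℂ) ≠ 0 := Nat.cast_ne_zero.2 (degree_pos χ).ne'
        rw [centralChar, apply_one_eq_degree]
        field_simp
        norm_cast
        have hC : (((m * p ^ (a - b) * degree χ : ℕ) : ℂ)) =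
            ((d' * t * ((Subgroup.centralizer ({x} : Set G)).index) * p ^ k : ℕ) : ℂ) := by
          rw [hnat]
        push_cast at hC ⊢
        linear_combination (χ.1 x) * hC
      rw [this]
      exact (map_natCast (algebraMap ℤ ℂ) (d' * t) ▸ isIntegral_algebraMap).mul hω
    · rw [IsCharacter.conj_apply (irr_isCharacter ψ)]
      exact CharInt.isIntegral_char (irr_isCharacter ψ) _
  -- combine
  have hcop : Nat.Coprime (m * Nat.card Q) (p ^ k) :=
    ((Nat.Coprime.mul_left (hp.coprime_iff_not_dvd.2 hmp).symm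
      (hp.coprime_iff_not_dvd.2 hQp).symm)).pow_right k
  have hbez := Nat.gcd_eq_gcd_ab (m * Nat.card Q) (p ^ k)
  rw [hcop] at hbez
  have hcint : IsIntegral ℤ c := by
    have : c = (Nat.gcdA (m * Nat.card Q) (p ^ k) : ℂ) * (((m * Nat.card Q : ℕ) : ℂ) * c) +
        (Nat.gcdB (m * Nat.card Q) (p ^ k) : ℂ) * (((p ^ k : ℕ) : ℂ) * c) := by
      have h2 : ((((1 : ℕ) : ℤ)) : ℂ) = _ := congrArg (fun z : ℤ => (z : ℂ)) hbez
      push_cast at h2 ⊢
      linear_combination c * h2
    rw [this, hcN]
    refine ((map_intCast (algebraMap ℤ ℂ) _ ▸ isIntegral_algebraMap).mul hint).add ?_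
    refine (map_intCast (algebraMap ℤ ℂ) _ ▸ isIntegral_algebraMap).mul ?_
    exact (map_natCast (algebraMap ℤ ℂ) (p ^ (a - b)) ▸ isIntegral_algebraMap).mul
      (map_intCast (algebraMap ℤ ℂ) N ▸ isIntegral_algebraMap)
  exact exists_int_of_isIntegral_mul hcint (c := ((p ^ k : ℕ) : ℤ))
    (Int.natCast_ne_zero.2 (pow_ne_zero _ hp.ne_zero)) (N := ((p ^ (a - b) : ℕ) : ℤ) * N)
    (by push_cast at hcN ⊢; exact hcN)

/-- A generalized character vanishing on the `p`-singular elements has degree divisible by the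
`p`-part of the group order. -/
theorem exists_int_apply_one_eq_pPow_mul {p : ℕ} (hp : p.Prime) {θ : G → ℂ}
    (hθ : IsGeneralizedCharacter G θ) (h0 : ∀ x, p ∣ orderOf x → θ x = 0) :
    ∃ z : ℤ, θ 1 = ((p ^ (Nat.card G).factorization p : ℕ) : ℂ) * z := by
  haveI := Fact.mk hp
  obtain ⟨P⟩ := (inferInstance : Nonempty (Sylow p G))
  haveI := Fintype.ofFinite (P : Subgroup G)
  obtain ⟨z, hz⟩ := IsGeneralizedCharacter.exists_int_classInner
    (IsGeneralizedCharacter.restrict hθ (P : Subgroup G))
    (IsCharacter.isGeneralized (isCharacter_one (G := (P : Subgroup G))))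
  refine ⟨z, ?_⟩
  rw [← hz, classInner, Finset.sum_eq_single_of_mem (1 : (P : Subgroup G)) (Finset.mem_univ _)]
  · rw [← mul_assoc, ← P.card_eq_multiplicity, mul_inv_cancel₀ (card_ne_zero), one_mul]
    simp
  · intro x _ hx
    obtain ⟨j, hj⟩ := P.2 x
    have hdvd : p ∣ orderOf (x : G) := by
      rw [Subgroup.orderOf_coe]
      obtain ⟨i, -, hi⟩ := (Nat.dvd_prime_pow hp).1 (orderOf_dvd_of_pow_eq_one hj)
      rcases Nat.eq_zero_or_pos i with rfl | hi0
      · exact absurd (orderOf_eq_one_iff.1 (by simpa using hi)) hx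
      · rw [hi]; exact dvd_pow_self p hi0.ne'
    rw [h0 _ hdvd, zero_mul]

end Cfsg.Agent.Char
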