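import Cfsg.Agent.Lib.Char.Orthogonality

/-!
# Characters of direct products, transport along isomorphisms
-/

namespace Cfsg.Agent.Char

open scoped ComplexConjugate

set_option linter.style.haveILetI false

universe u v

theorem IsIrrCharacter.comp_mulEquiv {G : Type u} [Group G] {H : Type v} [Group H] {χ : G → ℂ}
    (h : IsIrrCharacter G χ) (e : H ≃* G) : IsIrrCharacter H (fun x => χ (e x)) :=
  IsIrrCharacter.comp_surjective h e.toMonoidHom e.surjective

/-- Irreducible characters of isomorphic groups correspond. -/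
noncomputable def irrCongr {G : Type u} [Group G] {H : Type v} [Group H] (e : G ≃* H) :
    IrrCharacter G ≃ IrrCharacter H where
  toFun χ := ⟨fun y => χ.1 (e.symm y), IsIrrCharacter.comp_mulEquiv χ.2 e.symm⟩
  invFun χ := ⟨fun x => χ.1 (e x), IsIrrCharacter.comp_mulEquiv χ.2 e⟩
  left_inv χ := Subtype.ext (funext fun x => by simp)
  right_inv χ := Subtype.ext (funext fun x => by simp)

variable {G : Type u} [Group G] {H : Type v} [Group H] [Fintype G] [Fintype H]

theorem classInner_prod_mul (φ φ' : G → ℂ) (ψ ψ' : H → ℂ) :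
    classInner (fun x : G × H => φ x.1 * ψ x.2) (fun x : G × H => φ' x.1 * ψ' x.2) =
      classInner φ φ' * classInner ψ ψ' := by
  simp only [classInner, Nat.card_prod, Nat.cast_mul, Fintype.sum_prod_type, map_mul]
  rw [mul_mul_mul_comm, Finset.sum_mul_sum, mul_inv]
  congr 1
  exact Finset.sum_congr rfl fun a _ => Finset.sum_congr rfl fun b _ => by ring

omit [Fintype G] [Fintype H] in
theorem isIrrCharacter_prod_mul [Finite G] [Finite H] {φ : G → ℂ} {ψ : H → ℂ}
    (hφ : IsIrrCharacter G φ) (hψ : IsIrrCharacter H ψ) :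
    IsIrrCharacter (G × H) (fun x => φ x.1 * ψ x.2) := by
  haveI := Fintype.ofFinite G
  haveI := Fintype.ofFinite H
  refine isIrrCharacter_iff.2 ⟨?_, ?_⟩
  · exact IsCharacter.mul
      (IsCharacter.comp (IsIrrCharacter.isCharacter hφ) (MonoidHom.fst G H))
      (IsCharacter.comp (IsIrrCharacter.isCharacter hψ) (MonoidHom.snd G H))
  · rw [classInner_prod_mul, classInner_irr_self hφ, classInner_irr_self hψ, one_mul]

omit [Fintype G] [Fintype H] in
theorem exists_eq_prod_mul [Finite G] [Finite H] {θ : G × H → ℂ}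
    (hθ : IsIrrCharacter (G × H) θ) :
    ∃ (φ : G → ℂ) (ψ : H → ℂ), IsIrrCharacter G φ ∧ IsIrrCharacter H ψ ∧
      θ = fun x => φ x.1 * ψ x.2 := by
  classical
  haveI := Fintype.ofFinite G
  haveI := Fintype.ofFinite H
  let P : IrrCharacter G × IrrCharacter H → IrrCharacter (G × H) := fun p =>
    ⟨_, isIrrCharacter_prod_mul p.1.2 p.2.2⟩
  by_contra hcon
  let θ' : IrrCharacter (G × H) := ⟨θ, hθ⟩
  have hne : ∀ p, classInner θ'.1 (P p).1 = 0 := fun p =>
    classInner_irr_of_ne hθ (P p).2 fun e => hcon ⟨_, _, p.1.2, p.2.2, e⟩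
  have e : (∑ p : IrrCharacter G × IrrCharacter H, (p.1.1 1 * p.2.1 1) • (P p).1) =
      fun x => if x = 1 then (Nat.card (G × H) : ℂ) else 0 := by
    funext x
    simp only [Finset.sum_apply, Pi.smul_apply, smul_eq_mul, P, Fintype.sum_prod_type]
    calc ∑ a : IrrCharacter G, ∑ b : IrrCharacter H, a.1 1 * b.1 1 * (a.1 x.1 * b.1 x.2)
        = (∑ a : IrrCharacter G, a.1 1 * a.1 x.1) * ∑ b : IrrCharacter H, b.1 1 * b.1 x.2 := by
          rw [Finset.sum_mul_sum]
          exact Finset.sum_congr rfl fun a _ => Finset.sum_congr rfl fun b _ => by ring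
      _ = _ := by
          rw [sum_irr_degree_mul, sum_irr_degree_mul, Nat.card_prod, Nat.cast_mul]
          simp only [Prod.ext_iff, Prod.fst_one, Prod.snd_one]
          split_ifs <;> simp_all
  have h0 : classInner θ'.1 (∑ p : IrrCharacter G × IrrCharacter H,
      (p.1.1 1 * p.2.1 1) • (P p).1) = 0 := by
    simp [classInner_sum_right, classInner_smul_right, hne]
  rw [e] at h0
  simp [classInner, apply_ite, mul_ite] at h0
  exact IsIrrCharacter.apply_one_ne_zero hθ h0

end Cfsg.Agent.Char
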