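import Mathlib.LinearAlgebra.Matrix.Permutation
import Mathlib.GroupTheory.GroupAction.Quotient
import Mathlib.Analysis.Complex.Basic
import Mathlib.LinearAlgebra.Matrix.NonsingularInverse

/-!
# Brauer's permutation lemma, abstract form

A square matrix with linearly independent rows which is invariant under a pair of
actions on its index sets forces equal numbers of fixed points and of orbits.
-/

open Matrix

namespace Cfsg.Agent.Char

variable {ι κ : Type*} [Fintype ι] [Fintype κ]

theorem brauer_perm_fixed [DecidableEq ι] [DecidableEq κ] (X : Matrix ι κ ℂ) (Y : Matrix κ ι ℂ)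
    (hXY : X * Y = 1 ∨ Y * X = 1)
    (hcard : Fintype.card ι = Fintype.card κ)
    (σ : Equiv.Perm ι) (τ : Equiv.Perm κ) (h : ∀ i j, X (σ i) (τ j) = X i j) :
    Nat.card {i // σ i = i} = Nat.card {j // τ j = j} := by
  have hXY' : X * Y = 1 ∧ Y * X = 1 := by
    rcases hXY with hh | hh
    · exact ⟨hh, (Matrix.mul_eq_one_comm_of_equiv (Fintype.equivOfCardEq hcard)).1 hh⟩
    · exact ⟨(Matrix.mul_eq_one_comm_of_equiv (Fintype.equivOfCardEq hcard).symm).1 hh, hh⟩
  set S : Matrix ι ι ℂ := Matrix.of fun a b => if σ a = b then 1 else 0 with hS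
  set T : Matrix κ κ ℂ := Matrix.of fun a b => if τ a = b then 1 else 0 with hT
  have hrel : S * X = X * T := by
    ext i j
    simp only [hS, hT, Matrix.mul_apply, Matrix.of_apply, ite_mul, one_mul, zero_mul, mul_ite,
      mul_one, mul_zero, Finset.sum_ite_eq, Finset.mem_univ, if_true]
    have : (fun x => if τ x = j then X i x else 0) = fun x => if x = τ.symm j then X i x else 0 :=
      funext fun x => by simp [Equiv.eq_symm_apply]
    rw [this, Finset.sum_ite_eq', if_pos (Finset.mem_univ _), ← h i (τ.symm j), τ.apply_symm_apply]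
  have htr : S.trace = T.trace := by
    calc S.trace = (S * X * Y).trace := by rw [Matrix.mul_assoc, hXY'.1, Matrix.mul_one]
      _ = (T * (Y * X)).trace := by rw [hrel, Matrix.mul_assoc, Matrix.trace_mul_comm, Matrix.mul_assoc]
      _ = T.trace := by rw [hXY'.2, Matrix.mul_one]
  simp only [hS, hT, Matrix.trace, Matrix.diag_apply, Matrix.of_apply, Finset.sum_boole] at htr
  rw [Nat.card_eq_fintype_card, Nat.card_eq_fintype_card, Fintype.card_subtype,
    Fintype.card_subtype]
  exact_mod_cast htr

theorem card_orbits_eq_of_fixed {A : Type*} [Group A] [Finite A] {α β : Type*} [Finite α] [Finite β]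
    [MulAction A α] [MulAction A β]
    (h : ∀ a : A, Nat.card (MulAction.fixedBy α a) = Nat.card (MulAction.fixedBy β a)) :
    Nat.card (Quotient (MulAction.orbitRel A α)) = Nat.card (Quotient (MulAction.orbitRel A β)) := by
  classical
  haveI := Fintype.ofFinite A
  haveI := Fintype.ofFinite α
  haveI := Fintype.ofFinite β
  haveI := Fintype.ofFinite (Quotient (MulAction.orbitRel A α))
  haveI := Fintype.ofFinite (Quotient (MulAction.orbitRel A β))
  have h1 := MulAction.sum_card_fixedBy_eq_card_orbits_mul_card_group A α
  have h2 := MulAction.sum_card_fixedBy_eq_card_orbits_mul_card_group A β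
  have hh : ∑ a : A, Fintype.card (MulAction.fixedBy α a) = ∑ a : A, Fintype.card (MulAction.fixedBy β a) :=
    Finset.sum_congr rfl fun a _ => by
      have := h a
      rwa [Nat.card_eq_fintype_card, Nat.card_eq_fintype_card] at this
  rw [Nat.card_eq_fintype_card, Nat.card_eq_fintype_card]
  rw [h1, h2] at hh
  exact Nat.eq_of_mul_eq_mul_right Fintype.card_pos hh

end Cfsg.Agent.Char
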