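import Cfsg.Agent.Lib.Char.Orthogonality
import Cfsg.Agent.Lib.Char.BrauerPerm

/-!
# Irreducible characters and classes fixed by an automorphism

Brauer's permutation lemma applied to the character table: an automorphism fixes as many
irreducible characters as conjugacy classes.
-/

set_option autoImplicit false
set_option linter.style.haveILetI false

namespace Cfsg.Agent.Char

open scoped ComplexConjugate

universe u

variable {H : Type u} [Group H] [Finite H]

/-- An automorphism acting on irreducible characters by `χ ↦ χ ∘ α`. -/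
noncomputable def irrPerm (α : H ≃* H) : Equiv.Perm (IrrCharacter H) where
  toFun χ := ⟨fun h => χ.1 (α h), IsIrrCharacter.comp_surjective χ.2 α.toMonoidHom α.surjective⟩
  invFun χ := ⟨fun h => χ.1 (α.symm h),
    IsIrrCharacter.comp_surjective χ.2 α.symm.toMonoidHom α.symm.surjective⟩
  left_inv χ := Subtype.ext (funext fun h => by simp)
  right_inv χ := Subtype.ext (funext fun h => by simp)

omit [Finite H] in
theorem irrPerm_apply (α : H ≃* H) (χ : IrrCharacter H) :
    (irrPerm α χ).1 = fun h => χ.1 (α h) := rfl

/-- An automorphism acting on conjugacy classes. -/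
def classPerm (α : H ≃* H) : Equiv.Perm (ConjClasses H) where
  toFun := ConjClasses.map α.toMonoidHom
  invFun := ConjClasses.map α.symm.toMonoidHom
  left_inv C := by
    induction C using Quotient.inductionOn with
    | _ a => exact congrArg ConjClasses.mk (α.symm_apply_apply a)
  right_inv C := by
    induction C using Quotient.inductionOn with
    | _ a => exact congrArg ConjClasses.mk (α.apply_symm_apply a)

omit [Finite H] in
theorem classPerm_mk (α : H ≃* H) (a : H) :
    classPerm α (ConjClasses.mk a) = ConjClasses.mk (α a) := rfl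

/-- Brauer: an automorphism fixes as many irreducible characters as classes. -/
theorem card_fixed_irr_eq_card_fixed_class (α : H ≃* H) :
    Nat.card {χ : IrrCharacter H // (fun h => χ.1 (α h)) = χ.1} =
      Nat.card {C : ConjClasses H // classPerm α C = C} := by
  classical
  haveI := Fintype.ofFinite H
  haveI : Finite (ConjClasses H) := Finite.of_surjective _ ConjClasses.mk_surjective
  haveI := Fintype.ofFinite (ConjClasses H)
  let X : Matrix (IrrCharacter H) (ConjClasses H) ℂ := Matrix.of fun χ C => χ.1 (Quotient.out C)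
  let Y : Matrix (ConjClasses H) (IrrCharacter H) ℂ := Matrix.of fun C χ =>
    (Nat.card (Subgroup.centralizer ({Quotient.out C} : Set H)) : ℂ)⁻¹ * conj (χ.1 (Quotient.out C))
  have hout : ∀ C : ConjClasses H, ConjClasses.mk (Quotient.out C) = C := fun C => Quotient.out_eq C
  have hXY : Y * X = 1 := by
    ext C D
    simp only [X, Y, Matrix.mul_apply, Matrix.of_apply, Matrix.one_apply, mul_assoc, ← Finset.mul_sum]
    have h := sum_irr_mul_conj (Quotient.out D) (Quotient.out C)
    rw [show ∑ χ : IrrCharacter H, conj (χ.1 (Quotient.out C)) * χ.1 (Quotient.out D) = _ from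
      (Finset.sum_congr rfl fun χ _ => mul_comm _ _).trans h]
    have hiff : IsConj (Quotient.out D) (Quotient.out C) ↔ C = D := by
      rw [← ConjClasses.mk_eq_mk_iff_isConj, hout, hout]
      exact eq_comm
    by_cases hCD : C = D
    · rw [if_pos (hiff.2 hCD), if_pos hCD, inv_mul_cancel₀ (Nat.cast_ne_zero.2 Nat.card_pos.ne')]
    · rw [if_neg (fun e => hCD (hiff.1 e)), if_neg hCD, mul_zero]
  have hcard : Fintype.card (IrrCharacter H) = Fintype.card (ConjClasses H) := by
    simpa [Nat.card_eq_fintype_card] using card_irr (G := H)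
  have h := brauer_perm_fixed X Y (Or.inr hXY) hcard (irrPerm α).symm (classPerm α) (fun χ C => by
    simp only [X, Matrix.of_apply]
    refine IsClassFunction.apply_of_isConj
      (IsCharacter.isClassFunction (irr_isCharacter χ)) (ConjClasses.mk_eq_mk_iff_isConj.1 ?_)
    rw [hout C]
    show (classPerm α).symm (ConjClasses.mk (Quotient.out (classPerm α C))) = C
    rw [hout, Equiv.symm_apply_apply])
  rw [← h]
  refine Nat.card_congr (Equiv.subtypeEquivRight fun χ => ?_)
  rw [Equiv.symm_apply_eq, Subtype.ext_iff, irrPerm_apply]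
  exact eq_comm

/-- A nontrivial fixed irreducible character exists exactly when a nontrivial fixed class does. -/
theorem exists_fixed_irr_iff (α : H ≃* H) :
    (∃ χ : IrrCharacter H, χ ≠ trivialChar H ∧ (fun h => χ.1 (α h)) = χ.1) ↔
      ∃ a : H, a ≠ 1 ∧ IsConj a (α a) := by
  classical
  haveI := Fintype.ofFinite H
  haveI : Finite (ConjClasses H) := Finite.of_surjective _ ConjClasses.mk_surjective
  haveI := Fintype.ofFinite (ConjClasses H)
  have h := card_fixed_irr_eq_card_fixed_class α
  have e1 : (∃ χ : IrrCharacter H, χ ≠ trivialChar H ∧ (fun h => χ.1 (α h)) = χ.1) ↔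
      1 < Nat.card {χ : IrrCharacter H // (fun h => χ.1 (α h)) = χ.1} := by
    rw [Finite.one_lt_card_iff_nontrivial]
    have h0 : (fun h => (trivialChar H).1 (α h)) = (trivialChar H).1 := rfl
    constructor
    · rintro ⟨χ, hne, hχ⟩
      exact ⟨⟨χ, hχ⟩, ⟨trivialChar H, h0⟩, fun e => hne (congrArg Subtype.val e)⟩
    · rintro ⟨χ, ψ, hne⟩
      by_cases hχ : χ.1 = trivialChar H
      · exact ⟨ψ.1, fun hψ => hne (Subtype.ext (hχ.trans hψ.symm)), ψ.2⟩
      · exact ⟨χ.1, hχ, χ.2⟩
  have e2 : (∃ a : H, a ≠ 1 ∧ IsConj a (α a)) ↔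
      1 < Nat.card {C : ConjClasses H // classPerm α C = C} := by
    rw [Finite.one_lt_card_iff_nontrivial]
    have h0 : classPerm α (ConjClasses.mk 1) = ConjClasses.mk 1 := by rw [classPerm_mk, map_one]
    constructor
    · rintro ⟨a, hne, ha⟩
      refine ⟨⟨ConjClasses.mk a, by rw [classPerm_mk, ConjClasses.mk_eq_mk_iff_isConj]; exact ha.symm⟩,
        ⟨ConjClasses.mk 1, h0⟩, fun e => hne ?_⟩
      have := ConjClasses.mk_eq_mk_iff_isConj.1 (congrArg Subtype.val e)
      exact isConj_one_left.1 this
    · rintro ⟨C, D, hne⟩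
      obtain ⟨a, ha⟩ := ConjClasses.exists_rep C.1
      obtain ⟨b, hb⟩ := ConjClasses.exists_rep D.1
      by_cases ha1 : a = 1
      · refine ⟨b, fun hb1 => hne (Subtype.ext ?_), ?_⟩
        · rw [← ha, ← hb, ha1, hb1]
        · have := D.2
          rw [← hb, classPerm_mk, ConjClasses.mk_eq_mk_iff_isConj] at this
          exact this.symm
      · have := C.2
        rw [← ha, classPerm_mk, ConjClasses.mk_eq_mk_iff_isConj] at this
        exact ⟨a, ha1, this.symm⟩
  rw [e1, e2, h]

end Cfsg.Agent.Char
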