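import Cfsg.Agent.Lib.Char.Orthogonality

/-!
# Generalized (virtual) characters
-/

namespace Cfsg.Agent.Char

open scoped ComplexConjugate

set_option linter.style.haveILetI false

universe u v

variable {G : Type u} [Group G]

theorem IsCharacter.isGeneralized {χ : G → ℂ} (h : IsCharacter G χ) :
    IsGeneralizedCharacter G χ := ⟨χ, 0, h, IsCharacter.zero, (sub_zero χ).symm⟩

theorem irr_isGeneralized (χ : IrrCharacter G) : IsGeneralizedCharacter G χ.1 :=
  IsCharacter.isGeneralized (irr_isCharacter χ)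

theorem IsGeneralizedCharacter.zero : IsGeneralizedCharacter G (0 : G → ℂ) :=
  IsCharacter.isGeneralized IsCharacter.zero

theorem IsGeneralizedCharacter.add {θ η : G → ℂ} (h₁ : IsGeneralizedCharacter G θ)
    (h₂ : IsGeneralizedCharacter G η) : IsGeneralizedCharacter G (θ + η) := by
  obtain ⟨a, b, ha, hb, rfl⟩ := h₁
  obtain ⟨c, d, hc, hd, rfl⟩ := h₂
  exact ⟨a + c, b + d, IsCharacter.add ha hc, IsCharacter.add hb hd, by abel⟩

theorem IsGeneralizedCharacter.neg {θ : G → ℂ} (h : IsGeneralizedCharacter G θ) :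
    IsGeneralizedCharacter G (-θ) := by
  obtain ⟨a, b, ha, hb, rfl⟩ := h
  exact ⟨b, a, hb, ha, neg_sub a b⟩

theorem IsGeneralizedCharacter.sub {θ η : G → ℂ} (h₁ : IsGeneralizedCharacter G θ)
    (h₂ : IsGeneralizedCharacter G η) : IsGeneralizedCharacter G (θ - η) := by
  rw [sub_eq_add_neg]; exact IsGeneralizedCharacter.add h₁ (IsGeneralizedCharacter.neg h₂)

theorem IsGeneralizedCharacter.sum {ι : Type*} (s : Finset ι) {f : ι → G → ℂ}
    (h : ∀ i ∈ s, IsGeneralizedCharacter G (f i)) : IsGeneralizedCharacter G (∑ i ∈ s, f i) :=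
  Finset.sum_induction f _ (fun _ _ => IsGeneralizedCharacter.add) IsGeneralizedCharacter.zero h

theorem IsGeneralizedCharacter.intCast_smul {θ : G → ℂ} (h : IsGeneralizedCharacter G θ) (z : ℤ) :
    IsGeneralizedCharacter G ((z : ℂ) • θ) := by
  have key : ∀ n : ℕ, IsGeneralizedCharacter G ((n : ℂ) • θ) := fun n => by
    obtain ⟨a, b, ha, hb, rfl⟩ := h
    exact ⟨_, _, IsCharacter.natCast_smul ha n, IsCharacter.natCast_smul hb n, smul_sub _ _ _⟩
  cases z with
  | ofNat n => simpa using key n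
  | negSucc n =>
    rw [Int.cast_negSucc, neg_smul]
    exact IsGeneralizedCharacter.neg (key _)

theorem IsGeneralizedCharacter.mul {θ η : G → ℂ} (h₁ : IsGeneralizedCharacter G θ)
    (h₂ : IsGeneralizedCharacter G η) : IsGeneralizedCharacter G (θ * η) := by
  obtain ⟨a, b, ha, hb, rfl⟩ := h₁
  obtain ⟨c, d, hc, hd, rfl⟩ := h₂
  exact ⟨a * c + b * d, a * d + b * c, IsCharacter.add (IsCharacter.mul ha hc) (IsCharacter.mul hb hd),
    IsCharacter.add (IsCharacter.mul ha hd) (IsCharacter.mul hb hc), by ring⟩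

theorem IsGeneralizedCharacter.comp {H : Type v} [Group H] {θ : G → ℂ}
    (h : IsGeneralizedCharacter G θ) (f : H →* G) :
    IsGeneralizedCharacter H (fun x => θ (f x)) := by
  obtain ⟨a, b, ha, hb, rfl⟩ := h
  exact ⟨_, _, IsCharacter.comp ha f, IsCharacter.comp hb f, rfl⟩

theorem IsGeneralizedCharacter.restrict {θ : G → ℂ} (h : IsGeneralizedCharacter G θ)
    (H : Subgroup G) : IsGeneralizedCharacter H (fun x => θ x) :=
  IsGeneralizedCharacter.comp h H.subtype

theorem IsGeneralizedCharacter.isClassFunction {θ : G → ℂ} (h : IsGeneralizedCharacter G θ) :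
    IsClassFunction G θ := by
  obtain ⟨a, b, ha, hb, rfl⟩ := h
  intro x y
  simp only [Pi.sub_apply, IsCharacter.isClassFunction ha x y, IsCharacter.isClassFunction hb x y]

theorem IsGeneralizedCharacter.conj_apply [Finite G] {θ : G → ℂ}
    (h : IsGeneralizedCharacter G θ) (g : G) : conj (θ g) = θ g⁻¹ := by
  obtain ⟨a, b, ha, hb, rfl⟩ := h
  simp [IsCharacter.conj_apply ha, IsCharacter.conj_apply hb]

theorem IsGeneralizedCharacter.conj [Finite G] {θ : G → ℂ} (h : IsGeneralizedCharacter G θ) :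
    IsGeneralizedCharacter G (fun g => conj (θ g)) := by
  obtain ⟨a, b, ha, hb, rfl⟩ := h
  exact ⟨_, _, IsCharacter.conj ha, IsCharacter.conj hb, funext fun g => map_sub _ _ _⟩

theorem IsGeneralizedCharacter.exists_int_apply_one {θ : G → ℂ}
    (h : IsGeneralizedCharacter G θ) : ∃ z : ℤ, θ 1 = z := by
  obtain ⟨a, b, ha, hb, rfl⟩ := h
  obtain ⟨m, hm⟩ := IsCharacter.apply_one ha
  obtain ⟨n, hn⟩ := IsCharacter.apply_one hb
  exact ⟨(m : ℤ) - n, by simp [hm, hn]⟩

variable [Fintype G]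

theorem IsGeneralizedCharacter.exists_int_classInner {θ η : G → ℂ}
    (h₁ : IsGeneralizedCharacter G θ) (h₂ : IsGeneralizedCharacter G η) :
    ∃ z : ℤ, classInner θ η = z := by
  obtain ⟨a, b, ha, hb, rfl⟩ := h₁
  obtain ⟨c, d, hc, hd, rfl⟩ := h₂
  obtain ⟨n1, e1⟩ := IsCharacter.exists_nat_classInner ha hc
  obtain ⟨n2, e2⟩ := IsCharacter.exists_nat_classInner ha hd
  obtain ⟨n3, e3⟩ := IsCharacter.exists_nat_classInner hb hc
  obtain ⟨n4, e4⟩ := IsCharacter.exists_nat_classInner hb hd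
  refine ⟨(n1 : ℤ) - n2 - (n3 - n4), ?_⟩
  simp only [classInner_sub_left, classInner_sub_right, e1, e2, e3, e4]
  push_cast
  ring

theorem isGeneralizedCharacter_sum_int_smul (m : IrrCharacter G → ℤ) :
    IsGeneralizedCharacter G (∑ ψ : IrrCharacter G, (m ψ : ℂ) • ψ.1) :=
  IsGeneralizedCharacter.sum _ fun ψ _ =>
    IsGeneralizedCharacter.intCast_smul (irr_isGeneralized ψ) _

/-- A class function is a generalized character iff all its multiplicities are integers. -/
theorem isGeneralizedCharacter_iff {f : G → ℂ} :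
    IsGeneralizedCharacter G f ↔ IsClassFunction G f ∧
      ∀ ψ : IrrCharacter G, ∃ z : ℤ, classInner f ψ.1 = z := by
  refine ⟨fun h => ⟨IsGeneralizedCharacter.isClassFunction h, fun ψ =>
    IsGeneralizedCharacter.exists_int_classInner h (irr_isGeneralized ψ)⟩, fun ⟨hc, h⟩ => ?_⟩
  choose m hm using h
  rw [eq_sum_classInner_smul hc]
  simp only [hm]
  exact isGeneralizedCharacter_sum_int_smul m

theorem IsGeneralizedCharacter.exists_decomp {θ : G → ℂ} (h : IsGeneralizedCharacter G θ) :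
    ∃ m : IrrCharacter G → ℤ, θ = ∑ ψ, (m ψ : ℂ) • ψ.1 ∧ ∀ ψ, classInner θ ψ.1 = m ψ := by
  choose m hm using (isGeneralizedCharacter_iff.1 h).2
  refine ⟨m, ?_, hm⟩
  conv_lhs => rw [eq_sum_classInner_smul (IsGeneralizedCharacter.isClassFunction h)]
  simp [hm]

theorem IsGeneralizedCharacter.classInner_self_eq_sum {θ : G → ℂ} {m : IrrCharacter G → ℤ}
    (h : θ = ∑ ψ, (m ψ : ℂ) • ψ.1) : classInner θ θ = ((∑ ψ, m ψ ^ 2 : ℤ) : ℂ) := by
  classical
  subst h
  push_cast
  rw [classInner_sum_left]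
  refine Finset.sum_congr rfl fun χ _ => ?_
  rw [classInner_smul_left, classInner_sum_right]
  simp [classInner_smul_right, classInner_irr, sq]

/-- A generalized character of norm one is up to sign an irreducible character. -/
theorem IsGeneralizedCharacter.irr_or_neg_of_norm_one {θ : G → ℂ}
    (h : IsGeneralizedCharacter G θ) (h1 : classInner θ θ = 1) :
    ∃ ψ : IrrCharacter G, θ = ψ.1 ∨ θ = -ψ.1 := by
  classical
  obtain ⟨m, hm, -⟩ := IsGeneralizedCharacter.exists_decomp h
  have h2 : ∑ ψ, m ψ ^ 2 = 1 := by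
    have := IsGeneralizedCharacter.classInner_self_eq_sum hm
    rw [h1] at this; exact_mod_cast this.symm
  obtain ⟨ψ, hψ⟩ : ∃ ψ, m ψ ≠ 0 := by
    by_contra hcon
    push Not at hcon
    simp [hcon] at h2
  rw [← Finset.add_sum_erase _ _ (Finset.mem_univ ψ)] at h2
  have hnn : ∀ x ∈ Finset.univ.erase ψ, 0 ≤ m x ^ 2 := fun x _ => sq_nonneg _
  have hp : 0 < m ψ ^ 2 := by positivity
  have hrest : ∑ x ∈ Finset.univ.erase ψ, m x ^ 2 = 0 := by
    have := Finset.sum_nonneg hnn
    omega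
  have hz : θ = (m ψ : ℂ) • ψ.1 := by
    rw [hm, ← Finset.add_sum_erase _ _ (Finset.mem_univ ψ), Finset.sum_eq_zero, add_zero]
    intro x hx
    have h0 := (Finset.sum_eq_zero_iff_of_nonneg hnn).1 hrest x hx
    rw [sq_eq_zero_iff.1 h0, Int.cast_zero, zero_smul]
  refine ⟨ψ, ?_⟩
  have : m ψ ^ 2 = 1 := by omega
  rcases sq_eq_one_iff.1 this with h' | h' <;> simp [hz, h']

end Cfsg.Agent.Char
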