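import Cfsg.Agent.Lib.Char.Orthogonality
import Cfsg.Agent.Lib.CharInt.Basic
import Cfsg.Prelude.Def_Blocks

/-!
# Sums over cosets of a normal subgroup

For a normal subgroup `K` an irreducible character is trivial on `K` or sums to zero on every
coset of `K`; orthogonality for the characters of `G/K` follows without quotients.
-/

namespace Cfsg.Agent.Char

open scoped ComplexConjugate

set_option linter.style.haveILetI false

universe u

variable {G : Type u} [Group G]

/-- The kernel condition: `χ` takes the value `χ 1` on `K`. -/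
def TrivOn (K : Subgroup G) (χ : G → ℂ) : Prop :=
  ∀ k ∈ K, χ k = χ 1

theorem trivOn_trivialChar (K : Subgroup G) : TrivOn K (trivialChar G).1 := fun _ _ => rfl

theorem charDegree_eq_degree (χ : IrrCharacter G) : charDegree χ.1 = degree χ := by
  simp [charDegree, apply_one_eq_degree]

theorem charDegree_cast (χ : IrrCharacter G) : (charDegree χ.1 : ℂ) = χ.1 1 := by
  rw [charDegree_eq_degree, apply_one_eq_degree]

theorem charDegree_pos (χ : IrrCharacter G) : 0 < charDegree χ.1 :=
  charDegree_eq_degree χ ▸ degree_pos χ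

variable [Fintype G]

theorem sum_coset_eq_zero_of_not_trivOn (K : Subgroup G) [K.Normal] [Fintype K]
    (χ : IrrCharacter G) (h : ¬ TrivOn K χ.1) (g : G) : ∑ k : K, χ.1 (g * k) = 0 := by
  classical
  obtain ⟨n, ρ, hρ, hχ⟩ := χ.2
  haveI := hρ
  have hc : IsClassFunction G (fun x => if x ∈ K then (1 : ℂ) else 0) := fun a b => by
    have : b * a * b⁻¹ ∈ K ↔ a ∈ K :=
      ⟨fun h' => by simpa [mul_assoc] using ‹K.Normal›.conj_mem _ h' b⁻¹,
        fun h' => ‹K.Normal›.conj_mem a h' b⟩
    simp [this]
  obtain ⟨a, ha⟩ := exists_opSum_eq_smul hc ρ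
  have hT : ∀ x, ∑ k : K, ρ (k : G) x = a • x := by
    intro x
    rw [← ha x, opSum_apply]
    simp only [ite_smul, one_smul, zero_smul, ← Finset.sum_filter]
    exact (Finset.sum_subtype _ (by simp) (fun k => ρ k x)).symm
  by_cases ha0 : a = 0
  · have : ∑ k : K, ρ.character (g * k) = 0 := by
      simp only [Representation.character, map_mul]
      rw [← map_sum, ← Finset.mul_sum]
      have h0 : ∑ k : K, ρ (k : G) = 0 := LinearMap.ext fun x => by simp [hT x, ha0]
      rw [h0, mul_zero, map_zero]
    simpa [hχ] using this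
  · refine absurd (fun k0 hk0 => ?_) h
    have hid : ρ k0 = 1 := LinearMap.ext fun x => by
      have h1 : ∀ y, ρ k0 (a • y) = a • y := fun y => by
        rw [← hT y, map_sum]
        refine Fintype.sum_equiv (Equiv.mulLeft (⟨k0, hk0⟩ : K)) _ _ fun k => ?_
        simp
      have := h1 (a⁻¹ • x)
      simpa [smul_smul, mul_inv_cancel₀ ha0] using this
    rw [← hχ, Representation.character, Representation.character, hid, map_one ρ]

theorem apply_mul_of_trivOn {K : Subgroup G} {χ : IrrCharacter G} (h : TrivOn K χ.1) (g : G)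
    {k : G} (hk : k ∈ K) : χ.1 (g * k) = χ.1 g := by
  have hc := irr_isCharacter χ
  rw [CharInt.char_mul_comm hc, CharInt.char_mul_of_mem_kernel hc (h k hk)]

open scoped Classical in
/-- Column orthogonality for the characters trivial on `K`. -/
theorem sum_trivOn_mul_conj (K : Subgroup G) [K.Normal] [Fintype K] (g h : G) :
    (Nat.card K : ℂ) * ∑ χ ∈ Finset.univ.filter (fun χ : IrrCharacter G => TrivOn K χ.1),
        χ.1 g * conj (χ.1 h) =
      (Nat.card (Subgroup.centralizer ({h} : Set G)) : ℂ) *
        (Nat.card {k : K // IsConj (g * k) h} : ℂ) := by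
  have e : ∑ k : K, ∑ χ : IrrCharacter G, χ.1 (g * k) * conj (χ.1 h) =
      (Nat.card (Subgroup.centralizer ({h} : Set G)) : ℂ) *
        (Nat.card {k : K // IsConj (g * k) h} : ℂ) := by
    simp only [sum_irr_mul_conj]
    rw [Nat.card_eq_fintype_card (α := {k : K // IsConj (g * k) h}), Fintype.card_subtype,
      Finset.card_filter, Nat.cast_sum, Finset.mul_sum]
    exact Finset.sum_congr rfl fun k _ => by split_ifs <;> simp
  rw [← e, Finset.sum_comm, Finset.mul_sum, Finset.sum_filter]
  refine Finset.sum_congr rfl fun χ _ => ?_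
  split_ifs with hχ
  · simp [apply_mul_of_trivOn hχ g, Finset.sum_const, Nat.card_eq_fintype_card]
  · rw [← Finset.sum_mul, sum_coset_eq_zero_of_not_trivOn K χ hχ, zero_mul]

open scoped Classical in
/-- The sum of the squared degrees of the characters trivial on `K` is the index of `K`. -/
theorem sum_trivOn_degree_sq (K : Subgroup G) [K.Normal] :
    ∑ χ ∈ Finset.univ.filter (fun χ : IrrCharacter G => TrivOn K χ.1), charDegree χ.1 ^ 2 =
      K.index := by
  haveI := Fintype.ofFinite K
  have h := sum_trivOn_mul_conj K (1 : G) 1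
  have hc : Nat.card (Subgroup.centralizer ({1} : Set G)) = Nat.card G := by
    have : Subgroup.centralizer ({1} : Set G) = ⊤ := by
      ext x; simp [Subgroup.mem_centralizer_singleton_iff]
    rw [this, Subgroup.card_top]
  have hk : Nat.card {k : K // IsConj ((1 : G) * k) 1} = 1 := by
    simp [Nat.card_eq_fintype_card]
  simp only [← charDegree_cast, map_natCast, hk, hc, Nat.cast_one, mul_one] at h
  rw [← K.card_mul_index, Nat.cast_mul] at h
  have h2 := mul_left_cancel₀ (Nat.cast_ne_zero.2 Nat.card_pos.ne') h
  apply Nat.cast_injective (R := ℂ)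
  push_cast
  rw [← h2]
  exact Finset.sum_congr rfl fun χ _ => sq _

/-- An irreducible character that is not trivial is orthogonal to the trivial one. -/
theorem sum_apply_eq_zero {χ : IrrCharacter G} (h : χ ≠ trivialChar G) : ∑ g : G, χ.1 g = 0 := by
  have := classInner_irr_of_ne χ.2 (trivialChar G).2 (fun he => h (Subtype.ext he))
  simpa [classInner, card_ne_zero] using this

theorem classInner_eq_zero_of_ne {χ ψ : IrrCharacter G} (h : χ ≠ ψ) : classInner χ.1 ψ.1 = 0 :=
  classInner_irr_of_ne χ.2 ψ.2 fun he => h (Subtype.ext he)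

end Cfsg.Agent.Char
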