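import Cfsg.Agent.Lib.Char.Generalized
import Cfsg.Prelude.Def_OddOrderChar

/-!
# Linear isometries on integer spans of characters

`IsLinearIsometryOn` on a submodule, orthogonality of spans, the common sign of the images of
irreducible characters, and gluing of two isometries with orthogonal images.
-/

set_option autoImplicit false

namespace Cfsg.Agent.Char

universe u v

variable {L : Type u} [Group L] [Fintype L] {G : Type v} [Group G] [Fintype G]

theorem classInner_zsmul_left (n : ℤ) (φ ψ : L → ℂ) :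
    classInner (n • φ) ψ = (n : ℂ) * classInner φ ψ := by
  rw [← Int.cast_smul_eq_zsmul ℂ, classInner_smul_left]

theorem classInner_zsmul_right (n : ℤ) (φ ψ : L → ℂ) :
    classInner φ (n • ψ) = (n : ℂ) * classInner φ ψ := by
  rw [← Int.cast_smul_eq_zsmul ℂ, classInner_smul_right, map_intCast]

theorem zero_le_of_classInner_self {f : L → ℂ} {n : ℤ} (h : classInner f f = (n : ℂ)) : 0 ≤ n := by
  rw [classInner_self] at h
  have h' := congrArg Complex.re h
  simp only [Complex.ofReal_re, Complex.intCast_re] at h'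
  have h0 : (0 : ℝ) ≤ (n : ℝ) := h' ▸ mul_nonneg (inv_nonneg.2 (Nat.cast_nonneg _))
    (Finset.sum_nonneg fun g _ => Complex.normSq_nonneg _)
  exact_mod_cast h0

/-- The integer combinations of `S` that vanish off `A`, as a submodule. -/
def zspanOnSub {X : Type u} (S : Set (X → ℂ)) (A : Set X) : Submodule ℤ (X → ℂ) where
  carrier := zspanOn S A
  zero_mem' := ⟨Submodule.zero_mem _, fun _ _ => rfl⟩
  add_mem' := fun {a b} ha hb => ⟨Submodule.add_mem _ ha.1 hb.1, fun x hx => by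
    simp [ha.2 x hx, hb.2 x hx]⟩
  smul_mem' := fun n a ha => ⟨Submodule.smul_mem _ n ha.1, fun x hx => by simp [ha.2 x hx]⟩

theorem mem_zspanOn_compl_one {S : Set (L → ℂ)} {α : L → ℂ} :
    α ∈ zspanOn S {1}ᶜ ↔ α ∈ zspan S ∧ α 1 = 0 := by
  constructor
  · exact fun h => ⟨h.1, h.2 1 (by simp)⟩
  · intro h
    refine ⟨h.1, fun x hx => ?_⟩
    obtain rfl : x = 1 := by simpa using hx
    exact h.2

section Linear

variable {E : Submodule ℤ (L → ℂ)} {τ : (L → ℂ) → (G → ℂ)}

/-- The linear map given by an isometry on a submodule. -/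
noncomputable def isoHom (h : IsLinearIsometryOn (E : Set (L → ℂ)) τ) : E →ₗ[ℤ] (G → ℂ) where
  toFun x := τ x
  map_add' x y := h.1 x x.2 y y.2
  map_smul' n x := h.2.1 x x.2 n

theorem iso_map_zero (h : IsLinearIsometryOn (E : Set (L → ℂ)) τ) : τ 0 = 0 :=
  map_zero (isoHom h)

theorem iso_map_sub (h : IsLinearIsometryOn (E : Set (L → ℂ)) τ) {a b : L → ℂ} (ha : a ∈ E)
    (hb : b ∈ E) : τ (a - b) = τ a - τ b :=
  map_sub (isoHom h) ⟨a, ha⟩ ⟨b, hb⟩

theorem iso_map_sum (h : IsLinearIsometryOn (E : Set (L → ℂ)) τ) {ι : Type*} (s : Finset ι)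
    {f : ι → L → ℂ} (hf : ∀ i, f i ∈ E) : τ (∑ i ∈ s, f i) = ∑ i ∈ s, τ (f i) := by
  classical
  induction s using Finset.induction with
  | empty => simp [iso_map_zero h]
  | insert i s hi ih =>
    rw [Finset.sum_insert hi, Finset.sum_insert hi, h.1 _ (hf i) _ (Submodule.sum_mem _ fun j _ => hf j), ih]

end Linear

/-- Spans of orthogonal sets are orthogonal, also after applying linear maps defined on them. -/
theorem classInner_image_eq_zero {X Y : Set (L → ℂ)} {σ τ : (L → ℂ) → (G → ℂ)}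
    (hσ : IsLinearIsometryOn (zspan X) σ) (hτ : IsLinearIsometryOn (zspan Y) τ)
    (h : ∀ a ∈ X, ∀ b ∈ Y, classInner (σ a) (τ b) = 0) {x y : L → ℂ} (hx : x ∈ zspan X)
    (hy : y ∈ zspan Y) : classInner (σ x) (τ y) = 0 := by
  have h1 : ∀ a ∈ X, classInner (σ a) (τ y) = 0 := by
    intro a ha
    induction hy using Submodule.span_induction with
    | mem b hb => exact h a ha b hb
    | zero => simp [iso_map_zero (E := Submodule.span ℤ Y) hτ, classInner]
    | add b c hb hc ihb ihc => rw [hτ.1 b hb c hc, classInner_add_right, ihb, ihc, add_zero]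
    | smul n b hb ih => rw [hτ.2.1 b hb n, classInner_zsmul_right, ih, mul_zero]
  induction hx using Submodule.span_induction with
  | mem a ha => exact h1 a ha
  | zero => simp [iso_map_zero (E := Submodule.span ℤ X) hσ, classInner]
  | add b c hb hc ihb ihc => rw [hσ.1 b hb c hc, classInner_add_left, ihb, ihc, add_zero]
  | smul n b hb ih => rw [hσ.2.1 b hb n, classInner_zsmul_left, ih, mul_zero]

theorem classInner_span_eq_zero {X Y : Set (L → ℂ)}
    (h : ∀ a ∈ X, ∀ b ∈ Y, classInner a b = 0) {x y : L → ℂ} (hx : x ∈ zspan X)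
    (hy : y ∈ zspan Y) : classInner x y = 0 := by
  have h1 : ∀ a ∈ X, classInner a y = 0 := by
    intro a ha
    induction hy using Submodule.span_induction with
    | mem b hb => exact h a ha b hb
    | zero => simp [classInner]
    | add b c _ _ ihb ihc => rw [classInner_add_right, ihb, ihc, add_zero]
    | smul n b _ ih => rw [classInner_zsmul_right, ih, mul_zero]
  induction hx using Submodule.span_induction with
  | mem a ha => exact h1 a ha
  | zero => simp [classInner]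
  | add b c _ _ ihb ihc => rw [classInner_add_left, ihb, ihc, add_zero]
  | smul n b _ ih => rw [classInner_zsmul_left, ih, mul_zero]

/-- An isometry sends an irreducible character to an irreducible character up to sign. -/
theorem exists_irr_image {S : Set (L → ℂ)} {τ : (L → ℂ) → (G → ℂ)}
    (hτ : IsLinearIsometryOn (zspan S) τ) {χ : L → ℂ} (hχ : χ ∈ S) (hirr : IsIrrCharacter L χ) :
    ∃ (f : IrrCharacter G) (e : ℂ), (e = 1 ∨ e = -1) ∧ τ χ = e • f.1 := by
  have hm : χ ∈ zspan S := Submodule.subset_span hχ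
  obtain ⟨f, hf | hf⟩ := IsGeneralizedCharacter.irr_or_neg_of_norm_one (hτ.2.2.2 χ hm)
    ((hτ.2.2.1 χ hm χ hm).trans (classInner_irr_self hirr))
  · exact ⟨f, 1, Or.inl rfl, by rw [hf, one_smul]⟩
  · exact ⟨f, -1, Or.inr rfl, by rw [hf, neg_one_smul]⟩

/-- Values at `1` of the images are proportional to the degrees. -/
theorem image_one_mul {S : Set (L → ℂ)} {τ : (L → ℂ) → (G → ℂ)}
    (hirr : ∀ χ ∈ S, IsIrrCharacter L χ) (hτ : IsLinearIsometryOn (zspan S) τ)
    (h0 : ∀ α ∈ zspan S, α 1 = 0 → τ α 1 = 0) {χ ψ : L → ℂ} (hχ : χ ∈ S) (hψ : ψ ∈ S) :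
    τ χ 1 * ψ 1 = τ ψ 1 * χ 1 := by
  obtain ⟨m, -, hm⟩ := IsIrrCharacter.exists_degree (hirr χ hχ)
  obtain ⟨n, -, hn⟩ := IsIrrCharacter.exists_degree (hirr ψ hψ)
  have hχ' : χ ∈ Submodule.span ℤ S := Submodule.subset_span hχ
  have hψ' : ψ ∈ Submodule.span ℤ S := Submodule.subset_span hψ
  have h := h0 ((n : ℤ) • χ - (m : ℤ) • ψ)
    (Submodule.sub_mem _ (Submodule.smul_mem _ _ hχ') (Submodule.smul_mem _ _ hψ'))
    (by simp [hm, hn, mul_comm])
  rw [iso_map_sub (E := Submodule.span ℤ S) hτ (Submodule.smul_mem _ _ hχ')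
    (Submodule.smul_mem _ _ hψ'), hτ.2.1 χ hχ', hτ.2.1 ψ hψ', Pi.sub_apply, sub_eq_zero,
    Pi.smul_apply, Pi.smul_apply, zsmul_eq_mul, zsmul_eq_mul, Int.cast_natCast, Int.cast_natCast] at h
  rw [hm, hn, mul_comm _ (n : ℂ), mul_comm _ (m : ℂ), h]

/-- One sign makes all images irreducible characters. -/
theorem exists_common_sign {S : Set (L → ℂ)} {τ : (L → ℂ) → (G → ℂ)}
    (hirr : ∀ χ ∈ S, IsIrrCharacter L χ) (hτ : IsLinearIsometryOn (zspan S) τ)
    (h0 : ∀ α ∈ zspan S, α 1 = 0 → τ α 1 = 0) :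
    ∃ e : ℂ, (e = 1 ∨ e = -1) ∧ ∀ χ ∈ S, IsIrrCharacter G (e • τ χ) := by
  rcases S.eq_empty_or_nonempty with rfl | ⟨ψ, hψ⟩
  · exact ⟨1, Or.inl rfl, by simp⟩
  obtain ⟨g, e, he, hg⟩ := exists_irr_image hτ hψ (hirr ψ hψ)
  refine ⟨e, he, fun χ hχ => ?_⟩
  obtain ⟨f, e', he', hf⟩ := exists_irr_image hτ hχ (hirr χ hχ)
  have heq : e' = e := by
    have h := image_one_mul hirr hτ h0 hχ hψ
    obtain ⟨m, hm0, hm⟩ := IsIrrCharacter.exists_degree (hirr χ hχ)
    obtain ⟨n, hn0, hn⟩ := IsIrrCharacter.exists_degree (hirr ψ hψ)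
    rw [hf, hg, hm, hn, Pi.smul_apply, Pi.smul_apply, smul_eq_mul, smul_eq_mul,
      apply_one_eq_degree, apply_one_eq_degree] at h
    have p1 : (0 : ℝ) < (degree f * n : ℕ) := by exact_mod_cast Nat.mul_pos (degree_pos f) hn0
    have p2 : (0 : ℝ) < (degree g * m : ℕ) := by exact_mod_cast Nat.mul_pos (degree_pos g) hm0
    have hre := congrArg Complex.re h
    push_cast at p1 p2
    rcases he' with rfl | rfl <;> rcases he with rfl | rfl <;> first
      | rfl
      | (exfalso; simp at hre; nlinarith)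
  rw [hf, heq, smul_smul, show e * e = 1 by rcases he with rfl | rfl <;> norm_num, one_smul]
  exact f.2

theorem image_injective {S : Set (L → ℂ)} {τ : (L → ℂ) → (G → ℂ)}
    (hirr : ∀ χ ∈ S, IsIrrCharacter L χ) (hτ : IsLinearIsometryOn (zspan S) τ) {χ ψ : L → ℂ}
    (hχ : χ ∈ S) (hψ : ψ ∈ S) (h : τ χ = τ ψ) : χ = ψ := by
  by_contra hne
  have h1 := hτ.2.2.1 χ (Submodule.subset_span hχ) ψ (Submodule.subset_span hψ)
  rw [classInner_irr_of_ne (hirr χ hχ) (hirr ψ hψ) hne, ← h,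
    hτ.2.2.1 χ (Submodule.subset_span hχ) χ (Submodule.subset_span hχ),
    classInner_irr_self (hirr χ hχ)] at h1
  exact one_ne_zero h1

/-- Two isometries on orthogonal spans with orthogonal images glue. -/
theorem exists_glue {X Y : Set (L → ℂ)} (horth : ∀ a ∈ X, ∀ b ∈ Y, classInner a b = 0)
    {σ τ : (L → ℂ) → (G → ℂ)} (hσ : IsLinearIsometryOn (zspan X) σ)
    (hτ : IsLinearIsometryOn (zspan Y) τ)
    (himg : ∀ a ∈ X, ∀ b ∈ Y, classInner (σ a) (τ b) = 0) :
    ∃ τ₁ : (L → ℂ) → (G → ℂ), IsLinearIsometryOn (zspan (X ∪ Y)) τ₁ ∧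
      ∀ x ∈ zspan X, ∀ y ∈ zspan Y, τ₁ (x + y) = σ x + τ y := by
  classical
  have huniq : ∀ x ∈ zspan X, ∀ y ∈ zspan Y, ∀ x' ∈ zspan X, ∀ y' ∈ zspan Y,
      x + y = x' + y' → x = x' ∧ y = y' := by
    intro x hx y hy x' hx' y' hy' h
    have hd : x - x' = y' - y := by rw [sub_eq_sub_iff_add_eq_add, h, add_comm]
    have h0 : classInner (x - x') (y' - y) = 0 :=
      classInner_span_eq_zero horth (Submodule.sub_mem _ hx hx') (Submodule.sub_mem _ hy' hy)
    rw [← hd] at h0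
    have := sub_eq_zero.1 (classInner_self_eq_zero h0)
    exact ⟨this, by subst this; exact add_left_cancel h⟩
  let τ₁ : (L → ℂ) → (G → ℂ) := fun θ =>
    if h : ∃ p : (L → ℂ) × (L → ℂ), p.1 ∈ zspan X ∧ p.2 ∈ zspan Y ∧ p.1 + p.2 = θ
    then σ h.choose.1 + τ h.choose.2 else 0
  have hval : ∀ x ∈ zspan X, ∀ y ∈ zspan Y, τ₁ (x + y) = σ x + τ y := by
    intro x hx y hy
    have h : ∃ p : (L → ℂ) × (L → ℂ), p.1 ∈ zspan X ∧ p.2 ∈ zspan Y ∧ p.1 + p.2 = x + y :=
      ⟨(x, y), hx, hy, rfl⟩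
    obtain ⟨h1, h2, h3⟩ := h.choose_spec
    obtain ⟨e1, e2⟩ := huniq _ h1 _ h2 x hx y hy h3
    simp only [τ₁, dif_pos h, e1, e2]
  have hsplit : ∀ θ ∈ zspan (X ∪ Y), ∃ x ∈ zspan X, ∃ y ∈ zspan Y, x + y = θ := fun θ hθ => by
    have : θ ∈ Submodule.span ℤ (X ∪ Y) := hθ
    rw [Submodule.span_union, Submodule.mem_sup] at this
    exact this
  refine ⟨τ₁, ⟨?_, ?_, ?_, ?_⟩, hval⟩
  · intro a ha b hb
    obtain ⟨x, hx, y, hy, rfl⟩ := hsplit a ha
    obtain ⟨x', hx', y', hy', rfl⟩ := hsplit b hb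
    rw [add_add_add_comm, hval _ (Submodule.add_mem _ hx hx') _ (Submodule.add_mem _ hy hy'),
      hσ.1 x hx x' hx', hτ.1 y hy y' hy', hval x hx y hy, hval x' hx' y' hy', add_add_add_comm]
  · intro a ha n
    obtain ⟨x, hx, y, hy, rfl⟩ := hsplit a ha
    rw [smul_add, hval _ (Submodule.smul_mem _ n hx) _ (Submodule.smul_mem _ n hy),
      hσ.2.1 x hx n, hτ.2.1 y hy n, hval x hx y hy, smul_add]
  · intro a ha b hb
    obtain ⟨x, hx, y, hy, rfl⟩ := hsplit a ha
    obtain ⟨x', hx', y', hy', rfl⟩ := hsplit b hb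
    have i1 := classInner_image_eq_zero hσ hτ himg hx hy'
    have i2 := classInner_image_eq_zero hσ hτ himg hx' hy
    have o1 := classInner_span_eq_zero horth hx hy'
    have o2 := classInner_span_eq_zero horth hx' hy
    have i2' : classInner (τ y) (σ x') = 0 := by rw [← conj_classInner, i2, map_zero]
    have o2' : classInner y x' = 0 := by rw [← conj_classInner, o2, map_zero]
    rw [hval x hx y hy, hval x' hx' y' hy']
    simp only [classInner_add_left, classInner_add_right, i1, i2', o1, o2',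
      hσ.2.2.1 x hx x' hx', hτ.2.2.1 y hy y' hy']
  · intro a ha
    obtain ⟨x, hx, y, hy, rfl⟩ := hsplit a ha
    rw [hval x hx y hy]
    exact IsGeneralizedCharacter.add (hσ.2.2.2 x hx) (hτ.2.2.2 y hy)

end Cfsg.Agent.Char
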