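import Cfsg.Agent.Lib.Char.KernelSum
import Cfsg.Agent.Lib.BlockCount.Involve

/-!
# Irreducible characters of a quotient from characters trivial on the normal subgroup
-/

namespace Cfsg.Agent.Char

set_option linter.style.haveILetI false

universe u

variable {G : Type u} [Group G]

/-- An irreducible character trivial on `K` is inflated from `G ⧸ K`. -/
theorem exists_descend [Finite G] (K : Subgroup G) [K.Normal] (χ : IrrCharacter G)
    (h : TrivOn K χ.1) : ∃ ψ : IrrCharacter (G ⧸ K), ∀ g : G, ψ.1 (g : G ⧸ K) = χ.1 g := by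
  obtain ⟨n, ρ, hρ, hχ⟩ := χ.2
  have hker : ∀ k ∈ K, ρ k = 1 := fun k hk =>
    MonoidHom.mem_ker.1 ((CharInt.charKernel_eq_ker ρ ⟨n, ρ, rfl⟩) ▸
      (CharInt.mem_charKernel (⟨n, ρ, rfl⟩ : IsCharacter G ρ.character)).2 (by rw [hχ]; exact h k hk))
  let σ : Representation ℂ (G ⧸ K) (Fin n → ℂ) :=
    QuotientGroup.lift K ρ fun k hk => MonoidHom.mem_ker.2 (hker k hk)
  let e : Subrepresentation σ ≃o Subrepresentation ρ :=
    { toFun := fun S => ⟨S.toSubmodule, fun g _ hv => S.apply_mem_toSubmodule (g : G ⧸ K) hv⟩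
      invFun := fun S => ⟨S.toSubmodule, fun q v hv => by
        obtain ⟨x, rfl⟩ := QuotientGroup.mk_surjective q
        exact S.apply_mem_toSubmodule x hv⟩
      left_inv := fun _ => rfl
      right_inv := fun _ => rfl
      map_rel_iff' := Iff.rfl }
  have hσ : σ.IsIrreducible := (OrderIso.isSimpleOrder_iff e).2 hρ
  exact ⟨⟨σ.character, _, σ, hσ, rfl⟩, fun g => by rw [← hχ]; rfl⟩

/-- The inflation of an irreducible character of `G ⧸ K`. -/
noncomputable def inflate (K : Subgroup G) [K.Normal] (ψ : IrrCharacter (G ⧸ K)) :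
    IrrCharacter G :=
  ⟨fun g => ψ.1 (g : G ⧸ K),
    IsIrrCharacter.comp_surjective ψ.2 (QuotientGroup.mk' K) (QuotientGroup.mk'_surjective K)⟩

@[simp] theorem inflate_apply (K : Subgroup G) [K.Normal] (ψ : IrrCharacter (G ⧸ K)) (g : G) :
    (inflate K ψ).1 g = ψ.1 (g : G ⧸ K) := rfl

theorem trivOn_inflate (K : Subgroup G) [K.Normal] (ψ : IrrCharacter (G ⧸ K)) :
    TrivOn K (inflate K ψ).1 := fun k hk => by
  simp [(QuotientGroup.eq_one_iff k).2 hk]

theorem inflate_injective (K : Subgroup G) [K.Normal] :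
    Function.Injective (inflate (G := G) K) := fun a b h => by
  refine Subtype.ext (funext fun q => ?_)
  obtain ⟨x, rfl⟩ := QuotientGroup.mk_surjective q
  exact congrFun (congrArg Subtype.val h) x

variable [Finite G]

/-- The order of the kernel of `χ` times its degree divides the group order. -/
theorem card_kernel_mul_charDegree_dvd (χ : IrrCharacter G) :
    Nat.card {g : G // χ.1 g = χ.1 1} * charDegree χ.1 ∣ Nat.card G := by
  haveI := Fintype.ofFinite G
  haveI := CharInt.charKernel_normal (irr_isCharacter χ)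
  set K := CharInt.charKernel (irr_isCharacter χ) with hK
  obtain ⟨ψ, hψ⟩ := exists_descend K χ fun k hk => (CharInt.mem_charKernel _).1 hk
  have hc : Nat.card {g : G // χ.1 g = χ.1 1} = Nat.card K :=
    Nat.card_congr (Equiv.subtypeEquivRight fun g => (CharInt.mem_charKernel _).symm)
  have hd : charDegree χ.1 = charDegree ψ.1 := by
    unfold charDegree; rw [← hψ 1, QuotientGroup.mk_one]
  haveI := Fintype.ofFinite (G ⧸ K)
  rw [hc, hd, Subgroup.card_eq_card_quotient_mul_card_subgroup K, mul_comm]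
  exact Nat.mul_dvd_mul (BlockCount.charDegree_dvd_card ψ) dvd_rfl

theorem charDegree_dvd_card (χ : IrrCharacter G) : charDegree χ.1 ∣ Nat.card G :=
  (Dvd.intro_left _ rfl).trans (card_kernel_mul_charDegree_dvd χ)

end Cfsg.Agent.Char
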