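import Cfsg.Agent.Lib.Char.Orthogonality
import Mathlib.GroupTheory.GroupAction.Quotient

/-!
# Permutation characters and the regular character
-/

namespace Cfsg.Agent.Char

open scoped ComplexConjugate
open Representation Module

set_option linter.style.haveILetI false

universe u v

variable {G : Type u} [Group G]

/-- The permutation representation on functions. -/
noncomputable def permFun (G : Type u) [Group G] (X : Type v) [MulAction G X] :
    Representation ℂ G (X → ℂ) where
  toFun g := LinearMap.funLeft ℂ ℂ (fun x => g⁻¹ • x)
  map_one' := by ext f x; simp [LinearMap.funLeft]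
  map_mul' a b := by ext f x; simp [LinearMap.funLeft, mul_smul]

theorem character_permFun (X : Type v) [MulAction G X] [Finite X] (g : G) :
    (permFun G X).character g = Nat.card (MulAction.fixedBy X g) := by
  classical
  haveI := Fintype.ofFinite X
  rw [Representation.character, LinearMap.trace_eq_matrix_trace ℂ (Pi.basisFun ℂ X),
    LinearMap.toMatrix_eq_toMatrix', Nat.card_eq_fintype_card, Matrix.trace]
  simp only [Matrix.diag_apply, LinearMap.toMatrix'_apply, permFun, MonoidHom.coe_mk, OneHom.coe_mk,
    LinearMap.funLeft_apply, Pi.single_apply]
  rw [Finset.sum_boole]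
  congr 1
  rw [Fintype.card_subtype]
  congr 1
  ext x
  simp only [Finset.mem_filter, Finset.mem_univ, true_and, MulAction.mem_fixedBy]
  rw [inv_smul_eq_iff, eq_comm]

/-- The number of fixed points is a character. -/
theorem isCharacter_fixedBy (X : Type v) [MulAction G X] [Finite X] :
    IsCharacter G (fun g => (Nat.card (MulAction.fixedBy X g) : ℂ)) := by
  haveI := Fintype.ofFinite X
  have : (fun g => (Nat.card (MulAction.fixedBy X g) : ℂ)) = (permFun G X).character :=
    funext fun g => (character_permFun X g).symm
  rw [this]
  exact isCharacter_character _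

/-- The multiplicity of the trivial character in a permutation character is the number of orbits. -/
theorem classInner_fixedBy_one [Fintype G] (X : Type v) [MulAction G X] [Finite X] :
    classInner (fun g : G => (Nat.card (MulAction.fixedBy X g) : ℂ)) (fun _ => 1) =
      Nat.card (Quotient (MulAction.orbitRel G X)) := by
  classical
  haveI := Fintype.ofFinite X
  have h := MulAction.sum_card_fixedBy_eq_card_orbits_mul_card_group G X
  simp only [classInner, map_one, mul_one, Nat.card_eq_fintype_card, ← Nat.cast_sum, h,
    Nat.cast_mul]
  field_simp

theorem card_fixedBy_prod (X : Type v) [MulAction G X] (g : G) :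
    Nat.card (MulAction.fixedBy (X × X) g) = Nat.card (MulAction.fixedBy X g) ^ 2 := by
  rw [sq, ← Nat.card_prod]
  exact Nat.card_congr
    { toFun := fun p => (⟨p.1.1, congrArg Prod.fst p.2⟩, ⟨p.1.2, congrArg Prod.snd p.2⟩)
      invFun := fun p => ⟨(p.1.1, p.2.1), Prod.ext p.1.2 p.2.2⟩
      left_inv := fun _ => rfl
      right_inv := fun _ => rfl }

/-- The norm of a permutation character is the rank. -/
theorem classInner_fixedBy_self [Fintype G] (X : Type v) [MulAction G X] [Finite X] :
    classInner (fun g : G => (Nat.card (MulAction.fixedBy X g) : ℂ))
      (fun g : G => (Nat.card (MulAction.fixedBy X g) : ℂ)) =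
      Nat.card (Quotient (MulAction.orbitRel G (X × X))) := by
  rw [← classInner_fixedBy_one]
  simp only [classInner, map_natCast, map_one, mul_one, card_fixedBy_prod, sq, Nat.cast_mul]

theorem character_leftRegular [Fintype G] [DecidableEq G] (g : G) :
    (Representation.leftRegular ℂ G).character g = if g = 1 then (Nat.card G : ℂ) else 0 := by
  rw [Representation.character,
    LinearMap.trace_eq_matrix_trace ℂ (MonoidAlgebra.basis G ℂ), Matrix.trace]
  split_ifs with h
  · subst h
    simp [LinearMap.toMatrix_apply, Nat.card_eq_fintype_card]
  · refine Finset.sum_eq_zero fun x _ => ?_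
    simp [LinearMap.toMatrix_apply, Representation.ofMulAction_single, MonoidAlgebra.basis, h]

end Cfsg.Agent.Char
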