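import Cfsg.Agent.Lib.Char.Induction
import Mathlib.Algebra.Group.Subgroup.Basic

/-!
# Clifford theory

For `N ⊴ G`: the constituents of an irreducible character on `N` form one orbit with constant
multiplicity, and the Clifford correspondence with respect to an inertia subgroup.
-/

set_option linter.style.haveILetI false

namespace Cfsg.Agent.Char

open scoped ComplexConjugate

universe u

variable {G : Type u} [Group G]

/-- The conjugate `n ↦ θ (g n g⁻¹)` of a function on a normal subgroup. -/
def conjFun (N : Subgroup G) [N.Normal] (θ : N → ℂ) (g : G) : N → ℂ :=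
  fun n => θ (MulAut.conjNormal g n)

/-- Restriction of a function to a subgroup. -/
def resFun (H : Subgroup G) (χ : G → ℂ) : H → ℂ := fun h => χ h

@[simp] theorem resFun_apply (H : Subgroup G) (χ : G → ℂ) (h : H) : resFun H χ h = χ h := rfl

variable (N : Subgroup G) [N.Normal]

@[simp] theorem conjFun_one (θ : N → ℂ) : conjFun N θ 1 = θ := by
  funext n; simp [conjFun]

theorem conjFun_mul (θ : N → ℂ) (g h : G) :
    conjFun N θ (g * h) = conjFun N (conjFun N θ g) h := by
  funext n; simp [conjFun, MulAut.mul_apply]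

/-- Being fixed by `g` in the form used by the statements. -/
theorem conjFun_eq_self_iff (θ : N → ℂ) (g : G) :
    conjFun N θ g = θ ↔ ∀ n n' : N, (n' : G) = g * (n : G) * g⁻¹ → θ n' = θ n := by
  constructor
  · intro h n n' hn
    rw [show n' = MulAut.conjNormal g n from Subtype.ext (by simpa using hn)]
    exact congrFun h n
  · exact fun h => funext fun n => h n _ (by simp)

theorem conjFun_eq_iff (θ η : N → ℂ) (g : G) :
    conjFun N θ g = η ↔ conjFun N η g⁻¹ = θ := by
  constructor <;> rintro rfl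
  · rw [← conjFun_mul, mul_inv_cancel, conjFun_one]
  · rw [← conjFun_mul, inv_mul_cancel, conjFun_one]

theorem isIrrCharacter_conjFun {θ : N → ℂ} (hθ : IsIrrCharacter N θ) (g : G) :
    IsIrrCharacter N (conjFun N θ g) :=
  IsIrrCharacter.comp_surjective hθ (MulAut.conjNormal g : MulAut N).toMonoidHom
    (MulEquiv.surjective _)

/-- The conjugate of an irreducible character of a normal subgroup. -/
def conjChar (θ : IrrCharacter N) (g : G) : IrrCharacter N :=
  ⟨conjFun N θ.1 g, isIrrCharacter_conjFun N θ.2 g⟩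

@[simp] theorem conjChar_coe (θ : IrrCharacter N) (g : G) :
    (conjChar N θ g).1 = conjFun N θ.1 g := rfl

theorem conjFun_apply_one (θ : N → ℂ) (g : G) : conjFun N θ g 1 = θ 1 := by simp [conjFun]

theorem conjFun_resFun {χ : G → ℂ} (hχ : IsClassFunction G χ) (g : G) :
    conjFun N (resFun N χ) g = resFun N χ := by
  funext n; simpa [conjFun] using hχ (n : G) g

theorem classInner_conjFun [Fintype N] (θ η : N → ℂ) (g : G) :
    classInner (conjFun N θ g) (conjFun N η g) = classInner θ η := by
  simp only [classInner]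
  congr 1
  exact Fintype.sum_equiv (MulAut.conjNormal g : MulAut N).toEquiv _ _ fun n => rfl

theorem classInner_resFun_conjFun [Fintype N] {χ : G → ℂ} (hχ : IsClassFunction G χ) (θ : N → ℂ)
    (g : G) : classInner (resFun N χ) (conjFun N θ g) = classInner (resFun N χ) θ := by
  conv_lhs => rw [← conjFun_resFun N hχ g]
  rw [classInner_conjFun]

variable [Fintype G]

/-- Restriction to a normal subgroup of a function induced from an overgroup of it. -/
theorem resFun_indFun_of_le (H : Subgroup G) (ψ : H → ℂ) (h : N ≤ H) (c : ℂ) (θ : N → ℂ)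
    (hψ : ∀ n : N, ψ ⟨n, h n.2⟩ = c * θ n) :
    resFun N (indFun H ψ) = (c * (Nat.card H : ℂ)⁻¹) • ∑ x : G, conjFun N θ x := by
  funext n
  simp only [resFun_apply, indFun, Pi.smul_apply, Finset.sum_apply, smul_eq_mul, Finset.mul_sum]
  refine Fintype.sum_equiv (Equiv.inv G) _ _ fun x => ?_
  have hm : x⁻¹ * (n : G) * x ∈ N := by
    simpa using Subgroup.Normal.conj_mem ‹N.Normal› _ n.2 x⁻¹
  rw [extendByZero_of_mem _ _ (h hm), hψ ⟨_, hm⟩,
    show conjFun N θ ((Equiv.inv G) x) n = θ ⟨_, hm⟩ from congrArg θ (Subtype.ext (by simp))]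
  ring

variable [Fintype N]

theorem resFun_indFun (θ : N → ℂ) :
    resFun N (indFun N θ) = (Nat.card N : ℂ)⁻¹ • ∑ x : G, conjFun N θ x := by
  simpa using resFun_indFun_of_le N N θ le_rfl 1 θ fun n => (one_mul _).symm

omit [Fintype N] in
theorem classInner_resFun_eq_zero_iff_exists (θ η : IrrCharacter N) [Fintype N] :
    classInner (resFun N (indFun N θ.1)) η.1 ≠ 0 → ∃ g, η = conjChar N θ g := by
  intro h
  by_contra hne
  refine h ?_
  rw [resFun_indFun, classInner_smul_left, classInner_sum_left, Finset.sum_eq_zero, mul_zero]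
  intro x _
  exact classInner_irr_of_ne (conjChar N θ x).2 η.2 fun he => hne ⟨x, Subtype.ext he.symm⟩

/-- Clifford: all constituents of `χ` on `N` are conjugate. -/
theorem exists_conjChar_of_constituents (χ : IrrCharacter G) (θ η : IrrCharacter N)
    (hθ : classInner (resFun N χ.1) θ.1 ≠ 0) (hη : classInner (resFun N χ.1) η.1 ≠ 0) :
    ∃ g, η = conjChar N θ g := by
  refine classInner_resFun_eq_zero_iff_exists N θ η fun h0 => ?_
  obtain ⟨m, hm, hm'⟩ := IsCharacter.exists_decomp
    (isCharacter_indFun N (IsIrrCharacter.isCharacter θ.2))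
  have hmχ : m χ ≠ 0 := fun h => hθ (by
    have := hm' χ
    rw [classInner_indFun N _ (IsCharacter.isClassFunction (irr_isCharacter χ)), h] at this
    rw [← conj_classInner]
    rw [show classInner θ.1 (resFun N χ.1) = 0 from this.trans Nat.cast_zero, map_zero])
  choose k hk using fun ψ : IrrCharacter G => IsCharacter.exists_nat_classInner
    (IsCharacter.restrict (irr_isCharacter ψ) N) (irr_isCharacter η)
  rw [hm] at h0
  have : resFun N (∑ ψ, (m ψ : ℂ) • ψ.1) = ∑ ψ, (m ψ : ℂ) • resFun N ψ.1 := by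
    funext n; simp
  rw [this, classInner_sum_left] at h0
  have h0' : ((∑ ψ, m ψ * k ψ : ℕ) : ℂ) = 0 := by
    push_cast
    rw [← h0]
    exact Finset.sum_congr rfl fun ψ _ => by
      rw [classInner_smul_left, show resFun N ψ.1 = fun x : N => ψ.1 x from rfl, hk]
  have := Finset.sum_eq_zero_iff.1 (Nat.cast_eq_zero.1 h0') χ (Finset.mem_univ χ)
  rcases Nat.mul_eq_zero.1 this with h | h
  · exact hmχ h
  · exact hη (by rw [show resFun N χ.1 = fun x : N => χ.1 x from rfl, hk, h, Nat.cast_zero])

open scoped Classical in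
/-- The orbit of an irreducible character of `N` under conjugation. -/
noncomputable def orbitFinset (θ : IrrCharacter N) : Finset (IrrCharacter N) :=
  Finset.univ.image (conjChar N θ)

open scoped Classical in
/-- The sum over the orbit of an irreducible character of `N`. -/
noncomputable def orbitSum (θ : IrrCharacter N) : N → ℂ :=
  ∑ η ∈ orbitFinset N θ, η.1

theorem mem_orbitFinset {θ η : IrrCharacter N} :
    η ∈ orbitFinset N θ ↔ ∃ g, η = conjChar N θ g := by
  simp [orbitFinset, eq_comm]

theorem orbitSum_apply_one (θ : IrrCharacter N) :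
    orbitSum N θ 1 = ((orbitFinset N θ).card : ℂ) * θ.1 1 := by
  rw [orbitSum, Finset.sum_apply, Finset.sum_congr rfl fun η hη => ?_, Finset.sum_const,
    nsmul_eq_mul]
  obtain ⟨g, rfl⟩ := (mem_orbitFinset N).1 hη
  exact conjFun_apply_one N _ g

/-- Clifford's theorem. -/
theorem resFun_eq_smul_orbitSum (χ : IrrCharacter G) (θ : IrrCharacter N)
    (hθ : classInner (resFun N χ.1) θ.1 ≠ 0) :
    resFun N χ.1 = classInner (resFun N χ.1) θ.1 • orbitSum N θ := by
  classical
  have hc : IsClassFunction N (resFun N χ.1) :=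
    IsCharacter.isClassFunction (IsCharacter.restrict (irr_isCharacter χ) N)
  conv_lhs => rw [eq_sum_classInner_smul hc]
  rw [orbitSum, Finset.smul_sum,
    ← Finset.sum_subset (Finset.subset_univ (orbitFinset N θ)) fun η _ hη => ?_]
  · refine Finset.sum_congr rfl fun η hη => ?_
    obtain ⟨g, rfl⟩ := (mem_orbitFinset N).1 hη
    rw [conjChar_coe, classInner_resFun_conjFun N (IsCharacter.isClassFunction (irr_isCharacter χ))]
  · have : classInner (resFun N χ.1) η.1 = 0 :=
      by_contra fun h => hη ((mem_orbitFinset N).2 (exists_conjChar_of_constituents N χ θ η hθ h))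
    rw [this, zero_smul]

theorem apply_one_eq_mul_card_orbit (χ : IrrCharacter G) (θ : IrrCharacter N)
    (hθ : classInner (resFun N χ.1) θ.1 ≠ 0) :
    χ.1 1 = classInner (resFun N χ.1) θ.1 * ((orbitFinset N θ).card * θ.1 1) := by
  have := congrFun (resFun_eq_smul_orbitSum N χ θ hθ) 1
  rwa [Pi.smul_apply, orbitSum_apply_one, resFun_apply, smul_eq_mul, Subgroup.coe_one] at this

theorem exists_constituent (χ : IrrCharacter G) :
    ∃ θ : IrrCharacter N, classInner (resFun N χ.1) θ.1 ≠ 0 := by
  by_contra! h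
  have := eq_zero_of_classInner_irr
    (IsCharacter.isClassFunction (IsCharacter.restrict (irr_isCharacter χ) N)) h
  exact IsIrrCharacter.apply_one_ne_zero χ.2 (by simpa using congrFun this 1)

section Correspondence

variable (I : Subgroup G) (hNI : N ≤ I) (θ : IrrCharacter N)

/-- `ψ` restricted to `N` is `e` times `θ`. -/
theorem inertia_fixes {ψ : I → ℂ} (hψ : IsClassFunction I ψ) {e : ℂ} (he : e ≠ 0)
    (hres : ∀ n : N, ψ ⟨n, hNI n.2⟩ = e * θ.1 n) {g : G} (hg : g ∈ I) :
    conjFun N θ.1 g = θ.1 := by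
  funext n
  have := hψ ⟨n, hNI n.2⟩ ⟨g, hg⟩
  rw [hres n, show (⟨g, hg⟩ : I) * ⟨n, hNI n.2⟩ * ⟨g, hg⟩⁻¹ =
    ⟨(MulAut.conjNormal g n : N), hNI (MulAut.conjNormal g n).2⟩ from Subtype.ext (by simp),
    hres] at this
  exact mul_left_cancel₀ he this

theorem classInner_resFun_indFun_inertia [Fintype I]
    (hI : ∀ g, conjFun N θ.1 g = θ.1 → g ∈ I) {ψ : I → ℂ} (hψ : IsClassFunction I ψ) {e : ℂ}
    (he : e ≠ 0) (hres : ∀ n : N, ψ ⟨n, hNI n.2⟩ = e * θ.1 n) :
    classInner (resFun N (indFun I ψ)) θ.1 = e := by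
  classical
  have hfix : ∀ g, conjFun N θ.1 g = θ.1 ↔ g ∈ I := fun g =>
    ⟨hI g, inertia_fixes N I hNI θ hψ he hres⟩
  rw [resFun_indFun_of_le N I ψ hNI e θ.1 hres, classInner_smul_left, classInner_sum_left]
  have h1 : ∀ x : G, classInner (conjFun N θ.1 x) θ.1 = if x ∈ I then 1 else 0 := fun x => by
    split_ifs with hx
    · rw [(hfix x).2 hx]; exact classInner_irr_self θ.2
    · exact classInner_irr_of_ne (isIrrCharacter_conjFun N θ.2 x) θ.2 fun h => hx ((hfix x).1 h)
  rw [Finset.sum_congr rfl fun x _ => h1 x, Finset.sum_boole,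
    show Finset.card {x : G | x ∈ I} = Nat.card I by
      rw [Nat.card_eq_fintype_card, Fintype.card_subtype],
    mul_assoc, inv_mul_cancel₀ (card_ne_zero (G := I)), mul_one]

/-- Decomposition bound used for the Clifford correspondence. -/
theorem inertia_multiplicity [Fintype I] (hI : ∀ g, conjFun N θ.1 g = θ.1 → g ∈ I)
    {ψ ψ' : IrrCharacter I} {e e' : ℕ} (he : e ≠ 0) (he' : e' ≠ 0)
    (hres : ∀ n : N, ψ.1 ⟨n, hNI n.2⟩ = e * θ.1 n)
    (hres' : ∀ n : N, ψ'.1 ⟨n, hNI n.2⟩ = e' * θ.1 n) :
    classInner (indFun I ψ.1) (indFun I ψ'.1) = if ψ = ψ' then 1 else 0 := by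
  classical
  have hind := isCharacter_indFun I (irr_isCharacter ψ)
  obtain ⟨m, hm, hm'⟩ := IsCharacter.exists_decomp (IsCharacter.restrict hind I)
  choose k hk using fun η : IrrCharacter I => IsCharacter.exists_nat_classInner
    (IsCharacter.comp (irr_isCharacter η) (Subgroup.inclusion hNI)) (irr_isCharacter θ)
  have hm2 : ∀ η : IrrCharacter I, classInner (indFun I η.1) (indFun I ψ.1) = m η := fun η => by
    rw [classInner_indFun I _ (isClassFunction_indFun I _), ← conj_classInner, hm' η]
    simp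
  have hk1 : ∀ (η : IrrCharacter I) (a : ℕ), (∀ n : N, η.1 ⟨n, hNI n.2⟩ = a * θ.1 n) → k η = a := by
    intro η a h
    have := hk η
    rw [show (fun x => η.1 (Subgroup.inclusion hNI x)) = (a : ℂ) • θ.1 from funext fun n => h n,
      classInner_smul_left, classInner_irr_self θ.2, mul_one] at this
    exact_mod_cast this.symm
  have htot : ((∑ η, m η * k η : ℕ) : ℂ) = e := by
    rw [← classInner_resFun_indFun_inertia N I hNI θ hI
      (IsCharacter.isClassFunction (irr_isCharacter ψ)) (Nat.cast_ne_zero.2 he) hres,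
      show resFun N (indFun I ψ.1) = ∑ η : IrrCharacter I,
        (m η : ℂ) • fun x => η.1 (Subgroup.inclusion hNI x) from ?_, classInner_sum_left]
    · push_cast
      exact Finset.sum_congr rfl fun η _ => by rw [classInner_smul_left, hk]
    · funext n
      have := congrFun hm (Subgroup.inclusion hNI n)
      simpa using this
  have htot' : ∑ η, m η * k η = e := by exact_mod_cast htot
  have hψ1 : m ψ ≠ 0 := fun h => by
    have := hm2 ψ
    rw [h, Nat.cast_zero] at this
    have := congrFun (classInner_self_eq_zero this) 1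
    rw [indFun_apply_one, Pi.zero_apply] at this
    rcases mul_eq_zero.1 this with h' | h'
    · exact Subgroup.index_ne_zero_of_finite (Nat.cast_eq_zero.1 h')
    · exact IsIrrCharacter.apply_one_ne_zero ψ.2 h'
  split_ifs with h
  · subst h
    have h2 : m ψ * k ψ ≤ e := htot' ▸
      Finset.single_le_sum (f := fun η => m η * k η) (fun _ _ => Nat.zero_le _) (Finset.mem_univ ψ)
    rw [hk1 ψ e hres] at h2
    have : m ψ = 1 := by
      have := Nat.le_of_mul_le_mul_right (h2.trans_eq (one_mul e).symm) (Nat.pos_of_ne_zero he)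
      omega
    rw [hm2, this, Nat.cast_one]
  · have h2 : m ψ * k ψ + m ψ' * k ψ' ≤ e := htot' ▸ by
      rw [← Finset.sum_pair (f := fun η => m η * k η) h]
      exact Finset.sum_le_univ_sum_of_nonneg fun _ => Nat.zero_le _
    rw [hk1 ψ e hres, hk1 ψ' e' hres'] at h2
    have : m ψ' * e' = 0 := by
      have : e ≤ m ψ * e := Nat.le_mul_of_pos_left e (Nat.pos_of_ne_zero hψ1)
      omega
    rw [← conj_classInner, hm2, (Nat.mul_eq_zero.1 this).resolve_right he', Nat.cast_zero, map_zero]

/-- A character of the inertia group over `θ` induces irreducibly. -/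
theorem isIrrCharacter_indFun_inertia [Fintype I] (hI : ∀ g, conjFun N θ.1 g = θ.1 → g ∈ I)
    {ψ : IrrCharacter I} {e : ℕ} (he : e ≠ 0) (hres : ∀ n : N, ψ.1 ⟨n, hNI n.2⟩ = e * θ.1 n) :
    IsIrrCharacter G (indFun I ψ.1) :=
  isIrrCharacter_iff.2 ⟨isCharacter_indFun I (irr_isCharacter ψ),
    by rw [inertia_multiplicity N I hNI θ hI he he hres hres, if_pos rfl]⟩

theorem indFun_inertia_injective [Fintype I] (hI : ∀ g, conjFun N θ.1 g = θ.1 → g ∈ I)
    {ψ ψ' : IrrCharacter I} {e e' : ℕ} (he : e ≠ 0) (he' : e' ≠ 0)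
    (hres : ∀ n : N, ψ.1 ⟨n, hNI n.2⟩ = e * θ.1 n)
    (hres' : ∀ n : N, ψ'.1 ⟨n, hNI n.2⟩ = e' * θ.1 n) (h : indFun I ψ.1 = indFun I ψ'.1) :
    ψ = ψ' := by
  by_contra hne
  have h0 := inertia_multiplicity N I hNI θ hI he he' hres hres'
  rw [if_neg hne, ← h, inertia_multiplicity N I hNI θ hI he he hres hres, if_pos rfl] at h0
  exact one_ne_zero h0

end Correspondence

end Cfsg.Agent.Char
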