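import Cfsg.Agent.Lib.Char.Orthogonality

/-!
# Representations with equal characters are equivalent
-/

namespace Cfsg.Agent.Char

open scoped ComplexConjugate
open Representation Module

set_option linter.style.haveILetI false

universe u v w

variable {G : Type u} [Group G]

section Sub

variable {V : Type v} [AddCommGroup V] [Module ℂ V] [FiniteDimensional ℂ V]

/-- A nonzero representation has an irreducible subrepresentation. -/
theorem exists_irreducible_sub [Nontrivial V] (ρ : Representation ℂ G V) :
    ∃ A : Subrepresentation ρ, A.toRepresentation.IsIrreducible := by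
  classical
  have hex : ∃ n, ∃ A : Subrepresentation ρ, A.toSubmodule ≠ ⊥ ∧ finrank ℂ A.toSubmodule = n :=
    ⟨_, ⟨⊤, fun _ _ _ => trivial⟩, top_ne_bot, rfl⟩
  obtain ⟨A, hA0, hAn⟩ := Nat.find_spec hex
  refine ⟨A, ?_⟩
  have hne : (⊥ : Subrepresentation A.toRepresentation) ≠ ⊤ := by
    intro he
    refine hA0 ((Submodule.eq_bot_iff _).2 fun x hx => ?_)
    have : (⟨x, hx⟩ : A.toSubmodule) ∈ (⊥ : Subrepresentation A.toRepresentation) := by
      rw [he]; trivial
    exact congrArg Subtype.val ((Submodule.mem_bot ℂ).1 this)
  refine { exists_pair_ne := ⟨⊥, ⊤, hne⟩, eq_bot_or_eq_top := fun B => ?_ }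
  by_cases hB : B.toSubmodule = ⊥
  · exact Or.inl (Subrepresentation.toSubmodule_injective hB)
  refine Or.inr (Subrepresentation.toSubmodule_injective ?_)
  let B' : Subrepresentation ρ :=
    ⟨B.toSubmodule.map A.toSubmodule.subtype, fun g x hx => by
      obtain ⟨y, hy, rfl⟩ := hx
      exact ⟨A.toRepresentation g y, B.apply_mem_toSubmodule g hy, rfl⟩⟩
  have hB' : B'.toSubmodule ≠ ⊥ := fun he =>
    hB ((Submodule.eq_bot_iff _).2 fun y hy => Subtype.ext
      ((Submodule.mem_bot ℂ).1 (he ▸ Submodule.mem_map_of_mem (f := A.toSubmodule.subtype) hy)))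
  have hmin := Nat.find_min' hex ⟨B', hB', rfl⟩
  have hfr : finrank ℂ B'.toSubmodule = finrank ℂ B.toSubmodule :=
    (Submodule.equivMapOfInjective _ (Submodule.injective_subtype _) _).finrank_eq.symm
  exact Submodule.eq_top_of_finrank_eq
    (le_antisymm (Submodule.finrank_le _) (by omega))

end Sub

/-- Equivalences of the factors give an equivalence of products. -/
noncomputable def prodEquivCongr {V V' W W' : Type*} [AddCommGroup V] [Module ℂ V]
    [AddCommGroup V'] [Module ℂ V'] [AddCommGroup W] [Module ℂ W] [AddCommGroup W'] [Module ℂ W']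
    {ρ : Representation ℂ G V} {ρ' : Representation ℂ G V'} {σ : Representation ℂ G W}
    {σ' : Representation ℂ G W'} (e : ρ.Equiv σ) (e' : ρ'.Equiv σ') :
    (ρ.prod ρ').Equiv (σ.prod σ') :=
  Representation.Equiv.mk (e.toLinearEquiv.prodCongr e'.toLinearEquiv) fun g => by
    refine LinearMap.ext fun x => ?_
    exact Prod.ext (IntertwiningMap.isIntertwining _ _ e.toIntertwiningMap g x.1)
      (IntertwiningMap.isIntertwining _ _ e'.toIntertwiningMap g x.2)

theorem nonempty_equiv_of_character_eq [Finite G] {V : Type v} [AddCommGroup V] [Module ℂ V]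
    [FiniteDimensional ℂ V] {W : Type w} [AddCommGroup W] [Module ℂ W] [FiniteDimensional ℂ W]
    (ρ : Representation ℂ G V) (σ : Representation ℂ G W) (h : ρ.character = σ.character) :
    Nonempty (ρ.Equiv σ) := by
  haveI := Fintype.ofFinite G
  suffices H : ∀ (n : ℕ) (V' : Type v) [AddCommGroup V'] [Module ℂ V'] [FiniteDimensional ℂ V']
      (ρ' : Representation ℂ G V') (W' : Type w) [AddCommGroup W'] [Module ℂ W']
      [FiniteDimensional ℂ W'] (σ' : Representation ℂ G W'), finrank ℂ V' = n →
      ρ'.character = σ'.character → Nonempty (ρ'.Equiv σ') from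
    H _ V ρ W σ rfl h
  intro n
  induction n using Nat.strong_induction_on with
  | _ n ih =>
    intro V' _ _ _ ρ' W' _ _ _ σ' hn heq
    have hdim : finrank ℂ V' = finrank ℂ W' := by
      have := congrFun heq 1
      rw [Representation.char_one, Representation.char_one] at this
      exact_mod_cast this
    rcases subsingleton_or_nontrivial V' with hV | hV
    · haveI : Subsingleton W' :=
        (Module.finrank_zero_iff (R := ℂ)).1 (hdim ▸ finrank_zero_of_subsingleton)
      exact ⟨Representation.Equiv.mk
        { toFun := fun _ => 0, map_add' := fun _ _ => (add_zero _).symm,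
          map_smul' := fun _ _ => (smul_zero _).symm, invFun := fun _ => 0,
          left_inv := fun _ => Subsingleton.elim _ _, right_inv := fun _ => Subsingleton.elim _ _ }
        fun g => LinearMap.ext fun x => Subsingleton.elim _ _⟩
    obtain ⟨A, hA⟩ := exists_irreducible_sub ρ'
    haveI := hA
    haveI : NeZero (Nat.card G : ℂ) := ⟨card_ne_zero⟩
    haveI : ρ'.IsSemisimpleRepresentation := inferInstance
    haveI : σ'.IsSemisimpleRepresentation := inferInstance
    obtain ⟨B, hB⟩ := ComplementedLattice.exists_isCompl A
    have hc : IsCompl A.toSubmodule B.toSubmodule := by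
      constructor
      · rw [disjoint_iff, ← Subrepresentation.toSubmodule_inf, hB.inf_eq_bot]; rfl
      · rw [codisjoint_iff, ← Subrepresentation.toSubmodule_sup, hB.sup_eq_top]; rfl
    -- a nonzero map from `A` to `σ'`
    obtain ⟨k, hk⟩ := IsCharacter.exists_nat_classInner (isCharacter_character B.toRepresentation)
      (isCharacter_character A.toRepresentation)
    have hpos : finrank ℂ (IntertwiningMap A.toRepresentation σ') = 1 + k := by
      have := classInner_character A.toRepresentation σ'
      rw [← heq, character_eq_add_of_isCompl ρ' A B hc, classInner_add_left, hk,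
        classInner_irr_self (isIrrCharacter_character A.toRepresentation hA)] at this
      exact_mod_cast this.symm
    obtain ⟨f, hf⟩ : ∃ f : IntertwiningMap A.toRepresentation σ', f ≠ 0 := by
      by_contra hcon
      push Not at hcon
      haveI : Subsingleton (IntertwiningMap A.toRepresentation σ') :=
        ⟨fun a b => (hcon a).trans (hcon b).symm⟩
      rw [finrank_zero_of_subsingleton] at hpos
      omega
    have hinj : Function.Injective f.toLinearMap :=
      (IsIrreducible.injective_or_eq_zero f).resolve_right hf
    let e₁ : A.toRepresentation.Equiv f.range.toRepresentation :=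
      Representation.Equiv.mk (LinearEquiv.ofInjective f.toLinearMap hinj) fun g =>
        LinearMap.ext fun x => Subtype.ext (IntertwiningMap.isIntertwining _ _ f g x)
    obtain ⟨B', hB'⟩ := ComplementedLattice.exists_isCompl f.range
    have hc' : IsCompl f.range.toSubmodule B'.toSubmodule := by
      constructor
      · rw [disjoint_iff, ← Subrepresentation.toSubmodule_inf, hB'.inf_eq_bot]; rfl
      · rw [codisjoint_iff, ← Subrepresentation.toSubmodule_sup, hB'.sup_eq_top]; rfl
    have hBB : B.toRepresentation.character = B'.toRepresentation.character := by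
      have := heq
      rw [character_eq_add_of_isCompl ρ' A B hc, character_eq_add_of_isCompl σ' _ B' hc',
        ← Representation.char_iso e₁] at this
      exact add_left_cancel this
    have hlt : finrank ℂ B.toSubmodule < n := by
      haveI := nontrivial_of_isIrreducible A.toRepresentation
      have h1 := Submodule.finrank_add_eq_of_isCompl hc
      have h2 := Module.finrank_pos (R := ℂ) (M := A.toSubmodule)
      omega
    obtain ⟨e₂⟩ := ih _ hlt B.toSubmodule B.toRepresentation B'.toSubmodule B'.toRepresentation rfl hBB
    exact ⟨(prodEquivOfIsCompl ρ' A B hc).symm.trans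
      ((prodEquivCongr e₁ e₂).trans (prodEquivOfIsCompl σ' _ B' hc'))⟩

end Cfsg.Agent.Char
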