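import Cfsg.Agent.Lib.Char.Clifford
import Cfsg.Agent.Lib.Char.Multiplicity
import Cfsg.Agent.Lib.Char.Linear
import Cfsg.Agent.Lib.Char.Product
import Mathlib.GroupTheory.Nilpotent

/-!
# Inertia groups, transitivity of induction, monomial characters

Surjectivity of the Clifford correspondence, transitivity and inflation of induction, and
`nilpotent groups are M-groups`.
-/

namespace Cfsg.Agent.Char

open scoped ComplexConjugate
open Representation Module

set_option linter.style.haveILetI false

universe u v

variable {G : Type u} [Group G]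

/-! ### The inertia group -/

/-- The inertia group of a function on a normal subgroup. -/
def inertiaGroup (N : Subgroup G) [N.Normal] (θ : N → ℂ) : Subgroup G where
  carrier := {g | conjFun N θ g = θ}
  one_mem' := conjFun_one N θ
  mul_mem' {a b} ha hb := by
    show conjFun N θ (a * b) = θ
    rw [conjFun_mul, show conjFun N θ a = θ from ha, show conjFun N θ b = θ from hb]
  inv_mem' {a} ha := by
    show conjFun N θ a⁻¹ = θ
    exact (conjFun_eq_iff N θ θ a).1 ha

theorem mem_inertiaGroup {N : Subgroup G} [N.Normal] {θ : N → ℂ} {g : G} :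
    g ∈ inertiaGroup N θ ↔ conjFun N θ g = θ := Iff.rfl

theorem le_inertiaGroup (N : Subgroup G) [N.Normal] {θ : N → ℂ} (hθ : IsClassFunction N θ) :
    N ≤ inertiaGroup N θ := fun g hg => by
  rw [mem_inertiaGroup]
  funext n
  have := hθ n ⟨g, hg⟩
  rw [show (⟨g, hg⟩ : N) * n * ⟨g, hg⟩⁻¹ = MulAut.conjNormal g n from Subtype.ext (by simp)] at this
  exact this

theorem classInner_comp_mulEquiv {H : Type v} [Group H] [Fintype G] [Fintype H] (e : H ≃* G)
    (φ ψ : G → ℂ) : classInner (fun x => φ (e x)) (fun x => ψ (e x)) = classInner φ ψ := by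
  unfold classInner
  rw [Nat.card_congr e.toEquiv]
  congr 1
  exact Fintype.sum_equiv e.toEquiv _ _ fun x => rfl

variable [Fintype G]

/-- Surjectivity of the Clifford correspondence. -/
theorem exists_indFun_inertia (N : Subgroup G) [N.Normal] [Fintype N] (χ : IrrCharacter G)
    (θ : IrrCharacter N) (hθ : classInner (resFun N χ.1) θ.1 ≠ 0) :
    ∃ (hle : N ≤ inertiaGroup N θ.1) (ψ : IrrCharacter (inertiaGroup N θ.1)) (e : ℕ),
      e ≠ 0 ∧ (∀ n : N, ψ.1 ⟨n, hle n.2⟩ = e * θ.1 n) ∧ indFun (inertiaGroup N θ.1) ψ.1 = χ.1 := by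
  classical
  set I := inertiaGroup N θ.1 with hI
  have hle : N ≤ I := le_inertiaGroup N (IsCharacter.isClassFunction (irr_isCharacter θ))
  haveI := Fintype.ofFinite I
  obtain ⟨m, hm, hm'⟩ := IsCharacter.exists_decomp (IsCharacter.restrict (irr_isCharacter χ) I)
  obtain ⟨ψ, hψm, hψk⟩ : ∃ ψ : IrrCharacter I, m ψ ≠ 0 ∧
      classInner (fun x => ψ.1 (Subgroup.inclusion hle x)) θ.1 ≠ 0 := by
    by_contra hcon
    push Not at hcon
    refine hθ ?_
    rw [show resFun N χ.1 = ∑ ψ : IrrCharacter I,
        (m ψ : ℂ) • fun x => ψ.1 (Subgroup.inclusion hle x) from funext fun n => by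
      simpa using congrFun hm (Subgroup.inclusion hle n), classInner_sum_left]
    refine Finset.sum_eq_zero fun ψ _ => ?_
    rw [classInner_smul_left]
    by_cases h : m ψ = 0
    · simp [h]
    · rw [hcon ψ h, mul_zero]
  -- Clifford inside `I`
  set N' := N.subgroupOf I with hN'
  haveI : N'.Normal := Subgroup.Normal.subgroupOf inferInstance I
  haveI := Fintype.ofFinite N'
  let E : N' ≃* N := Subgroup.subgroupOfEquivOfLe hle
  let θ' : IrrCharacter N' := ⟨fun x => θ.1 (E x), IsIrrCharacter.comp_mulEquiv θ.2 E⟩
  have hval : ∀ x : N', ((E x : N) : G) = ((x : I) : G) := fun x => rfl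
  have hin : classInner (resFun N' ψ.1) θ'.1 =
      classInner (fun x => ψ.1 (Subgroup.inclusion hle x)) θ.1 := by
    rw [← classInner_comp_mulEquiv E (fun x => ψ.1 (Subgroup.inclusion hle x)) θ.1]
    rfl
  have horb : orbitFinset N' θ' = {θ'} := by
    ext η
    rw [mem_orbitFinset, Finset.mem_singleton]
    refine ⟨fun ⟨g, hg⟩ => ?_, fun h => ⟨1, by subst h; exact Subtype.ext (conjFun_one N' _).symm⟩⟩
    rw [hg]
    apply Subtype.ext
    funext n
    show θ.1 (E (MulAut.conjNormal g n)) = θ.1 (E n)
    have h2 := congrFun (g.2 : conjFun N θ.1 (g : G) = θ.1) (E n)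
    rw [← h2]
    exact congrArg θ.1 (Subtype.ext (by simp [hval]))
  have hres := resFun_eq_smul_orbitSum N' ψ θ' (by rwa [hin])
  rw [orbitSum, horb, Finset.sum_singleton, hin] at hres
  obtain ⟨e, he⟩ := IsCharacter.exists_nat_classInner
    (IsCharacter.comp (irr_isCharacter ψ) (Subgroup.inclusion hle)) (irr_isCharacter θ)
  have he0 : e ≠ 0 := fun h => hψk (by rw [he, h, Nat.cast_zero])
  have hres2 : ∀ n : N, ψ.1 ⟨n, hle n.2⟩ = e * θ.1 n := fun n => by
    have := congrFun hres (E.symm n)
    rw [Pi.smul_apply, smul_eq_mul, he] at this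
    simp only [θ', MulEquiv.apply_symm_apply] at this
    exact this
  refine ⟨hle, ψ, e, he0, hres2, ?_⟩
  have hirr := isIrrCharacter_indFun_inertia N I hle θ (fun g hg => hg) (ψ := ψ) he0 hres2
  by_contra hne
  have h0 := classInner_irr_of_ne hirr χ.2 hne
  rw [classInner_indFun I _ (IsCharacter.isClassFunction (irr_isCharacter χ)), ← conj_classInner,
    hm' ψ, map_natCast, Nat.cast_eq_zero] at h0
  exact hψm h0

/-! ### Transitivity, inflation -/

theorem indFun_indFun (H : Subgroup G) [Fintype H] (L : Subgroup H) (θ : L → ℂ) :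
    indFun H (indFun L θ) = indFun (L.map H.subtype)
      (fun x => θ ((L.equivMapOfInjective _ H.subtype_injective).symm x)) := by
  classical
  haveI := Fintype.ofFinite L
  haveI := Fintype.ofFinite (L.map H.subtype)
  refine classFun_ext (isClassFunction_indFun _ _) (isClassFunction_indFun _ _) fun χ => ?_
  have hcl := IsCharacter.isClassFunction (irr_isCharacter χ)
  rw [classInner_indFun H _ hcl, classInner_indFun L θ
    (IsCharacter.isClassFunction (IsCharacter.restrict (irr_isCharacter χ) H)),
    classInner_indFun _ _ hcl]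
  rw [← classInner_comp_mulEquiv (L.equivMapOfInjective _ H.subtype_injective)
    (fun x => θ ((L.equivMapOfInjective _ H.subtype_injective).symm x)) (fun x => χ.1 x)]
  simp only [MulEquiv.symm_apply_apply]
  rfl

/-- Induction commutes with inflation. -/
theorem indFun_comp_surjective {Q : Type v} [Group Q] [Fintype Q] (q : G →* Q)
    (hq : Function.Surjective q) (S : Subgroup Q) (θ : S → ℂ) (g : G) :
    indFun (S.comap q) (fun x => θ ⟨q x, x.2⟩) g = indFun S θ (q g) := by
  classical
  have hfib : ∀ z : Q, (Finset.univ.filter fun x => q x = z).card = Nat.card q.ker := by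
    intro z
    obtain ⟨x₀, rfl⟩ := hq z
    rw [Nat.card_eq_fintype_card, ← Finset.card_univ]
    refine (Finset.card_bij (s := (Finset.univ : Finset q.ker))
      (t := Finset.univ.filter fun x => q x = q x₀) (fun s _ => x₀ * (s : G)) ?_ ?_ ?_).symm
    · intro s _
      rw [Finset.mem_filter, map_mul, show q (s : G) = 1 from s.2, mul_one]
      exact ⟨Finset.mem_univ _, rfl⟩
    · intro s _ t _ hst
      exact Subtype.ext (mul_left_cancel hst)
    · intro y hy
      refine ⟨⟨x₀⁻¹ * y, ?_⟩, Finset.mem_univ _, mul_inv_cancel_left _ _⟩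
      rw [MonoidHom.mem_ker, map_mul, map_inv, (Finset.mem_filter.1 hy).2, inv_mul_cancel]
  have hcard : Nat.card (S.comap q) = Nat.card q.ker * Nat.card S := by
    have h1 : (q.ker).relIndex (S.comap q) = Nat.card S := by
      rw [show q.ker = (⊥ : Subgroup Q).comap q from (MonoidHom.comap_bot q).symm,
        Subgroup.relIndex_comap, Subgroup.map_comap_eq_self_of_surjective hq,
        Subgroup.relIndex_bot_left]
    have hk : q.ker ≤ S.comap q := fun x hx => by
      rw [Subgroup.mem_comap, show q x = 1 from hx]; exact one_mem S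
    rw [← h1, ← Nat.card_congr (Subgroup.subgroupOfEquivOfLe hk).toEquiv]
    exact ((q.ker.subgroupOf (S.comap q)).card_mul_index).symm
  have hext : ∀ y : G, extendByZero (S.comap q) (fun x => θ ⟨q x, x.2⟩) y =
      extendByZero S θ (q y) := by
    intro y
    by_cases hy : q y ∈ S
    · rw [extendByZero_of_mem _ _ hy, extendByZero_of_mem (S.comap q) _ hy]
    · rw [extendByZero_of_notMem _ _ hy, extendByZero_of_notMem (S.comap q) _ hy]
  simp only [indFun, hext, map_mul, map_inv, hcard, Nat.cast_mul]
  rw [← Finset.sum_fiberwise Finset.univ q]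
  rw [mul_inv, mul_assoc, mul_left_comm, ← mul_assoc (Nat.card S : ℂ)⁻¹, mul_comm (Nat.card S : ℂ)⁻¹,
    mul_assoc, Finset.mul_sum, mul_comm (Nat.card q.ker : ℂ)⁻¹ , ]
  simp only [Finset.mul_sum, mul_assoc]
  rw [Finset.sum_mul]
  refine Finset.sum_congr rfl fun z _ => ?_
  rw [Finset.sum_congr rfl fun x hx => by rw [(Finset.mem_filter.1 hx).2], Finset.sum_const, hfib,
    nsmul_eq_mul]
  have : (Nat.card q.ker : ℂ) ≠ 0 := Nat.cast_ne_zero.2 Nat.card_pos.ne'
  field_simp

theorem indFun_top {θ : G → ℂ} (hθ : IsClassFunction G θ) :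
    indFun (⊤ : Subgroup G) (fun x => θ x) = θ := by
  funext g
  have : ∀ x : G, extendByZero (⊤ : Subgroup G) (fun x => θ x) (x⁻¹ * g * x) = θ g := fun x => by
    rw [extendByZero_of_mem _ _ (Subgroup.mem_top _)]
    simpa using hθ g x⁻¹
  simp only [indFun, this, Finset.sum_const, Finset.card_univ, Subgroup.card_top, nsmul_eq_mul,
    Nat.card_eq_fintype_card]
  rw [← mul_assoc, inv_mul_cancel₀ (Nat.cast_ne_zero.2 Fintype.card_ne_zero), one_mul]

/-! ### Linear constituents -/

/-- An irreducible representation with commuting image is one-dimensional. -/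
theorem finrank_eq_one_of_commute {A : Type v} [Group A] {V : Type*} [AddCommGroup V] [Module ℂ V]
    [FiniteDimensional ℂ V] (σ : Representation ℂ A V) [σ.IsIrreducible]
    (h : ∀ a b, σ a * σ b = σ b * σ a) : finrank ℂ V = 1 := by
  haveI := nontrivial_of_isIrreducible σ
  obtain ⟨v, hv⟩ := exists_ne (0 : V)
  have hsc : ∀ a, ∃ c : ℂ, σ a v = c • v := fun a => by
    let f : IntertwiningMap σ σ := { toLinearMap := σ a, isIntertwining' := fun b => h a b }
    obtain ⟨c, hc⟩ := (IsIrreducible.algebraMap_intertwiningMap_bijective_of_isAlgClosed (ρ := σ)).2 f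
    refine ⟨c, ?_⟩
    have h2 : (algebraMap ℂ (IntertwiningMap σ σ) c) v = f v := by rw [hc]
    rw [show σ a v = f v from rfl, ← h2, Algebra.algebraMap_eq_smul_one]
    rfl
  let S : Subrepresentation σ := ⟨ℂ ∙ v, fun a w hw => by
    obtain ⟨d, rfl⟩ := Submodule.mem_span_singleton.1 hw
    obtain ⟨c, hc⟩ := hsc a
    rw [map_smul, hc, smul_smul]
    exact Submodule.smul_mem _ _ (Submodule.mem_span_singleton_self v)⟩
  haveI hsimp : IsSimpleOrder (Subrepresentation σ) := inferInstance
  rcases eq_bot_or_eq_top S with h' | h'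
  · exact absurd ((Submodule.mem_bot ℂ).1 ((congrArg Subrepresentation.toSubmodule h').le
      (Submodule.mem_span_singleton_self v))) hv
  · exact (finrank_eq_one_iff_of_nonzero v hv).2 (congrArg Subrepresentation.toSubmodule h')

/-- A character of `A` afforded by a representation with commuting image has linear constituents. -/
theorem constituent_apply_one_of_commute {A : Type v} [Group A] [Fintype A] {n : ℕ}
    (ρ : Representation ℂ A (Fin n → ℂ)) (h : ∀ a b, ρ a * ρ b = ρ b * ρ a) (θ : IrrCharacter A)
    (hθ : classInner ρ.character θ.1 ≠ 0) : θ.1 1 = 1 := by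
  obtain ⟨d, σ, hσ, hσθ⟩ := θ.2
  haveI := hσ
  rw [← hσθ, classInner_character, Nat.cast_ne_zero] at hθ
  obtain ⟨f, hf⟩ := (Module.finrank_pos_iff_exists_ne_zero (R := ℂ)).1 (Nat.pos_of_ne_zero hθ)
  have hinj : Function.Injective f := (IsIrreducible.injective_or_eq_zero f).resolve_right hf
  have hcom : ∀ a b, σ a * σ b = σ b * σ a := fun a b => LinearMap.ext fun x => hinj (by
    simp only [Module.End.mul_apply, IntertwiningMap.isIntertwining]
    exact LinearMap.congr_fun (h a b) (f x))
  rw [← hσθ, Representation.char_one, finrank_eq_one_of_commute σ hcom, Nat.cast_one]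

omit [Fintype G] in
/-- If `χ` is a multiple of a linear character on a subgroup, that subgroup acts by scalars. -/
theorem apply_eq_smul_of_character_eq [Finite G] {n : ℕ} (ρ : Representation ℂ G (Fin n → ℂ))
    (A : Subgroup G) (lam : A →* ℂ) (h : ∀ a : A, ρ.character a = n * lam a) (a : A) :
    ρ a = lam a • (1 : Module.End ℂ (Fin n → ℂ)) := by
  let σ : Representation ℂ A (Fin n → ℂ) := (Algebra.lsmul ℂ ℂ (Fin n → ℂ)).toMonoidHom.comp lam
  have hσ : ∀ b : A, σ b = lam b • (1 : Module.End ℂ (Fin n → ℂ)) := fun b => by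
    ext x; simp [σ]
  have he : Representation.character (ρ.comp A.subtype) = σ.character := funext fun b => by
    show ρ.character b = LinearMap.trace ℂ _ (σ b)
    rw [h, hσ, map_smul, LinearMap.trace_one, Module.finrank_fin_fun, smul_eq_mul, mul_comm]
  obtain ⟨φ⟩ := nonempty_equiv_of_character_eq _ σ he
  refine LinearMap.ext fun x => φ.toLinearEquiv.injective ?_
  have h1 := IntertwiningMap.isIntertwining _ _ φ.toIntertwiningMap a x
  rw [hσ] at h1
  show φ.toIntertwiningMap (ρ a x) = φ.toIntertwiningMap ((lam a • (1 : Module.End ℂ (Fin n → ℂ))) x)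
  refine h1.trans ?_
  simp [map_smul]

/-! ### Monomial characters -/

/-- `χ` is induced from a linear character of a subgroup. -/
def IsMonomialChar (χ : G → ℂ) : Prop :=
  ∃ (S : Subgroup G) (lam : S →* ℂ), χ = indFun S lam

theorem isMonomialChar_of_apply_one_eq_one {χ : G → ℂ} (hχ : IsCharacter G χ) (h : χ 1 = 1) :
    IsMonomialChar χ := by
  obtain ⟨lam, hl⟩ := IsCharacter.exists_monoidHom hχ h
  exact ⟨⊤, lam.comp (⊤ : Subgroup G).subtype, by
    rw [← indFun_top (IsCharacter.isClassFunction hχ)]
    simp [← hl, MonoidHom.coe_comp, Function.comp_def]⟩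

theorem IsMonomialChar.indFun_of {H : Subgroup G} [Fintype H] {ψ : H → ℂ}
    (h : IsMonomialChar ψ) : IsMonomialChar (indFun H ψ) := by
  obtain ⟨S, lam, rfl⟩ := h
  refine ⟨S.map H.subtype,
    lam.comp (S.equivMapOfInjective _ H.subtype_injective).symm.toMonoidHom, ?_⟩
  rw [indFun_indFun]
  rfl

/-- Nilpotent groups are M-groups. -/
theorem isMonomialChar_of_isNilpotent [Group.IsNilpotent G] {χ : G → ℂ}
    (hχ : IsIrrCharacter G χ) : IsMonomialChar χ := by
  suffices H : ∀ (n : ℕ) (G : Type u) [Group G] [Fintype G], Group.IsNilpotent G →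
      Nat.card G = n → ∀ χ : G → ℂ, IsIrrCharacter G χ → IsMonomialChar χ from
    H _ G inferInstance rfl χ hχ
  intro n
  induction n using Nat.strong_induction_on with
  | _ n ih =>
    intro G _ _ hnil hn χ hχ
    classical
    haveI := hnil
    obtain ⟨d, ρ, hρ, hρχ⟩ := id hχ
    haveI := hρ
    by_cases hfaith : ρ.ker = ⊥
    · -- faithful
      by_cases hab : ∀ a b : G, a * b = b * a
      · exact isMonomialChar_of_apply_one_eq_one (IsIrrCharacter.isCharacter hχ)
          (apply_one_of_comm hab ⟨χ, hχ⟩)
      -- an abelian normal subgroup outside the centre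
      obtain ⟨z, hz2, hz1⟩ : ∃ z, z ∈ Subgroup.upperCentralSeries G 2 ∧ z ∉ Subgroup.center G := by
        by_contra hcon
        push Not at hcon
        have hstep : ∀ k, Subgroup.upperCentralSeries G k ≤ Subgroup.center G := by
          intro k
          induction k with
          | zero => simp
          | succ k ihk =>
            intro x hx
            refine hcon x (Subgroup.mem_upperCentralSeries_succ_iff.2 fun y => ?_)
            rw [Subgroup.upperCentralSeries_one]
            exact ihk (Subgroup.mem_upperCentralSeries_succ_iff.1 hx y)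
        obtain ⟨k, hk⟩ := Group.IsNilpotent.nilpotent (G := G)
        refine hab fun a b => ?_
        have := hstep k (hk ▸ Subgroup.mem_top b)
        exact Subgroup.mem_center_iff.1 this a
      have hzc : ∀ g : G, z * g * z⁻¹ * g⁻¹ ∈ Subgroup.center G := fun g => by
        have := Subgroup.mem_upperCentralSeries_succ_iff.1 hz2 g
        rwa [Subgroup.upperCentralSeries_one] at this
      set A : Subgroup G := Subgroup.center G ⊔ Subgroup.zpowers z with hA
      haveI hAn : A.Normal := by
        constructor
        intro a ha g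
        have hzA : ∀ g : G, g * z * g⁻¹ ∈ A := fun g => by
          have h1 := inv_mem (hzc g)
          rw [show g * z * g⁻¹ = (z * g * z⁻¹ * g⁻¹)⁻¹ * z by group]
          exact mul_mem (Subgroup.mem_sup_left h1) (Subgroup.mem_sup_right (Subgroup.mem_zpowers z))
        have hle : A ≤ A.comap (MulAut.conj g).toMonoidHom := by
          refine sup_le (fun c hc => ?_) (Subgroup.zpowers_le.2 ?_)
          · show g * c * g⁻¹ ∈ A
            rw [Subgroup.mem_center_iff.1 hc g, mul_inv_cancel_right]
            exact Subgroup.mem_sup_left hc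
          · exact hzA g
        exact hle ha
      have hcomm : ∀ a b : A, (a : G) * b = b * a := by
        have hcz : A ≤ Subgroup.centralizer ((Subgroup.zpowers z : Subgroup G) : Set G) := by
          refine sup_le (fun c hc => ?_) ?_
          · exact Subgroup.mem_centralizer_iff.2 fun x _ => Subgroup.mem_center_iff.1 hc x
          · intro x hx
            obtain ⟨i, rfl⟩ := Subgroup.mem_zpowers_iff.1 hx
            refine Subgroup.mem_centralizer_iff.2 fun y hy => ?_
            obtain ⟨j, rfl⟩ := Subgroup.mem_zpowers_iff.1 hy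
            exact (Commute.zpow_zpow_self z j i).eq
        have hca : A ≤ Subgroup.centralizer (A : Set G) := by
          refine sup_le (fun c hc => Subgroup.mem_centralizer_iff.2 fun x _ =>
            Subgroup.mem_center_iff.1 hc x) (Subgroup.zpowers_le.2 ?_)
          exact Subgroup.mem_centralizer_iff.2 fun x hx =>
            (Subgroup.mem_centralizer_iff.1 (hcz hx) z (Subgroup.mem_zpowers z)).symm
        exact fun a b => Subgroup.mem_centralizer_iff.1 (hca b.2) a a.2
      haveI := Fintype.ofFinite A
      let χ' : IrrCharacter G := ⟨χ, hχ⟩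
      obtain ⟨θ, hθ⟩ := exists_constituent A χ'
      have hθ1 : θ.1 1 = 1 := by
        refine constituent_apply_one_of_commute (ρ.comp A.subtype) (fun a b => ?_) θ ?_
        · show ρ a * ρ b = ρ b * ρ a
          rw [← map_mul, ← map_mul, hcomm]
        · rwa [show Representation.character (ρ.comp A.subtype) = resFun A χ from
            funext fun a => by rw [← hρχ]; rfl]
      obtain ⟨lam, hlam⟩ := IsCharacter.exists_monoidHom (irr_isCharacter θ) hθ1
      obtain ⟨hle, ψ, e, he, hres, hind⟩ := exists_indFun_inertia A χ' θ hθ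
      have hlt : Nat.card (inertiaGroup A θ.1) < n := by
        rw [← hn]
        refine lt_of_le_of_ne (Subgroup.card_le_card_group _) fun hc => hz1 ?_
        have htop := Subgroup.eq_top_of_card_eq _ hc
        have hsc : ∀ a : A, χ a = d * lam a := by
          intro a
          have h1 : ∀ g : inertiaGroup A θ.1, χ g = ψ.1 g := fun g => by
            have hi : ∀ h : G, h ∈ inertiaGroup A θ.1 := fun h => htop ▸ Subgroup.mem_top h
            have hcl := IsCharacter.isClassFunction (irr_isCharacter ψ)
            rw [show χ = indFun (inertiaGroup A θ.1) ψ.1 from hind.symm]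
            have : ∀ x : G, extendByZero (inertiaGroup A θ.1) ψ.1 (x⁻¹ * g * x) = ψ.1 g := by
              intro x
              rw [extendByZero_of_mem _ _ (hi _)]
              have h3 := hcl g (⟨x, hi x⟩⁻¹)
              rw [inv_inv] at h3
              exact h3
            simp only [indFun, this, Finset.sum_const, Finset.card_univ, hc, nsmul_eq_mul,
              ← Nat.card_eq_fintype_card]
            rw [← mul_assoc, inv_mul_cancel₀ card_ne_zero, one_mul]
          have he1 := h1 ⟨((1 : A) : G), hle (one_mem A)⟩
          rw [hres 1, hθ1, mul_one] at he1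
          rw [show χ (a : G) = ψ.1 ⟨a, hle a.2⟩ from h1 ⟨a, hle a.2⟩, hres, ← hlam]
          simp only [Subgroup.coe_one] at he1
          rw [← he1, ← hρχ, Representation.char_one, Module.finrank_fin_fun]
        rw [Subgroup.mem_center_iff]
        intro g
        have hs := apply_eq_smul_of_character_eq ρ A lam (by rw [hρχ]; exact hsc)
          ⟨z, Subgroup.mem_sup_right (Subgroup.mem_zpowers z)⟩
        have hk : (g * z) * (z * g)⁻¹ ∈ ρ.ker := by
          rw [MonoidHom.mem_ker, map_mul]
          have : ρ (g * z) = ρ (z * g) := by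
            rw [map_mul, map_mul, show ρ z = _ from hs]; simp
          rw [this, ← map_mul, mul_inv_cancel, map_one]
        rw [hfaith, Subgroup.mem_bot, mul_inv_eq_one] at hk
        exact hk
      have := ih _ hlt (inertiaGroup A θ.1) inferInstance rfl ψ.1 ψ.2
      rw [show χ = indFun (inertiaGroup A θ.1) ψ.1 from hind.symm]
      exact IsMonomialChar.indFun_of this
    · -- pass to the quotient by the kernel
      haveI : ρ.ker.Normal := MonoidHom.normal_ker ρ
      let q := QuotientGroup.mk' ρ.ker
      let ρ' : Representation ℂ (G ⧸ ρ.ker) (Fin d → ℂ) := QuotientGroup.lift ρ.ker ρ le_rfl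
      have hirr : ρ'.IsIrreducible := by
        let e : Subrepresentation ρ' ≃o Subrepresentation ρ :=
          { toFun := fun S => ⟨S.toSubmodule, fun g _ hv => S.apply_mem_toSubmodule (q g) hv⟩
            invFun := fun S => ⟨S.toSubmodule, fun g v hv => by
              obtain ⟨x, rfl⟩ := QuotientGroup.mk_surjective g
              exact S.apply_mem_toSubmodule x hv⟩
            left_inv := fun _ => rfl
            right_inv := fun _ => rfl
            map_rel_iff' := Iff.rfl }
        exact (OrderIso.isSimpleOrder_iff e).2 hρ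
      haveI := Fintype.ofFinite (G ⧸ ρ.ker)
      have hlt : Nat.card (G ⧸ ρ.ker) < n := by
        rw [← hn, Subgroup.card_eq_card_quotient_mul_card_subgroup ρ.ker]
        refine lt_mul_of_one_lt_right Nat.card_pos ?_
        rw [Subgroup.one_lt_card_iff_ne_bot]
        exact hfaith
      obtain ⟨S, lam, hS⟩ := ih _ hlt (G ⧸ ρ.ker) inferInstance rfl ρ'.character
        ⟨d, ρ', hirr, rfl⟩
      refine ⟨S.comap q, lam.comp (q.subgroupComap S), funext fun g => ?_⟩
      have : χ g = ρ'.character (q g) := by rw [← hρχ]; rfl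
      rw [this, hS]
      exact (indFun_comp_surjective q (QuotientGroup.mk'_surjective _) S (fun x => lam x) g).symm

end Cfsg.Agent.Char
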