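import Cfsg.Agent.Lib.Char.Twist
import Cfsg.Agent.Lib.Char.Clifford
import Cfsg.Agent.Lib.Char.Linear

/-!
# Gallagher's theorem

For `χ ∈ Irr G` irreducible on `N ⊴ G`, `β ↦ χ * β` is a bijection from `Irr (G ⧸ N)` to the
irreducible characters of `G` over `χ|N`.
-/

set_option linter.style.haveILetI false

namespace Cfsg.Agent.Char

open scoped ComplexConjugate
open Representation

universe u

variable {G : Type u} [Group G]

theorem isIrreducible_of_classInner_eq_one [Fintype G] {n : ℕ} (ρ : Representation ℂ G (Fin n → ℂ))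
    (h : classInner ρ.character ρ.character = 1) : ρ.IsIrreducible := by
  rcases subsingleton_or_irreducible_or_split ρ with hs | hi | ⟨A, B, hc, hA, hB⟩
  · exfalso
    have : ρ.character = 0 := by
      funext g
      simp [Representation.character, Subsingleton.elim (ρ g) 0]
    rw [this, classInner_zero_left] at h
    exact zero_ne_one h
  · exact hi
  · exfalso
    rw [character_eq_add_of_isCompl ρ A B hc, classInner_add_left, classInner_add_right,
      classInner_add_right] at h
    have hA' := isCharacter_character A.toRepresentation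
    have hB' := isCharacter_character B.toRepresentation
    obtain ⟨a, ha⟩ := IsCharacter.exists_nat_classInner hA' hA'
    obtain ⟨b, hb⟩ := IsCharacter.exists_nat_classInner hA' hB'
    obtain ⟨c, hc'⟩ := IsCharacter.exists_nat_classInner hB' hA'
    obtain ⟨d, hd⟩ := IsCharacter.exists_nat_classInner hB' hB'
    rw [ha, hb, hc', hd] at h
    have h' : a + b + (c + d) = 1 := by exact_mod_cast h
    have hsum := Submodule.finrank_add_eq_of_isCompl hc
    have ha0 : a ≠ 0 := fun h0 => by
      have h2 := congrFun (classInner_self_eq_zero (φ := A.toRepresentation.character)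
        (by rw [ha, h0, Nat.cast_zero])) 1
      rw [Representation.char_one, Pi.zero_apply, Nat.cast_eq_zero] at h2
      omega
    have hd0 : d ≠ 0 := fun h0 => by
      have h2 := congrFun (classInner_self_eq_zero (φ := B.toRepresentation.character)
        (by rw [hd, h0, Nat.cast_zero])) 1
      rw [Representation.char_one, Pi.zero_apply, Nat.cast_eq_zero] at h2
      omega
    omega

variable (N : Subgroup G) [N.Normal]

/-- The sum over a coset of `|χ|²`, for `χ` irreducible on `N`. -/
theorem sum_coset_mul_conj [Fintype G] [Fintype N] (χ : IrrCharacter G)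
    (hres : IsIrrCharacter N (resFun N χ.1)) (g : G) :
    ∑ n : N, χ.1 (g * n) * conj (χ.1 (g * n)) = (Nat.card N : ℂ) := by
  obtain ⟨d, ρ, hρ, hχ⟩ := χ.2
  set σ : Representation ℂ N (Fin d → ℂ) := ρ.comp N.subtype with hσ
  have hσχ : σ.character = resFun N χ.1 := by rw [← hχ]; rfl
  haveI : σ.IsIrreducible :=
    isIrreducible_of_classInner_eq_one σ (by rw [hσχ]; exact classInner_irr_self hres)
  have key := sum_trace_mul_trace σ (ρ g) (ρ g⁻¹)
  have hd : (d : ℂ) ≠ 0 := by
    have : (d : ℂ) = χ.1 1 := by rw [← hχ]; simp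
    rw [this]
    exact IsIrrCharacter.apply_one_ne_zero χ.2
  have hr : LinearMap.trace ℂ _ (ρ g * ρ g⁻¹) = (d : ℂ) := by
    rw [← map_mul, mul_inv_cancel]; simp
  rw [hr, mul_comm (Nat.card N : ℂ)] at key
  refine Eq.trans (Finset.sum_congr rfl fun n _ => ?_) (mul_left_cancel₀ hd key)
  rw [IsCharacter.conj_apply (irr_isCharacter χ), mul_inv_rev, ← hχ]
  simp [Representation.character, hσ]

/-- Pullback of a function on the quotient, times `χ`. -/
def mulQuotient (χ : G → ℂ) (β : G ⧸ N → ℂ) : G → ℂ := fun g => χ g * β (g : G ⧸ N)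

@[simp] theorem mulQuotient_apply (χ : G → ℂ) (β : G ⧸ N → ℂ) (g : G) :
    mulQuotient N χ β g = χ g * β (g : G ⧸ N) := rfl

theorem isCharacter_mulQuotient {χ : G → ℂ} (hχ : IsCharacter G χ) {β : G ⧸ N → ℂ}
    (hβ : IsCharacter (G ⧸ N) β) : IsCharacter G (mulQuotient N χ β) :=
  IsCharacter.mul hχ (IsCharacter.comp hβ (QuotientGroup.mk' N))

theorem classInner_mulQuotient [Fintype G] [Fintype N] [Fintype (G ⧸ N)] (χ : IrrCharacter G)
    (hres : IsIrrCharacter N (resFun N χ.1)) (β β' : G ⧸ N → ℂ) :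
    classInner (mulQuotient N χ.1 β) (mulQuotient N χ.1 β') = classInner β β' := by
  classical
  have hN : (Nat.card N : ℂ) ≠ 0 := card_ne_zero
  have hG : (Nat.card G : ℂ) = Nat.card (G ⧸ N) * Nat.card N := by
    exact_mod_cast N.card_eq_card_quotient_mul_card_subgroup
  have key : ∑ g : G, mulQuotient N χ.1 β g * conj (mulQuotient N χ.1 β' g) =
      (Nat.card N : ℂ) * ∑ q : G ⧸ N, β q * conj (β' q) := by
    rw [Finset.mul_sum,
      ← Finset.sum_fiberwise Finset.univ (fun g : G => (g : G ⧸ N))]
    refine Finset.sum_congr rfl fun q _ => ?_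
    obtain ⟨g, rfl⟩ := QuotientGroup.mk_surjective q
    rw [← sum_coset_mul_conj N χ hres g, Finset.sum_mul]
    refine Finset.sum_bij' (fun x hx => (⟨g⁻¹ * x, QuotientGroup.eq.1
      (Finset.mem_filter.1 hx).2.symm⟩ : N)) (fun n _ => g * (n : G)) (fun x hx => Finset.mem_univ _)
      (fun n _ => Finset.mem_filter.2 ⟨Finset.mem_univ _, QuotientGroup.mk_mul_of_mem g n.2⟩)
      (fun x _ => by simp) (fun n _ => Subtype.ext (by simp)) fun x hx => ?_
    show mulQuotient N χ.1 β x * conj (mulQuotient N χ.1 β' x) =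
      χ.1 (g * (g⁻¹ * x)) * conj (χ.1 (g * (g⁻¹ * x))) *
        (β (g : G ⧸ N) * conj (β' (g : G ⧸ N)))
    rw [mul_inv_cancel_left, mulQuotient_apply, mulQuotient_apply, (Finset.mem_filter.1 hx).2,
      map_mul]
    ring
  rw [classInner, classInner, key, hG, mul_inv, mul_assoc, inv_mul_cancel_left₀ hN]

theorem isIrrCharacter_mulQuotient [Fintype G] [Fintype N] (χ : IrrCharacter G)
    (hres : IsIrrCharacter N (resFun N χ.1)) (β : IrrCharacter (G ⧸ N)) :
    IsIrrCharacter G (mulQuotient N χ.1 β.1) := by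
  haveI := Fintype.ofFinite (G ⧸ N)
  refine isIrrCharacter_iff.2 ⟨isCharacter_mulQuotient N (irr_isCharacter χ) (irr_isCharacter β), ?_⟩
  rw [classInner_mulQuotient N χ hres, classInner_irr_self β.2]

theorem mulQuotient_injective [Fintype G] [Fintype N] (χ : IrrCharacter G)
    (hres : IsIrrCharacter N (resFun N χ.1)) :
    Function.Injective fun β : IrrCharacter (G ⧸ N) => mulQuotient N χ.1 β.1 := fun β β' h => by
  haveI := Fintype.ofFinite (G ⧸ N)
  by_contra hne
  have h1 := classInner_mulQuotient N χ hres β.1 β'.1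
  have h : mulQuotient N χ.1 β.1 = mulQuotient N χ.1 β'.1 := h
  rw [← h, classInner_irr_self (isIrrCharacter_mulQuotient N χ hres β),
    classInner_irr_of_ne β.2 β'.2 fun e => hne (Subtype.ext e)] at h1
  exact one_ne_zero h1

theorem resFun_mulQuotient (χ : G → ℂ) (β : G ⧸ N → ℂ) :
    resFun N (mulQuotient N χ β) = β 1 • resFun N χ := by
  funext n
  simp [mulQuotient, (QuotientGroup.eq_one_iff (n : G)).2 n.2, mul_comm]

theorem classInner_resFun_mulQuotient [Fintype N] (χ : G → ℂ)
    (hres : IsIrrCharacter N (resFun N χ)) (β : G ⧸ N → ℂ) :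
    classInner (resFun N (mulQuotient N χ β)) (resFun N χ) = β 1 := by
  rw [resFun_mulQuotient, classInner_smul_left, classInner_irr_self hres, mul_one]

theorem indFun_resFun_eq_sum [Fintype G] [Fintype N] [Fintype (G ⧸ N)] {χ : G → ℂ}
    (hχ : IsClassFunction G χ) :
    indFun N (resFun N χ) = ∑ β : IrrCharacter (G ⧸ N), β.1 1 • mulQuotient N χ β.1 := by
  classical
  funext g
  have hreg := sum_irr_degree_mul (g : G ⧸ N)
  simp only [Finset.sum_apply, Pi.smul_apply, mulQuotient_apply, smul_eq_mul,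
    mul_left_comm _ (χ g), ← Finset.mul_sum, hreg]
  by_cases hg : g ∈ N
  · rw [if_pos ((QuotientGroup.eq_one_iff g).2 hg)]
    simp only [indFun]
    have : ∀ x : G, extendByZero N (resFun N χ) (x⁻¹ * g * x) = χ g := fun x => by
      have hm : x⁻¹ * g * x ∈ N := by
        simpa using Subgroup.Normal.conj_mem ‹N.Normal› g hg x⁻¹
      rw [extendByZero_of_mem _ _ hm, resFun_apply]
      simpa using hχ g x⁻¹
    simp only [this, Finset.sum_const, Finset.card_univ, nsmul_eq_mul, ← Nat.card_eq_fintype_card]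
    rw [show (Nat.card G : ℂ) = Nat.card (G ⧸ N) * Nat.card N by
      exact_mod_cast N.card_eq_card_quotient_mul_card_subgroup]
    field_simp [card_ne_zero (G := N)]
  · rw [if_neg fun h => hg ((QuotientGroup.eq_one_iff g).1 h), mul_zero,
      indFun_of_notMem_normal N _ hg]

theorem exists_mulQuotient_eq [Fintype G] [Fintype N] (χ : IrrCharacter G)
    (hres : IsIrrCharacter N (resFun N χ.1)) (ψ : IrrCharacter G)
    (hψ : classInner (resFun N ψ.1) (resFun N χ.1) ≠ 0) :
    ∃ β : IrrCharacter (G ⧸ N), mulQuotient N χ.1 β.1 = ψ.1 := by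
  haveI := Fintype.ofFinite (G ⧸ N)
  by_contra! hne
  refine hψ ?_
  have hc := IsCharacter.isClassFunction (irr_isCharacter ψ)
  show classInner (fun h : N => ψ.1 h) (resFun N χ.1) = 0
  rw [← classInner_indFun_right N _ hc,
    indFun_resFun_eq_sum N (IsCharacter.isClassFunction (irr_isCharacter χ)), classInner_sum_right]
  refine Finset.sum_eq_zero fun β _ => ?_
  rw [classInner_smul_right,
    classInner_irr_of_ne ψ.2 (isIrrCharacter_mulQuotient N χ hres β) (hne β).symm, mul_zero]

/-- Gallagher's theorem. -/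
noncomputable def gallagherEquiv [Fintype G] [Fintype N] (χ : IrrCharacter G)
    (hres : IsIrrCharacter N (resFun N χ.1)) :
    IrrCharacter (G ⧸ N) ≃
      {ψ : IrrCharacter G // classInner (resFun N ψ.1) (resFun N χ.1) ≠ 0} :=
  Equiv.ofBijective
    (fun β => ⟨⟨mulQuotient N χ.1 β.1, isIrrCharacter_mulQuotient N χ hres β⟩, by
      show classInner (resFun N (mulQuotient N χ.1 β.1)) (resFun N χ.1) ≠ 0
      rw [classInner_resFun_mulQuotient N χ.1 hres]
      exact IsIrrCharacter.apply_one_ne_zero β.2⟩)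
    ⟨fun _ _ h => mulQuotient_injective N χ hres (congrArg (fun x => x.1.1) h), fun ψ => by
      obtain ⟨β, hβ⟩ := exists_mulQuotient_eq N χ hres ψ.1 ψ.2
      exact ⟨β, Subtype.ext (Subtype.ext hβ)⟩⟩

/-- Twisting a character which is irreducible on `N` by linear characters of `G / N` is
injective. -/
theorem mul_linear_injective [Fintype G] [Fintype N] (χ : IrrCharacter G)
    (hres : IsIrrCharacter N (resFun N χ.1)) {a b : G →* ℂ} (ha : ∀ n ∈ N, a n = 1)
    (hb : ∀ n ∈ N, b n = 1) (h : ∀ g, χ.1 g * a g = χ.1 g * b g) : a = b := by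
  let lift : ∀ f : G →* ℂ, (∀ n ∈ N, f n = 1) → (G ⧸ N →* ℂ) := fun f hf =>
    QuotientGroup.lift N f hf
  have := mulQuotient_injective N χ hres (a₁ := linIrr (lift a ha)) (a₂ := linIrr (lift b hb))
    (funext fun g => h g)
  ext g
  exact congrArg (fun x : IrrCharacter (G ⧸ N) => x.1 (g : G ⧸ N)) this

end Cfsg.Agent.Char
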