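import Cfsg.Agent.Lib.Char.CliffordCorrespondence
import Cfsg.Agent.Lib.Char.Gallagher
import Cfsg.Agent.Lib.Char.KernelSum

/-!
# Inducing twists of an extension from the inertia group
-/

set_option linter.style.haveILetI false

namespace Cfsg.Agent.Char

universe u

variable {G : Type u} [Group G] [Fintype G]

theorem commutator_map_eq_of_minimal (N : Subgroup G) [N.Normal]
    (hmin : ∀ M : Subgroup G, M.Normal → M ≤ N → M = ⊥ ∨ M = N) (hna : ¬ IsMulCommutative N) :
    ⁅N, N⁆ = N := by
  rcases hmin ⁅N, N⁆ inferInstance (Subgroup.commutator_le_right N N) with h | h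
  · exfalso
    refine hna ⟨⟨fun a b => Subtype.ext ?_⟩⟩
    exact (Subgroup.mem_centralizer_iff.1
      (Subgroup.commutator_eq_bot_iff_le_centralizer.1 h a.2) b b.2).symm
  · exact h

omit [Fintype G] in
theorem linear_eq_one_of_perfect {M : Type*} [CommMonoid M] (N : Subgroup G) (hN : ⁅N, N⁆ = N)
    (lam : G →* M) {g : G} (hg : g ∈ N) : lam g = 1 := by
  have : N ≤ (lam.toHomUnits).ker := by
    rw [← hN, Subgroup.commutator_le]
    intro a _ b _
    rw [MonoidHom.mem_ker, map_commutatorElement, commutatorElement_eq_one_iff_mul_comm, mul_comm]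
  simpa [MonoidHom.toHomUnits, Units.ext_iff] using this hg

/-- Linear characters trivial on `H` number at most the index of `H`. -/
theorem card_linear_trivial_on_le (H : Subgroup G) :
    Nat.card {lam : G →* ℂ // ∀ g ∈ H, lam g = 1} ≤ H.index := by
  set M := commutator G ⊔ H with hM
  haveI : M.Normal := Subgroup.Normal.of_commutator_le G le_sup_left
  have hker : ∀ lam : {lam : G →* ℂ // ∀ g ∈ H, lam g = 1}, ∀ g ∈ M, lam.1 g = 1 := fun lam => by
    have hle : M ≤ lam.1.toHomUnits.ker := by
      refine sup_le ?_ fun g hg => ?_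
      · exact Abelianization.commutator_subset_ker _
      · rw [MonoidHom.mem_ker]; exact Units.ext (lam.2 g hg)
    intro g hg
    simpa [MonoidHom.toHomUnits, Units.ext_iff] using hle hg
  haveI : Finite (G ⧸ M →* ℂ) := Nat.finite_of_card_ne_zero (by
    rw [card_monoidHom_complex]; exact Subgroup.index_ne_zero_of_finite)
  calc Nat.card {lam : G →* ℂ // ∀ g ∈ H, lam g = 1}
      ≤ Nat.card (G ⧸ M →* ℂ) :=
        Nat.card_le_card_of_injective (fun lam => QuotientGroup.lift M lam.1 (hker lam))
          fun a b h => Subtype.ext (MonoidHom.ext fun g =>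
            congrArg (fun f : G ⧸ M →* ℂ => f (g : G ⧸ M)) h)
    _ ≤ M.index := by
        rw [card_monoidHom_complex, Subgroup.index_eq_card M]
        exact Nat.le_of_dvd Nat.card_pos (commutator (G ⧸ M)).index_dvd_card
    _ ≤ H.index := Nat.le_of_dvd (Nat.pos_of_ne_zero Subgroup.index_ne_zero_of_finite)
        (Subgroup.index_dvd_of_le le_sup_right)

variable {N : Subgroup G} [N.Normal] [Fintype N] {φ : IrrCharacter N} {I : Subgroup G} [Fintype I]
  (hNI : N ≤ I) {ψ : IrrCharacter I} (hψ : ∀ n : N, ψ.1 (Subgroup.inclusion hNI n) = φ.1 n)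

include hψ in
theorem isIrrCharacter_restrict_extension :
    haveI := Fintype.ofFinite (N.subgroupOf I)
    IsIrrCharacter (N.subgroupOf I) (resFun (N.subgroupOf I) ψ.1) := by
  convert IsIrrCharacter.comp_surjective φ.2 (Subgroup.subgroupOfEquivOfLe hNI).toMonoidHom
    (Subgroup.subgroupOfEquivOfLe hNI).surjective using 1
  exact funext fun x => hψ (Subgroup.subgroupOfEquivOfLe hNI x)

/-- The character induced from the twist of an extension by a linear character. -/
noncomputable def twistInd (hperf : ⁅N, N⁆ = N) (hI : ∀ g, conjFun N φ.1 g = φ.1 → g ∈ I)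
    (hψ : ∀ n : N, ψ.1 (Subgroup.inclusion hNI n) = φ.1 n) (lam : G →* ℂ) : IrrCharacter G :=
  ⟨indFun I (⇑(lam.comp I.subtype) * ψ.1), isIrrCharacter_indFun_inertia N I hNI φ hI
    (ψ := ⟨_, IsIrrCharacter.mul_linear ψ.2 (lam.comp I.subtype)⟩) one_ne_zero fun n => by
      have h1 : lam ((⟨n, hNI n.2⟩ : I) : G) = 1 := linear_eq_one_of_perfect N hperf lam n.2
      simp [h1, ← hψ n, Subgroup.inclusion]⟩

variable (hperf : ⁅N, N⁆ = N) (hI : ∀ g, conjFun N φ.1 g = φ.1 → g ∈ I)

theorem twistInd_apply_one (lam : G →* ℂ) :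
    (twistInd hNI hperf hI hψ lam).1 1 = (I.index : ℂ) * φ.1 1 := by
  show indFun I (⇑(lam.comp I.subtype) * ψ.1) 1 = _
  rw [indFun_apply_one, Pi.mul_apply, map_one, one_mul, ← hψ 1, map_one]

theorem twistInd_eq_imp (a b : G →* ℂ) (h : twistInd hNI hperf hI hψ a = twistInd hNI hperf hI hψ b) :
    ∀ g ∈ I, a g = b g := by
  haveI := Fintype.ofFinite (N.subgroupOf I)
  have hres : ∀ lam : G →* ℂ, ∀ n : N,
      ((⟨_, IsIrrCharacter.mul_linear ψ.2 (lam.comp I.subtype)⟩ : IrrCharacter I)).1 ⟨n, hNI n.2⟩ =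
        ((1 : ℕ) : ℂ) * φ.1 n := fun lam n => by
    have h1 : lam ((⟨n, hNI n.2⟩ : I) : G) = 1 := linear_eq_one_of_perfect N hperf lam n.2
    simp [h1, ← hψ n, Subgroup.inclusion]
  have heq := indFun_inertia_injective N I hNI φ hI one_ne_zero one_ne_zero (hres a) (hres b)
    (congrArg Subtype.val h)
  have heq' := congrArg Subtype.val heq
  have key := mul_linear_injective (N.subgroupOf I) ψ (isIrrCharacter_restrict_extension hNI hψ)
    (a := a.comp I.subtype) (b := b.comp I.subtype)
    (fun n hn => linear_eq_one_of_perfect N hperf a (Subgroup.mem_subgroupOf.1 hn))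
    (fun n hn => linear_eq_one_of_perfect N hperf b (Subgroup.mem_subgroupOf.1 hn))
    fun g => by rw [mul_comm, mul_comm (ψ.1 g)]; exact congrFun heq' g
  exact fun g hg => congrArg (fun f : I →* ℂ => f ⟨g, hg⟩) key

/-- Counting lemma: linear characters in a set `S` map to the induced twists with fibres at most
the index of `I`. -/
theorem card_linear_le (S : Set (G →* ℂ)) (T : Set (IrrCharacter G))
    (hST : ∀ lam ∈ S, twistInd hNI hperf hI hψ lam ∈ T) :
    Nat.card S ≤ I.index * Nat.card T := by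
  classical
  haveI : Finite (G →* ℂ) := Finite.of_injective _ (linIrr_injective (G := G))
  haveI := Fintype.ofFinite (G →* ℂ)
  rw [Nat.card_eq_card_toFinset S, Nat.card_eq_card_toFinset T]
  refine Finset.card_le_mul_card_image_of_maps_to (f := fun lam => twistInd hNI hperf hI hψ lam)
    (fun lam hlam => Set.mem_toFinset.2 (hST lam (Set.mem_toFinset.1 hlam))) _ fun χ _ => ?_
  by_cases hempty : (S.toFinset.filter fun lam => twistInd hNI hperf hI hψ lam = χ).Nonempty
  · obtain ⟨b, hb⟩ := hempty
    refine le_trans ?_ (card_linear_trivial_on_le I)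
    rw [← Nat.card_eq_finsetCard]
    have hinv : ∀ g, b g⁻¹ * b g = 1 := fun g => by rw [← map_mul, inv_mul_cancel, map_one]
    have hinv' : ∀ g, b g * b g⁻¹ = 1 := fun g => by rw [← map_mul, mul_inv_cancel, map_one]
    refine Nat.card_le_card_of_injective (fun a =>
      ⟨{ toFun := fun g => a.1 g * b g⁻¹
         map_one' := by simp
         map_mul' := fun x y => by rw [map_mul, mul_inv_rev, map_mul]; ring }, fun g hg => ?_⟩)
      fun a a' h => Subtype.ext (MonoidHom.ext fun g => ?_)
    · show a.1 g * b g⁻¹ = 1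
      rw [twistInd_eq_imp hNI hψ hperf hI a.1 b
        ((Finset.mem_filter.1 a.2).2.trans (Finset.mem_filter.1 hb).2.symm) g hg, hinv']
    · have := congrArg (fun f : {lam : G →* ℂ // ∀ g ∈ I, lam g = 1} => f.1 g * b g) h
      simp only [MonoidHom.coe_mk, OneHom.coe_mk, mul_assoc, hinv, mul_one] at this
      exact this
  · rw [Finset.not_nonempty_iff_eq_empty.1 hempty]; simp

end Cfsg.Agent.Char
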