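import Cfsg.Agent.Lib.Char.BrauerPerm
import Cfsg.Agent.Lib.Char.RealChar

/-!
# Brauer's permutation lemma for the character table
-/

set_option linter.style.haveILetI false

namespace Cfsg.Agent.Char

open scoped ComplexConjugate

universe u

variable {G : Type u} [Group G]

/-- The value of an irreducible character on a class. -/
noncomputable def classValue (χ : IrrCharacter G) (c : ConjClasses G) : ℂ := χ.1 (Quotient.out c)

theorem classValue_mk (χ : IrrCharacter G) (g : G) : classValue χ (ConjClasses.mk g) = χ.1 g :=
  IsClassFunction.apply_of_isConj (IsCharacter.isClassFunction (irr_isCharacter χ))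
    (ConjClasses.mk_eq_mk_iff_isConj.1 (Quotient.out_eq (ConjClasses.mk g)))

variable [Finite G]

/-- Brauer's permutation lemma. -/
theorem card_fixed_irr_eq_card_fixed_classes (σ : Equiv.Perm (IrrCharacter G))
    (τ : Equiv.Perm (ConjClasses G)) (h : ∀ χ c, classValue (σ χ) (τ c) = classValue χ c) :
    Nat.card {χ // σ χ = χ} = Nat.card {c // τ c = c} := by
  classical
  haveI := Fintype.ofFinite G
  haveI : Finite (ConjClasses G) := Finite.of_surjective _ ConjClasses.mk_surjective
  haveI := Fintype.ofFinite (ConjClasses G)
  refine brauer_perm_fixed (Matrix.of fun χ c => classValue χ c)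
    (Matrix.of fun c χ => (Nat.card (Subgroup.centralizer ({Quotient.out c} : Set G)) : ℂ)⁻¹ *
      conj (classValue χ c)) (Or.inr ?_) ?_ σ τ h
  · ext c d
    rw [Matrix.mul_apply, Matrix.one_apply]
    simp only [Matrix.of_apply, mul_assoc, ← Finset.mul_sum]
    rw [Finset.sum_congr rfl fun χ _ => mul_comm (conj (classValue χ c)) (classValue χ d)]
    simp only [classValue]
    rw [sum_irr_mul_conj]
    by_cases hcd : c = d
    · subst hcd
      rw [if_pos (IsConj.refl _), if_pos rfl,
        inv_mul_cancel₀ (Nat.cast_ne_zero.2 Nat.card_pos.ne')]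
    · rw [if_neg hcd, if_neg, mul_zero]
      intro hc
      refine hcd ?_
      have := ConjClasses.mk_eq_mk_iff_isConj.2 hc
      rw [← Quotient.out_eq c, ← Quotient.out_eq d]
      exact this.symm
  · rw [← Nat.card_eq_fintype_card, ← Nat.card_eq_fintype_card, card_irr]

/-- Equal numbers of orbits for compatible actions. -/
theorem card_orbits_irr_eq_classes {A : Type*} [Group A] [Finite A] [MulAction A (IrrCharacter G)]
    [MulAction A (ConjClasses G)]
    (h : ∀ (a : A) (χ : IrrCharacter G) (c : ConjClasses G),
      classValue (a • χ) (a • c) = classValue χ c) :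
    Nat.card (Quotient (MulAction.orbitRel A (IrrCharacter G))) =
      Nat.card (Quotient (MulAction.orbitRel A (ConjClasses G))) := by
  haveI : Finite (ConjClasses G) := Finite.of_surjective _ ConjClasses.mk_surjective
  exact card_orbits_eq_of_fixed fun a =>
    card_fixed_irr_eq_card_fixed_classes (MulAction.toPerm a) (MulAction.toPerm a) (h a)

/-- Inversion of classes. -/
def classInvPerm : Equiv.Perm (ConjClasses G) :=
  Function.Involutive.toPerm
    (fun c => Quotient.map (fun g : G => g⁻¹) (fun a b hab => by
      obtain ⟨x, hx⟩ := isConj_iff.1 hab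
      exact isConj_iff.2 ⟨x, by rw [← hx]; group⟩) c)
    (fun c => by
      obtain ⟨g, rfl⟩ := ConjClasses.mk_surjective c
      exact congrArg ConjClasses.mk (inv_inv g))

omit [Finite G] in
@[simp] theorem classInvPerm_mk (g : G) : classInvPerm (ConjClasses.mk g) = ConjClasses.mk g⁻¹ := rfl

/-- Complex conjugation of irreducible characters, as a permutation. -/
noncomputable def conjPerm [Fintype G] : Equiv.Perm (IrrCharacter G) where
  toFun := conjIrr
  invFun := conjIrr
  left_inv := conjIrr_conjIrr
  right_inv := conjIrr_conjIrr

omit [Finite G] in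
@[simp] theorem conjPerm_apply [Fintype G] (χ : IrrCharacter G) : conjPerm χ = conjIrr χ := rfl

theorem classValue_conjPerm [Fintype G] (χ : IrrCharacter G) (c : ConjClasses G) :
    classValue (conjPerm χ) (classInvPerm c) = classValue χ c := by
  obtain ⟨g, rfl⟩ := ConjClasses.mk_surjective c
  rw [classInvPerm_mk, classValue_mk, classValue_mk, conjPerm_apply, conjIrr_apply,
    IsCharacter.conj_apply (irr_isCharacter χ), inv_inv]

end Cfsg.Agent.Char
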