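import Cfsg.Agent.Lib.Char.Clifford
import Cfsg.Agent.Lib.Char.BrauerPermChar

/-!
# The actions of `G` on characters and classes of a normal subgroup
-/

set_option linter.style.haveILetI false

namespace Cfsg.Agent.Char

universe u

variable {G : Type u} [Group G] (N : Subgroup G) [N.Normal]

/-- `G` acts on the irreducible characters of a normal subgroup by `g • θ = θ (g⁻¹ · g)`. -/
@[instance_reducible]
def irrConjAction : MulAction G (IrrCharacter N) where
  smul g θ := conjChar N θ g⁻¹
  one_smul θ := Subtype.ext (by show conjFun N θ.1 1⁻¹ = θ.1; simp)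
  mul_smul g h θ := Subtype.ext (by
    show conjFun N θ.1 (g * h)⁻¹ = conjFun N (conjFun N θ.1 h⁻¹) g⁻¹
    rw [mul_inv_rev, conjFun_mul])

/-- `G` acts on the classes of a normal subgroup by conjugation. -/
@[instance_reducible]
def classConjAction : MulAction G (ConjClasses N) where
  smul g c := ConjClasses.map (MulAut.conjNormal g : MulAut N).toMonoidHom c
  one_smul c := by
    obtain ⟨k, rfl⟩ := ConjClasses.mk_surjective c
    show ConjClasses.mk ((MulAut.conjNormal (1 : G)) k) = ConjClasses.mk k
    rw [map_one, MulAut.one_apply]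
  mul_smul g h c := by
    obtain ⟨k, rfl⟩ := ConjClasses.mk_surjective c
    show ConjClasses.mk ((MulAut.conjNormal (g * h)) k) =
      ConjClasses.mk ((MulAut.conjNormal g) ((MulAut.conjNormal h) k))
    rw [map_mul, MulAut.mul_apply]

theorem irrConjAction_smul (g : G) (θ : IrrCharacter N) :
    (letI := irrConjAction N; g • θ) = conjChar N θ g⁻¹ := rfl

theorem classConjAction_smul_mk (g : G) (k : N) :
    (letI := classConjAction N; g • ConjClasses.mk k) = ConjClasses.mk (MulAut.conjNormal g k) := rfl

theorem classValue_conj_smul (g : G) (θ : IrrCharacter N) (c : ConjClasses N) :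
    (letI := irrConjAction N; letI := classConjAction N; classValue (g • θ) (g • c)) =
      classValue θ c := by
  obtain ⟨k, rfl⟩ := ConjClasses.mk_surjective c
  rw [irrConjAction_smul, classConjAction_smul_mk, classValue_mk, classValue_mk]
  exact congrArg θ.1 (Subtype.ext (by simp [mul_assoc]))

variable [Fintype G]

/-- `N` acts trivially on its characters. -/
theorem conjChar_of_mem (θ : IrrCharacter N) {g : G} (hg : g ∈ N) : conjChar N θ g = θ :=
  Subtype.ext (funext fun n => by
    show θ.1 (MulAut.conjNormal g n) = θ.1 n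
    rw [show MulAut.conjNormal g n = ⟨g, hg⟩ * n * ⟨g, hg⟩⁻¹ from Subtype.ext (by simp)]
    exact IsCharacter.isClassFunction (irr_isCharacter θ) n ⟨g, hg⟩)

theorem classConj_of_mem (c : ConjClasses N) {g : G} (hg : g ∈ N) :
    (letI := classConjAction N; g • c) = c := by
  obtain ⟨k, rfl⟩ := ConjClasses.mk_surjective c
  rw [classConjAction_smul_mk, ConjClasses.mk_eq_mk_iff_isConj]
  exact (isConj_iff.2 ⟨⟨g, hg⟩, Subtype.ext (by simp)⟩).symm

end Cfsg.Agent.Char
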