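import Cfsg.Agent.Lib.Glauberman.RelativeBase
import Cfsg.Agent.Lib.Glauberman.Solvable
import Cfsg.Agent.Lib.Char.NormalAction
import Cfsg.Agent.Lib.Char.LinearTwist
import Cfsg.Agent.Lib.Coprime.Basic

/-!
# Fixed characters over and under a normal subgroup of coprime index

An operator group `T` acts on `G`, fixes `N ⊴ G` and has order prime to the index of `N`. Only the
index matters: a fixed character of `G` has a fixed constituent on `N` (`T` or `G / N` solvable),
and a fixed character of `N` lies under a fixed one (`G / N` solvable).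
-/

set_option autoImplicit false
set_option linter.style.haveILetI false
set_option linter.unusedSectionVars false

namespace Cfsg.Agent.Char

open scoped ComplexConjugate commutatorElement
open Cfsg.Agent.Glauberman (IsFix charAction twistChar mem_fixedPoints_charAction)
open Cfsg.Agent.RelGlauberman (restrictAut quotAut)

universe u v w

attribute [local instance 10] Fintype.ofFinite

/-- Glauberman's lemma for two permutation groups, one transitive and normalised by the other. -/
theorem exists_fixed_of_transitive {X : Type u} [Finite X] [Nonempty X] {T : Type v} [Group T]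
    [Finite T] {Q : Type w} [Group Q] [Finite Q] (a : T →* Equiv.Perm X) (b : Q →* Equiv.Perm X)
    (hcompat : ∀ t q, ∃ q', a t * b q = b q' * a t) (htrans : ∀ x y, ∃ q, b q x = y)
    (hcop : (Nat.card T).Coprime (Nat.card Q))
    (hs : Group.IsSolvable T ∨ Group.IsSolvable Q) : ∃ x, ∀ t, a t x = x := by
  obtain ⟨x⟩ := ‹Nonempty X›
  have hconj : ∀ t, ∀ k ∈ b.range, a t * k * (a t)⁻¹ ∈ b.range := by
    rintro t _ ⟨q, rfl⟩
    obtain ⟨q', hq'⟩ := hcompat t q
    exact ⟨q', by rw [hq', mul_inv_cancel_right]⟩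
  have hAK : a.range ≤ Subgroup.normalizer (b.range : Set (Equiv.Perm X)) := by
    rintro _ ⟨t, rfl⟩
    refine Subgroup.mem_normalizer_iff.2 fun k => ⟨hconj t k, fun hk => ?_⟩
    have h := hconj t⁻¹ _ hk
    rwa [map_inv, inv_inv, mul_assoc, mul_assoc, inv_mul_cancel, mul_one,
      inv_mul_cancel_left] at h
  obtain ⟨k, -, hk⟩ := Coprime.exists_fixed_point (X := X) hAK
    ((hcop.coprime_dvd_left (Subgroup.card_range_dvd a)).coprime_dvd_right
      (Subgroup.card_range_dvd b))
    (hs.imp (fun (h : Group.IsSolvable T) => haveI := h; Group.isSolvable_of_surjective a.rangeRestrict_surjective)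
      (fun (h : Group.IsSolvable Q) => haveI := h; Group.isSolvable_of_surjective b.rangeRestrict_surjective))
    x (fun y _ => by
      obtain ⟨q, hq⟩ := htrans x (y • x)
      exact ⟨b q, ⟨q, rfl⟩, hq⟩)
  exact ⟨k • x, fun t => hk _ ⟨t, rfl⟩⟩

variable {T : Type v} [Group T] [Finite T] {G : Type u} [Group G] [Fintype G]

/-- Two characters with a common constituent have nonzero inner product. -/
theorem classInner_ne_zero_of_common {χ χ' : G → ℂ} (hχ : IsCharacter G χ)
    (hχ' : IsCharacter G χ') (θ : IrrCharacter G) (h : classInner χ θ.1 ≠ 0)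
    (h' : classInner χ' θ.1 ≠ 0) : classInner χ χ' ≠ 0 := by
  classical
  obtain ⟨m, -, hm⟩ := IsCharacter.exists_decomp hχ
  obtain ⟨m', -, hm'⟩ := IsCharacter.exists_decomp hχ'
  intro h0
  rw [classInner_eq_sum (IsCharacter.isClassFunction hχ)] at h0
  have h2 : ∀ η : IrrCharacter G, classInner η.1 χ' = (m' η : ℂ) := fun η => by
    rw [← conj_classInner, hm', map_natCast]
  simp only [hm, h2] at h0
  have h3 : ∑ η, m η * m' η = 0 := by exact_mod_cast h0
  rcases Nat.mul_eq_zero.1 (Finset.sum_eq_zero_iff.1 h3 θ (Finset.mem_univ _)) with h4 | h4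
  · exact h (by rw [hm, h4, Nat.cast_zero])
  · exact h' (by rw [hm', h4, Nat.cast_zero])

variable (φ : T →* MulAut G) (N : Subgroup G) [N.Normal] [Fintype N] (hN : ∀ t, ∀ x ∈ N, φ t x ∈ N)

/-- A fixed character has a fixed constituent on an invariant normal subgroup whose index is
prime to the order of the operator group, one of the two being solvable. -/
theorem exists_fix_constituent_of_coprime_index (hcop : (Nat.card T).Coprime N.index)
    (hs : Group.IsSolvable T ∨ Group.IsSolvable (G ⧸ N)) {χ : IrrCharacter G} (hχ : IsFix φ χ.1) :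
    ∃ θ : IrrCharacter N,
      IsFix (restrictAut φ N hN) θ.1 ∧ classInner (resFun N χ.1) θ.1 ≠ 0 := by
  classical
  have hχc := IsCharacter.isClassFunction (irr_isCharacter χ)
  obtain ⟨θ₀, hθ₀⟩ := exists_constituent N χ
  letI := charAction (restrictAut φ N hN)
  let X : SubMulAction T (IrrCharacter N) :=
    { carrier := {η | classInner (resFun N χ.1) η.1 ≠ 0}
      smul_mem' := fun t η (hη : classInner (resFun N χ.1) η.1 ≠ 0) => by
        show classInner (resFun N χ.1) (t • η).1 ≠ 0
        refine fun h0 => hη (Eq.trans ?_ h0)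
        simp only [classInner]
        congr 1
        refine (Fintype.sum_equiv (restrictAut φ N hN t⁻¹).toEquiv _ _ fun n => ?_).symm
        show χ.1 n * conj (η.1 (restrictAut φ N hN t⁻¹ n)) =
          χ.1 (φ t⁻¹ n) * conj (η.1 (restrictAut φ N hN t⁻¹ n))
        rw [hχ] }
  have hmem : ∀ (g : G) (η : X), conjChar N η.1 g⁻¹ ∈ X := fun g η => by
    show classInner (resFun N χ.1) (conjChar N η.1 g⁻¹).1 ≠ 0
    rw [conjChar_coe, classInner_resFun_conjFun N hχc]
    exact η.2
  letI gact : MulAction G X :=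
    { smul := fun g η => ⟨conjChar N η.1 g⁻¹, hmem g η⟩
      one_smul := fun η => Subtype.ext (Subtype.ext (by
        show conjFun N η.1.1 1⁻¹ = η.1.1
        simp))
      mul_smul := fun g h η => Subtype.ext (Subtype.ext (by
        show conjFun N η.1.1 (g * h)⁻¹ = conjFun N (conjFun N η.1.1 h⁻¹) g⁻¹
        rw [mul_inv_rev, conjFun_mul])) }
  let b₀ : G →* Equiv.Perm X := MulAction.toPermHom G X
  have hker : N ≤ b₀.ker := fun g hg =>
    Equiv.ext fun η => Subtype.ext (conjChar_of_mem N η.1 (N.inv_mem hg))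
  have hX : ∀ η : X, classInner (resFun N χ.1) η.1.1 ≠ 0 := fun η => η.2
  haveI : Nonempty X := ⟨⟨θ₀, hθ₀⟩⟩
  have hcompat : ∀ t q, ∃ q', MulAction.toPermHom T X t * QuotientGroup.lift N b₀ hker q =
      QuotientGroup.lift N b₀ hker q' * MulAction.toPermHom T X t := by
    intro t q
    obtain ⟨g, rfl⟩ := QuotientGroup.mk_surjective q
    refine ⟨((φ t g : G) : G ⧸ N), Equiv.ext fun η =>
      Subtype.ext (Subtype.ext (funext fun n => ?_))⟩
    show η.1.1 (MulAut.conjNormal g⁻¹ (restrictAut φ N hN t⁻¹ n)) =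
      η.1.1 (restrictAut φ N hN t⁻¹ (MulAut.conjNormal (φ t g)⁻¹ n))
    refine congrArg η.1.1 (Subtype.ext ?_)
    have hc : φ t⁻¹ (φ t g) = g := by
      rw [← MulAut.mul_apply, ← map_mul, inv_mul_cancel, map_one, MulAut.one_apply]
    simp only [RelGlauberman.coe_restrictAut, MulAut.conjNormal_apply, inv_inv,
      map_mul (φ t⁻¹), map_inv (φ t⁻¹), hc]
  have htr : ∀ x y : X, ∃ q, QuotientGroup.lift N b₀ hker q x = y := by
    intro x y
    obtain ⟨g, hg⟩ := exists_conjChar_of_constituents N χ x.1 y.1 x.2 y.2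
    refine ⟨((g⁻¹ : G) : G ⧸ N), Subtype.ext ?_⟩
    show conjChar N x.1 g⁻¹⁻¹ = y.1
    rw [inv_inv, hg]
  obtain ⟨⟨η, hη⟩, hfix⟩ := exists_fixed_of_transitive (X := X) (MulAction.toPermHom T X)
    (QuotientGroup.lift N b₀ hker) hcompat htr
    (by rwa [← Subgroup.index_eq_card]) hs
  refine ⟨η, mem_fixedPoints_charAction.1 fun t => congrArg Subtype.val (hfix t), ?_⟩
  exact hX ⟨η, hη⟩

/-- Units-valued and complex-valued linear characters. -/
def homUnitsEquiv (A : Type w) [Group A] : (A →* ℂˣ) ≃ (A →* ℂ) where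
  toFun f := (Units.coeHom ℂ).comp f
  invFun f := f.toHomUnits
  left_inv f := MonoidHom.ext fun a => Units.ext rfl
  right_inv f := MonoidHom.ext fun a => rfl

/-- The step with abelian quotient. -/
theorem exists_fix_over_abelian (M : Subgroup G) [M.Normal] [Fintype M] (hM : ∀ t, ∀ x ∈ M, φ t x ∈ M)
    (hab : commutator G ≤ M) (hcop : (Nat.card T).Coprime M.index) (ψ : IrrCharacter M)
    (hψ : IsFix (restrictAut φ M hM) ψ.1) :
    ∃ χ : IrrCharacter G, IsFix φ χ.1 ∧ classInner (resFun M χ.1) ψ.1 ≠ 0 := by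
  classical
  have hcomm : ∀ a b : G ⧸ M, a * b = b * a := by
    intro a b
    obtain ⟨x, rfl⟩ := QuotientGroup.mk_surjective a
    obtain ⟨y, rfl⟩ := QuotientGroup.mk_surjective b
    rw [← QuotientGroup.mk_mul, ← QuotientGroup.mk_mul, QuotientGroup.eq]
    refine hab ?_
    rw [show (x * y)⁻¹ * (y * x) = ⁅y⁻¹, x⁻¹⁆ by rw [commutatorElement_def]; group]
    exact Subgroup.commutator_mem_commutator (Subgroup.mem_top _) (Subgroup.mem_top _)
  have hQcard : Nat.card ((G ⧸ M) →* ℂˣ) ∣ M.index := by
    rw [Nat.card_congr (homUnitsEquiv _), card_monoidHom_complex, Subgroup.index_eq_card M]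
    exact Subgroup.index_dvd_card _
  haveI : Finite ((G ⧸ M) →* ℂˣ) := Nat.finite_of_card_ne_zero fun h =>
    Subgroup.index_ne_zero_of_finite (Nat.eq_zero_of_zero_dvd (h ▸ hQcard))
  letI := charAction φ
  let X : SubMulAction T (IrrCharacter G) :=
    { carrier := {χ | classInner (resFun M χ.1) ψ.1 ≠ 0}
      smul_mem' := fun t χ (hχ : classInner (resFun M χ.1) ψ.1 ≠ 0) => by
        show classInner (resFun M (t • χ).1) ψ.1 ≠ 0
        refine fun h0 => hχ (Eq.trans ?_ h0)
        simp only [classInner]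
        congr 1
        refine (Fintype.sum_equiv (restrictAut φ M hM t⁻¹).toEquiv _ _ fun n => ?_).symm
        show χ.1 (φ t⁻¹ n) * conj (ψ.1 n) =
          χ.1 (φ t⁻¹ n) * conj (ψ.1 (restrictAut φ M hM t⁻¹ n))
        rw [hψ] }
  have hX : ∀ χ : X, classInner (resFun M χ.1.1) ψ.1 ≠ 0 := fun χ => χ.2
  let lin : ((G ⧸ M) →* ℂˣ) → (G →* ℂ) := fun l =>
    ((Units.coeHom ℂ).comp l).comp (QuotientGroup.mk' M)
  have hlin : ∀ l, ∀ x : M, lin l x = 1 := fun l x => by
    show ((l ((x : G) : G ⧸ M) : ℂˣ) : ℂ) = 1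
    rw [(QuotientGroup.eq_one_iff (x : G)).2 x.2, map_one]; rfl
  have hmem : ∀ (l : (G ⧸ M) →* ℂˣ) (χ : X),
      classInner (resFun M (χ.1.1 * ⇑(lin l))) ψ.1 ≠ 0 := fun l χ => by
    rw [show resFun M (χ.1.1 * ⇑(lin l)) = resFun M χ.1.1 from
      funext fun x => by simp [hlin]]
    exact χ.2
  have hmul : ∀ (l : (G ⧸ M) →* ℂˣ) (χ : X), IsIrrCharacter G (χ.1.1 * ⇑(lin l)) := fun l χ => by
    rw [mul_comm]; exact IsIrrCharacter.mul_linear χ.1.2 (lin l)
  letI : MulAction ((G ⧸ M) →* ℂˣ) X :=
    { smul := fun l χ => ⟨⟨_, hmul l χ⟩, hmem l χ⟩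
      one_smul := fun χ => Subtype.ext (Subtype.ext (funext fun g => by
        show χ.1.1 g * lin 1 g = χ.1.1 g
        simp [lin]))
      mul_smul := fun l l' χ => Subtype.ext (Subtype.ext (funext fun g => by
        show χ.1.1 g * lin (l * l') g = χ.1.1 g * lin l' g * lin l g
        simp [lin]; ring)) }
  haveI : Nonempty X := by
    obtain ⟨χ, hχ⟩ := Glauberman.exists_over M.subtype M.subtype_injective ψ
    exact ⟨⟨χ, hχ⟩⟩
  have hcompat : ∀ t l, ∃ l', MulAction.toPermHom T X t * MulAction.toPermHom ((G ⧸ M) →* ℂˣ) X l =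
      MulAction.toPermHom ((G ⧸ M) →* ℂˣ) X l' * MulAction.toPermHom T X t := by
    intro t l
    refine ⟨l.comp (quotAut φ M hM t⁻¹).toMonoidHom, Equiv.ext fun χ =>
      Subtype.ext (Subtype.ext (funext fun g => ?_))⟩
    show χ.1.1 (φ t⁻¹ g) * lin l (φ t⁻¹ g) =
      χ.1.1 (φ t⁻¹ g) * lin (l.comp (quotAut φ M hM t⁻¹).toMonoidHom) g
    rfl
  have htr : ∀ x y : X, ∃ l, MulAction.toPermHom ((G ⧸ M) →* ℂˣ) X l x = y := by
    intro x y
    have hne : classInner (resFun M y.1.1) (resFun M x.1.1) ≠ 0 :=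
      classInner_ne_zero_of_common (IsCharacter.restrict (irr_isCharacter y.1) M)
        (IsCharacter.restrict (irr_isCharacter x.1) M) ψ y.2 x.2
    have hxc := IsCharacter.isClassFunction (irr_isCharacter x.1)
    have hyc := IsCharacter.isClassFunction (irr_isCharacter y.1)
    by_contra! hno
    refine hne ?_
    show classInner (fun h : M => y.1.1 h) (resFun M x.1.1) = 0
    rw [← classInner_indFun_right M _ hyc, indFun_resFun_eq_sum M hxc, classInner_sum_right]
    refine Finset.sum_eq_zero fun β _ => ?_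
    obtain ⟨l, hl⟩ := IsCharacter.exists_monoidHom (irr_isCharacter β) (apply_one_of_comm hcomm β)
    have he : mulQuotient M x.1.1 β.1 = x.1.1 * ⇑(lin l.toHomUnits) := funext fun g => by
      rw [← hl]; rfl
    rw [classInner_smul_right, he, classInner_irr_of_ne y.1.2 (hmul l.toHomUnits x) ?_, mul_zero]
    intro h
    exact hno l.toHomUnits (Subtype.ext (Subtype.ext h.symm))
  obtain ⟨⟨χ, hχ⟩, hfix⟩ := exists_fixed_of_transitive (X := X) (MulAction.toPermHom T X)
    (MulAction.toPermHom ((G ⧸ M) →* ℂˣ) X) hcompat htr (hcop.coprime_dvd_right hQcard)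
    (Or.inr (Group.isSolvable_of_comm fun a b => mul_comm a b))
  refine ⟨χ, mem_fixedPoints_charAction.1 fun t => congrArg Subtype.val (hfix t), ?_⟩
  exact hX ⟨χ, hχ⟩

private theorem fixOverAux (n : ℕ) : ∀ (G : Type u) [Group G] [Fintype G] (φ : T →* MulAut G)
    (N : Subgroup G) [N.Normal] [Fintype N], N.index = n → (hN : ∀ t, ∀ x ∈ N, φ t x ∈ N) →
    (Nat.card T).Coprime N.index → Group.IsSolvable (G ⧸ N) → ∀ θ : IrrCharacter N,
      IsFix (restrictAut φ N hN) θ.1 →
      ∃ χ : IrrCharacter G, IsFix φ χ.1 ∧ classInner (resFun N χ.1) θ.1 ≠ 0 := by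
  induction n using Nat.strong_induction_on with
  | _ n ih =>
    intro G _ _ φ N _ _ hn hN hcop hs θ hθ
    rcases eq_or_ne N ⊤ with hT | hT
    · let e : G ≃* N := ((MulEquiv.subgroupCongr hT).trans Subgroup.topEquiv).symm
      refine ⟨⟨fun g => θ.1 (e g), IsIrrCharacter.comp_surjective θ.2 e.toMonoidHom e.surjective⟩,
        fun t g => ?_, ?_⟩
      · exact (congrArg θ.1 (Subtype.ext rfl)).trans (hθ t (e g))
      · rw [show resFun N (fun g => θ.1 (e g)) = θ.1 from
          funext fun x => congrArg θ.1 (Subtype.ext rfl), classInner_irr_self θ.2]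
        exact one_ne_zero
    haveI := hs
    haveI : Nontrivial (G ⧸ N) := QuotientGroup.nontrivial_iff.2 hT
    set M := (commutator (G ⧸ N)).comap (QuotientGroup.mk' N) with hMdef
    have hNM : N ≤ M := fun x hx => by
      rw [hMdef, Subgroup.mem_comap, QuotientGroup.mk'_apply, (QuotientGroup.eq_one_iff x).2 hx]
      exact one_mem _
    have hMinv : ∀ t, ∀ x ∈ M, φ t x ∈ M := fun t x hx => by
      have h := Subgroup.mem_map_of_mem (quotAut φ N hN t).toMonoidHom (Subgroup.mem_comap.1 hx)
      rw [commutator_def, Subgroup.map_commutator] at h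
      exact Subgroup.mem_comap.2 (Subgroup.commutator_mono le_top le_top h)
    have hlt : N.relIndex M < N.index := by
      rw [← Subgroup.relIndex_mul_index hNM]
      refine (Nat.lt_mul_iff_one_lt_right (Nat.pos_of_ne_zero Subgroup.index_ne_zero_of_finite)).2 ?_
      refine lt_of_le_of_ne (Nat.pos_of_ne_zero Subgroup.index_ne_zero_of_finite) fun h => ?_
      have h' : M = ⊤ := Subgroup.index_eq_one.1 h.symm
      refine (Group.IsSolvable.commutator_lt_top_of_nontrivial (G := G ⧸ N)).ne ?_
      rw [← Subgroup.map_comap_eq_self_of_surjective (QuotientGroup.mk'_surjective N)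
        (commutator (G ⧸ N)), ← hMdef, h', Subgroup.map_top_of_surjective _
        (QuotientGroup.mk'_surjective N)]
    haveI : Fintype M := Fintype.ofFinite M
    haveI : Fintype (N.subgroupOf M) := Fintype.ofFinite _
    have hNM' : ∀ t, ∀ x ∈ N.subgroupOf M, restrictAut φ M hMinv t x ∈ N.subgroupOf M :=
      fun t x hx => Subgroup.mem_subgroupOf.2 (hN t _ (Subgroup.mem_subgroupOf.1 hx))
    have hsM : Group.IsSolvable (M ⧸ N.subgroupOf M) :=
      Group.isSolvable_of_isSolvable_injective
        (f := QuotientGroup.map (N.subgroupOf M) N M.subtype fun x hx => hx)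
        ((injective_iff_map_eq_one _).2 fun q hq => by
          obtain ⟨x, rfl⟩ := QuotientGroup.mk_surjective q
          have hq' : (((x : M) : G) : G ⧸ N) = 1 := hq
          exact (QuotientGroup.eq_one_iff x).2 ((QuotientGroup.eq_one_iff (x : G)).1 hq'))
    obtain ⟨ψ, hψ, hover⟩ := ih _ (hn ▸ hlt) M (restrictAut φ M hMinv) (N.subgroupOf M) rfl hNM'
      (hcop.coprime_dvd_right (Dvd.intro _ (Subgroup.relIndex_mul_index hNM))) hsM
      (toSubgroupOf N hNM θ) fun t x => hθ t ⟨((x : M) : G), Subgroup.mem_subgroupOf.1 x.2⟩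
    have hab : commutator G ≤ M := by
      rw [hMdef, ← Subgroup.map_le_iff_le_comap, commutator_def, commutator_def,
        Subgroup.map_commutator]
      exact Subgroup.commutator_mono le_top le_top
    obtain ⟨χ, hχ, hχψ⟩ := exists_fix_over_abelian φ M hMinv hab
      (hcop.coprime_dvd_right (Subgroup.index_dvd_of_le hNM)) ψ hψ
    refine ⟨χ, hχ, fun h0 => hχψ ?_⟩
    rw [classInner_toSubgroupOf N hNM] at hover
    exact classInner_eq_zero_of_comp (Subgroup.inclusion hNM)
      (IsCharacter.restrict (irr_isCharacter χ) M) ψ θ h0 hover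

/-- A fixed character of an invariant normal subgroup lies under a fixed one when the quotient is
solvable of order prime to the operator group. -/
theorem exists_fix_over_of_isSolvable_quotient (hcop : (Nat.card T).Coprime N.index)
    (hs : Group.IsSolvable (G ⧸ N)) (θ : IrrCharacter N) (hθ : IsFix (restrictAut φ N hN) θ.1) :
    ∃ χ : IrrCharacter G, IsFix φ χ.1 ∧ classInner (resFun N χ.1) θ.1 ≠ 0 :=
  fixOverAux N.index G φ N rfl hN hcop hs θ hθ

end Cfsg.Agent.Char
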