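import Cfsg.Agent.Lib.Char.NormalAction

/-!
# The Clifford correspondence

`inertia N θ` is the inertia group of an irreducible character `θ` of a normal subgroup `N`, and
induction is a bijection from its irreducible characters over `θ` to those of `G` over `θ`.
-/

set_option linter.style.haveILetI false

namespace Cfsg.Agent.Char

open scoped ComplexConjugate

universe u

variable {G : Type u} [Group G] (N : Subgroup G) [N.Normal]

/-- The inertia group. -/
def inertia (θ : N → ℂ) : Subgroup G where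
  carrier := {g | conjFun N θ g = θ}
  one_mem' := conjFun_one N θ
  mul_mem' {a b} ha hb := by
    show conjFun N θ (a * b) = θ
    rw [conjFun_mul, ha, hb]
  inv_mem' {a} ha := (conjFun_eq_iff N θ θ a).1 ha

theorem mem_inertia {θ : N → ℂ} {g : G} : g ∈ inertia N θ ↔ conjFun N θ g = θ := Iff.rfl

theorem mem_inertia_iff {θ : N → ℂ} {g : G} :
    g ∈ inertia N θ ↔ ∀ n n' : N, (n' : G) = g * (n : G) * g⁻¹ → θ n' = θ n :=
  (mem_inertia N).trans (conjFun_eq_self_iff N θ g)

theorem le_inertia {θ : N → ℂ} (hθ : IsClassFunction N θ) : N ≤ inertia N θ := fun g hg =>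
  funext fun n => by
    show θ (MulAut.conjNormal g n) = θ n
    rw [show MulAut.conjNormal g n = ⟨g, hg⟩ * n * ⟨g, hg⟩⁻¹ from Subtype.ext (by simp)]
    exact hθ n ⟨g, hg⟩

theorem irr_le_inertia (θ : IrrCharacter N) : N ≤ inertia N θ.1 :=
  le_inertia N (IsCharacter.isClassFunction (irr_isCharacter θ))

/-- Restriction of a function on an overgroup `I` of `N` to `N`. -/
def resIncl {I : Subgroup G} (h : N ≤ I) (ψ : I → ℂ) : N → ℂ :=
  fun n => ψ (Subgroup.inclusion h n)

omit [N.Normal] in
@[simp] theorem resIncl_apply {I : Subgroup G} (h : N ≤ I) (ψ : I → ℂ) (n : N) :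
    resIncl N h ψ n = ψ (Subgroup.inclusion h n) := rfl

variable [Fintype G]

theorem index_inertia [Fintype N] (θ : IrrCharacter N) :
    (inertia N θ.1).index = (orbitFinset N θ).card := by
  classical
  letI := irrConjAction N
  have h1 : inertia N θ.1 = MulAction.stabilizer G θ := by
    ext g
    rw [MulAction.mem_stabilizer_iff, mem_inertia, irrConjAction_smul, Subtype.ext_iff, conjChar_coe,
      ← conjFun_eq_iff]
  rw [h1, MulAction.index_stabilizer, ← Set.ncard_coe_finset]
  congr 1
  ext η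
  rw [Finset.mem_coe, mem_orbitFinset]
  constructor
  · rintro ⟨g, rfl⟩
    exact ⟨g⁻¹, rfl⟩
  · rintro ⟨g, rfl⟩
    exact ⟨g⁻¹, by show conjChar N θ g⁻¹⁻¹ = _; rw [inv_inv]⟩

variable [Fintype N]

/-- Clifford for an invariant character: the restriction is a multiple of it. -/
theorem resFun_eq_smul_of_invariant (χ : IrrCharacter G) (θ : IrrCharacter N)
    (hinv : ∀ g, conjFun N θ.1 g = θ.1) (h : classInner (resFun N χ.1) θ.1 ≠ 0) :
    resFun N χ.1 = classInner (resFun N χ.1) θ.1 • θ.1 := by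
  classical
  conv_lhs => rw [resFun_eq_smul_orbitSum N χ θ h]
  have : orbitFinset N θ = {θ} := Finset.eq_singleton_iff_unique_mem.2
    ⟨(mem_orbitFinset N).2 ⟨1, Subtype.ext (conjFun_one N θ.1).symm⟩, fun η hη => by
      obtain ⟨g, rfl⟩ := (mem_orbitFinset N).1 hη
      exact Subtype.ext (hinv g)⟩
  rw [orbitSum, this, Finset.sum_singleton]

/-- Clifford for an invariant character, relative to an overgroup of `N` fixing it. -/
theorem resIncl_eq_smul_of_invariant {I : Subgroup G} [Fintype I] (hNI : N ≤ I) (θ : IrrCharacter N)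
    (hinv : ∀ g ∈ I, conjFun N θ.1 g = θ.1) (ψ : IrrCharacter I)
    (h : classInner (resIncl N hNI ψ.1) θ.1 ≠ 0) :
    resIncl N hNI ψ.1 = classInner (resIncl N hNI ψ.1) θ.1 • θ.1 := by
  classical
  haveI := Fintype.ofFinite (N.subgroupOf I)
  set e : ↥(N.subgroupOf I) ≃* ↥N := Subgroup.subgroupOfEquivOfLe hNI
  let θ' : IrrCharacter (N.subgroupOf I) :=
    ⟨fun x => θ.1 (e x), IsIrrCharacter.comp_surjective θ.2 e.toMonoidHom e.surjective⟩
  have hinv' : ∀ g : I, conjFun (N.subgroupOf I) θ'.1 g = θ'.1 := fun g => funext fun x => by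
    have := congrFun (hinv g g.2) (e x)
    refine Eq.trans ?_ this
    exact congrArg θ.1 (Subtype.ext (by simp [e, Subgroup.subgroupOfEquivOfLe]))
  have hin : classInner (resFun (N.subgroupOf I) ψ.1) θ'.1 = classInner (resIncl N hNI ψ.1) θ.1 := by
    simp only [classInner, Nat.card_congr e.toEquiv]
    congr 1
    exact Fintype.sum_equiv e.toEquiv _ _ fun x => rfl
  have key := resFun_eq_smul_of_invariant (N.subgroupOf I) ψ θ' hinv' (by rw [hin]; exact h)
  rw [hin] at key
  funext n
  have := congrFun key (e.symm n)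
  simp only [resFun_apply, Pi.smul_apply, θ', MulEquiv.apply_symm_apply] at this
  exact this

theorem exists_nat_classInner_resIncl {I : Subgroup G} (hNI : N ≤ I) (θ : IrrCharacter N)
    (ψ : IrrCharacter I) : ∃ k : ℕ, classInner (resIncl N hNI ψ.1) θ.1 = k :=
  IsCharacter.exists_nat_classInner
    (IsCharacter.comp (irr_isCharacter ψ) (Subgroup.inclusion hNI)) (irr_isCharacter θ)

/-- A character of the inertia group over `θ` restricts to a positive multiple of `θ`. -/
theorem exists_mult_of_over_inertia (θ : IrrCharacter N) [Fintype (inertia N θ.1)]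
    (ψ : IrrCharacter (inertia N θ.1))
    (h : classInner (resIncl N (irr_le_inertia N θ) ψ.1) θ.1 ≠ 0) :
    ∃ e : ℕ, e ≠ 0 ∧ classInner (resIncl N (irr_le_inertia N θ) ψ.1) θ.1 = e ∧
      ∀ n : N, ψ.1 ⟨n, irr_le_inertia N θ n.2⟩ = e * θ.1 n := by
  obtain ⟨k, hk⟩ := exists_nat_classInner_resIncl N (irr_le_inertia N θ) θ ψ
  refine ⟨k, fun h0 => h (by rw [hk, h0, Nat.cast_zero]), hk, fun n => ?_⟩
  have := congrFun (resIncl_eq_smul_of_invariant N (irr_le_inertia N θ) θ (fun g hg => hg) ψ h) n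
  rw [Pi.smul_apply, hk] at this
  exact this

/-- The induced character of a character of the inertia group over `θ`. -/
noncomputable def cliffordInduce (θ : IrrCharacter N) [Fintype (inertia N θ.1)]
    (ψ : {ψ : IrrCharacter (inertia N θ.1) //
      classInner (resIncl N (irr_le_inertia N θ) ψ.1) θ.1 ≠ 0}) : IrrCharacter G :=
  ⟨indFun _ ψ.1.1, by
    obtain ⟨e, he, -, hres⟩ := exists_mult_of_over_inertia N θ ψ.1 ψ.2
    exact isIrrCharacter_indFun_inertia N _ (irr_le_inertia N θ) θ (fun g hg => hg) he hres⟩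

@[simp] theorem cliffordInduce_coe (θ : IrrCharacter N) [Fintype (inertia N θ.1)]
    (ψ : {ψ : IrrCharacter (inertia N θ.1) //
      classInner (resIncl N (irr_le_inertia N θ) ψ.1) θ.1 ≠ 0}) :
    (cliffordInduce N θ ψ).1 = indFun (inertia N θ.1) ψ.1.1 := rfl

/-- Induction from the inertia group preserves the multiplicity of `θ`. -/
theorem classInner_resFun_cliffordInduce (θ : IrrCharacter N) [Fintype (inertia N θ.1)]
    (ψ : {ψ : IrrCharacter (inertia N θ.1) //
      classInner (resIncl N (irr_le_inertia N θ) ψ.1) θ.1 ≠ 0}) :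
    classInner (resFun N (cliffordInduce N θ ψ).1) θ.1 =
      classInner (resIncl N (irr_le_inertia N θ) ψ.1.1) θ.1 := by
  obtain ⟨e, he, hk, hres⟩ := exists_mult_of_over_inertia N θ ψ.1 ψ.2
  rw [cliffordInduce_coe, hk, classInner_resFun_indFun_inertia N _ (irr_le_inertia N θ) θ
    (fun g hg => hg) (IsCharacter.isClassFunction (irr_isCharacter ψ.1)) (Nat.cast_ne_zero.2 he)
    hres]

theorem cliffordInduce_apply_one (θ : IrrCharacter N) [Fintype (inertia N θ.1)]
    (ψ : {ψ : IrrCharacter (inertia N θ.1) //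
      classInner (resIncl N (irr_le_inertia N θ) ψ.1) θ.1 ≠ 0}) :
    (cliffordInduce N θ ψ).1 1 = ((inertia N θ.1).index : ℂ) * ψ.1.1 1 :=
  indFun_apply_one _ _

/-- The Clifford correspondence. -/
theorem cliffordInduce_bijective (θ : IrrCharacter N) [Fintype (inertia N θ.1)] :
    Function.Injective (cliffordInduce N θ) ∧
      ∀ χ : IrrCharacter G, classInner (resFun N χ.1) θ.1 ≠ 0 → ∃ ψ, cliffordInduce N θ ψ = χ := by
  refine ⟨fun ψ ψ' h => ?_, fun χ hχ => ?_⟩
  · obtain ⟨e, he, -, hres⟩ := exists_mult_of_over_inertia N θ ψ.1 ψ.2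
    obtain ⟨e', he', -, hres'⟩ := exists_mult_of_over_inertia N θ ψ'.1 ψ'.2
    exact Subtype.ext (indFun_inertia_injective N _ (irr_le_inertia N θ) θ (fun g hg => hg)
      he he' hres hres' (congrArg Subtype.val h))
  · set I := inertia N θ.1
    obtain ⟨m, hm, hm'⟩ := IsCharacter.exists_decomp (IsCharacter.restrict (irr_isCharacter χ) I)
    obtain ⟨ψ, hψ⟩ : ∃ ψ : IrrCharacter I,
        m ψ ≠ 0 ∧ classInner (resIncl N (irr_le_inertia N θ) ψ.1) θ.1 ≠ 0 := by
      by_contra! hcon
      refine hχ ?_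
      have hrw : resFun N χ.1 =
          ∑ ψ : IrrCharacter I, (m ψ : ℂ) • resIncl N (irr_le_inertia N θ) ψ.1 := by
        funext n
        have := congrFun hm (Subgroup.inclusion (irr_le_inertia N θ) n)
        simpa using this
      rw [hrw, classInner_sum_left]
      refine Finset.sum_eq_zero fun ψ _ => ?_
      rw [classInner_smul_left]
      by_cases h0 : m ψ = 0
      · rw [h0, Nat.cast_zero, zero_mul]
      · rw [hcon ψ h0, mul_zero]
    refine ⟨⟨ψ, hψ.2⟩, ?_⟩
    by_contra hne
    have h0 := classInner_irr_of_ne χ.2 (cliffordInduce N θ ⟨ψ, hψ.2⟩).2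
      fun h => hne (Subtype.ext h.symm)
    rw [cliffordInduce_coe,
      classInner_indFun_right _ _ (IsCharacter.isClassFunction (irr_isCharacter χ)), hm'] at h0
    exact hψ.1 (by exact_mod_cast h0)

/-- The Clifford correspondence as an equivalence. -/
noncomputable def cliffordEquiv (θ : IrrCharacter N) [Fintype (inertia N θ.1)] :
    {ψ : IrrCharacter (inertia N θ.1) //
      classInner (resIncl N (irr_le_inertia N θ) ψ.1) θ.1 ≠ 0} ≃
    {χ : IrrCharacter G // classInner (resFun N χ.1) θ.1 ≠ 0} :=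
  Equiv.ofBijective
    (fun ψ => ⟨cliffordInduce N θ ψ, by rw [classInner_resFun_cliffordInduce]; exact ψ.2⟩)
    ⟨fun _ _ h => (cliffordInduce_bijective N θ).1 (congrArg Subtype.val h), fun χ => by
      obtain ⟨ψ, hψ⟩ := (cliffordInduce_bijective N θ).2 χ.1 χ.2
      exact ⟨ψ, Subtype.ext hψ⟩⟩

end Cfsg.Agent.Char
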