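import Cfsg.Agent.Lib.Char.Basic
import Mathlib.Analysis.Complex.Polynomial.Basic
import Mathlib.LinearAlgebra.Matrix.Trace

/-!
# Characters irreducible on a normal subgroup

If an irreducible character `χ` of `G` stays irreducible on the normal subgroup `N`, then for
every `g` the sum over `n ∈ N` of `|χ (g n)|²` is `|N|`.  So `χ` is nonzero somewhere on every
coset, and multiplication by linear characters of `G/N` is injective on its translates.
-/

namespace Cfsg.Agent.Char

open scoped ComplexConjugate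
open Representation Matrix

variable {N : Type*} [Group N] [Fintype N]

theorem sum_conj_endo_eq_trace {d : ℕ} (σ : Representation ℂ N (Fin d → ℂ)) [σ.IsIrreducible]
    (X : Module.End ℂ (Fin d → ℂ)) :
    ((d : ℂ)) • (∑ n : N, σ n * X * σ n⁻¹) =
      ((Nat.card N : ℂ) * LinearMap.trace ℂ _ X) • (1 : Module.End ℂ (Fin d → ℂ)) := by
  classical
  set T : Module.End ℂ (Fin d → ℂ) := ∑ n : N, σ n * X * σ n⁻¹ with hT
  have hcomm : ∀ g : N, T * σ g = σ g * T := fun g => by
    rw [hT, Finset.sum_mul, Finset.mul_sum]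
    refine Fintype.sum_equiv (Equiv.mulLeft g⁻¹) _ _ fun n => ?_
    simp only [Equiv.coe_mulLeft, mul_assoc, ← map_mul]
    rw [← mul_assoc (σ g), ← map_mul]
    group
  let φ : IntertwiningMap σ σ :=
    { toLinearMap := T
      isIntertwining' := hcomm }
  obtain ⟨c, hc⟩ :=
    (IsIrreducible.algebraMap_intertwiningMap_bijective_of_isAlgClosed (ρ := σ)).2 φ
  have hTc : T = c • (1 : Module.End ℂ (Fin d → ℂ)) :=
    (congrArg IntertwiningMap.toLinearMap hc).symm
  have htr : (Nat.card N : ℂ) * LinearMap.trace ℂ _ X = c * d := by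
    calc (Nat.card N : ℂ) * LinearMap.trace ℂ _ X = LinearMap.trace ℂ _ T := by
          rw [hT, map_sum, Finset.sum_congr rfl fun n _ => LinearMap.trace_mul_cycle ℂ (σ n) X (σ n⁻¹)]
          simp [← map_mul]
      _ = c * d := by rw [hTc]; simp [LinearMap.trace_one]
  rw [htr, hTc, smul_smul, mul_comm]

/-- Schur orthogonality of matrix coefficients, in trace form. -/
theorem sum_trace_mul_trace {d : ℕ} (σ : Representation ℂ N (Fin d → ℂ)) [σ.IsIrreducible]
    (A B : Module.End ℂ (Fin d → ℂ)) :
    (d : ℂ) * ∑ n : N, LinearMap.trace ℂ _ (A * σ n) * LinearMap.trace ℂ _ (σ n⁻¹ * B) =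
      (Nat.card N : ℂ) * LinearMap.trace ℂ _ (A * B) := by
  classical
  set e := LinearMap.toMatrixAlgEquiv' (R := ℂ) (n := Fin d) with he
  have htr : ∀ X : Module.End ℂ (Fin d → ℂ), LinearMap.trace ℂ _ X = (e X).trace := fun X => by
    rw [LinearMap.trace_eq_matrix_trace ℂ (Pi.basisFun ℂ (Fin d)),
      LinearMap.toMatrix_eq_toMatrix']
    rfl
  have key : ∀ i j k l : Fin d, (d : ℂ) * ∑ n : N, e (σ n) i j * e (σ n⁻¹) k l =
      if i = l ∧ j = k then (Nat.card N : ℂ) else 0 := fun i j k l => by
    have h := congrArg (fun X => e X i l)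
      (sum_conj_endo_eq_trace σ (e.symm (Matrix.single j k 1)))
    simp only [map_smul, map_sum, map_mul, AlgEquiv.apply_symm_apply, map_one, Matrix.smul_apply,
      Matrix.sum_apply, smul_eq_mul, htr, Matrix.one_apply] at h
    rw [Finset.mul_sum] at h ⊢
    refine (Eq.trans ?_ h).trans ?_
    · refine Finset.sum_congr rfl fun n _ => congrArg ((d : ℂ) * ·) ?_
      rw [Matrix.mul_apply, Finset.sum_eq_single k]
      · rw [Matrix.mul_single_apply_same, mul_one]
      · intro x _ hx
        rw [Matrix.mul_single_apply_of_ne _ _ _ _ _ hx, zero_mul]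
      · exact fun hk => absurd (Finset.mem_univ k) hk
    · by_cases hjk : j = k
      · subst hjk; simp [Matrix.trace_single_eq_same]
      · simp [hjk, Matrix.trace_single_eq_of_ne _ _ _ hjk]
  have htr2 : ∀ X Y : Module.End ℂ (Fin d → ℂ), LinearMap.trace ℂ _ (X * Y) =
      ∑ p : Fin d × Fin d, e X p.1 p.2 * e Y p.2 p.1 := fun X Y => by
    rw [htr, map_mul, Fintype.sum_prod_type]
    simp [Matrix.trace, Matrix.mul_apply]
  calc (d : ℂ) * ∑ n : N, LinearMap.trace ℂ _ (A * σ n) * LinearMap.trace ℂ _ (σ n⁻¹ * B)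
      = ∑ p : Fin d × Fin d, ∑ q : Fin d × Fin d, e A p.1 p.2 * e B q.2 q.1 *
          ((d : ℂ) * ∑ n : N, e (σ n) p.2 p.1 * e (σ n⁻¹) q.1 q.2) := by
        simp only [htr2, Finset.sum_mul, Finset.mul_sum]
        conv_rhs => rw [Finset.sum_comm]
        rw [Finset.sum_comm]
        refine Finset.sum_congr rfl fun p _ => ?_
        rw [Finset.sum_comm]
        refine Finset.sum_congr rfl fun q _ => Finset.sum_congr rfl fun n _ => ?_
        ring
    _ = _ := by
        rw [htr2, Finset.mul_sum]
        refine Finset.sum_congr rfl fun p _ => ?_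
        rw [Finset.sum_eq_single (p.1, p.2)]
        · simp only [key, and_self, if_true]; ring
        · intro q _ hq
          rw [key, if_neg, mul_zero]
          rintro ⟨h1, h2⟩
          exact hq (Prod.ext h2.symm h1.symm)
        · exact fun hp => absurd (Finset.mem_univ _) hp

end Cfsg.Agent.Char
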