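import Cfsg.Agent.Lib.Char.CliffordCorrespondence
import Cfsg.Agent.Lib.Char.Gallagher

/-!
# The Clifford–Gallagher parametrisation

If `θ ∈ Irr N` extends to its inertia group `I`, then `β ↦ (ext * β)^G` is a bijection from
`Irr (I / N)` to the irreducible characters of `G` over `θ`.
-/

set_option linter.style.haveILetI false
set_option linter.unusedSectionVars false

namespace Cfsg.Agent.Char

open scoped ComplexConjugate

universe u v w

/-- If `θ` does not occur in `χ ∘ f` but occurs in `ψ ∘ f`, then `ψ` does not occur in `χ`. -/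
theorem classInner_eq_zero_of_comp {L : Type u} [Group L] [Fintype L] {M : Type v} [Group M]
    [Fintype M] (f : M →* L) {χ : L → ℂ} (hχ : IsCharacter L χ) (ψ : IrrCharacter L)
    (θ : IrrCharacter M) (h0 : classInner (fun m => χ (f m)) θ.1 = 0)
    (h1 : classInner (fun m => ψ.1 (f m)) θ.1 ≠ 0) : classInner χ ψ.1 = 0 := by
  classical
  obtain ⟨m, hm, hm'⟩ := IsCharacter.exists_decomp hχ
  choose k hk using fun η : IrrCharacter L => IsCharacter.exists_nat_classInner
    (IsCharacter.comp (irr_isCharacter η) f) (irr_isCharacter θ)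
  have h : ((∑ η, m η * k η : ℕ) : ℂ) = 0 := by
    rw [← h0, show (fun x => χ (f x)) = ∑ η : IrrCharacter L, (m η : ℂ) • fun x => η.1 (f x) from
      funext fun x => by have := congrFun hm (f x); simpa using this, classInner_sum_left]
    push_cast
    exact Finset.sum_congr rfl fun η _ => by rw [classInner_smul_left, hk]
  have := Finset.sum_eq_zero_iff.1 (Nat.cast_eq_zero.1 h) ψ (Finset.mem_univ ψ)
  rcases Nat.mul_eq_zero.1 this with h' | h'
  · rw [hm', h', Nat.cast_zero]
  · exact absurd (by rw [hk, h', Nat.cast_zero]) h1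

section Transport

variable {G : Type u} [Group G] (N : Subgroup G) [N.Normal] {I : Subgroup G} (hNI : N ≤ I)

/-- A character of `N` read on `N.subgroupOf I`. -/
noncomputable def toSubgroupOf (θ : IrrCharacter N) : IrrCharacter (N.subgroupOf I) :=
  ⟨fun x => θ.1 (Subgroup.subgroupOfEquivOfLe hNI x),
    IsIrrCharacter.comp_surjective θ.2 (Subgroup.subgroupOfEquivOfLe hNI).toMonoidHom
      (Subgroup.subgroupOfEquivOfLe hNI).surjective⟩

theorem toSubgroupOf_apply (θ : IrrCharacter N) (x : N.subgroupOf I) :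
    (toSubgroupOf N hNI θ).1 x = θ.1 ⟨((x : I) : G), Subgroup.mem_subgroupOf.1 x.2⟩ := rfl

theorem conjFun_toSubgroupOf_iff (θ : IrrCharacter N) (g : I) :
    conjFun (N.subgroupOf I) (toSubgroupOf N hNI θ).1 g = (toSubgroupOf N hNI θ).1 ↔
      conjFun N θ.1 (g : G) = θ.1 := by
  constructor
  · intro h
    funext n
    refine Eq.trans ?_ (congrFun h ⟨⟨n, hNI n.2⟩, n.2⟩)
    exact congrArg θ.1 (Subtype.ext (by simp [Subgroup.subgroupOfEquivOfLe]))
  · intro h
    funext x
    refine Eq.trans ?_ (congrFun h ⟨((x : I) : G), Subgroup.mem_subgroupOf.1 x.2⟩)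
    exact congrArg θ.1 (Subtype.ext (by simp [Subgroup.subgroupOfEquivOfLe]))

theorem classInner_toSubgroupOf [Fintype N] [Fintype (N.subgroupOf I)] (f : I → ℂ)
    (θ : IrrCharacter N) :
    classInner (resFun (N.subgroupOf I) f) (toSubgroupOf N hNI θ).1 =
      classInner (resIncl N hNI f) θ.1 := by
  simp only [classInner, Nat.card_congr (Subgroup.subgroupOfEquivOfLe hNI).toEquiv]
  congr 1
  exact Fintype.sum_equiv (Subgroup.subgroupOfEquivOfLe hNI).toEquiv _ _ fun x => rfl

end Transport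

section Lift

variable {G : Type u} [Group G] [Fintype G] {N : Subgroup G} [N.Normal] [Fintype N]
variable {θ : IrrCharacter N} {I : Subgroup G} [Fintype I] (hNI : N ≤ I)
  (hI : ∀ g, g ∈ I ↔ conjFun N θ.1 g = θ.1) {ext : IrrCharacter I}
  (hext : ∀ n : N, ext.1 ⟨n, hNI n.2⟩ = θ.1 n)

include hext in
theorem resFun_ext_eq : resFun (N.subgroupOf I) ext.1 = (toSubgroupOf N hNI θ).1 :=
  funext fun x => hext ⟨((x : I) : G), Subgroup.mem_subgroupOf.1 x.2⟩

include hext in
theorem mulQuotient_ext_apply (β : IrrCharacter (I ⧸ N.subgroupOf I)) (n : N) :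
    mulQuotient (N.subgroupOf I) ext.1 β.1 ⟨n, hNI n.2⟩ = (degree β : ℂ) * θ.1 n := by
  rw [mulQuotient_apply, hext, (QuotientGroup.eq_one_iff (⟨(n : G), hNI n.2⟩ : I)).2
    (Subgroup.mem_subgroupOf.2 n.2), apply_one_eq_degree, mul_comm]

include hext in
theorem isIrr_mulQuotient_ext (β : IrrCharacter (I ⧸ N.subgroupOf I)) :
    IsIrrCharacter I (mulQuotient (N.subgroupOf I) ext.1 β.1) := by
  haveI := Fintype.ofFinite (N.subgroupOf I)
  exact isIrrCharacter_mulQuotient _ ext
    (by rw [resFun_ext_eq hNI hext]; exact (toSubgroupOf N hNI θ).2) β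

/-- The character of `G` over `θ` attached to a character of `I / N`. -/
noncomputable def cgLift (hI : ∀ g, g ∈ I ↔ conjFun N θ.1 g = θ.1)
    (hext : ∀ n : N, ext.1 ⟨n, hNI n.2⟩ = θ.1 n) (β : IrrCharacter (I ⧸ N.subgroupOf I)) :
    IrrCharacter G :=
  ⟨indFun I (mulQuotient (N.subgroupOf I) ext.1 β.1),
    isIrrCharacter_indFun_inertia N I hNI θ (fun g hg => (hI g).2 hg)
      (ψ := ⟨_, isIrr_mulQuotient_ext hNI hext β⟩) (degree_pos β).ne'
      (mulQuotient_ext_apply hNI hext β)⟩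

theorem cgLift_coe (β : IrrCharacter (I ⧸ N.subgroupOf I)) :
    (cgLift hNI hI hext β).1 = indFun I (mulQuotient (N.subgroupOf I) ext.1 β.1) := rfl

theorem classInner_resFun_cgLift (β : IrrCharacter (I ⧸ N.subgroupOf I)) :
    classInner (resFun N (cgLift hNI hI hext β).1) θ.1 = (degree β : ℂ) :=
  classInner_resFun_indFun_inertia N I hNI θ (fun g hg => (hI g).2 hg)
    (IsCharacter.isClassFunction (IsIrrCharacter.isCharacter (isIrr_mulQuotient_ext hNI hext β)))
    (Nat.cast_ne_zero.2 (degree_pos β).ne') (mulQuotient_ext_apply hNI hext β)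

theorem cgLift_over (β : IrrCharacter (I ⧸ N.subgroupOf I)) :
    classInner (resFun N (cgLift hNI hI hext β).1) θ.1 ≠ 0 := by
  rw [classInner_resFun_cgLift]; exact Nat.cast_ne_zero.2 (degree_pos β).ne'

theorem cgLift_apply_one (β : IrrCharacter (I ⧸ N.subgroupOf I)) :
    (cgLift hNI hI hext β).1 1 = (I.index : ℂ) * (θ.1 1 * β.1 1) := by
  rw [cgLift_coe, indFun_apply_one, mulQuotient_apply, QuotientGroup.mk_one,
    show (1 : I) = ⟨((1 : N) : G), hNI (1 : N).2⟩ from rfl, hext]

theorem cgLift_injective : Function.Injective (cgLift hNI hI hext) := fun β β' h => by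
  haveI := Fintype.ofFinite (N.subgroupOf I)
  have h1 := indFun_inertia_injective N I hNI θ (fun g hg => (hI g).2 hg)
    (ψ := ⟨_, isIrr_mulQuotient_ext hNI hext β⟩) (ψ' := ⟨_, isIrr_mulQuotient_ext hNI hext β'⟩)
    (degree_pos β).ne' (degree_pos β').ne' (mulQuotient_ext_apply hNI hext β)
    (mulQuotient_ext_apply hNI hext β') (congrArg Subtype.val h)
  exact mulQuotient_injective _ ext
    (by rw [resFun_ext_eq hNI hext]; exact (toSubgroupOf N hNI θ).2) (congrArg Subtype.val h1)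

theorem exists_cgLift_eq (χ : IrrCharacter G) (hχ : classInner (resFun N χ.1) θ.1 ≠ 0) :
    ∃ β, cgLift hNI hI hext β = χ := by
  have hIeq : I = inertia N θ.1 := Subgroup.ext hI
  subst hIeq
  haveI := Fintype.ofFinite (N.subgroupOf (inertia N θ.1))
  obtain ⟨ψ, hψ⟩ := (cliffordInduce_bijective N θ).2 χ hχ
  obtain ⟨β, hβ⟩ := exists_mulQuotient_eq (N.subgroupOf (inertia N θ.1)) ext
    (by rw [resFun_ext_eq hNI hext]; exact (toSubgroupOf N hNI θ).2) ψ.1 (by
      rw [resFun_ext_eq hNI hext, classInner_toSubgroupOf N hNI]; exact ψ.2)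
  refine ⟨β, Subtype.ext ?_⟩
  rw [cgLift_coe, hβ]
  exact congrArg Subtype.val hψ

/-- Transport of `cgLift` by an automorphism. -/
theorem cgLift_comp_aut (e : MulAut G) (eI : MulAut I)
    (eq : (I ⧸ N.subgroupOf I) ≃* (I ⧸ N.subgroupOf I))
    (h1 : ∀ x : I, (eI x : G) = e x) (h2 : ∀ x : I, eq (x : I ⧸ N.subgroupOf I) = (eI x : I))
    (h3 : ∀ x, ext.1 (eI x) = ext.1 x) (β β' : IrrCharacter (I ⧸ N.subgroupOf I))
    (hβ : ∀ q, β'.1 q = β.1 (eq q)) (g : G) :
    (cgLift hNI hI hext β).1 (e g) = (cgLift hNI hI hext β').1 g := by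
  simp only [cgLift_coe, indFun]
  congr 1
  refine (Fintype.sum_equiv e.toEquiv _ _ fun x => ?_).symm
  show _ = extendByZero I _ ((e x)⁻¹ * e g * e x)
  rw [← map_inv, ← map_mul, ← map_mul]
  by_cases hx : x⁻¹ * g * x ∈ I
  · rw [extendByZero_of_mem _ _ hx,
      show e (x⁻¹ * g * x) = ((eI ⟨_, hx⟩ : I) : G) from (h1 ⟨_, hx⟩).symm, extendByZero_coe]
    simp only [mulQuotient_apply, hβ, h2, h3]
  · have hx' : e (x⁻¹ * g * x) ∉ I := fun h => hx (by
      have h4 := h1 (eI.symm ⟨_, h⟩)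
      rw [eI.apply_symm_apply] at h4
      exact e.injective h4 ▸ (eI.symm ⟨_, h⟩).2)
    rw [extendByZero_of_notMem _ _ hx, extendByZero_of_notMem _ _ hx']

end Lift

end Cfsg.Agent.Char
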