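import Cfsg.Agent.Lib.Char.CliffordCorrespondence
import Cfsg.Agent.Lib.Char.Linear
import Cfsg.Agent.Lib.CharInt.Central
import Cfsg.Agent.Lib.CharInt.Basic

/-!
# Ito's theorem: a character degree divides the index of an abelian normal subgroup
-/

set_option autoImplicit false
set_option linter.unusedSectionVars false
set_option linter.style.haveILetI false

namespace Cfsg.Agent.Char

open scoped ComplexConjugate
open Module

universe u v

variable {G : Type u} [Group G]

/-- If a subgroup acts by scalars in an irreducible representation, the degree divides its index. -/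
theorem finrank_dvd_index_of_scalar [Finite G] {V : Type v} [AddCommGroup V] [Module ℂ V]
    [FiniteDimensional ℂ V] (ρ : Representation ℂ G V) [ρ.IsIrreducible] (Z : Subgroup G)
    (hZ : ∀ z ∈ Z, ∃ c : ℂ, ρ z = c • 1) : finrank ℂ V ∣ Z.index := by
  let φ : G →* Module.End ℂ V := ρ
  let π := QuotientGroup.mk' φ.ker
  let σ : Representation ℂ (G ⧸ φ.ker) V := QuotientGroup.lift φ.ker φ le_rfl
  have hσ : σ.comp π = ρ := MonoidHom.ext fun g => rfl
  have hsurj : Function.Surjective π := QuotientGroup.mk'_surjective _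
  have hinj : ∀ w, σ w = 1 → w = 1 := by
    intro w hw
    induction w using QuotientGroup.induction_on with
    | H g => exact (QuotientGroup.eq_one_iff g).2 hw
  have := CharInt.irreducible_of_comp_surjective ρ π hsurj σ hσ
  refine (CharInt.finrank_dvd_index_of_faithful σ (Z.map π) ?_ fun w _ hw => hinj w hw).trans
    (Subgroup.index_map_dvd _ hsurj)
  rintro _ ⟨z, hz, rfl⟩
  refine Subgroup.mem_center_iff.2 fun x => ?_
  obtain ⟨x, rfl⟩ := hsurj x
  rw [← map_mul, ← map_mul]
  refine (QuotientGroup.eq.2 ?_)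
  rw [MonoidHom.mem_ker, map_mul]
  obtain ⟨c, hc⟩ := hZ z hz
  have hcomm : φ (x * z) = φ (z * x) := by
    rw [map_mul, map_mul]
    show φ x * ρ z = ρ z * φ x
    rw [hc, mul_smul_comm, smul_mul_assoc, mul_one, one_mul]
  rw [← hcomm, ← map_mul, inv_mul_cancel, map_one]

variable [Fintype G] (N : Subgroup G) [N.Normal]

/-- An irreducible character over `θ` is induced from a character of the inertia subgroup which
restricts to a multiple of `θ`. -/
theorem exists_inertia_character (χ : IrrCharacter G) (θ : IrrCharacter N) [Fintype N]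
    (hθ : classInner (resFun N χ.1) θ.1 ≠ 0) [Fintype (inertia N θ.1)] :
    ∃ (ψ : IrrCharacter (inertia N θ.1)) (e : ℕ), e ≠ 0 ∧
      (∀ n : N, ψ.1 ⟨n, le_inertia N (IsCharacter.isClassFunction (irr_isCharacter θ)) n.2⟩ =
        e * θ.1 n) ∧ indFun (inertia N θ.1) ψ.1 = χ.1 := by
  classical
  set I := inertia N θ.1
  have hNI : N ≤ I := le_inertia N (IsCharacter.isClassFunction (irr_isCharacter θ))
  have hresI := IsCharacter.restrict (irr_isCharacter χ) I
  obtain ⟨m, hm, hm'⟩ := IsCharacter.exists_decomp hresI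
  have hdec : resFun N χ.1 = ∑ η : IrrCharacter I,
      (m η : ℂ) • fun x : N => η.1 (Subgroup.inclusion hNI x) := by
    funext n
    have := congrFun hm (Subgroup.inclusion hNI n)
    simpa using this
  obtain ⟨ψ, hψm, hψθ⟩ : ∃ ψ : IrrCharacter I, m ψ ≠ 0 ∧
      classInner (fun x : N => ψ.1 (Subgroup.inclusion hNI x)) θ.1 ≠ 0 := by
    by_contra! hcon
    refine hθ ?_
    rw [hdec, classInner_sum_left]
    refine Finset.sum_eq_zero fun η _ => ?_
    rw [classInner_smul_left]
    by_cases h : m η = 0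
    · simp [h]
    · rw [hcon η h, mul_zero]
  let N' : Subgroup I := N.subgroupOf I
  haveI : N'.Normal := Subgroup.normal_subgroupOf
  let e' : N' ≃* N := Subgroup.subgroupOfEquivOfLe hNI
  let θ' : IrrCharacter N' :=
    ⟨_, IsIrrCharacter.comp_surjective θ.2 e'.toMonoidHom e'.surjective⟩
  have hθ'val : ∀ x : N', θ'.1 x = θ.1 (e' x) := fun x => rfl
  have hfix : ∀ i : I, conjFun N' θ'.1 i = θ'.1 := by
    intro i
    funext x
    have h : conjFun N θ.1 (i : G) = θ.1 := i.2
    have h' := congrFun h (e' x)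
    simp only [conjFun] at h' ⊢
    rw [hθ'val, hθ'val, ← h']
    exact congrArg θ.1 (Subtype.ext (by simp [e', Subgroup.subgroupOfEquivOfLe]))
  have horb : orbitSum N' θ' = θ'.1 := by
    have : orbitFinset N' θ' = {θ'} := by
      ext η
      rw [mem_orbitFinset, Finset.mem_singleton]
      exact ⟨fun ⟨i, hi⟩ => hi.trans (Subtype.ext (hfix i)),
        fun h => ⟨1, h.trans (Subtype.ext (conjFun_one N' θ'.1).symm)⟩⟩
    rw [orbitSum, this, Finset.sum_singleton]
  have hinner : classInner (resFun N' ψ.1) θ'.1 =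
      classInner (fun x : N => ψ.1 (Subgroup.inclusion hNI x)) θ.1 := by
    simp only [classInner]
    rw [Nat.card_congr e'.toEquiv]
    congr 1
    refine Fintype.sum_equiv e'.toEquiv _ _ fun x => ?_
    rfl
  obtain ⟨e, he⟩ := IsCharacter.exists_nat_classInner
    (IsCharacter.comp (irr_isCharacter ψ) (Subgroup.inclusion hNI)) (irr_isCharacter θ)
  have he' : classInner (fun x : N => ψ.1 (Subgroup.inclusion hNI x)) θ.1 = (e : ℂ) := he
  have hres : ∀ n : N, ψ.1 ⟨n, hNI n.2⟩ = e * θ.1 n := by
    intro n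
    have h := congrFun (resFun_eq_smul_orbitSum N' ψ θ' (hinner ▸ hψθ)) (e'.symm n)
    rw [horb, hinner, he', Pi.smul_apply, smul_eq_mul, resFun_apply, hθ'val,
      MulEquiv.apply_symm_apply] at h
    rw [← h]
    rfl
  have he0 : e ≠ 0 := by
    intro h
    exact hψθ (by rw [he', h, Nat.cast_zero])
  refine ⟨ψ, e, he0, hres, ?_⟩
  have hirr := isIrrCharacter_indFun_inertia N I hNI θ (fun g hg => hg) he0 hres
  by_contra hne
  have h0 := classInner_irr_of_ne hirr χ.2 hne
  rw [classInner_indFun I _ (IsCharacter.isClassFunction (irr_isCharacter χ)),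
    ← conj_classInner] at h0
  have := hm' ψ
  rw [this, map_natCast] at h0
  exact hψm (Nat.cast_eq_zero.1 h0)

/-- Ito's theorem. -/
theorem degree_dvd_index_of_comm (hab : ∀ a ∈ N, ∀ b ∈ N, a * b = b * a) (χ : IrrCharacter G) :
    degree χ ∣ N.index := by
  classical
  haveI : Fintype N := Fintype.ofFinite N
  obtain ⟨θ, hθ⟩ := exists_constituent N χ
  set I := inertia N θ.1 with hI
  haveI : Fintype I := Fintype.ofFinite _
  obtain ⟨ψ, e, he, hres, hind⟩ := exists_inertia_character N χ θ hθ
  have hNI : N ≤ I := le_inertia N (IsCharacter.isClassFunction (irr_isCharacter θ))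
  have hθ1 : θ.1 1 = 1 :=
    apply_one_of_comm (fun a b => Subtype.ext (hab a a.2 b b.2)) θ
  obtain ⟨lam, hlam⟩ := IsCharacter.exists_monoidHom (irr_isCharacter θ) hθ1
  obtain ⟨n, ρ, hρ, hρχ⟩ := ψ.2
  haveI := hρ
  have hψ1 : ψ.1 1 = (e : ℂ) := by
    have := hres 1
    rw [hθ1, mul_one] at this
    rw [← this]
    exact congrArg ψ.1 (Subtype.ext rfl)
  have hn : n = e := by
    have := congrFun hρχ 1
    rw [ρ.char_one, hψ1, finrank_fin_fun] at this
    exact_mod_cast this
  have hscal : ∀ z ∈ N.subgroupOf I, ∃ c : ℂ, ρ z = c • 1 := by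
    intro z hz
    refine (CharInt.norm_eq_iff_scalar ρ z).1 ?_
    rw [hρχ, hψ1]
    have hz' := hres ⟨(z : G), hz⟩
    rw [show z = ⟨(z : G), hNI hz⟩ from Subtype.ext rfl, hz', ← hlam]
    rw [norm_mul]
    have h := normSq_linear lam ⟨(z : G), hz⟩
    rw [Complex.mul_conj, Complex.normSq_eq_norm_sq] at h
    have h' : ‖lam ⟨(z : G), hz⟩‖ ^ 2 = 1 := by exact_mod_cast h
    have h'' : ‖lam ⟨(z : G), hz⟩‖ = 1 := by nlinarith [norm_nonneg (lam ⟨(z : G), hz⟩)]
    rw [h'', mul_one]
  have hdvd := finrank_dvd_index_of_scalar ρ (N.subgroupOf I) hscal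
  rw [finrank_fin_fun, hn] at hdvd
  have hdeg : degree χ = I.index * e := by
    have h := congrFun hind 1
    rw [indFun_apply_one, hψ1, apply_one_eq_degree] at h
    exact_mod_cast h.symm
  rw [hdeg, ← Subgroup.relIndex_mul_index hNI, mul_comm]
  exact Nat.mul_dvd_mul_right hdvd _

end Cfsg.Agent.Char
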