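import Cfsg.Agent.Lib.Char.Solomon
import Cfsg.Agent.Lib.Char.Monomial

/-!
# Brauer's induction theorem and characterisation of characters

`elemInd p G` is the group generated by the characters induced from `p`-elementary subgroups; for
every prime `p` it contains some `m · 1_G` with `p ∤ m`.  Hence the characters induced from linear
characters of elementary subgroups generate all generalized characters, and a class function whose
restrictions to elementary subgroups are generalized characters is one itself.
-/

namespace Cfsg.Agent.Char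

open scoped ComplexConjugate
open Representation Module

set_option linter.style.haveILetI false

universe u v

/-! ### Elementary groups -/

theorem IsElementary.of_surjective {E : Type u} [Group E] {E' : Type v} [Group E'] {p : ℕ}
    (hp : p.Prime) (h : IsElementary p E) (f : E →* E') (hf : Function.Surjective f) :
    IsElementary p E' := by
  obtain ⟨x, hx, hcop, k, hk⟩ := h
  refine ⟨f x, Subgroup.mem_center_iff.2 fun y => ?_,
    Nat.Coprime.coprime_dvd_left (orderOf_map_dvd f x) hcop, ?_⟩
  · obtain ⟨z, rfl⟩ := hf y
    rw [← map_mul, ← map_mul, Subgroup.mem_center_iff.1 hx z]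
  · have h1 := Subgroup.index_map_dvd (Subgroup.zpowers x) hf
    rw [MonoidHom.map_zpowers, hk, Nat.dvd_prime_pow hp] at h1
    obtain ⟨i, -, hi⟩ := h1
    exact ⟨i, hi⟩

theorem IsElementary.subgroup {E : Type u} [Group E] [Finite E] {p : ℕ} (hp : p.Prime)
    (h : IsElementary p E) (S : Subgroup E) : IsElementary p S := by
  obtain ⟨x, hx, hcop, k, hk⟩ := h
  haveI hn : (Subgroup.zpowers x).Normal := by
    constructor
    intro a ha g
    have hac : a ∈ Subgroup.center E := Subgroup.zpowers_le.2 hx ha
    rwa [Subgroup.mem_center_iff.1 hac g, mul_inv_cancel_right]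
  set Z := (Subgroup.zpowers x).subgroupOf S with hZ
  let f : Z →* Subgroup.zpowers x :=
    { toFun := fun a => ⟨((a : S) : E), a.2⟩, map_one' := rfl, map_mul' := fun _ _ => rfl }
  have hf : Function.Injective f := fun a b hab =>
    Subtype.ext (Subtype.ext (congrArg (fun z : Subgroup.zpowers x => (z : E)) hab))
  haveI : IsCyclic Z := isCyclic_of_injective f hf
  obtain ⟨y, hy⟩ := IsCyclic.exists_generator (α := Z)
  have hzp : Subgroup.zpowers (y : S) = Z := by
    refine le_antisymm (Subgroup.zpowers_le.2 y.2) fun a ha => ?_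
    obtain ⟨i, hi⟩ := Subgroup.mem_zpowers_iff.1 (hy ⟨a, ha⟩)
    exact ⟨i, congrArg Subtype.val hi⟩
  refine ⟨(y : S), Subgroup.mem_center_iff.2 fun a => Subtype.ext ?_, ?_, ?_⟩
  · have hyc : ((y : S) : E) ∈ Subgroup.center E := Subgroup.zpowers_le.2 hx y.2
    exact Subgroup.mem_center_iff.1 hyc a
  · refine Nat.Coprime.coprime_dvd_left ?_ hcop
    rw [Subgroup.orderOf_coe, ← Nat.card_zpowers x]
    exact (orderOf_dvd_natCard y).trans (Subgroup.card_dvd_of_injective f hf)
  · have h1 : (Subgroup.zpowers x).relIndex S ∣ (Subgroup.zpowers x).index :=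
      Subgroup.relIndex_dvd_index_of_normal _ _
    rw [hk, Nat.dvd_prime_pow hp] at h1
    obtain ⟨i, -, hi⟩ := h1
    exact ⟨i, by rw [hzp]; exact hi⟩

theorem IsElementary.isNilpotent {E : Type u} [Group E] [Finite E] {p : ℕ} (hp : p.Prime)
    (h : IsElementary p E) : Group.IsNilpotent E := by
  haveI := Fact.mk hp
  obtain ⟨x, hx, -, k, hk⟩ := h
  have hle : Subgroup.zpowers x ≤ Subgroup.center E := Subgroup.zpowers_le.2 hx
  haveI hn : (Subgroup.zpowers x).Normal := by
    constructor
    intro a ha g
    rwa [Subgroup.mem_center_iff.1 (hle ha) g, mul_inv_cancel_right]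
  haveI : Group.IsNilpotent (E ⧸ Subgroup.zpowers x) :=
    IsPGroup.isNilpotent (IsPGroup.of_card (n := k) (by rw [← hk]; rfl))
  refine isNilpotent_of_ker_le_center (QuotientGroup.mk' (Subgroup.zpowers x)) ?_
  rwa [QuotientGroup.ker_mk']

/-- A group with a normal cyclic `p'`-subgroup of `p`-power index. -/
def IsQuasiElemGroup (p : ℕ) (H : Type u) [Group H] : Prop :=
  ∃ C : Subgroup H, C.Normal ∧ IsCyclic C ∧ Nat.Coprime (Nat.card C) p ∧ ∃ k : ℕ, C.index = p ^ k

theorem IsQuasiElem.isQuasiElemGroup {G : Type u} [Group G] {p : ℕ} {H : Subgroup G}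
    (h : IsQuasiElem p H) : IsQuasiElemGroup p H := by
  obtain ⟨C, hC, hn, hcyc, hcop, k, hk⟩ := h
  haveI := hcyc
  exact ⟨C.subgroupOf H, Subgroup.normal_subgroupOf_of_le_normalizer hn,
    isCyclic_of_surjective (Subgroup.subgroupOfEquivOfLe hC).symm.toMonoidHom
      (Subgroup.subgroupOfEquivOfLe hC).symm.surjective,
    by rwa [Nat.card_congr (Subgroup.subgroupOfEquivOfLe hC).toEquiv], k, hk⟩

variable {G : Type u} [Group G] [Fintype G]

/-- Induction as a homomorphism of additive groups. -/
noncomputable def indHom (H : Subgroup G) : (H → ℂ) →+ (G → ℂ) where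
  toFun := indFun H
  map_zero' := indFun_zero H
  map_add' := indFun_add H

/-! ### The groups generated by induced characters -/

variable (G) in
/-- The group generated by the characters induced from `p`-elementary subgroups. -/
noncomputable def elemInd (p : ℕ) : AddSubgroup (G → ℂ) :=
  AddSubgroup.closure
    {f | ∃ (E : Subgroup G) (θ : E → ℂ), IsElementary p E ∧ IsCharacter E θ ∧ f = indFun E θ}

theorem indFun_mem_elemInd {p : ℕ} {E : Subgroup G} (hE : IsElementary p E) {θ : E → ℂ}
    (hθ : IsCharacter E θ) : indFun E θ ∈ elemInd G p :=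
  AddSubgroup.subset_closure ⟨E, θ, hE, hθ, rfl⟩

theorem mul_mem_elemInd {p : ℕ} {f χ : G → ℂ} (hf : f ∈ elemInd G p) (hχ : IsCharacter G χ) :
    f * χ ∈ elemInd G p := by
  induction hf using AddSubgroup.closure_induction with
  | mem f hf =>
    obtain ⟨E, θ, hE, hθ, rfl⟩ := hf
    rw [← indFun_mul_restrict E θ (IsCharacter.isClassFunction hχ)]
    exact indFun_mem_elemInd hE (IsCharacter.mul hθ (IsCharacter.restrict hχ E))
  | zero => rw [zero_mul]; exact zero_mem _
  | add x y _ _ hx hy => rw [add_mul]; exact add_mem hx hy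
  | neg x _ hx => rw [neg_mul]; exact neg_mem hx

theorem indFun_mem_elemInd_of_mem {p : ℕ} (hp : p.Prime) (H : Subgroup G) [Fintype H]
    {f : H → ℂ} (hf : f ∈ elemInd H p) : indFun H f ∈ elemInd G p := by
  have : elemInd H p ≤ (elemInd G p).comap (indHom H) := by
    refine (AddSubgroup.closure_le _).2 ?_
    rintro _ ⟨E, θ, hE, hθ, rfl⟩
    show indFun H (indFun E θ) ∈ elemInd G p
    rw [indFun_indFun]
    exact indFun_mem_elemInd
      (IsElementary.of_surjective hp hE (E.equivMapOfInjective _ H.subtype_injective).toMonoidHom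
        (MulEquiv.surjective _))
      (IsCharacter.comp hθ (E.equivMapOfInjective _ H.subtype_injective).symm.toMonoidHom)
  exact this hf

omit [Fintype G] in
/-- A linear character of a normal `p'`-subgroup, invariant under a `p`-group `P` and trivial on
the centraliser of `P`, is trivial. -/
theorem invariant_linear_eq_one [Finite G] {p : ℕ} [Fact p.Prime] (C P : Subgroup G) [C.Normal]
    (hP : IsPGroup p P) (hcop : Nat.Coprime (Nat.card C) p) (lam : C →* ℂ)
    (hinv : ∀ (g : G), g ∈ P → ∀ c : C, lam (MulAut.conjNormal g c) = lam c)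
    (hker : ∀ c : C, (c : G) ∈ Subgroup.centralizer (P : Set G) → lam c = 1) (c : C) :
    lam c = 1 := by
  let f : P →* MulAut C := MulAut.conjNormal.comp P.subtype
  letI : MulAction P {d : C // lam d = lam c} :=
    { smul := fun g d => ⟨f g d.1, (hinv g g.2 d.1).trans d.2⟩
      one_smul := fun d => Subtype.ext (by show f 1 d.1 = d.1; rw [map_one]; rfl)
      mul_smul := fun g h d => Subtype.ext (by
        show f (g * h) d.1 = f g (f h d.1); rw [map_mul]; rfl) }
  have hcard : Nat.card {d : C // lam d = lam c} = Nat.card lam.ker := by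
    refine Nat.card_congr
      { toFun := fun d => ⟨c⁻¹ * d.1, ?_⟩
        invFun := fun k => ⟨c * k.1, by rw [map_mul, show lam k.1 = 1 from k.2, mul_one]⟩
        left_inv := fun d => Subtype.ext (mul_inv_cancel_left _ _)
        right_inv := fun k => Subtype.ext (inv_mul_cancel_left _ _) }
    rw [MonoidHom.mem_ker, map_mul, d.2, ← map_mul, inv_mul_cancel, map_one]
  have hnd : ¬ p ∣ Nat.card {d : C // lam d = lam c} := fun h => by
    rw [hcard] at h
    have := Nat.dvd_gcd (h.trans (Subgroup.card_subgroup_dvd_card _)) (dvd_refl p)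
    rw [hcop] at this
    exact (Fact.out : p.Prime).not_dvd_one this
  obtain ⟨⟨d, hd⟩, hfix⟩ := hP.nonempty_fixed_point_of_prime_not_dvd_card _ hnd
  have hdc : (d : G) ∈ Subgroup.centralizer (P : Set G) := by
    refine Subgroup.mem_centralizer_iff.2 fun g hg => ?_
    have e := congrArg (fun z : {d : C // lam d = lam c} => ((z.1 : C) : G)) (hfix ⟨g, hg⟩)
    change g * (d : G) * g⁻¹ = d at e
    calc g * (d : G) = g * (d : G) * g⁻¹ * g := by group
      _ = d * g := by rw [e]
  rw [← hd]; exact hker d hdc

/-- For a quasi-elementary group every character lies in `elemInd`. -/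
theorem IsQuasiElemGroup.mem_elemInd {p : ℕ} (hp : p.Prime) (hG : IsQuasiElemGroup p G)
    {χ : G → ℂ} (hχ : IsCharacter G χ) : χ ∈ elemInd G p := by
  haveI := Fact.mk hp
  suffices H : ∀ (n : ℕ) (G : Type u) [Group G] [Fintype G], IsQuasiElemGroup p G →
      Nat.card G = n → ∀ χ : G → ℂ, IsCharacter G χ → χ ∈ elemInd G p from
    H _ G hG rfl χ hχ
  intro n
  induction n using Nat.strong_induction_on with
  | _ n ih =>
    intro G _ _ hG hn χ hχ
    classical
    suffices h1 : (fun _ : G => (1 : ℂ)) ∈ elemInd G p by
      have := mul_mem_elemInd h1 hχ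
      rwa [show (fun _ : G => (1 : ℂ)) * χ = χ from one_mul χ] at this
    obtain ⟨C, hCn, hCcyc, hcop, k, hk⟩ := hG
    haveI := hCn
    haveI := hCcyc
    obtain ⟨P⟩ := (inferInstance : Nonempty (Sylow p G))
    have hCP : C ⊔ (P : Subgroup G) = ⊤ := by
      rw [← Subgroup.index_eq_one]
      refine Nat.eq_one_of_dvd_coprimes ?_
        (Subgroup.index_dvd_of_le (le_sup_left : C ≤ C ⊔ (P : Subgroup G)))
        (Subgroup.index_dvd_of_le (le_sup_right : (P : Subgroup G) ≤ C ⊔ (P : Subgroup G)))
      rw [hk]
      exact (hp.coprime_iff_not_dvd.2 P.not_dvd_index).pow_left k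
    have hCcomm : ∀ a b : C, (a : G) * b = b * a := fun a b => by
      obtain ⟨g, hg⟩ := IsCyclic.exists_generator (α := C)
      obtain ⟨i, rfl⟩ := Subgroup.mem_zpowers_iff.1 (hg a)
      obtain ⟨j, rfl⟩ := Subgroup.mem_zpowers_iff.1 (hg b)
      exact congrArg Subtype.val (Commute.zpow_zpow_self g i j).eq
    set Z : Subgroup G := C ⊓ Subgroup.centralizer ((P : Subgroup G) : Set G) with hZ
    have hZc : Z ≤ Subgroup.center G := fun z hz => by
      have hle : C ⊔ (P : Subgroup G) ≤ Subgroup.centralizer {z} := by
        refine sup_le (fun a ha => Subgroup.mem_centralizer_singleton_iff.2 ?_)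
          (fun a ha => Subgroup.mem_centralizer_singleton_iff.2 ?_)
        · exact hCcomm ⟨a, ha⟩ ⟨z, hz.1⟩
        · exact Subgroup.mem_centralizer_iff.1 hz.2 a ha
      rw [hCP] at hle
      exact Subgroup.mem_center_iff.2 fun g =>
        Subgroup.mem_centralizer_singleton_iff.1 (hle (Subgroup.mem_top g))
    haveI hZn : Z.Normal := by
      constructor
      intro a ha g
      rwa [Subgroup.mem_center_iff.1 (hZc ha) g, mul_inv_cancel_right]
    haveI : IsCyclic Z := isCyclic_of_injective (Subgroup.inclusion (inf_le_left : Z ≤ C))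
      (Subgroup.inclusion_injective _)
    obtain ⟨z, hz⟩ := IsCyclic.exists_generator (α := Z)
    set E : Subgroup G := Z ⊔ (P : Subgroup G) with hE
    have hzE : (z : G) ∈ E := Subgroup.mem_sup_left z.2
    have hzp : Subgroup.zpowers (⟨z, hzE⟩ : E) = Z.subgroupOf E := by
      refine le_antisymm (Subgroup.zpowers_le.2 z.2) fun a ha => ?_
      obtain ⟨i, hi⟩ := Subgroup.mem_zpowers_iff.1 (hz ⟨(a : G), ha⟩)
      exact ⟨i, Subtype.ext (by
        have := congrArg Subtype.val hi
        simpa using this)⟩
    have hEel : IsElementary p E := by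
      refine ⟨⟨z, hzE⟩, Subgroup.mem_center_iff.2 fun a =>
        Subtype.ext (Subgroup.mem_center_iff.1 (hZc z.2) a), ?_, ?_⟩
      · refine Nat.Coprime.coprime_dvd_left ?_ hcop
        rw [← Subgroup.orderOf_coe, show ((⟨(z : G), hzE⟩ : E) : G) = z from rfl,
          Subgroup.orderOf_coe]
        exact (orderOf_dvd_natCard z).trans (Subgroup.card_dvd_of_le inf_le_left)
      · rw [hzp]
        obtain ⟨m, hm⟩ := P.2.exists_card_eq
        have : Z.relIndex E ∣ p ^ m := by
          rw [hE, Subgroup.relIndex_sup_left, ← hm]
          exact Subgroup.relIndex_dvd_card _ _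
        obtain ⟨i, -, hi⟩ := (Nat.dvd_prime_pow hp).1 this
        exact ⟨i, hi⟩
    haveI := Fintype.ofFinite E
    set f := indFun E (fun _ => (1 : ℂ)) with hf
    obtain ⟨m, hm, hm'⟩ :=
      IsCharacter.exists_decomp (isCharacter_indFun E (isCharacter_one (G := E)))
    have htriv : m (trivialChar G) = 1 := by
      have := hm' (trivialChar G)
      rw [classInner_indFun E _ (IsCharacter.isClassFunction (irr_isCharacter _))] at this
      rw [show (fun h : E => (trivialChar G).1 (h : G)) = fun _ : E => (1 : ℂ) from rfl,
        classInner_irr_self isIrrCharacter_one] at this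
      exact_mod_cast this.symm
    -- the nontrivial constituents
    have hrest : ∀ ψ ∈ Finset.univ.erase (trivialChar G), (m ψ : ℂ) • ψ.1 ∈ elemInd G p := by
      intro ψ hψ
      have hne := (Finset.mem_erase.1 hψ).1
      by_cases hm0 : m ψ = 0
      · rw [hm0, Nat.cast_zero, zero_smul]; exact zero_mem _
      rw [Nat.cast_smul_eq_nsmul]
      refine nsmul_mem ?_ _
      haveI := Fintype.ofFinite C
      obtain ⟨d, ρ, hρ, hρψ⟩ := id ψ.2
      haveI := hρ
      obtain ⟨θ, hθ⟩ := exists_constituent C ψ
      have hθ1 : θ.1 1 = 1 := by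
        refine constituent_apply_one_of_commute (ρ.comp C.subtype) (fun a b => ?_) θ ?_
        · show ρ a * ρ b = ρ b * ρ a
          rw [← map_mul, ← map_mul, hCcomm]
        · rwa [show Representation.character (ρ.comp C.subtype) = resFun C ψ.1 from
            funext fun a => by rw [← hρψ]; rfl]
      obtain ⟨lam, hlam⟩ := IsCharacter.exists_monoidHom (irr_isCharacter θ) hθ1
      by_cases htop : inertiaGroup C θ.1 = ⊤
      · -- invariant constituent: `ψ` is trivial, a contradiction
        exfalso
        have hfixθ : ∀ g : G, conjFun C θ.1 g = θ.1 := fun g =>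
          (mem_inertiaGroup).1 (htop ▸ Subgroup.mem_top g)
        have horb : orbitFinset C θ = {θ} := by
          ext η
          rw [mem_orbitFinset, Finset.mem_singleton]
          exact ⟨fun ⟨g, hg⟩ => hg.trans (Subtype.ext (hfixθ g)),
            fun h => ⟨1, h.trans (Subtype.ext (conjFun_one C _).symm)⟩⟩
        have hres := resFun_eq_smul_orbitSum C ψ θ hθ
        rw [orbitSum, horb, Finset.sum_singleton] at hres
        have hd : classInner (resFun C ψ.1) θ.1 = d := by
          have := congrFun hres 1
          rw [Pi.smul_apply, smul_eq_mul, hθ1, mul_one, resFun_apply, Subgroup.coe_one, ← hρψ,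
            Representation.char_one, Module.finrank_fin_fun] at this
          rw [hρψ] at this
          exact this.symm
        rw [hd] at hres
        have hsc := apply_eq_smul_of_character_eq ρ C lam fun a => by
          rw [hρψ, hlam]
          exact congrFun hres a
        -- an `E`-fixed vector
        have hmE : classInner (fun e : E => ψ.1 e) (fun _ => (1 : ℂ)) ≠ 0 := by
          have := hm' ψ
          rw [classInner_indFun E _ (IsCharacter.isClassFunction (irr_isCharacter _)),
            ← conj_classInner] at this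
          intro h0
          rw [h0, map_zero] at this
          exact hm0 (Nat.cast_eq_zero.1 this.symm)
        haveI : Invertible (Nat.card E : ℂ) := invertibleOfNonzero card_ne_zero
        have hinvts : finrank ℂ (Representation.invariants (ρ.comp E.subtype)) ≠ 0 := by
          intro h0
          refine hmE ?_
          have := Representation.card_inv_mul_sum_char_eq_finrank (ρ.comp E.subtype)
          rw [h0, Nat.cast_zero] at this
          rw [classInner, ← hρψ, ← this]
          simp [Representation.character]
        obtain ⟨⟨v, hvinv⟩, hv0⟩ :=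
          (Module.finrank_pos_iff_exists_ne_zero (R := ℂ)).1 (Nat.pos_of_ne_zero hinvts)
        have hv : v ≠ 0 := fun h => hv0 (Subtype.ext h)
        have hvE : ∀ e : E, ρ e v = v := fun e => hvinv e
        have hlamZ : ∀ c : C, (c : G) ∈ Subgroup.centralizer ((P : Subgroup G) : Set G) →
            lam c = 1 := by
          intro c hc
          have h1 := hvE ⟨c, Subgroup.mem_sup_left ⟨c.2, hc⟩⟩
          rw [hsc c, LinearMap.smul_apply, Module.End.one_apply] at h1
          have h2 : (lam c - 1) • v = 0 := by rw [sub_smul, one_smul, h1, sub_self]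
          exact sub_eq_zero.1 ((smul_eq_zero.1 h2).resolve_right hv)
        have hlam1 : ∀ c : C, lam c = 1 := invariant_linear_eq_one C (P : Subgroup G) P.2 hcop lam
          (fun g _ c => by
            rw [hlam]
            exact congrFun (hfixθ g) c) hlamZ
        let F : Subgroup G :=
          { carrier := {g | ρ g v = v}
            one_mem' := by simp
            mul_mem' := fun {a b} ha hb => by
              show ρ (a * b) v = v
              rw [map_mul, Module.End.mul_apply, show ρ b v = v from hb, show ρ a v = v from ha]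
            inv_mem' := fun {a} ha => by
              show ρ a⁻¹ v = v
              conv_lhs => rw [← show ρ a v = v from ha]
              rw [← Module.End.mul_apply, ← map_mul, inv_mul_cancel, map_one, Module.End.one_apply] }
        have hF : ∀ g, ρ g v = v := by
          intro g
          have hle : C ⊔ (P : Subgroup G) ≤ F := by
            refine sup_le (fun a ha => ?_) (fun a ha => hvE ⟨a, Subgroup.mem_sup_right ha⟩)
            show ρ a v = v
            rw [hsc ⟨a, ha⟩, hlam1, one_smul, Module.End.one_apply]
          rw [hCP] at hle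
          exact hle (Subgroup.mem_top g)
        let S : Subrepresentation ρ := ⟨ℂ ∙ v, fun g w hw => by
          obtain ⟨a, rfl⟩ := Submodule.mem_span_singleton.1 hw
          rw [map_smul, hF g]
          exact hw⟩
        haveI : IsSimpleOrder (Subrepresentation ρ) := hρ
        rcases eq_bot_or_eq_top S with h' | h'
        · exact hv ((Submodule.mem_bot ℂ).1 ((congrArg Subrepresentation.toSubmodule h').le
            (Submodule.mem_span_singleton_self v)))
        · have hd1 := (finrank_eq_one_iff_of_nonzero v hv).2
            (congrArg Subrepresentation.toSubmodule h')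
          refine hne (Subtype.ext ?_)
          funext g
          have hone : ρ g = 1 := LinearMap.ext fun w => by
            obtain ⟨a, rfl⟩ := (finrank_eq_one_iff_of_nonzero' v hv).1 hd1 w
            rw [map_smul, hF g, Module.End.one_apply]
          rw [← hρψ, Representation.character, hone, LinearMap.trace_one, hd1, Nat.cast_one,
            trivialChar_apply]
      · -- induced from the inertia group
        obtain ⟨hle, η, e, -, -, hind⟩ := exists_indFun_inertia C ψ θ hθ
        have hlt : Nat.card (inertiaGroup C θ.1) < n := hn ▸ lt_of_le_of_ne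
          (Subgroup.card_le_card_group _) fun h => htop (Subgroup.eq_top_of_card_eq _ h)
        have hI : IsQuasiElemGroup p (inertiaGroup C θ.1) := by
          refine ⟨C.subgroupOf _, Subgroup.Normal.subgroupOf inferInstance _,
            isCyclic_of_surjective (Subgroup.subgroupOfEquivOfLe hle).symm.toMonoidHom
              (Subgroup.subgroupOfEquivOfLe hle).symm.surjective,
            by rwa [Nat.card_congr (Subgroup.subgroupOfEquivOfLe hle).toEquiv], ?_⟩
          have h1 : C.relIndex (inertiaGroup C θ.1) ∣ C.index :=
            Subgroup.relIndex_dvd_index_of_normal _ _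
          rw [hk, Nat.dvd_prime_pow hp] at h1
          obtain ⟨i, -, hi⟩ := h1
          exact ⟨i, hi⟩
        haveI := Fintype.ofFinite (inertiaGroup C θ.1)
        rw [← hind]
        exact indFun_mem_elemInd_of_mem hp _
          (ih _ hlt (inertiaGroup C θ.1) hI rfl η.1 (irr_isCharacter η))
    have hsplit : (fun _ : G => (1 : ℂ)) =
        f - ∑ ψ ∈ Finset.univ.erase (trivialChar G), (m ψ : ℂ) • ψ.1 := by
      rw [hf, hm, ← Finset.add_sum_erase _ _ (Finset.mem_univ (trivialChar G)), htriv, Nat.cast_one,
        one_smul, add_sub_cancel_right]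
      rfl
    rw [hsplit]
    exact sub_mem (indFun_mem_elemInd hEel isCharacter_one) (sum_mem hrest)

/-- The local form of Brauer's induction theorem. -/
theorem exists_int_const_mem_elemInd {p : ℕ} (hp : p.Prime) :
    ∃ m : ℤ, ¬ (p : ℤ) ∣ m ∧ (fun _ : G => (m : ℂ)) ∈ elemInd G p :=
  exists_int_const_mem_of_quasiElem hp fun H hH => by
    classical
    haveI := Fintype.ofFinite H
    exact indFun_mem_elemInd_of_mem hp H
      (IsQuasiElemGroup.mem_elemInd hp (IsQuasiElem.isQuasiElemGroup hH) isCharacter_one)

variable (G) in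
/-- The group generated by the characters induced from linear characters of elementary
subgroups. -/
noncomputable def elemLinInd : AddSubgroup (G → ℂ) :=
  AddSubgroup.closure {f | ∃ (E : Subgroup G) (lam : E →* ℂ),
    (∃ p : ℕ, p.Prime ∧ IsElementary p E) ∧ f = indFun E lam}

theorem elemInd_le_elemLinInd {p : ℕ} (hp : p.Prime) : elemInd G p ≤ elemLinInd G := by
  refine (AddSubgroup.closure_le _).2 ?_
  rintro _ ⟨E, θ, hE, hθ, rfl⟩
  classical
  haveI := Fintype.ofFinite E
  haveI := IsElementary.isNilpotent hp hE
  obtain ⟨m, hm, -⟩ := IsCharacter.exists_decomp hθ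
  rw [hm, indFun_sum]
  refine sum_mem fun ψ _ => ?_
  rw [indFun_smul, Nat.cast_smul_eq_nsmul]
  refine nsmul_mem ?_ _
  obtain ⟨S, lam, hS⟩ := isMonomialChar_of_isNilpotent ψ.2
  rw [hS, indFun_indFun]
  exact AddSubgroup.subset_closure
    ⟨_, lam.comp (S.equivMapOfInjective _ E.subtype_injective).symm.toMonoidHom,
      ⟨p, hp, IsElementary.of_surjective hp (IsElementary.subgroup hp hE S)
        (S.equivMapOfInjective _ E.subtype_injective).toMonoidHom (MulEquiv.surjective _)⟩, rfl⟩

/-- The constant one is an integer combination of characters induced from linear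
characters of elementary subgroups. -/
theorem one_mem_elemLinInd : (fun _ : G => (1 : ℂ)) ∈ elemLinInd G := by
  let cst : ℤ →+ (G → ℂ) :=
    { toFun := fun z _ => (z : ℂ)
      map_zero' := funext fun _ => Int.cast_zero
      map_add' := fun a b => funext fun _ => Int.cast_add a b }
  obtain ⟨d, hd⟩ := Int.subgroup_cyclic ((elemLinInd G).comap cst)
  have hunit : d.natAbs = 1 := by
    by_contra hne
    obtain ⟨q, hq, hqd⟩ := Nat.exists_prime_and_dvd hne
    obtain ⟨m, hm, hmem⟩ := exists_int_const_mem_elemInd (G := G) hq
    have : m ∈ AddSubgroup.closure {d} := hd ▸ (elemInd_le_elemLinInd hq hmem)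
    obtain ⟨k, hk⟩ := AddSubgroup.mem_closure_singleton.1 this
    refine hm ?_
    rw [← hk, smul_eq_mul]
    exact dvd_mul_of_dvd_right (Int.natCast_dvd.2 hqd) _
  have h1 : (1 : ℤ) ∈ AddSubgroup.closure {d} := by
    rcases Int.natAbs_eq d with h | h <;> rw [hunit] at h <;> rw [h]
    · exact AddSubgroup.subset_closure rfl
    · simpa using neg_mem (AddSubgroup.subset_closure (Set.mem_singleton (-1 : ℤ)))
  rw [← hd] at h1
  simpa [cst] using h1

/-- Brauer's characterisation of characters. -/
theorem isGeneralizedCharacter_of_elementary {θ : G → ℂ} (hθ : IsClassFunction G θ)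
    (hE : ∀ (E : Subgroup G) (p : ℕ), p.Prime → IsElementary p E →
      IsGeneralizedCharacter E (fun e : E => θ e)) : IsGeneralizedCharacter G θ := by
  suffices H : ∀ f ∈ elemLinInd G, IsGeneralizedCharacter G (f * θ) by
    have := H _ one_mem_elemLinInd
    rwa [show (fun _ : G => (1 : ℂ)) * θ = θ from one_mul θ] at this
  intro f hf
  induction hf using AddSubgroup.closure_induction with
  | mem f hf =>
    obtain ⟨E, lam, ⟨p, hp, hel⟩, rfl⟩ := hf
    rw [← indFun_mul_restrict E _ hθ]
    exact isGeneralizedCharacter_indFun E (IsGeneralizedCharacter.mul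
      (IsCharacter.isGeneralized (IsIrrCharacter.isCharacter (isIrrCharacter_of_monoidHom lam)))
      (hE E p hp hel))
  | zero => rw [zero_mul]; exact IsGeneralizedCharacter.zero
  | add x y _ _ hx hy => rw [add_mul]; exact IsGeneralizedCharacter.add hx hy
  | neg x _ hx => rw [neg_mul]; exact IsGeneralizedCharacter.neg hx

/-- Brauer's induction theorem. -/
theorem IsGeneralizedCharacter.mem_elemLinInd {χ : G → ℂ} (hχ : IsGeneralizedCharacter G χ) :
    χ ∈ elemLinInd G := by
  suffices H : ∀ φ : G → ℂ, IsCharacter G φ → φ ∈ elemLinInd G by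
    obtain ⟨a, b, ha, hb, rfl⟩ := hχ
    exact sub_mem (H a ha) (H b hb)
  intro φ hφ
  suffices H : ∀ f ∈ elemLinInd G, f * φ ∈ elemLinInd G by
    have := H _ one_mem_elemLinInd
    rwa [show (fun _ : G => (1 : ℂ)) * φ = φ from one_mul φ] at this
  intro f hf
  induction hf using AddSubgroup.closure_induction with
  | mem f hf =>
    obtain ⟨E, lam, ⟨p, hp, hel⟩, rfl⟩ := hf
    rw [← indFun_mul_restrict E _ (IsCharacter.isClassFunction hφ)]
    exact elemInd_le_elemLinInd hp (indFun_mem_elemInd hel (IsCharacter.mul
      (IsIrrCharacter.isCharacter (isIrrCharacter_of_monoidHom lam))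
      (IsCharacter.restrict hφ E)))
  | zero => rw [zero_mul]; exact zero_mem _
  | add x y _ _ hx hy => rw [add_mul]; exact add_mem hx hy
  | neg x _ hx => rw [neg_mul]; exact neg_mem hx

end Cfsg.Agent.Char
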