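import Cfsg.Agent.Lib.Char.PRegularBlock
import Cfsg.Agent.Lib.Blocks.Defect
import Mathlib.NumberTheory.Padics.PadicVal.Basic

/-!
# The integers `[p^a χ°, ξ]`

`p^a` is the `p`-part of the group order and `χ°` the restriction of `χ` to the `p`-regular
elements. For `χ`, `ξ` in a block, `ξ(1)`'s `p`-part divides `[p^a χ°, ξ]`, exactly so iff `χ` has
height zero; hence the Brauer–Feit bound on the number of characters in a block.
-/

namespace Cfsg.Agent.Char

open scoped ComplexConjugate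
open Cfsg.Agent.Blocks (IsCentralElt SCoeff ofFun chiL omega)

set_option linter.style.haveILetI false
set_option linter.unusedSectionVars false

universe u

variable {G : Type u} [Group G] [Fintype G] {p : ℕ} {M : Ideal AlgInt}

/-- The inner product `[p^a χ°, ξ]`. -/
noncomputable def regInner (p : ℕ) (χ ξ : G → ℂ) : ℂ :=
  classInner (((p ^ (Nat.card G).factorization p : ℕ) : ℂ) • regFun p χ) ξ

theorem exists_int_regInner (hp : p.Prime) (χ ξ : IrrCharacter G) :
    ∃ z : ℤ, regInner p χ.1 ξ.1 = z :=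
  IsGeneralizedCharacter.exists_int_classInner
    (isGeneralizedCharacter_pPow_smul_regFun hp (irr_isGeneralized χ)) (irr_isGeneralized ξ)

theorem regInner_comm (hp : p.Prime) (χ ξ : IrrCharacter G) :
    regInner p χ.1 ξ.1 = regInner p ξ.1 χ.1 := by
  classical
  obtain ⟨z, hz⟩ := exists_int_regInner hp χ ξ
  have h : conj (regInner p χ.1 ξ.1) = regInner p ξ.1 χ.1 := by
    simp only [regInner, classInner, map_mul, map_inv₀, map_natCast, map_sum, Complex.conj_conj,
      Pi.smul_apply, smul_eq_mul, regFun]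
    congr 1
    refine Finset.sum_congr rfl fun g _ => ?_
    split_ifs
    · simp
    · ring
  rw [← h, hz, map_intCast]

open Classical in
/-- The class function `g ↦ χ(g⁻¹)` on regular elements, in the group algebra. -/
noncomputable def regElt (p : ℕ) (χ : G → ℂ) : MonoidAlgebra ℂ G :=
  ofFun fun g => if p ∣ orderOf g then 0 else χ g⁻¹

theorem isCentralElt_regElt (χ : IrrCharacter G) : IsCentralElt (regElt p χ.1) := by
  classical
  refine Blocks.isCentralElt_ofFun fun g h => ?_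
  rw [show orderOf (h * g * h⁻¹) = orderOf g from
    orderOf_injective (MulAut.conj h).toMonoidHom (MulAut.conj h).injective g,
    show (h * g * h⁻¹)⁻¹ = h * g⁻¹ * h⁻¹ by group,
    IsCharacter.isClassFunction (irr_isCharacter χ) g⁻¹ h]

theorem scoeff_regElt [M.IsPrime] (χ : IrrCharacter G) : SCoeff M (regElt p χ.1) := by
  classical
  refine Blocks.scoeff_ofFun fun g => ?_
  split_ifs
  · exact Blocks.memLocalRing_zero
  · exact Blocks.memLocalRing_of_isIntegral (CharInt.isIntegral_char (irr_isCharacter χ) _)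

theorem regInner_div_eq_omega (hp : p.Prime) (f : G → ℂ) (ξ : IrrCharacter G) :
    regInner p f ξ.1 / ξ.1 1 =
      ((Nat.card G / p ^ (Nat.card G).factorization p : ℕ) : ℂ)⁻¹ *
        omega ξ.1 (regElt p f) := by
  classical
  set a := (Nat.card G).factorization p
  set m := Nat.card G / p ^ a
  have hGm : (Nat.card G : ℂ) = ((p ^ a : ℕ) : ℂ) * (m : ℂ) := by
    rw [← Nat.cast_mul, Nat.ordProj_mul_ordCompl_eq_self]
  have hpa : ((p ^ a : ℕ) : ℂ) ≠ 0 := Nat.cast_ne_zero.2 (pow_ne_zero _ hp.ne_zero)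
  have hchi : chiL ξ.1 (regElt p f) =
      ∑ g : G, regFun p f g * conj (ξ.1 g) := by
    rw [Blocks.chiL_eq_sum]
    refine Fintype.sum_equiv (Equiv.inv G) _ _ fun g => ?_
    simp only [regElt, Blocks.coeff_ofFun, Equiv.inv_apply, regFun, orderOf_inv,
      IsCharacter.conj_apply (irr_isCharacter ξ), inv_inv]
  rw [Blocks.omega, hchi, regInner, classInner_smul_left, classInner, hGm]
  field_simp
  rfl

theorem memLocalRing_regInner_div [M.IsMaximal] (hpM : (p : AlgInt) ∈ M) (hp : p.Prime)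
    (χ ξ : IrrCharacter G) : MemLocalRing M (regInner p χ.1 ξ.1 / ξ.1 1) := by
  haveI := Fact.mk hp
  rw [regInner_div_eq_omega hp]
  exact Blocks.MemLocalRing.mul (Blocks.memLocalRing_inv_natCast hpM
    (Nat.not_dvd_ordCompl hp Nat.card_pos.ne'))
    (Blocks.memLocalRing_omega ξ (isCentralElt_regElt χ) (scoeff_regElt χ))

theorem memLocalIdeal_regInner_div_sub [M.IsMaximal] (hpM : (p : AlgInt) ∈ M) (hp : p.Prime)
    (χ : IrrCharacter G) {ξ η : IrrCharacter G} (h : SameBlock M ξ.1 η.1) :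
    MemLocalIdeal M (regInner p χ.1 ξ.1 / ξ.1 1 - regInner p χ.1 η.1 / η.1 1) := by
  haveI := Fact.mk hp
  rw [regInner_div_eq_omega hp, regInner_div_eq_omega hp, ← mul_sub]
  exact Blocks.MemLocalIdeal.mul_left (Blocks.memLocalRing_inv_natCast hpM
    (Nat.not_dvd_ordCompl hp Nat.card_pos.ne'))
    (Blocks.SameBlock.omega_sub h (isCentralElt_regElt χ) (scoeff_regElt χ))

theorem memLocalRing_neg_iff [M.IsPrime] {z : ℂ} : MemLocalRing M (-z) ↔ MemLocalRing M z :=
  ⟨fun h => by simpa using Blocks.MemLocalRing.neg h, Blocks.MemLocalRing.neg⟩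

theorem memLocalIdeal_neg_iff [M.IsPrime] {z : ℂ} : MemLocalIdeal M (-z) ↔ MemLocalIdeal M z :=
  ⟨fun h => by simpa using Blocks.MemLocalIdeal.neg h, Blocks.MemLocalIdeal.neg⟩

theorem intCast_div_cases (n : ℤ) (d : ℕ) :
    (n : ℂ) / d = (n.natAbs : ℂ) / d ∨ (n : ℂ) / d = -((n.natAbs : ℂ) / d) := by
  rcases Int.natAbs_eq n with h | h
  · left; conv_lhs => rw [h, Int.cast_natCast]
  · right; conv_lhs => rw [h, Int.cast_neg, Int.cast_natCast, neg_div]

theorem memLocalRing_intCast_div_iff [M.IsMaximal] [Fact p.Prime] (hpM : (p : AlgInt) ∈ M)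
    (n : ℤ) {d : ℕ} (hd : d ≠ 0) :
    MemLocalRing M ((n : ℂ) / d) ↔ (p : ℤ) ^ d.factorization p ∣ n := by
  rcases eq_or_ne n 0 with rfl | hn
  · simp [Blocks.memLocalRing_zero]
  rw [← Nat.cast_pow, Int.natCast_dvd,
    (Fact.out : p.Prime).pow_dvd_iff_le_factorization (Int.natAbs_ne_zero.2 hn),
    ← Blocks.memLocalRing_natCast_div_iff (M := M) hpM (Int.natAbs_ne_zero.2 hn) hd]
  rcases intCast_div_cases n d with h | h <;> rw [h]
  exact memLocalRing_neg_iff

theorem memLocalIdeal_intCast_div_iff [M.IsMaximal] [Fact p.Prime] (hpM : (p : AlgInt) ∈ M)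
    (n : ℤ) {d : ℕ} (hd : d ≠ 0) :
    MemLocalIdeal M ((n : ℂ) / d) ↔ (p : ℤ) ^ (d.factorization p + 1) ∣ n := by
  rcases eq_or_ne n 0 with rfl | hn
  · simp [Blocks.memLocalIdeal_zero]
  rw [← Nat.cast_pow, Int.natCast_dvd,
    (Fact.out : p.Prime).pow_dvd_iff_le_factorization (Int.natAbs_ne_zero.2 hn),
    Nat.add_one_le_iff,
    ← Blocks.memLocalIdeal_natCast_div_iff (M := M) hpM (Int.natAbs_ne_zero.2 hn) hd]
  rcases intCast_div_cases n d with h | h <;> rw [h]
  exact memLocalIdeal_neg_iff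

theorem exists_not_pow_dvd_regInner (hp : p.Prime) (χ : IrrCharacter G) {n : IrrCharacter G → ℤ}
    (hn : ∀ ξ, regInner p χ.1 ξ.1 = n ξ) :
    ∃ ξ, ¬ (p : ℤ) ^ ((degree χ).factorization p + 1) ∣ n ξ := by
  by_contra hno
  simp only [not_exists, not_not] at hno
  set a := (Nat.card G).factorization p
  set e := (degree χ).factorization p + 1
  have hne : ((p ^ e : ℕ) : ℂ) ≠ 0 := Nat.cast_ne_zero.2 (pow_ne_zero _ hp.ne_zero)
  have hgen : IsGeneralizedCharacter G
      (((p ^ e : ℕ) : ℂ)⁻¹ • (((p ^ a : ℕ) : ℂ) • regFun p χ.1)) := by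
    refine isGeneralizedCharacter_iff.2 ⟨isClassFunction_of_mul_left
      (isClassFunction_of_mul_left (isClassFunction_regFun p
        (IsCharacter.isClassFunction (irr_isCharacter χ))) _) _, fun ξ => ?_⟩
    obtain ⟨k, hk⟩ := hno ξ
    refine ⟨k, ?_⟩
    have h := hn ξ
    rw [regInner] at h
    rw [classInner_smul_left, h, hk]
    push_cast at hne ⊢
    field_simp
  obtain ⟨z, hz⟩ := exists_int_apply_one_eq_pPow_mul hp hgen
    (fun x hx => by simp [regFun, hx])
  have hpa : ((p ^ a : ℕ) : ℂ) ≠ 0 := Nat.cast_ne_zero.2 (pow_ne_zero _ hp.ne_zero)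
  simp only [Pi.smul_apply, smul_eq_mul, regFun, orderOf_one, Nat.dvd_one, if_neg hp.ne_one,
    apply_one_eq_degree] at hz
  have hz' : (degree χ : ℂ) = ((p ^ e : ℕ) : ℂ) * z := by
    refine mul_left_cancel₀ hpa ?_
    field_simp at hz
    linear_combination hz
  have hz'' : (degree χ : ℤ) = ((p ^ e : ℕ) : ℤ) * z := by exact_mod_cast hz'
  have hdvd : p ^ e ∣ degree χ := by exact_mod_cast Dvd.intro z hz''.symm
  have := (hp.pow_dvd_iff_le_factorization (degree_pos χ).ne').1 hdvd
  omega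

theorem sInf_le_factorization_degree {B : Set (IrrCharacter G)} {χ : IrrCharacter G}
    (hχ : χ ∈ B) :
    sInf ((fun χ : IrrCharacter G => (charDegree χ.1).factorization p) '' B) ≤
      (degree χ).factorization p := by
  rw [← Blocks.charDegree_eq χ]
  exact Nat.sInf_le (Set.mem_image_of_mem _ hχ)

theorem factorization_degree_of_height_zero {B : Set (IrrCharacter G)} {χ : IrrCharacter G}
    (hχ : χ ∈ B) (h : blockHeight p B χ.1 = 0) :
    (degree χ).factorization p =
      sInf ((fun χ : IrrCharacter G => (charDegree χ.1).factorization p) '' B) := by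
  refine le_antisymm ?_ (sInf_le_factorization_degree hχ)
  rw [← Blocks.charDegree_eq χ]
  exact Nat.sub_eq_zero_iff_le.1 h

variable [M.IsMaximal]

theorem memLocalRing_n_div (hpM : (p : AlgInt) ∈ M) (hp : p.Prime) {χ ξ : IrrCharacter G} {n : ℤ}
    (hn : regInner p χ.1 ξ.1 = n) : (p : ℤ) ^ (degree ξ).factorization p ∣ n := by
  haveI := Fact.mk hp
  have h := memLocalRing_regInner_div hpM hp χ ξ
  rwa [hn, apply_one_eq_degree, memLocalRing_intCast_div_iff hpM n (degree_pos ξ).ne'] at h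

theorem pow_dvd_regInner_iff (hpM : (p : AlgInt) ∈ M) (hp : p.Prime) {B : Set (IrrCharacter G)}
    (hB : IsPBlock M B) {χ ξ η : IrrCharacter G} (hξ : ξ ∈ B) (hη : η ∈ B) {n m : ℤ}
    (hn : regInner p χ.1 ξ.1 = n) (hm : regInner p χ.1 η.1 = m) :
    (p : ℤ) ^ ((degree ξ).factorization p + 1) ∣ n ↔
      (p : ℤ) ^ ((degree η).factorization p + 1) ∣ m := by
  haveI := Fact.mk hp
  have h := memLocalIdeal_regInner_div_sub hpM hp χ (Blocks.sameBlock_of_mem hB hξ hη)
  rw [hn, hm, apply_one_eq_degree, apply_one_eq_degree] at h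
  rw [← memLocalIdeal_intCast_div_iff (M := M) hpM n (degree_pos ξ).ne',
    ← memLocalIdeal_intCast_div_iff (M := M) hpM m (degree_pos η).ne']
  exact Blocks.memLocalIdeal_iff_of_sub h

/-- `χ` has height zero iff the `p`-part of `ξ(1)` divides `[p^a χ°, ξ]` exactly. -/
theorem blockHeight_eq_zero_iff_regInner (hpM : (p : AlgInt) ∈ M) (hp : p.Prime)
    {B : Set (IrrCharacter G)} (hB : IsPBlock M B) {χ ξ : IrrCharacter G} (hχ : χ ∈ B)
    (hξ : ξ ∈ B) {n : ℤ} (hn : regInner p χ.1 ξ.1 = n) :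
    blockHeight p B χ.1 = 0 ↔ ¬ (p : ℤ) ^ ((degree ξ).factorization p + 1) ∣ n := by
  haveI := Fact.mk hp
  constructor
  · intro h0
    choose N hN using fun ξ => exists_int_regInner (p := p) hp χ ξ
    obtain ⟨η, hη⟩ := exists_not_pow_dvd_regInner hp χ hN
    have hηB : η ∈ B := by
      by_contra hηB
      have h := hN η
      rw [regInner, classInner_smul_left, classInner_regFun_of_not_sameBlock hpM hp
        (Blocks.not_sameBlock_of_mem hB hχ hηB), mul_zero] at h
      exact hη (by simp [show N η = 0 by exact_mod_cast h.symm])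
    have h1 := memLocalRing_n_div hpM hp (hN η)
    have h2 : (degree η).factorization p ≤ (degree χ).factorization p := by
      by_contra hlt
      exact hη ((pow_dvd_pow _ (not_le.1 hlt)).trans h1)
    have h3 : (degree η).factorization p = (degree χ).factorization p :=
      le_antisymm h2 ((factorization_degree_of_height_zero hχ h0).le.trans
        (sInf_le_factorization_degree hηB))
    rw [pow_dvd_regInner_iff hpM hp hB hξ hηB hn (hN η), h3]
    exact hη
  · intro hnd
    by_contra h0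
    obtain ⟨η, hηB, hη0⟩ := Blocks.exists_height_zero hpM hB
    obtain ⟨m, hm⟩ := exists_int_regInner (p := p) hp χ η
    refine hnd ((pow_dvd_regInner_iff hpM hp hB hξ hηB hn hm).2 ?_)
    have h1 := memLocalRing_n_div hpM hp (ξ := χ) (χ := η) (n := m)
      (by rw [regInner_comm hp η χ, hm])
    refine (pow_dvd_pow _ ?_).trans h1
    rw [blockHeight, Blocks.charDegree_eq] at h0
    rw [factorization_degree_of_height_zero hηB hη0]
    omega

/-- The same, with `padicValInt`. -/
theorem blockHeight_eq_zero_iff_padicValInt (hpM : (p : AlgInt) ∈ M) (hp : p.Prime)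
    {B : Set (IrrCharacter G)} (hB : IsPBlock M B) {χ ξ : IrrCharacter G} (hχ : χ ∈ B)
    (hξ : ξ ∈ B) {n : ℤ} (hn : regInner p χ.1 ξ.1 = n) :
    blockHeight p B χ.1 = 0 ↔ n ≠ 0 ∧ padicValInt p n = (degree ξ).factorization p := by
  haveI := Fact.mk hp
  rw [blockHeight_eq_zero_iff_regInner hpM hp hB hχ hξ hn]
  have h1 := memLocalRing_n_div hpM hp hn
  rw [padicValInt_dvd_iff] at h1 ⊢
  refine ⟨fun h => ?_, fun ⟨h2, h3⟩ h => ?_⟩
  · rw [not_or, not_le] at h
    have := h1.resolve_left h.1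
    exact ⟨h.1, by omega⟩
  · have := h.resolve_left h2
    omega

/-- The Brauer–Feit bound. -/
theorem four_mul_card_block_le (hpM : (p : AlgInt) ∈ M) (hp : p.Prime)
    {B : Set (IrrCharacter G)} (hB : IsPBlock M B) :
    4 * Nat.card B ≤ p ^ (2 * blockDefect p B) + 4 := by
  classical
  haveI := Fact.mk hp
  obtain ⟨χ, hχ, h0⟩ := Blocks.exists_height_zero hpM hB
  set a := (Nat.card G).factorization p with ha
  set b := sInf ((fun χ : IrrCharacter G => (charDegree χ.1).factorization p) '' B) with hb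
  have hba : b ≤ a := by
    rw [hb, ← factorization_degree_of_height_zero hχ h0, ha]
    exact (Nat.factorization_le_iff_dvd (degree_pos χ).ne' Nat.card_pos.ne').2
      (degree_dvd_natCard χ) p
  choose N hN using fun ξ => exists_int_regInner (p := p) hp χ ξ
  have hNdvd : ∀ ξ ∈ B, (p : ℤ) ^ b ∣ N ξ := fun ξ hξ =>
    (pow_dvd_pow _ (sInf_le_factorization_degree hξ)).trans (memLocalRing_n_div hpM hp (hN ξ))
  have hNne : ∀ ξ ∈ B, N ξ ≠ 0 := fun ξ hξ =>
    ((blockHeight_eq_zero_iff_padicValInt hpM hp hB hχ hξ (hN ξ)).1 h0).1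
  have hlow : ∀ ξ ∈ B, ((p : ℤ) ^ b) ^ 2 ≤ N ξ ^ 2 := fun ξ hξ => by
    obtain ⟨u, hu⟩ := hNdvd ξ hξ
    have hu0 : u ≠ 0 := fun h => hNne ξ hξ (by rw [hu, h, mul_zero])
    rw [hu, mul_pow]
    refine le_mul_of_one_le_right (sq_nonneg _) ?_
    exact Int.add_one_le_iff.2 (lt_of_le_of_ne (sq_nonneg u) (pow_ne_zero 2 hu0).symm)
  set f := ((p ^ a : ℕ) : ℂ) • regFun p χ.1 with hf
  have hfc : IsClassFunction G f := isClassFunction_of_mul_left (isClassFunction_regFun p
    (IsCharacter.isClassFunction (irr_isCharacter χ))) _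
  have hNf : ∀ ξ : IrrCharacter G, classInner f ξ.1 = N ξ := fun ξ => hN ξ
  -- the key identity
  have hid : (∑ ξ : IrrCharacter G, N ξ ^ 2) = (p : ℤ) ^ a * N χ := by
    have h1 : classInner f f = ((p ^ a : ℕ) : ℂ) * classInner f χ.1 := by
      simp only [classInner, Finset.mul_sum]
      refine Finset.sum_congr rfl fun g _ => ?_
      simp only [hf, Pi.smul_apply, smul_eq_mul, regFun]
      split_ifs
      · simp
      · simp only [map_mul, map_natCast]; ring
    have h2 : ∀ ξ : IrrCharacter G, classInner ξ.1 f = N ξ := fun ξ => by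
      have : classInner ξ.1 f = conj (classInner f ξ.1) := by
        simp only [classInner, map_mul, map_inv₀, map_natCast, map_sum, Complex.conj_conj]
        exact congrArg _ (Finset.sum_congr rfl fun g _ => mul_comm _ _)
      rw [this, hNf, map_intCast]
    rw [classInner_eq_sum hfc, hNf] at h1
    simp only [hNf, h2] at h1
    have h3 : ((∑ ξ : IrrCharacter G, N ξ ^ 2 : ℤ) : ℂ) = (((p : ℤ) ^ a * N χ : ℤ) : ℂ) := by
      push_cast at h1 ⊢
      simpa [sq] using h1
    exact_mod_cast h3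
  let Bf : Finset (IrrCharacter G) := Finset.univ.filter (· ∈ B)
  have hcard : Nat.card B = Bf.card := by
    rw [Nat.card_eq_fintype_card, ← Set.toFinset_card]
    congr 1
    ext ξ
    simp [Bf]
  have hsum : N χ ^ 2 + ((Bf.card : ℤ) - 1) * ((p : ℤ) ^ b) ^ 2 ≤ (p : ℤ) ^ a * N χ := by
    rw [← hid]
    have hmem : χ ∈ Bf := by simp [Bf, hχ]
    refine le_trans ?_ (Finset.sum_le_univ_sum_of_nonneg (s := Bf) fun ξ => sq_nonneg _)
    rw [← Finset.add_sum_erase _ _ hmem]
    refine add_le_add le_rfl ?_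
    have h := Finset.card_nsmul_le_sum (Bf.erase χ) (fun ξ => N ξ ^ 2) (((p : ℤ) ^ b) ^ 2)
      fun ξ hξ => hlow ξ (Finset.mem_filter.1 (Finset.mem_of_mem_erase hξ)).2
    rw [nsmul_eq_mul, Finset.card_erase_of_mem hmem] at h
    have : 1 ≤ Bf.card := Finset.card_pos.2 ⟨χ, hmem⟩
    push_cast [Nat.cast_sub this] at h
    exact h
  have hpd : (p : ℤ) ^ a = (p : ℤ) ^ (a - b) * (p : ℤ) ^ b := by
    rw [← pow_add, Nat.sub_add_cancel hba]
  have hdef : blockDefect p B = a - b := rfl
  have hfin : 4 * ((Bf.card : ℤ) - 1) ≤ (p : ℤ) ^ (2 * (a - b)) := by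
    refine le_of_mul_le_mul_right (a := ((p : ℤ) ^ b) ^ 2) ?_
      (pow_pos (pow_pos (by exact_mod_cast hp.pos) _) _)
    rw [pow_mul', ← mul_pow, ← hpd]
    nlinarith [sq_nonneg ((p : ℤ) ^ a - 2 * N χ), hsum, hpd]
  rw [hcard, hdef]
  have : (4 * (Bf.card : ℤ)) ≤ (p : ℤ) ^ (2 * (a - b)) + 4 := by linarith
  exact_mod_cast this

end Cfsg.Agent.Char
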