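import Cfsg.Agent.Lib.Char.Congruence
import Cfsg.Agent.S0875

/-!
# The scaled indicator of the `p`-section of a `p`-regular element
-/

namespace Cfsg.Agent.Char

universe u

/-- The scaled indicator of the `p`-section of a `p`-regular element, and its coefficients. -/
theorem exists_section_indicator {G : Type u} [Group G] [Fintype G] {p : ℕ} (hp : p.Prime) (g : G)
    (hg : ¬ p ∣ orderOf g) : ∃ c : Cfsg.IrrCharacter G → Cfsg.AlgInt,
    ∀ a z : G, Commute a z → (∃ k : ℕ, orderOf a = p ^ k) → ¬ p ∣ orderOf z →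
      (IsConj z g → ∑ χ, (c χ : ℂ) * χ.1 (a * z) =
        ((Nat.card G / p ^ (Nat.card G).factorization p : ℕ) : ℂ)) ∧
      (¬ IsConj z g → ∑ χ, (c χ : ℂ) * χ.1 (a * z) = 0) := by
  classical
  set e := (Nat.card G).factorization p with he
  set n := Nat.card G / p ^ e with hn
  have hmn : Nat.card G = p ^ e * n := (Nat.ordProj_mul_ordCompl_eq_self _ _).symm
  have hnp : ¬ p ∣ n := Nat.not_dvd_ordCompl hp Nat.card_pos.ne'
  have hcop : Nat.Coprime (p ^ e) n := (hp.coprime_iff_not_dvd.2 hnp).pow_left _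
  let ϑ : G → ℂ := fun x => if ∃ v : G, IsConj v g ∧ (∃ u : G, x = u * v ∧ Commute u v ∧
      Nat.Coprime (orderOf u) n ∧ Nat.Coprime (orderOf v) (p ^ e)) then (n : ℂ) else 0
  obtain ⟨c, hc, hϑ⟩ := Cfsg.Agent.S0875.result (p ^ e) n hmn hcop g
    ((hp.coprime_iff_not_dvd.2 hg).symm.pow_right _) ϑ (fun x hx => if_pos hx) (fun x hx => if_neg hx)
  refine ⟨fun χ => ⟨c χ, hc χ⟩, fun a z haz ⟨k, hk⟩ hz => ?_⟩
  have hval : ∑ χ, c χ * χ.1 (a * z) = ϑ (a * z) := by
    rw [hϑ, finsum_eq_sum_of_fintype, Finset.sum_apply]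
    exact Finset.sum_congr rfl fun χ _ => by simp
  have hu : Nat.Coprime (orderOf a) n := by
    rw [hk]; exact (hp.coprime_iff_not_dvd.2 hnp).pow_left _
  have hv : Nat.Coprime (orderOf z) (p ^ e) := (hp.coprime_iff_not_dvd.2 hz).symm.pow_right _
  refine ⟨fun hzg => ?_, fun hzg => ?_⟩
  · exact hval.trans (if_pos ⟨z, hzg, a, rfl, haz, hu, hv⟩)
  · refine hval.trans (if_neg ?_)
    rintro ⟨v, hvg, u, he', huv, hu', hv'⟩
    refine hzg ?_
    have hdm : ∀ x : G, (orderOf x).Coprime n → orderOf x ∣ p ^ e := fun x hx =>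
      hx.dvd_of_dvd_mul_right (hmn ▸ orderOf_dvd_natCard x)
    have h1 : z ^ p ^ e = v ^ p ^ e := by
      have h2 := congrArg (· ^ p ^ e) he'
      simp only [haz.mul_pow, huv.mul_pow, orderOf_dvd_iff_pow_eq_one.1 (hdm a hu),
        orderOf_dvd_iff_pow_eq_one.1 (hdm u hu'), one_mul] at h2
      exact h2
    obtain ⟨i, hi⟩ := exists_pow_eq_self_of_coprime (x := z) (n := p ^ e) hv.symm
    obtain ⟨j, hj⟩ := exists_pow_eq_self_of_coprime (x := v) (n := p ^ e) hv'.symm
    have hzv : z = v := by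
      have hcz : Commute z v := by
        have hA : Commute (z ^ p ^ e) v := by rw [h1]; exact (Commute.refl v).pow_left _
        rw [← hi]; exact hA.pow_left i
      have h3 : (z * v⁻¹) ^ p ^ e = 1 := by
        rw [hcz.inv_right.mul_pow, h1, inv_pow, mul_inv_cancel]
      have h4 : orderOf (z * v⁻¹) ∣ orderOf z * orderOf v := by
        have := hcz.inv_right.orderOf_mul_dvd_mul_orderOf
        rwa [orderOf_inv] at this
      exact mul_inv_eq_one.1 (orderOf_eq_one_iff.1 (Nat.eq_one_of_dvd_coprimes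
        (Nat.Coprime.mul_left hv hv').symm (orderOf_dvd_of_pow_eq_one h3) h4))
    rw [hzv]; exact hvg

end Cfsg.Agent.Char
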