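import Cfsg.Agent.Lib.Char.PRegular
import Mathlib.Algebra.CharP.Lemmas

/-!
# Frobenius congruences for character values

`χ(g)^(p^N) ≡ χ(g^(p^N))` modulo `p` in the algebraic integers.
-/

namespace Cfsg.Agent.Char

open scoped ComplexConjugate

set_option linter.style.haveILetI false

universe u v

theorem exists_sum_pow_prime_pow {R : Type v} [CommRing R] {p : ℕ} (hp : p.Prime) (N : ℕ)
    {ι : Type*} (s : Finset ι) (f : ι → R) :
    ∃ r : R, (∑ i ∈ s, f i) ^ p ^ N = ∑ i ∈ s, f i ^ p ^ N + (p : R) * r := by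
  classical
  induction s using Finset.induction with
  | empty => exact ⟨0, by simp [zero_pow (pow_ne_zero N hp.ne_zero)]⟩
  | insert i s hi ih =>
    obtain ⟨r, hr⟩ := ih
    obtain ⟨r', hr'⟩ := exists_add_pow_prime_pow_eq hp (f i) (∑ j ∈ s, f j) N
    refine ⟨r + f i * (∑ j ∈ s, f j) * r', ?_⟩
    rw [Finset.sum_insert hi, Finset.sum_insert hi, hr', hr]
    ring

variable {G : Type u} [Group G]

theorem exists_char_pow_sub [Finite G] {p : ℕ} (hp : p.Prime) {χ : G → ℂ} (hχ : IsCharacter G χ)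
    (g : G) (N : ℕ) :
    ∃ γ : AlgInt, χ g ^ p ^ N - χ (g ^ p ^ N) = (p : ℂ) * (γ : ℂ) := by
  obtain ⟨d, μ, -, hμ, hval⟩ := CharInt.exists_roots hχ g
  let μ' : Fin d → AlgInt := fun i =>
    ⟨μ i, CharInt.isIntegral_of_pow_eq_one (orderOf_pos g).ne' (hμ i)⟩
  obtain ⟨r, hr⟩ := exists_sum_pow_prime_pow hp N Finset.univ μ'
  refine ⟨r, ?_⟩
  have h1 := congrArg (fun z : AlgInt => (z : ℂ)) hr
  simp only [AddSubmonoidClass.coe_finsetSum, SubmonoidClass.coe_pow, map_natCast,
    Subalgebra.coe_add, Subalgebra.coe_mul] at h1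
  have hg : χ g = ∑ i, μ i := by simpa using hval 1
  rw [hg, hval, h1]
  simp [μ']

/-- An element of `p`-power order is killed by the `p`-part of the group order. -/
theorem pow_pPart_eq_one [Finite G] {p : ℕ} (hp : p.Prime) {a : G} {k : ℕ}
    (ha : orderOf a = p ^ k) : a ^ p ^ (Nat.card G).factorization p = 1 := by
  rw [← orderOf_dvd_iff_pow_eq_one, ha]
  refine pow_dvd_pow p ((hp.pow_dvd_iff_le_factorization Nat.card_pos.ne').1 ?_)
  rw [← ha]; exact orderOf_dvd_natCard a

/-- The `p'`-part is unique and conjugation invariant: raising to a suitable power recovers it. -/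
theorem pow_pPart_eq [Finite G] {p : ℕ} (hp : p.Prime) {a y : G} (hc : Commute a y) {k : ℕ}
    (ha : orderOf a = p ^ k) (n : ℕ) (hn : (Nat.card G).factorization p ≤ n) :
    (a * y) ^ p ^ n = y ^ p ^ n := by
  rw [hc.mul_pow, ← Nat.add_sub_cancel' hn, pow_add, pow_mul, pow_pPart_eq_one hp ha, one_pow,
    one_mul]

end Cfsg.Agent.Char
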