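import Cfsg.Agent.Lib.Char.HeightZero
import Cfsg.Agent.Lib.Blocks.FirstMain

/-!
# Height zero, induced blocks and degree squares of a block

The block congruence for `[p^a χ_H°, ψ]`, the degree of the block parts of an induced character,
and the exact `p`-part of the sum of the squares of the degrees in a block.
-/

namespace Cfsg.Agent.Char

open scoped ComplexConjugate
open Cfsg.Agent.Blocks (omega resH blockIdem)

set_option linter.style.haveILetI false
set_option linter.unusedSectionVars false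

universe u

variable {G : Type u} [Group G] [Fintype G] {p : ℕ} {M : Ideal AlgInt}

theorem memLocalIdeal_mul_iff [M.IsPrime] {u z : ℂ} (hu : MemLocalRing M u)
    (hu' : ¬ MemLocalIdeal M u) (hz : MemLocalRing M z) :
    MemLocalIdeal M (u * z) ↔ MemLocalIdeal M z :=
  ⟨fun h => (Blocks.MemLocalIdeal.mem_or_mem hu hz h).resolve_left hu',
    Blocks.MemLocalIdeal.mul_left hu⟩

theorem not_memLocalIdeal_inv_natCast [M.IsMaximal] [Fact p.Prime] (hpM : (p : AlgInt) ∈ M)
    {n : ℕ} (hn : ¬ p ∣ n) : ¬ MemLocalIdeal M (n : ℂ)⁻¹ := by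
  intro h
  have h1 := Blocks.MemLocalIdeal.mul_right h (Blocks.memLocalRing_natCast (M := M) n)
  rw [inv_mul_cancel₀ (Nat.cast_ne_zero.2 fun h0 => hn (by rw [h0]; exact dvd_zero p))] at h1
  exact Blocks.not_memLocalIdeal_one h1

theorem memLocalIdeal_inv_mul_iff [M.IsMaximal] [Fact p.Prime] (hpM : (p : AlgInt) ∈ M)
    {n : ℕ} (hn : ¬ p ∣ n) {z : ℂ} (hz : MemLocalRing M z) :
    MemLocalIdeal M ((n : ℂ)⁻¹ * z) ↔ MemLocalIdeal M z :=
  memLocalIdeal_mul_iff (Blocks.memLocalRing_inv_natCast hpM hn)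
    (not_memLocalIdeal_inv_natCast hpM hn) hz

theorem regElt_restrict (H : Subgroup G) [Fintype H] (p : ℕ) (f : G → ℂ) :
    regElt p (fun h : H => f h) = resH H (regElt p f) := by
  refine Blocks.alg_ext fun h => ?_
  simp [regElt, Subgroup.orderOf_coe]

variable {H : Subgroup G} [Fintype H] [M.IsMaximal] {b : Set (IrrCharacter H)}
  {B₀ : Set (IrrCharacter G)}

/-- `[p^a χ_H°, ψ]/ψ(1)` is congruent to a unit multiple of `[p^a χ°, φ]/φ(1)`. -/
theorem memLocalIdeal_regInner_restrict_iff (hpM : (p : AlgInt) ∈ M) (hp : p.Prime)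
    (hind : IsInducedBlock M H b B₀) {χ φ : IrrCharacter G} (hφ : φ ∈ B₀) {ψ : IrrCharacter H}
    (hψ : ψ ∈ b) :
    MemLocalIdeal M (regInner p (fun h : H => χ.1 h) ψ.1 / ψ.1 1) ↔
      MemLocalIdeal M (regInner p χ.1 φ.1 / φ.1 1) := by
  haveI := Fact.mk hp
  have hG := Nat.not_dvd_ordCompl hp (Nat.card_pos (α := G)).ne'
  have hH := Nat.not_dvd_ordCompl hp (Nat.card_pos (α := H)).ne'
  have hc := isCentralElt_regElt (p := p) χ
  have hs := scoeff_regElt (M := M) (p := p) χ
  rw [regInner_div_eq_omega hp, regInner_div_eq_omega hp, regElt_restrict,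
    memLocalIdeal_inv_mul_iff hpM hH
      (Blocks.memLocalRing_omega ψ (Blocks.isCentralElt_resH hc) (Blocks.scoeff_resH hs)),
    memLocalIdeal_inv_mul_iff hpM hG (Blocks.memLocalRing_omega φ hc hs)]
  exact Blocks.memLocalIdeal_iff_of_sub
    (Blocks.IsInducedBlock.omega_sub hind hψ hφ hc hs)

theorem memLocalIdeal_regInner_restrict (hpM : (p : AlgInt) ∈ M) (hp : p.Prime)
    (hind : IsInducedBlock M H b B₀) {χ : IrrCharacter G} {ψ : IrrCharacter H} (hψ : ψ ∈ b) :
    (χ ∉ B₀ → MemLocalIdeal M (regInner p (fun h : H => χ.1 h) ψ.1 / ψ.1 1)) ∧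
      (χ ∈ B₀ → blockHeight p B₀ χ.1 = 0 →
        ¬ MemLocalIdeal M (regInner p (fun h : H => χ.1 h) ψ.1 / ψ.1 1)) := by
  haveI := Fact.mk hp
  obtain ⟨φ, hφ⟩ := Blocks.block_nonempty hind.2.1
  rw [memLocalIdeal_regInner_restrict_iff hpM hp hind hφ hψ]
  obtain ⟨n, hn⟩ := exists_int_regInner (p := p) hp χ φ
  refine ⟨fun hχ => ?_, fun hχ h0 => ?_⟩
  · rw [regInner, classInner_smul_left, classInner_regFun_of_not_sameBlock hpM hp
      (fun h => hχ (by rw [Blocks.block_eq hind.2.1 hφ]; exact Blocks.SameBlock.symm h)),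
      mul_zero, zero_div]
    exact Blocks.memLocalIdeal_zero
  · rw [hn, apply_one_eq_degree, memLocalIdeal_intCast_div_iff hpM n (degree_pos φ).ne']
    exact (blockHeight_eq_zero_iff_regInner hpM hp hind.2.1 hχ hφ hn).1 h0

open Classical in
theorem blockPart_apply (B : Set (IrrCharacter G)) (θ : G → ℂ) (g : G) :
    blockPart B θ g =
      ∑ χ ∈ Finset.univ.filter (· ∈ B), classInner θ χ.1 * χ.1 g := by
  rw [blockPart]
  rw [Subsingleton.elim (Fintype.ofFinite G) ‹Fintype G›,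
    finsum_mem_eq_sum_of_inter_support_eq]
  ext x
  simp

/-- The degree of the `B`-part of an induced character. -/
theorem blockPart_indFun_one (B : Set (IrrCharacter G)) (ξ : IrrCharacter H) :
    blockPart B (indFun H ξ.1) 1 = (H.index : ℂ) * ξ.1 1 * omega ξ.1 (resH H (blockIdem B)) := by
  classical
  have hξ := IsIrrCharacter.apply_one_ne_zero ξ.2
  have hH : (Nat.card H : ℂ) ≠ 0 := card_ne_zero
  have hG : (Nat.card G : ℂ) = Nat.card H * H.index := by exact_mod_cast H.card_mul_index.symm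
  have e : ∀ χ : IrrCharacter G, classInner (indFun H ξ.1) χ.1 =
      classInner ξ.1 (fun h : H => χ.1 h) := fun χ =>
    classInner_indFun H ξ.1 (IsCharacter.isClassFunction (irr_isCharacter χ))
  rw [blockPart_apply, omega, Blocks.chiL_eq_sum]
  simp only [e]
  simp only [Blocks.coeff_resH, Blocks.coeff_blockIdem, Blocks.blockCoeff_eq_sum, classInner, hG]
  field_simp
  simp only [Finset.mul_sum, Finset.sum_mul, Finset.sum_div]
  rw [Finset.sum_comm]
  refine Finset.sum_congr rfl fun h _ => Finset.sum_congr rfl fun χ _ => ?_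
  have hidx : (H.index : ℂ) ≠ 0 := Nat.cast_ne_zero.2 Subgroup.index_ne_zero_of_finite
  field_simp

theorem blockPart_indFun_valuation (hpM : (p : AlgInt) ∈ M) (hp : p.Prime)
    (hind : IsInducedBlock M H b B₀) {ξ : IrrCharacter H} (hξ : ξ ∈ b)
    {B : Set (IrrCharacter G)} (hB : IsPBlock M B) :
    ∃ n : ℕ, blockPart B (indFun H ξ.1) 1 = n ∧
      (B = B₀ → n ≠ 0 ∧ n.factorization p = (charDegree (indFun H ξ.1)).factorization p) ∧
      (B ≠ B₀ → n = 0 ∨ (charDegree (indFun H ξ.1)).factorization p < n.factorization p) := by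
  classical
  haveI := Fact.mk hp
  have hdeg : charDegree (indFun H ξ.1) = H.index * degree ξ := by
    rw [charDegree, indFun_apply_one, apply_one_eq_degree, ← Nat.cast_mul, Complex.natCast_re,
      Nat.floor_natCast]
  have hd : H.index * degree ξ ≠ 0 :=
    mul_ne_zero Subgroup.index_ne_zero_of_finite (degree_pos ξ).ne'
  choose m hm using fun χ : IrrCharacter G =>
    IsCharacter.exists_nat_classInner (isCharacter_indFun H (irr_isCharacter ξ))
      (irr_isCharacter χ)
  refine ⟨∑ χ ∈ Finset.univ.filter (· ∈ B), m χ * degree χ, ?_, ?_⟩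
  · rw [blockPart_apply, Nat.cast_sum]
    exact Finset.sum_congr rfl fun χ _ => by rw [hm, apply_one_eq_degree, Nat.cast_mul]
  set n := ∑ χ ∈ Finset.univ.filter (· ∈ B), m χ * degree χ with hn
  set u := omega ξ.1 (resH H (blockIdem B))
  have hu : (n : ℂ) / ((H.index * degree ξ : ℕ) : ℂ) = u := by
    have h1 : blockPart B (indFun H ξ.1) 1 = (n : ℂ) := by
      rw [blockPart_apply, hn, Nat.cast_sum]
      exact Finset.sum_congr rfl fun χ _ => by rw [hm, apply_one_eq_degree, Nat.cast_mul]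
    rw [blockPart_indFun_one, apply_one_eq_degree, ← Nat.cast_mul] at h1
    rw [← h1, mul_div_cancel_left₀ _ (Nat.cast_ne_zero.2 hd)]
  have hc := Blocks.isCentralElt_blockIdem B
  have hs := Blocks.scoeff_blockIdem (M := M) hB
  have hring : MemLocalRing M u :=
    Blocks.memLocalRing_omega ξ (Blocks.isCentralElt_resH hc) (Blocks.scoeff_resH hs)
  obtain ⟨φ, hφ⟩ := Blocks.block_nonempty hind.2.1
  have hsub := Blocks.IsInducedBlock.omega_sub hind hξ hφ hc hs
  rw [Blocks.omega_blockIdem] at hsub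
  change MemLocalIdeal M (u - _) at hsub
  rw [hdeg]
  refine ⟨fun hBB => ?_, fun hBB => ?_⟩
  · rw [if_pos (hBB ▸ hφ)] at hsub
    have hu1 : ¬ MemLocalIdeal M u := fun h =>
      Blocks.not_memLocalIdeal_one ((Blocks.memLocalIdeal_iff_of_sub hsub).1 h)
    have hn0 : n ≠ 0 := fun h0 => hu1 (by
      rw [← hu, h0, Nat.cast_zero, zero_div]; exact Blocks.memLocalIdeal_zero)
    rw [← hu] at hring hu1
    rw [Blocks.memLocalRing_natCast_div_iff hpM hn0 hd] at hring
    rw [Blocks.memLocalIdeal_natCast_div_iff hpM hn0 hd] at hu1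
    exact ⟨hn0, by omega⟩
  · rw [if_neg (fun h => hBB (Blocks.block_eq_of_mem hB hind.2.1 h hφ)), sub_zero] at hsub
    rcases eq_or_ne n 0 with h0 | h0
    · exact Or.inl h0
    · rw [← hu, Blocks.memLocalIdeal_natCast_div_iff hpM h0 hd] at hsub
      exact Or.inr hsub

theorem pow_dvd_sum_mul_degree (hp : p.Prime) (c : IrrCharacter G → ℤ) (e : ℕ)
    (hdiv : ∀ ψ, (p : ℤ) ^ e ∣ c ψ)
    (hvan : ∀ x : G, p ∣ orderOf x → ∑ ψ, (c ψ : ℂ) * ψ.1 x = 0) :
    (p : ℤ) ^ ((Nat.card G).factorization p + e) ∣ ∑ ψ, c ψ * (degree ψ : ℤ) := by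
  choose d hd using hdiv
  have hpe : ((p : ℂ) ^ e) ≠ 0 := pow_ne_zero _ (Nat.cast_ne_zero.2 hp.ne_zero)
  have key : ∀ x : G, ∑ ψ, (c ψ : ℂ) * ψ.1 x =
      (p : ℂ) ^ e * (∑ ψ : IrrCharacter G, (d ψ : ℂ) • ψ.1) x := fun x => by
    rw [Finset.sum_apply, Finset.mul_sum]
    exact Finset.sum_congr rfl fun ψ _ => by rw [hd]; push_cast; simp [mul_assoc]
  obtain ⟨z, hz⟩ := exists_int_apply_one_eq_pPow_mul hp (isGeneralizedCharacter_sum_int_smul d)
    (fun x hx => by
      have h := hvan x hx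
      rw [key x] at h
      exact (mul_eq_zero.1 h).resolve_left hpe)
  refine ⟨z, ?_⟩
  have h1 := key 1
  rw [hz] at h1
  simp only [apply_one_eq_degree] at h1
  have h2 : ((∑ ψ, c ψ * (degree ψ : ℤ) : ℤ) : ℂ) =
      (((p : ℤ) ^ ((Nat.card G).factorization p + e) * z : ℤ) : ℂ) := by
    push_cast at h1 ⊢
    rw [h1, pow_add]
    ring
  exact_mod_cast h2

/-- The exact `p`-part of the sum of the squares of the degrees in a block. -/
theorem factorization_sum_degree_sq (hpM : (p : AlgInt) ∈ M)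
    (hp : p.Prime) {B : Set (IrrCharacter G)} [DecidablePred (· ∈ B)] (hB : IsPBlock M B) :
    (∑ χ ∈ Finset.univ.filter (· ∈ B), degree χ ^ 2).factorization p =
      2 * (Nat.card G).factorization p - blockDefect p B := by
  haveI := Fact.mk hp
  obtain ⟨χ, hχ, h0⟩ := Blocks.exists_height_zero hpM hB
  set a := (Nat.card G).factorization p with ha
  set b := sInf ((fun χ : IrrCharacter G => (charDegree χ.1).factorization p) '' B) with hb
  have hvb : (degree χ).factorization p = b := factorization_degree_of_height_zero hχ h0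
  have hba : b ≤ a := by
    rw [← hvb, ha]
    exact (Nat.factorization_le_iff_dvd (degree_pos χ).ne' Nat.card_pos.ne').2
      (degree_dvd_natCard χ) p
  set S := ∑ χ ∈ Finset.univ.filter (· ∈ B), degree χ ^ 2 with hS
  have hS0 : S ≠ 0 := (Finset.sum_pos (fun ψ _ => pow_pos (degree_pos ψ) 2)
    ⟨χ, by simp [hχ]⟩).ne'
  let eB : IrrCharacter G → ℤ := fun ψ => if ψ ∈ B then (degree ψ : ℤ) else 0
  have heS : ∑ ψ, eB ψ * (degree ψ : ℤ) = (S : ℤ) := by
    simp only [eB, hS, ite_mul, zero_mul, ← Finset.sum_filter, Nat.cast_sum, Nat.cast_pow, Nat.cast_mul, sq]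
  have hevan : ∀ x : G, p ∣ orderOf x → ∑ ψ, (eB ψ : ℂ) * ψ.1 x = 0 := by
    intro x hx
    have h := Blocks.blockCoeff_eq_zero hpM hB (g := x) (fun h => h hx)
    rw [Blocks.blockCoeff_eq_sum, mul_eq_zero, inv_eq_zero] at h
    have h' := congrArg conj (h.resolve_left card_ne_zero)
    rw [map_sum, map_zero] at h'
    simp only [map_mul, Complex.conj_conj, apply_one_eq_degree, map_natCast] at h'
    rw [← h', Finset.sum_filter]
    refine Finset.sum_congr rfl fun ψ _ => ?_
    simp only [eB]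
    split_ifs <;> simp
  have hdvd1 : (p : ℤ) ^ (a + b) ∣ (S : ℤ) := by
    rw [← heS]
    refine pow_dvd_sum_mul_degree hp eB b (fun ψ => ?_) hevan
    simp only [eB]
    split_ifs with hψ
    · have h1 : p ^ b ∣ degree ψ := (hp.pow_dvd_iff_le_factorization (degree_pos ψ).ne').2
        (sInf_le_factorization_degree hψ)
      exact_mod_cast h1
    · exact dvd_zero _
  obtain ⟨N, hN, hN'⟩ := IsGeneralizedCharacter.exists_decomp
    (isGeneralizedCharacter_pPow_smul_regFun hp (irr_isGeneralized χ))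
  have hNr : ∀ ψ, regInner p χ.1 ψ.1 = N ψ := hN'
  -- an integer congruent to the common value
  obtain ⟨u, hu⟩ := memLocalRing_n_div hpM hp (hNr χ)
  obtain ⟨d', hd', hdd⟩ : ∃ d' : ℕ, ¬ p ∣ d' ∧ p ^ b * d' = degree χ :=
    ⟨_, Nat.not_dvd_ordCompl hp (degree_pos χ).ne',
      hvb ▸ Nat.ordProj_mul_ordCompl_eq_self _ _⟩
  obtain ⟨r, s, hrs⟩ : ∃ r s : ℤ, r * (d' : ℤ) + s * (p : ℤ) = 1 :=
    Nat.isCoprime_iff_coprime.2 (hp.coprime_iff_not_dvd.2 hd').symm
  set k := u * r
  have hk : (p : ℤ) ^ (b + 1) ∣ N χ - k * (degree χ : ℤ) := by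
    refine ⟨u * s, ?_⟩
    rw [hu, hvb, ← hdd, pow_succ]
    push_cast
    linear_combination -((p : ℤ) ^ b * u) * hrs
  have hcong : ∀ ψ, (p : ℤ) ^ (b + 1) ∣ N ψ - k * eB ψ := by
    intro ψ
    by_cases hψ : ψ ∈ B
    · have h1 := memLocalIdeal_regInner_div_sub hpM hp χ (Blocks.sameBlock_of_mem hB hψ hχ)
      rw [hNr, hNr, apply_one_eq_degree, apply_one_eq_degree] at h1
      rw [← hvb, ← memLocalIdeal_intCast_div_iff (M := M) hpM _ (degree_pos χ).ne'] at hk
      have hne : (degree χ : ℂ) ≠ 0 := Nat.cast_ne_zero.2 (degree_pos χ).ne'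
      have hne' : (degree ψ : ℂ) ≠ 0 := Nat.cast_ne_zero.2 (degree_pos ψ).ne'
      have h2 := Blocks.MemLocalIdeal.add h1 hk
      have h3 : (((N ψ - k * eB ψ : ℤ)) : ℂ) / (degree ψ : ℂ) =
          (N ψ : ℂ) / degree ψ - (N χ : ℂ) / degree χ +
            ((N χ - k * (degree χ : ℤ) : ℤ) : ℂ) / degree χ := by
        simp only [eB, if_pos hψ]
        push_cast
        field_simp
        ring
      rw [← h3, memLocalIdeal_intCast_div_iff hpM _ (degree_pos ψ).ne'] at h2
      exact (pow_dvd_pow _ (Nat.add_le_add_right (sInf_le_factorization_degree hψ) 1)).trans h2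
    · have h1 := hNr ψ
      rw [regInner, classInner_smul_left, classInner_regFun_of_not_sameBlock hpM hp
        (Blocks.not_sameBlock_of_mem hB hχ hψ), mul_zero] at h1
      have hz : N ψ = 0 := by exact_mod_cast h1.symm
      simp [eB, if_neg hψ, hz]
  have hdvd2 := pow_dvd_sum_mul_degree hp (fun ψ => N ψ - k * eB ψ) (b + 1) hcong fun x hx => by
    have h1 := congrFun hN x
    simp only [Pi.smul_apply, regFun, if_pos hx, smul_zero, Finset.sum_apply, smul_eq_mul] at h1
    push_cast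
    simp only [sub_mul, Finset.sum_sub_distrib, mul_assoc, ← Finset.mul_sum, hevan x hx, ← h1]
    ring
  have hN1 : ∑ ψ, N ψ * (degree ψ : ℤ) = (p : ℤ) ^ a * (degree χ : ℤ) := by
    have h1 := congrFun hN 1
    simp only [Pi.smul_apply, regFun, orderOf_one, Nat.dvd_one, if_neg hp.ne_one, Finset.sum_apply,
      smul_eq_mul, apply_one_eq_degree] at h1
    exact_mod_cast h1.symm
  simp only [sub_mul, Finset.sum_sub_distrib, mul_assoc, ← Finset.mul_sum, heS, hN1] at hdvd2
  rw [← ha] at hdvd2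
  have hnot : ¬ p ^ (a + b + 1) ∣ S := by
    intro h
    have h' : (p : ℤ) ^ (a + b + 1) ∣ (S : ℤ) := by exact_mod_cast h
    have h2 := dvd_add hdvd2 (Dvd.dvd.mul_left h' k)
    rw [sub_add_cancel, pow_add,
      mul_dvd_mul_iff_left (pow_ne_zero _ (Int.natCast_ne_zero.2 hp.ne_zero))] at h2
    have h3 : p ^ (b + 1) ∣ degree χ := by exact_mod_cast h2
    have := (hp.pow_dvd_iff_le_factorization (degree_pos χ).ne').1 h3
    omega
  rw [hp.pow_dvd_iff_le_factorization hS0] at hnot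
  have hdvd1' : p ^ (a + b) ∣ S := by exact_mod_cast hdvd1
  rw [hp.pow_dvd_iff_le_factorization hS0] at hdvd1'
  show S.factorization p = 2 * a - (a - b)
  omega

end Cfsg.Agent.Char
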