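import Cfsg.Prelude.Def_Characters
import Mathlib.LinearAlgebra.Matrix.PosDef
import Mathlib.RepresentationTheory.Maschke

/-!
# Characters: basic API

The bridge between `Cfsg.IsCharacter` and representations on arbitrary finite-dimensional
spaces, closure properties, and elementary facts about `Cfsg.classInner`.
-/

set_option linter.style.haveILetI false

namespace Cfsg.Agent.Char

open scoped ComplexConjugate ComplexOrder
open Representation Matrix Module

universe u v w

section Transport

variable {G : Type u} [Monoid G]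
variable {V : Type v} [AddCommGroup V] [Module ℂ V] {W : Type w} [AddCommGroup W] [Module ℂ W]

/-- Transport of a representation along a linear equivalence. -/
noncomputable def conjRep (ρ : Representation ℂ G V) (e : V ≃ₗ[ℂ] W) : Representation ℂ G W where
  toFun g := e.conj (ρ g)
  map_one' := by ext x; simp [LinearEquiv.conj_apply]
  map_mul' g h := by ext x; simp [LinearEquiv.conj_apply]

@[simp] theorem conjRep_apply (ρ : Representation ℂ G V) (e : V ≃ₗ[ℂ] W) (g : G) (x : W) :
    conjRep ρ e g x = e (ρ g (e.symm x)) := rfl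

/-- `ρ` is equivalent to its transport. -/
noncomputable def conjRepEquiv (ρ : Representation ℂ G V) (e : V ≃ₗ[ℂ] W) :
    Representation.Equiv ρ (conjRep ρ e) :=
  Representation.Equiv.mk e fun g => by ext x; simp

theorem character_conjRep (ρ : Representation ℂ G V) (e : V ≃ₗ[ℂ] W) :
    (conjRep ρ e).character = ρ.character :=
  (Representation.char_iso (conjRepEquiv ρ e)).symm

/-- Subrepresentations correspond under transport. -/
noncomputable def conjRepSubIso (ρ : Representation ℂ G V) (e : V ≃ₗ[ℂ] W) :
    Subrepresentation ρ ≃o Subrepresentation (conjRep ρ e) where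
  toFun S := ⟨S.toSubmodule.map (e : V →ₗ[ℂ] W), fun g x hx => by
    obtain ⟨y, hy, rfl⟩ := hx
    exact ⟨ρ g y, S.apply_mem_toSubmodule g hy, by simp⟩⟩
  invFun T := ⟨T.toSubmodule.comap (e : V →ₗ[ℂ] W), fun g x hx => by
    have := T.apply_mem_toSubmodule g hx
    simpa using this⟩
  left_inv S := by
    apply Subrepresentation.toSubmodule_injective
    exact Submodule.comap_map_eq_of_injective e.injective _
  right_inv T := by
    apply Subrepresentation.toSubmodule_injective
    exact Submodule.map_comap_eq_of_surjective e.surjective _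
  map_rel_iff' {S T} := by
    exact Submodule.map_le_map_iff_of_injective (f := (e : V →ₗ[ℂ] W)) e.injective S.toSubmodule
      T.toSubmodule

theorem isIrreducible_conjRep_iff (ρ : Representation ℂ G V) (e : V ≃ₗ[ℂ] W) :
    (conjRep ρ e).IsIrreducible ↔ ρ.IsIrreducible :=
  (OrderIso.isSimpleOrder_iff (conjRepSubIso ρ e)).symm

/-- An irreducible representation acts on a nontrivial space. -/
theorem nontrivial_of_isIrreducible (ρ : Representation ℂ G V) [ρ.IsIrreducible] : Nontrivial V := by
  by_contra h
  rw [not_nontrivial_iff_subsingleton] at h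
  have hne : (⊥ : Subrepresentation ρ) ≠ ⊤ := bot_ne_top
  exact hne (Subrepresentation.toSubmodule_injective (Subsingleton.elim _ _))

/-- A one-dimensional representation is irreducible. -/
theorem isIrreducible_of_finrank_eq_one (ρ : Representation ℂ G V) (h : finrank ℂ V = 1) :
    ρ.IsIrreducible := by
  haveI : Nontrivial V := Module.nontrivial_of_finrank_eq_succ h
  haveI hS : IsSimpleOrder (Submodule ℂ V) := is_simple_module_of_finrank_eq_one h
  refine { exists_pair_ne := ⟨⊥, ⊤, fun he => ?_⟩, eq_bot_or_eq_top := fun S => ?_ }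
  · exact bot_ne_top (α := Submodule ℂ V) (congrArg Subrepresentation.toSubmodule he)
  · rcases eq_bot_or_eq_top S.toSubmodule with h' | h'
    · exact Or.inl (Subrepresentation.toSubmodule_injective h')
    · exact Or.inr (Subrepresentation.toSubmodule_injective h')

end Transport

section Bridge

variable {G : Type u} [Group G]
variable {V : Type v} [AddCommGroup V] [Module ℂ V] [FiniteDimensional ℂ V]

/-- The character of any finite-dimensional representation is a character. -/
theorem isCharacter_character (ρ : Representation ℂ G V) : IsCharacter G ρ.character :=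
  ⟨_, conjRep ρ (Module.finBasis ℂ V).equivFun, character_conjRep ρ _⟩

/-- The character of any irreducible finite-dimensional representation is irreducible. -/
theorem isIrrCharacter_character (ρ : Representation ℂ G V) (h : ρ.IsIrreducible) :
    IsIrrCharacter G ρ.character :=
  ⟨_, conjRep ρ (Module.finBasis ℂ V).equivFun, (isIrreducible_conjRep_iff ρ _).2 h,
    character_conjRep ρ _⟩

theorem IsIrrCharacter.isCharacter {χ : G → ℂ} (h : IsIrrCharacter G χ) : IsCharacter G χ :=
  let ⟨n, ρ, _, hρ⟩ := h; ⟨n, ρ, hρ⟩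

theorem irr_isCharacter (χ : IrrCharacter G) : IsCharacter G χ.1 :=
  IsIrrCharacter.isCharacter χ.2

theorem IsCharacter.apply_one {χ : G → ℂ} (h : IsCharacter G χ) : ∃ n : ℕ, χ 1 = n := by
  obtain ⟨n, ρ, rfl⟩ := h
  exact ⟨n, by simp⟩

theorem IsCharacter.eq_zero_of_apply_one {χ : G → ℂ} (h : IsCharacter G χ) (h1 : χ 1 = 0) :
    χ = 0 := by
  obtain ⟨n, ρ, rfl⟩ := h
  simp at h1
  subst h1
  funext g
  have : ρ g = 0 := Subsingleton.elim _ _
  simp [Representation.character, this]

theorem IsIrrCharacter.exists_degree {χ : G → ℂ} (h : IsIrrCharacter G χ) :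
    ∃ n : ℕ, 0 < n ∧ χ 1 = n := by
  obtain ⟨n, ρ, hρ, rfl⟩ := h
  refine ⟨n, ?_, by simp⟩
  haveI := hρ
  haveI := nontrivial_of_isIrreducible ρ
  have := Module.finrank_pos (R := ℂ) (M := Fin n → ℂ)
  simpa using this

theorem IsIrrCharacter.apply_one_ne_zero {χ : G → ℂ} (h : IsIrrCharacter G χ) : χ 1 ≠ 0 := by
  obtain ⟨n, hn, h1⟩ := IsIrrCharacter.exists_degree h
  rw [h1]; exact_mod_cast hn.ne'

theorem IsIrrCharacter.ne_zero {χ : G → ℂ} (h : IsIrrCharacter G χ) : χ ≠ 0 := fun h0 =>
  IsIrrCharacter.apply_one_ne_zero h (by rw [h0]; rfl)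

/-- The degree of an irreducible character, as a natural number. -/
noncomputable def degree (χ : IrrCharacter G) : ℕ :=
  Classical.choose (IsIrrCharacter.exists_degree χ.2)

theorem degree_pos (χ : IrrCharacter G) : 0 < degree χ :=
  (Classical.choose_spec (IsIrrCharacter.exists_degree χ.2)).1

theorem apply_one_eq_degree (χ : IrrCharacter G) : χ.1 1 = degree χ :=
  (Classical.choose_spec (IsIrrCharacter.exists_degree χ.2)).2

theorem IsCharacter.isClassFunction {χ : G → ℂ} (h : IsCharacter G χ) : IsClassFunction G χ := by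
  obtain ⟨n, ρ, rfl⟩ := h
  exact fun g x => Representation.char_conj ρ g x

theorem IsClassFunction.apply_mul_comm {θ : G → ℂ} (h : IsClassFunction G θ) (a b : G) :
    θ (a * b) = θ (b * a) := by
  have := h (b * a) a
  rwa [show a * (b * a) * a⁻¹ = a * b by group] at this

theorem IsClassFunction.apply_of_isConj {θ : G → ℂ} (h : IsClassFunction G θ) {a b : G}
    (hab : IsConj a b) : θ a = θ b := by
  obtain ⟨c, hc⟩ := isConj_iff.1 hab
  rw [← hc, h a c]

/-! ### Closure properties -/

theorem IsCharacter.zero : IsCharacter G (0 : G → ℂ) :=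
  ⟨0, 1, funext fun g => by
    simp [Representation.character, Subsingleton.elim (1 : Module.End ℂ (Fin 0 → ℂ)) 0]⟩

theorem IsCharacter.add {χ ψ : G → ℂ} (h₁ : IsCharacter G χ) (h₂ : IsCharacter G ψ) :
    IsCharacter G (χ + ψ) := by
  obtain ⟨m, ρ, rfl⟩ := h₁
  obtain ⟨n, σ, rfl⟩ := h₂
  have h : (ρ.prod σ).character = ρ.character + σ.character := by
    funext g
    exact LinearMap.trace_prodMap' (ρ g) (σ g)
  rw [← h]
  exact isCharacter_character _

theorem IsCharacter.nsmul {χ : G → ℂ} (h : IsCharacter G χ) (n : ℕ) : IsCharacter G (n • χ) := by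
  induction n with
  | zero => rw [zero_smul]; exact IsCharacter.zero
  | succ n ih => rw [succ_nsmul]; exact IsCharacter.add ih h

theorem IsCharacter.natCast_smul {χ : G → ℂ} (h : IsCharacter G χ) (n : ℕ) :
    IsCharacter G ((n : ℂ) • χ) := by
  rw [Nat.cast_smul_eq_nsmul]; exact IsCharacter.nsmul h n

theorem IsCharacter.sum {ι : Type*} (s : Finset ι) {f : ι → G → ℂ}
    (h : ∀ i ∈ s, IsCharacter G (f i)) : IsCharacter G (∑ i ∈ s, f i) :=
  Finset.sum_induction f _ (fun _ _ => IsCharacter.add) IsCharacter.zero h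

theorem IsCharacter.mul {χ ψ : G → ℂ} (h₁ : IsCharacter G χ) (h₂ : IsCharacter G ψ) :
    IsCharacter G (χ * ψ) := by
  obtain ⟨m, ρ, rfl⟩ := h₁
  obtain ⟨n, σ, rfl⟩ := h₂
  rw [← Representation.char_tensor ρ σ]
  exact isCharacter_character _

theorem IsCharacter.comp {H : Type v} [Group H] {χ : G → ℂ} (h : IsCharacter G χ) (f : H →* G) :
    IsCharacter H (fun x => χ (f x)) := by
  obtain ⟨m, ρ, rfl⟩ := h
  exact ⟨m, ρ.comp f, rfl⟩

theorem IsCharacter.restrict {χ : G → ℂ} (h : IsCharacter G χ) (H : Subgroup G) :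
    IsCharacter H (fun x => χ x) :=
  IsCharacter.comp h H.subtype

theorem IsIrrCharacter.comp_surjective {H : Type v} [Group H] {χ : G → ℂ}
    (h : IsIrrCharacter G χ) (f : H →* G) (hf : Function.Surjective f) :
    IsIrrCharacter H (fun x => χ (f x)) := by
  obtain ⟨m, ρ, hρ, rfl⟩ := h
  refine ⟨m, ρ.comp f, ?_, rfl⟩
  let e : Subrepresentation ρ ≃o Subrepresentation (G := H) (ρ.comp f) :=
    { toFun := fun S => ⟨S.toSubmodule, fun g _ hv => S.apply_mem_toSubmodule (f g) hv⟩
      invFun := fun S => ⟨S.toSubmodule, fun g v hv => by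
        obtain ⟨x, rfl⟩ := hf g
        exact S.apply_mem_toSubmodule x hv⟩
      left_inv := fun _ => rfl
      right_inv := fun _ => rfl
      map_rel_iff' := Iff.rfl }
  exact (OrderIso.isSimpleOrder_iff e).1 hρ

/-- A homomorphism to `ℂ` as a representation on `ℂ`. -/
noncomputable def linearRep (lam : G →* ℂ) : Representation ℂ G ℂ :=
  (Algebra.lsmul ℂ ℂ ℂ).toMonoidHom.comp lam

theorem character_linearRep (lam : G →* ℂ) : (linearRep lam).character = ⇑lam := by
  funext g
  rw [Representation.character, LinearMap.trace_eq_matrix_trace ℂ (Basis.singleton Unit ℂ)]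
  simp [Matrix.trace, linearRep]

theorem isIrrCharacter_of_monoidHom (lam : G →* ℂ) : IsIrrCharacter G (lam : G → ℂ) := by
  rw [← character_linearRep lam]
  exact isIrrCharacter_character _ (isIrreducible_of_finrank_eq_one _ (Module.finrank_self ℂ))

theorem isIrrCharacter_one : IsIrrCharacter G (fun _ => (1 : ℂ)) :=
  isIrrCharacter_of_monoidHom (1 : G →* ℂ)

theorem isCharacter_one : IsCharacter G (fun _ => (1 : ℂ)) :=
  IsIrrCharacter.isCharacter isIrrCharacter_one

/-- The trivial character. -/
noncomputable def trivialChar (G : Type u) [Group G] : IrrCharacter G :=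
  ⟨fun _ => 1, isIrrCharacter_one⟩

@[simp] theorem trivialChar_apply (g : G) : (trivialChar G).1 g = 1 := rfl

theorem isCharacter_natCast (n : ℕ) : IsCharacter G (fun _ => (n : ℂ)) := by
  have := IsCharacter.natCast_smul (isCharacter_one (G := G)) n
  convert this using 1
  funext g; simp

/-! ### Complex conjugation -/

section Conj

variable [Finite G]

theorem conj_character_coord {n : ℕ} (ρ : Representation ℂ G (Fin n → ℂ)) (g : G) :
    conj (ρ.character g) = ρ.character g⁻¹ := by
  classical
  haveI := Fintype.ofFinite G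
  set A : G → Matrix (Fin n) (Fin n) ℂ := fun h => LinearMap.toMatrix' (ρ h) with hA
  have hAm : ∀ a b, A (a * b) = A a * A b := fun a b => by
    simp [hA, map_mul, LinearMap.toMatrix'_mul]
  have hA1 : A 1 = 1 := by simp [hA, map_one, Module.End.one_eq_id]
  have htr : ∀ h, ρ.character h = (A h).trace := fun h => by
    rw [Representation.character, LinearMap.trace_eq_matrix_trace ℂ (Pi.basisFun ℂ (Fin n)),
      LinearMap.toMatrix_eq_toMatrix']
  set P : Matrix (Fin n) (Fin n) ℂ := ∑ h, (A h)ᴴ * A h with hP
  have hPinv : (A g)ᴴ * P * A g = P := by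
    rw [hP, Finset.mul_sum, Finset.sum_mul]
    refine Fintype.sum_equiv (Equiv.mulRight g) _ _ fun h => ?_
    simp [hAm, Matrix.mul_assoc, Matrix.conjTranspose_mul]
  have hpd : P.PosDef := by
    rw [hP, ← Finset.add_sum_erase _ _ (Finset.mem_univ (1 : G))]
    refine Matrix.PosDef.add_posSemidef ?_ (Matrix.posSemidef_sum _ fun h _ =>
      Matrix.posSemidef_conjTranspose_mul_self (A h))
    rw [hA1]
    simpa using Matrix.PosDef.one (n := Fin n) (R := ℂ)
  have hu : IsUnit P.det := (Matrix.isUnit_iff_isUnit_det P).1 hpd.isUnit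
  have key : (A g)ᴴ * P = P * A g⁻¹ := by
    conv_rhs => rw [← hPinv]
    rw [Matrix.mul_assoc ((A g)ᴴ * P), ← hAm, mul_inv_cancel, hA1, Matrix.mul_one]
  rw [htr, htr, starRingEnd_apply, ← Matrix.trace_conjTranspose]
  calc ((A g)ᴴ).trace = ((A g)ᴴ * P * P⁻¹).trace := by
        rw [Matrix.mul_nonsing_inv_cancel_right _ _ hu]
    _ = (P * A g⁻¹ * P⁻¹).trace := by rw [key]
    _ = (A g⁻¹).trace := by
        rw [Matrix.trace_mul_cycle, Matrix.nonsing_inv_mul _ hu, Matrix.one_mul]

theorem conj_character (ρ : Representation ℂ G V) (g : G) :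
    conj (ρ.character g) = ρ.character g⁻¹ := by
  rw [← character_conjRep ρ (Module.finBasis ℂ V).equivFun]
  exact conj_character_coord _ g

theorem IsCharacter.conj_apply {χ : G → ℂ} (h : IsCharacter G χ) (g : G) :
    conj (χ g) = χ g⁻¹ := by
  obtain ⟨n, ρ, rfl⟩ := h
  exact conj_character_coord ρ g

theorem IsCharacter.conj {χ : G → ℂ} (h : IsCharacter G χ) :
    IsCharacter G (fun g => conj (χ g)) := by
  obtain ⟨n, ρ, rfl⟩ := h
  have : (fun g => starRingEnd ℂ (ρ.character g)) = ρ.dual.character := by
    funext g; rw [conj_character_coord, Representation.char_dual]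
  rw [this]
  exact isCharacter_character _

theorem IsCharacter.inv {χ : G → ℂ} (h : IsCharacter G χ) :
    IsCharacter G (fun g => χ g⁻¹) := by
  have := IsCharacter.conj h
  simp only [IsCharacter.conj_apply h] at this
  exact this

end Conj

end Bridge

/-! ### The inner product -/

section Inner

variable {G : Type u} [Group G] [Fintype G]

theorem card_ne_zero : (Nat.card G : ℂ) ≠ 0 := Nat.cast_ne_zero.2 Nat.card_pos.ne'

theorem classInner_add_left (φ φ' ψ : G → ℂ) :
    classInner (φ + φ') ψ = classInner φ ψ + classInner φ' ψ := by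
  simp [classInner, add_mul, Finset.sum_add_distrib, mul_add]

theorem classInner_add_right (φ ψ ψ' : G → ℂ) :
    classInner φ (ψ + ψ') = classInner φ ψ + classInner φ ψ' := by
  simp [classInner, mul_add, Finset.sum_add_distrib]

theorem classInner_smul_left (c : ℂ) (φ ψ : G → ℂ) :
    classInner (c • φ) ψ = c * classInner φ ψ := by
  simp [classInner, Finset.mul_sum, mul_assoc, mul_left_comm]

theorem classInner_smul_right (c : ℂ) (φ ψ : G → ℂ) :
    classInner φ (c • ψ) = conj c * classInner φ ψ := by
  simp [classInner, Finset.mul_sum, mul_left_comm]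

@[simp] theorem classInner_zero_left (ψ : G → ℂ) : classInner 0 ψ = 0 := by simp [classInner]

@[simp] theorem classInner_zero_right (φ : G → ℂ) : classInner φ 0 = 0 := by simp [classInner]

theorem classInner_neg_left (φ ψ : G → ℂ) : classInner (-φ) ψ = -classInner φ ψ := by
  simp [classInner]

theorem classInner_neg_right (φ ψ : G → ℂ) : classInner φ (-ψ) = -classInner φ ψ := by
  simp [classInner]

theorem classInner_sub_left (φ φ' ψ : G → ℂ) :
    classInner (φ - φ') ψ = classInner φ ψ - classInner φ' ψ := by
  rw [sub_eq_add_neg, classInner_add_left, classInner_neg_left, sub_eq_add_neg]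

theorem classInner_sub_right (φ ψ ψ' : G → ℂ) :
    classInner φ (ψ - ψ') = classInner φ ψ - classInner φ ψ' := by
  rw [sub_eq_add_neg, classInner_add_right, classInner_neg_right, sub_eq_add_neg]

theorem classInner_sum_left {ι : Type*} (s : Finset ι) (φ : ι → G → ℂ) (ψ : G → ℂ) :
    classInner (∑ i ∈ s, φ i) ψ = ∑ i ∈ s, classInner (φ i) ψ := by
  classical
  induction s using Finset.induction with
  | empty => simp
  | insert i s hi ih => simp [Finset.sum_insert hi, classInner_add_left, ih]

theorem classInner_sum_right {ι : Type*} (s : Finset ι) (φ : G → ℂ) (ψ : ι → G → ℂ) :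
    classInner φ (∑ i ∈ s, ψ i) = ∑ i ∈ s, classInner φ (ψ i) := by
  classical
  induction s using Finset.induction with
  | empty => simp
  | insert i s hi ih => simp [Finset.sum_insert hi, classInner_add_right, ih]

theorem conj_classInner (φ ψ : G → ℂ) : conj (classInner φ ψ) = classInner ψ φ := by
  simp [classInner, map_sum, mul_comm]

theorem classInner_self (φ : G → ℂ) :
    classInner φ φ = (((Nat.card G : ℝ)⁻¹ * ∑ g, Complex.normSq (φ g) : ℝ) : ℂ) := by
  simp [classInner, Complex.mul_conj]

theorem classInner_self_eq_zero {φ : G → ℂ} (h : classInner φ φ = 0) : φ = 0 := by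
  rw [classInner_self, Complex.ofReal_eq_zero, mul_eq_zero] at h
  have hc : (Nat.card G : ℝ)⁻¹ ≠ 0 := inv_ne_zero (Nat.cast_ne_zero.2 Nat.card_pos.ne')
  have := (Finset.sum_eq_zero_iff_of_nonneg fun g _ => Complex.normSq_nonneg (φ g)).1
    (h.resolve_left hc)
  funext g
  exact Complex.normSq_eq_zero.1 (this g (Finset.mem_univ g))

/-- The inner product of two characters is the dimension of a space of intertwining maps. -/
theorem classInner_character {V : Type v} [AddCommGroup V] [Module ℂ V] [FiniteDimensional ℂ V]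
    {W : Type w} [AddCommGroup W] [Module ℂ W] [FiniteDimensional ℂ W]
    (ρ : Representation ℂ G V) (σ : Representation ℂ G W) :
    classInner σ.character ρ.character = Module.finrank ℂ (IntertwiningMap ρ σ) := by
  haveI : Invertible (Nat.card G : ℂ) := invertibleOfNonzero card_ne_zero
  rw [classInner, ← Representation.card_inv_mul_sum_char_mul_char_eq_finrank ρ σ]
  simp [conj_character]

theorem IsCharacter.exists_nat_classInner {χ ψ : G → ℂ} (h₁ : IsCharacter G χ)
    (h₂ : IsCharacter G ψ) : ∃ n : ℕ, classInner χ ψ = n := by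
  obtain ⟨m, ρ, rfl⟩ := h₁
  obtain ⟨n, σ, rfl⟩ := h₂
  exact ⟨_, classInner_character σ ρ⟩

end Inner

end Cfsg.Agent.Char
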