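import Cfsg.Agent.Lib.FullyRam.Basic
import Cfsg.Agent.Lib.Char.PRegular
import Cfsg.Agent.Lib.CharInt.Basic
import Cfsg.Agent.Lib.Char.Gallagher
import Mathlib.GroupTheory.SpecificGroups.Cyclic

/-!
# An invariant character with at most two characters over it

`L ⊴ G`, `θ ∈ Irr L` invariant. Every class of `G / L` of nonidentity elements with cyclic
centralizer adds one to the number of characters over `θ` (`card_add_one_le`). With at most two
characters over `θ` and an element of `G / L` of prime order `u` with centralizer of order `u`,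
`u = x² + y²` and `|G / L| = u t²` with `x, y > 0` (`exists_sq_add_sq`).
-/

set_option autoImplicit false
set_option linter.style.haveILetI false
set_option linter.unusedSectionVars false

namespace Cfsg.Agent.Char.TwoOver

open Cfsg
open scoped ComplexConjugate

universe u

variable {G : Type u} [Group G] [Fintype G] (L : Subgroup G) [L.Normal] [Fintype L]
  (θ : IrrCharacter L)

/-- `η` lies over `θ`. -/
def Over (η : IrrCharacter G) : Prop := classInner (resFun L η.1) θ.1 ≠ 0

variable {L θ}

/-- A character of an intermediate subgroup over `θ` only lies under characters over `θ`. -/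
theorem over_of_constituent {X : Subgroup G} [Fintype X] (hX : L ≤ X) (η : IrrCharacter G)
    (ψ : IrrCharacter X) (h1 : classInner (resFun X η.1) ψ.1 ≠ 0)
    (h2 : classInner (resIncl L hX ψ.1) θ.1 ≠ 0) : Over L θ η := by
  classical
  obtain ⟨m, hm, hm'⟩ := IsCharacter.exists_decomp (IsCharacter.restrict (irr_isCharacter η) X)
  choose k hk using fun ψ' : IrrCharacter X => exists_nat_classInner_resIncl L hX θ ψ'
  have hsum : classInner (resFun L η.1) θ.1 = ((∑ ψ' : IrrCharacter X, m ψ' * k ψ' : ℕ) : ℂ) := by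
    have hrw : resFun L η.1 =
        ∑ ψ' : IrrCharacter X, (m ψ' : ℂ) • resIncl L hX ψ'.1 := by
      funext n
      have := congrFun hm (Subgroup.inclusion hX n)
      simpa using this
    rw [hrw, classInner_sum_left]
    push_cast
    exact Finset.sum_congr rfl fun ψ' _ => by rw [classInner_smul_left, hk]
  intro h0
  rw [hsum, Nat.cast_eq_zero] at h0
  rcases mul_eq_zero.1 ((Finset.sum_eq_zero_iff.1 h0) ψ (Finset.mem_univ _)) with h | h
  · exact h1 (by rw [show resFun X η.1 = fun x : X => η.1 x from rfl, hm', h, Nat.cast_zero])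
  · exact h2 (by rw [hk, h, Nat.cast_zero])

/-- The class function attached to an element of `G / L` with cyclic centralizer. -/
theorem exists_fun (hinv : ∀ g, conjFun L θ.1 g = θ.1) (q : G ⧸ L)
    (hcyc : IsCyclic (Subgroup.centralizer ({q} : Set (G ⧸ L)))) :
    ∃ f : G → ℂ, IsClassFunction G f ∧
      (∀ η : IrrCharacter G, ¬ Over L θ η → classInner f η.1 = 0) ∧
      (∀ x : G, f x ≠ 0 → IsConj (x : G ⧸ L) q) ∧
      classInner f f = (Nat.card (Subgroup.centralizer ({q} : Set (G ⧸ L))) : ℂ)⁻¹ ∧
      ∀ η : IrrCharacter G, IsIntegral ℤ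
        ((Nat.card (Subgroup.centralizer ({q} : Set (G ⧸ L))) : ℂ) * classInner f η.1) := by
  classical
  set C := Subgroup.centralizer ({q} : Set (G ⧸ L)) with hC
  set X := C.comap (QuotientGroup.mk' L) with hXdef
  have hLX : L ≤ X := fun x hx => by
    rw [hXdef, Subgroup.mem_comap, QuotientGroup.mk'_apply, (QuotientGroup.eq_one_iff x).2 hx]
    exact one_mem C
  have hqC : q ∈ C := Subgroup.mem_centralizer_singleton_iff.2 rfl
  haveI := Fintype.ofFinite X
  haveI := Fintype.ofFinite (L.subgroupOf X)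
  haveI := Fintype.ofFinite (X ⧸ L.subgroupOf X)
  obtain ⟨ξ, hξ⟩ := FullyRam.exists_ext_cyclic L hLX θ (fun g _ => hinv g) (by
    rw [hXdef, Subgroup.map_comap_eq_self_of_surjective (QuotientGroup.mk'_surjective L)]
    exact hcyc)
  have hres : IsIrrCharacter (L.subgroupOf X) (resFun (L.subgroupOf X) ξ.1) := by
    have e : resFun (L.subgroupOf X) ξ.1 = (toSubgroupOf L hLX θ).1 := funext fun x =>
      (hξ ⟨_, Subgroup.mem_subgroupOf.1 x.2⟩).trans rfl
    rw [e]
    exact (toSubgroupOf L hLX θ).2
  obtain ⟨g₀, hg₀⟩ := QuotientGroup.mk'_surjective L q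
  have hg₀X : g₀ ∈ X := by rw [hXdef, Subgroup.mem_comap, hg₀]; exact hqC
  -- the quotient is commutative, of order `|C|`
  have hcommC : ∀ a ∈ C, ∀ b ∈ C, a * b = b * a := fun a ha b hb =>
    congrArg Subtype.val (hcyc.commGroup.mul_comm ⟨a, ha⟩ ⟨b, hb⟩)
  have hXm : ∀ a : X, ((a : G) : G ⧸ L) ∈ C := fun a => Subgroup.mem_comap.1 a.2
  have hcomm : ∀ a b : X ⧸ L.subgroupOf X, a * b = b * a := by
    intro a b
    obtain ⟨a, rfl⟩ := QuotientGroup.mk_surjective a
    obtain ⟨b, rfl⟩ := QuotientGroup.mk_surjective b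
    rw [← QuotientGroup.mk_mul, ← QuotientGroup.mk_mul, QuotientGroup.eq, Subgroup.mem_subgroupOf]
    refine (QuotientGroup.eq_one_iff _).1 ?_
    simp only [Subgroup.coe_mul, Subgroup.coe_inv, QuotientGroup.mk_mul, QuotientGroup.mk_inv]
    rw [hcommC _ (hXm a) _ (hXm b)]
    exact inv_mul_cancel _
  have hcard : Nat.card (X ⧸ L.subgroupOf X) = Nat.card C := by
    have h1 : X.index = C.index :=
      Subgroup.index_comap_of_surjective _ (QuotientGroup.mk'_surjective L)
    have h2 : Nat.card X = Nat.card (X ⧸ L.subgroupOf X) * Nat.card L := by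
      rw [(L.subgroupOf X).card_eq_card_quotient_mul_card_subgroup,
        Nat.card_congr (Subgroup.subgroupOfEquivOfLe hLX).toEquiv]
    have h3 : Nat.card X * X.index = Nat.card C * C.index * Nat.card L := by
      rw [X.card_mul_index, C.card_mul_index, ← L.card_eq_card_quotient_mul_card_subgroup]
    rw [h1, h2] at h3
    have hpos : 0 < C.index * Nat.card L :=
      Nat.mul_pos (Nat.pos_of_ne_zero C.index_ne_zero_of_finite) Nat.card_pos
    exact Nat.eq_of_mul_eq_mul_right hpos (by linarith)
  set q' : X ⧸ L.subgroupOf X := ((⟨g₀, hg₀X⟩ : X) : X ⧸ L.subgroupOf X) with hq'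
  have hmk : ∀ x : X, ((x : X ⧸ L.subgroupOf X) = q' ↔ ((x : G) : G ⧸ L) = q) := fun x => by
    rw [hq', QuotientGroup.eq, Subgroup.mem_subgroupOf, ← hg₀, QuotientGroup.mk'_apply,
      QuotientGroup.eq]
    simp
  let φ : X → ℂ := fun x => if ((x : G) : G ⧸ L) = q then ξ.1 x else 0
  -- Fourier expansion
  have horth : ∀ y : X ⧸ L.subgroupOf X,
      ∑ β : IrrCharacter (X ⧸ L.subgroupOf X), β.1 y * conj (β.1 q') =
        if y = q' then (Nat.card C : ℂ) else 0 := by
    intro y
    rw [sum_irr_mul_conj]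
    have hiff : IsConj y q' ↔ y = q' := by
      refine ⟨fun h => ?_, fun h => h ▸ IsConj.refl _⟩
      obtain ⟨c, hc⟩ := isConj_iff.1 h
      rw [← hc, hcomm c y, mul_inv_cancel_right]
    by_cases h : y = q'
    swap
    · rw [if_neg h, if_neg fun h' => h (hiff.1 h')]
    · rw [if_pos h, if_pos (hiff.2 h), show Subgroup.centralizer ({q'} : Set (X ⧸ L.subgroupOf X)) = ⊤ from
        (Subgroup.eq_top_iff' _).2 fun z =>
          Subgroup.mem_centralizer_singleton_iff.2 (hcomm _ _), Subgroup.card_top, hcard]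
  have hφ : ((Nat.card C : ℂ)) • φ =
      ∑ β : IrrCharacter (X ⧸ L.subgroupOf X),
        conj (β.1 q') • mulQuotient (L.subgroupOf X) ξ.1 β.1 := by
    funext x
    simp only [Finset.sum_apply, Pi.smul_apply, mulQuotient_apply, smul_eq_mul]
    rw [Finset.sum_congr rfl fun β _ =>
      show _ = ξ.1 x * (β.1 (x : X ⧸ L.subgroupOf X) * conj (β.1 q')) by ring,
      ← Finset.mul_sum, horth, if_congr (hmk x) rfl rfl]
    simp only [φ]
    split_ifs <;> ring
  have hC0 : (Nat.card C : ℂ) ≠ 0 := Nat.cast_ne_zero.2 Nat.card_pos.ne'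
  have hφc : IsClassFunction X φ := fun a b => by
    have hconj : (((b * a * b⁻¹ : X) : G) : G ⧸ L) = ((a : G) : G ⧸ L) := by
      simp only [Subgroup.coe_mul, Subgroup.coe_inv, QuotientGroup.mk_mul, QuotientGroup.mk_inv]
      rw [hcommC _ (hXm b) _ (hXm a), mul_inv_cancel_right]
    simp only [φ, hconj, IsCharacter.isClassFunction (irr_isCharacter ξ) a b]
  -- the norm of `φ`
  have hnorm : classInner φ φ = (Nat.card C : ℂ)⁻¹ := by
    have h1 : classInner ((Nat.card C : ℂ) • φ) ((Nat.card C : ℂ) • φ) = (Nat.card C : ℂ) := by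
      conv_lhs => rw [hφ]
      rw [classInner_sum_left, Finset.sum_congr rfl fun β _ => by
        rw [classInner_smul_left, classInner_sum_right, Finset.sum_eq_single β
          (fun β' _ hne => by
            rw [classInner_smul_right, classInner_mulQuotient _ ξ hres,
              classInner_irr_of_ne β.2 β'.2 fun e => hne (Subtype.ext e.symm), mul_zero])
          (fun h => absurd (Finset.mem_univ _) h), classInner_smul_right,
          classInner_mulQuotient _ ξ hres, classInner_irr_self β.2, mul_one, Complex.conj_conj,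
          mul_comm]]
      rw [horth, if_pos rfl]
    rw [classInner_smul_left, classInner_smul_right, Complex.conj_natCast] at h1
    field_simp at h1 ⊢
    linear_combination h1
  -- inner products
  have hinner : ∀ η : IrrCharacter G, (Nat.card C : ℂ) * classInner (indFun X φ) η.1 =
      ∑ β : IrrCharacter (X ⧸ L.subgroupOf X),
        conj (β.1 q') * classInner (mulQuotient (L.subgroupOf X) ξ.1 β.1) (resFun X η.1) := by
    intro η
    rw [classInner_indFun X φ (IsCharacter.isClassFunction (irr_isCharacter η)),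
      ← classInner_smul_left, hφ, classInner_sum_left]
    exact Finset.sum_congr rfl fun β _ => by rw [classInner_smul_left]; rfl
  refine ⟨indFun X φ, isClassFunction_indFun X φ, fun η hη => ?_, fun x hx => ?_, ?_, fun η => ?_⟩
  · refine (mul_eq_zero.1 ((hinner η).trans (Finset.sum_eq_zero fun β _ => ?_))).resolve_left hC0
    by_contra hne
    refine hη (over_of_constituent hLX η
      ⟨_, isIrrCharacter_mulQuotient (L.subgroupOf X) ξ hres β⟩
      (fun h => hne (by rw [← conj_classInner, h, map_zero, mul_zero])) ?_)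
    have e : resIncl L hLX (mulQuotient (L.subgroupOf X) ξ.1 β.1) = β.1 1 • θ.1 := funext fun n => by
      simp only [resIncl_apply, mulQuotient_apply, Pi.smul_apply, smul_eq_mul, hξ n]
      rw [(QuotientGroup.eq_one_iff (Subgroup.inclusion hLX n)).2
        (Subgroup.mem_subgroupOf.2 (by simp)), mul_comm]
    rw [show resIncl L hLX (⟨_, isIrrCharacter_mulQuotient (L.subgroupOf X) ξ hres β⟩ :
      IrrCharacter X).1 = _ from e, classInner_smul_left, classInner_irr_self θ.2, mul_one]
    exact IsIrrCharacter.apply_one_ne_zero β.2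
  · by_contra hnc
    refine hx ?_
    rw [indFun, Finset.sum_eq_zero, mul_zero]
    intro y _
    by_cases hy : y⁻¹ * x * y ∈ X
    · rw [extendByZero_of_mem X φ hy]
      refine if_neg fun h => hnc (isConj_iff.2 ⟨((y⁻¹ : G) : G ⧸ L), ?_⟩)
      simpa using h
    · exact extendByZero_of_notMem X φ hy
  · rw [classInner_indFun X φ (isClassFunction_indFun X φ), ← hnorm, classInner, classInner]
    refine congrArg _ (Finset.sum_congr rfl fun y _ => ?_)
    by_cases hy : ((y : G) : G ⧸ L) = q
    swap
    · simp [φ, hy]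
    congr 2
    have hterm : ∀ a : G, extendByZero X φ (a⁻¹ * (y : G) * a) = if a ∈ X then φ y else 0 := by
      intro a
      by_cases ha : a ∈ X
      · rw [if_pos ha, show a⁻¹ * (y : G) * a =
          ((⟨a, ha⟩⁻¹ * y * ⟨a, ha⟩⁻¹⁻¹ : X) : G) by simp, extendByZero_coe, hφc]
      · rw [if_neg ha]
        by_cases hay : a⁻¹ * (y : G) * a ∈ X
        · rw [extendByZero_of_mem X φ hay]
          refine if_neg fun h => ha ?_
          simp only [QuotientGroup.mk_mul, QuotientGroup.mk_inv, hy] at h
          rw [hXdef, Subgroup.mem_comap, QuotientGroup.mk'_apply, hC,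
            Subgroup.mem_centralizer_singleton_iff]
          calc (a : G ⧸ L) * q = (a : G ⧸ L) * ((a : G ⧸ L)⁻¹ * q * a) := by rw [h]
            _ = q * a := by group
        · exact extendByZero_of_notMem X φ hay
    rw [indFun, Finset.sum_congr rfl fun a _ => hterm a, ← Finset.sum_filter,
      Finset.sum_const, nsmul_eq_mul, ← Fintype.card_subtype, ← Nat.card_eq_fintype_card,
      ← mul_assoc, inv_mul_cancel₀ (Nat.cast_ne_zero.2 Nat.card_pos.ne'), one_mul]
  · rw [hinner η]
    refine IsIntegral.sum _ fun β _ => IsIntegral.mul ?_ ?_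
    · rw [IsCharacter.conj_apply (irr_isCharacter β)]
      exact CharInt.isIntegral_char (irr_isCharacter β) _
    · obtain ⟨k, hk⟩ := IsCharacter.exists_nat_classInner
        (irr_isCharacter ⟨_, isIrrCharacter_mulQuotient (L.subgroupOf X) ξ hres β⟩)
        (IsCharacter.restrict (irr_isCharacter η) X)
      rw [show classInner (mulQuotient (L.subgroupOf X) ξ.1 β.1) (resFun X η.1) = (k : ℂ) from hk]
      exact_mod_cast (isIntegral_algebraMap (R := ℤ) (A := ℂ) (x := (k : ℤ)))

/-- A class function without component off the characters over `θ`. -/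
theorem mem_span_over {f : G → ℂ} (hf : IsClassFunction G f)
    (h0 : ∀ η : IrrCharacter G, ¬ Over L θ η → classInner f η.1 = 0) :
    f ∈ Submodule.span ℂ ((fun η : IrrCharacter G => η.1) '' {η | Over L θ η}) := by
  rw [eq_sum_classInner_smul hf]
  refine Submodule.sum_mem _ fun η _ => ?_
  by_cases hη : Over L θ η
  · exact Submodule.smul_mem _ _ (Submodule.subset_span ⟨η, hη, rfl⟩)
  · rw [h0 η hη, zero_smul]
    exact Submodule.zero_mem _

/-- Classes of `G / L` with cyclic centralizers and the number of characters over `θ`. -/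
theorem card_add_one_le (hinv : ∀ g, conjFun L θ.1 g = θ.1) {ι : Type*} [Fintype ι]
    (q : ι → G ⧸ L) (h1 : ∀ i, q i ≠ 1)
    (hcyc : ∀ i, IsCyclic (Subgroup.centralizer ({q i} : Set (G ⧸ L))))
    (hne : ∀ i j, i ≠ j → ¬ IsConj (q i) (q j)) :
    Fintype.card ι + 1 ≤ Nat.card {η // Over L θ η} := by
  classical
  choose f hfc hf0 hfs hfn hfi using fun i => exists_fun hinv (q i) (hcyc i)
  let v : Option ι → G → ℂ := fun o => o.elim (indFun L θ.1) f
  have hzero : ∀ i, ∀ x ∈ L, f i x = 0 := fun i x hx => by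
    by_contra h
    have := hfs i x h
    rw [(QuotientGroup.eq_one_iff x).2 hx, isConj_one_right] at this
    exact h1 i this
  have hind1 : indFun L θ.1 1 ≠ 0 := by
    rw [indFun_apply_one]
    exact mul_ne_zero (Nat.cast_ne_zero.2 L.index_ne_zero_of_finite)
      (IsIrrCharacter.apply_one_ne_zero θ.2)
  have hfne : ∀ i, ∃ x, f i x ≠ 0 := fun i => by
    by_contra! h
    have h2 : f i = 0 := funext h
    have := hfn i
    rw [h2, show classInner (0 : G → ℂ) 0 = 0 by simp [classInner]] at this
    exact Nat.card_pos.ne' (Nat.cast_eq_zero.1 (inv_eq_zero.1 this.symm))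
  have hli : LinearIndependent ℂ v := by
    rw [Fintype.linearIndependent_iff]
    intro a ha o
    have hpt : ∀ x, ∑ o', a o' * v o' x = 0 := fun x => by
      simpa [Finset.sum_apply] using congrFun ha x
    cases o with
    | none =>
      have := hpt 1
      rw [Fintype.sum_option, Finset.sum_eq_zero (fun i _ => by
        show a (some i) * f i 1 = 0
        rw [hzero i 1 L.one_mem, mul_zero]), add_zero] at this
      exact (mul_eq_zero.1 this).resolve_right hind1
    | some i =>
      obtain ⟨x, hx⟩ := hfne i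
      have hxL : x ∉ L := fun h => hx (hzero i x h)
      have := hpt x
      rw [Fintype.sum_option, show v none x = indFun L θ.1 x from rfl,
        indFun_of_notMem_normal L _ hxL, mul_zero, zero_add, Finset.sum_eq_single i (fun j _ hj => by
          show a (some j) * f j x = 0
          by_contra h
          exact hne j i hj ((hfs j x (right_ne_zero_of_mul h)).symm.trans (hfs i x hx)))
          (fun h => absurd (Finset.mem_univ _) h)] at this
      exact (mul_eq_zero.1 this).resolve_right hx
  set S : Finset (G → ℂ) :=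
    (Finset.univ.filter fun η : IrrCharacter G => Over L θ η).image fun η => η.1 with hS
  have hSset : (S : Set (G → ℂ)) = (fun η : IrrCharacter G => η.1) '' {η | Over L θ η} := by
    ext y
    simp [hS]
  have hmem : ∀ o, v o ∈ Submodule.span ℂ (S : Set (G → ℂ)) := fun o => by
    rw [hSset]
    cases o with
    | none =>
      refine mem_span_over (f := indFun L θ.1) (isClassFunction_indFun L θ.1) fun η hη => ?_
      rw [classInner_indFun L θ.1 (IsCharacter.isClassFunction (irr_isCharacter η)),
        ← conj_classInner]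
      rw [Over, not_not] at hη
      rw [show classInner (fun h : L => η.1 h) θ.1 = 0 from hη, map_zero]
    | some i => exact mem_span_over (hfc i) (hf0 i)
  calc Fintype.card ι + 1 = Module.finrank ℂ (Submodule.span ℂ (Set.range v)) := by
        rw [finrank_span_eq_card hli, Fintype.card_option]
    _ ≤ Module.finrank ℂ (Submodule.span ℂ (S : Set (G → ℂ))) := by
        refine Submodule.finrank_mono (Submodule.span_le.2 ?_)
        rintro _ ⟨o, rfl⟩
        exact hmem o
    _ ≤ S.card := finrank_span_finset_le_card S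
    _ ≤ (Finset.univ.filter fun η : IrrCharacter G => Over L θ η).card := Finset.card_image_le
    _ = _ := by rw [Nat.card_eq_fintype_card, Fintype.card_subtype]

/-- Two characters over `θ` and a self-centralizing element of prime order in `G / L`. -/
theorem exists_sq_add_sq (hinv : ∀ g, conjFun L θ.1 g = θ.1)
    (htwo : Nat.card {η // Over L θ η} ≤ 2) {q : G ⧸ L} {u : ℕ} (hu : u.Prime) (hq : q ≠ 1)
    (hcard : Nat.card (Subgroup.centralizer ({q} : Set (G ⧸ L))) = u) :
    ∃ x y t : ℕ, 0 < x ∧ 0 < y ∧ x ^ 2 + y ^ 2 = u ∧ Nat.card (G ⧸ L) = u * t ^ 2 := by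
  classical
  haveI : Fact u.Prime := ⟨hu⟩
  have hcyc : IsCyclic (Subgroup.centralizer ({q} : Set (G ⧸ L))) :=
    isCyclic_of_prime_card hcard
  obtain ⟨f, hfc, hf0, hfs, hfn, hfi⟩ := exists_fun hinv q hcyc
  have hn : Nat.card {η // Over L θ η} = 2 := by
    have h := card_add_one_le hinv (ι := Unit) (fun _ => q) (fun _ => hq) (fun _ => hcyc)
      (fun i j h => absurd (Subsingleton.elim i j) h)
    rw [Fintype.card_unit] at h
    omega
  rw [Nat.card_eq_fintype_card, Fintype.card_subtype, Finset.card_eq_two] at hn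
  obtain ⟨η₁, η₂, hne, hset⟩ := hn
  have hO : ∀ η, ¬ Over L θ η → η ≠ η₁ ∧ η ≠ η₂ := fun η hη => by
    constructor <;> rintro rfl
    · exact hη (Finset.mem_filter.1 (hset ▸ Finset.mem_insert_self η {η₂} :)).2
    · exact hη (Finset.mem_filter.1
        (hset ▸ Finset.mem_insert_of_mem (Finset.mem_singleton_self η) :)).2
  have hover : Over L θ η₁ ∧ Over L θ η₂ :=
    ⟨by_contra fun h => (hO η₁ h).1 rfl, by_contra fun h => (hO η₂ h).2 rfl⟩
  have htwo' : ∀ η, Over L θ η → η = η₁ ∨ η = η₂ := fun η hη => by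
    have := hset ▸ Finset.mem_filter.2 ⟨Finset.mem_univ η, hη⟩
    simpa using this
  have hmult : ∀ η, Over L θ η → ∃ e : ℕ, 0 < e ∧ classInner (resFun L η.1) θ.1 = e ∧
      η.1 1 = e * θ.1 1 := fun η hη => by
    obtain ⟨e, he⟩ := IsCharacter.exists_nat_classInner
      (IsCharacter.restrict (irr_isCharacter η) L) (irr_isCharacter θ)
    replace he : classInner (resFun L η.1) θ.1 = e := he
    refine ⟨e, Nat.pos_of_ne_zero fun h => hη (by rw [he, h, Nat.cast_zero]), he, ?_⟩
    have := congrFun (resFun_eq_smul_of_invariant L η θ hinv hη) 1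
    rw [Pi.smul_apply, he, smul_eq_mul, resFun_apply, Subgroup.coe_one] at this
    exact this
  obtain ⟨e₁, he₁, hre₁, hd₁⟩ := hmult η₁ hover.1
  obtain ⟨e₂, he₂, hre₂, hd₂⟩ := hmult η₂ hover.2
  have hθ1 : θ.1 1 ≠ 0 := IsIrrCharacter.apply_one_ne_zero θ.2
  have hexp : ∀ {F : G → ℂ}, IsClassFunction G F →
      (∀ η : IrrCharacter G, ¬ Over L θ η → classInner F η.1 = 0) →
      F = classInner F η₁.1 • η₁.1 + classInner F η₂.1 • η₂.1 := by
    intro F hF hF0
    conv_lhs => rw [eq_sum_classInner_smul hF]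
    rw [← Finset.sum_pair hne (f := fun η : IrrCharacter G => classInner F η.1 • η.1)]
    refine (Finset.sum_subset (Finset.subset_univ _) fun η _ h => ?_).symm
    rw [hF0 η fun h' => h (by simpa using htwo' η h'), zero_smul]
  -- the index
  have hidx : Nat.card (G ⧸ L) = e₁ ^ 2 + e₂ ^ 2 := by
    have hI0 : ∀ η : IrrCharacter G,
        classInner (indFun L θ.1) η.1 = conj (classInner (resFun L η.1) θ.1) := fun η => by
      rw [classInner_indFun L θ.1 (IsCharacter.isClassFunction (irr_isCharacter η)),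
        ← conj_classInner]
      rfl
    have h := congrFun (hexp (isClassFunction_indFun L θ.1) fun η hη => by
      rw [hI0, not_not.1 hη, map_zero]) 1
    rw [indFun_apply_one, Pi.add_apply, Pi.smul_apply, Pi.smul_apply, hI0, hI0, hre₁, hre₂, hd₁,
      hd₂, Subgroup.index_eq_card, Complex.conj_natCast, Complex.conj_natCast, smul_eq_mul,
      smul_eq_mul] at h
    have h' : ((Nat.card (G ⧸ L) : ℕ) : ℂ) = ((e₁ ^ 2 + e₂ ^ 2 : ℕ) : ℂ) := by
      refine mul_right_cancel₀ hθ1 (h.trans ?_)
      push_cast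
      ring
    exact_mod_cast h'
  -- the coefficients
  set α₁ := (u : ℂ) * classInner f η₁.1 with hα₁
  set α₂ := (u : ℂ) * classInner f η₂.1 with hα₂
  rw [hcard] at hfn hfi
  have hu0 : (u : ℂ) ≠ 0 := Nat.cast_ne_zero.2 hu.ne_zero
  have hzero : α₁ * e₁ + α₂ * e₂ = 0 := by
    have h := congrFun (hexp hfc hf0) 1
    rw [show f 1 = 0 by
      by_contra h'
      have := hfs 1 h'
      rw [QuotientGroup.mk_one, isConj_one_right] at this
      exact hq this, Pi.add_apply, Pi.smul_apply, Pi.smul_apply, hd₁, hd₂, smul_eq_mul,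
      smul_eq_mul] at h
    refine mul_right_cancel₀ hθ1 ?_
    rw [zero_mul, hα₁, hα₂]
    linear_combination -(u : ℂ) * h
  have hsum : α₁ * conj α₁ + α₂ * conj α₂ = (u : ℂ) := by
    have h : classInner f f = classInner f η₁.1 * conj (classInner f η₁.1) +
        classInner f η₂.1 * conj (classInner f η₂.1) := by
      conv_lhs => arg 2; rw [hexp hfc hf0]
      rw [classInner_add_right, classInner_smul_right, classInner_smul_right]
      ring
    rw [hfn] at h
    rw [hα₁, hα₂, map_mul, map_mul, Complex.conj_natCast]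
    field_simp at h
    linear_combination -(u : ℂ) * h
  have hX : α₁ * conj α₁ * (Nat.card (G ⧸ L) : ℂ) = (u : ℂ) * (e₂ : ℂ) ^ 2 := by
    have hzero' : conj α₁ * e₁ + conj α₂ * e₂ = 0 := by
      have := congrArg (starRingEnd ℂ) hzero
      simpa using this
    rw [hidx]
    push_cast
    linear_combination (e₂ : ℂ) ^ 2 * hsum + (conj α₁ * (e₁ : ℂ)) * hzero - (α₂ * (e₂ : ℂ)) * hzero'
  obtain ⟨z, hz⟩ := exists_int_of_isIntegral_mul (S := α₁ * conj α₁)
    (c := (Nat.card (G ⧸ L) : ℤ)) (N := (u : ℤ) * (e₂ : ℤ) ^ 2)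
    (by
      have h1 : IsIntegral ℤ α₁ := hfi η₁
      exact h1.mul (h1.map (starRingEnd ℂ).toIntAlgHom))
    (by exact_mod_cast (Nat.card_pos (α := G ⧸ L)).ne')
    (by push_cast; linear_combination hX)
  -- arithmetic
  have hint : z * ((e₁ : ℤ) ^ 2 + (e₂ : ℤ) ^ 2) = (u : ℤ) * (e₂ : ℤ) ^ 2 := by
    rw [hz, hidx] at hX
    push_cast at hX
    exact_mod_cast hX
  obtain ⟨g, a, b, hg, hab, rfl, rfl⟩ :=
    Nat.exists_coprime' (m := e₁) (n := e₂) (Nat.gcd_pos_of_pos_left _ he₁)
  have ha : 0 < a := Nat.pos_of_mul_pos_right he₁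
  have hb : 0 < b := Nat.pos_of_mul_pos_right he₂
  have h2 : z * ((a : ℤ) ^ 2 + (b : ℤ) ^ 2) = (u : ℤ) * (b : ℤ) ^ 2 := by
    refine mul_right_cancel₀ (b := (g : ℤ) ^ 2) (pow_ne_zero 2 (by exact_mod_cast hg.ne')) ?_
    push_cast at hint
    linear_combination hint
  have hdvd : a ^ 2 + b ^ 2 ∣ u * b ^ 2 := by
    have : ((a ^ 2 + b ^ 2 : ℕ) : ℤ) ∣ ((u * b ^ 2 : ℕ) : ℤ) :=
      ⟨z, by push_cast; linear_combination -h2⟩
    exact_mod_cast this
  have hcop : (a ^ 2 + b ^ 2).Coprime (b ^ 2) :=
    Nat.coprime_add_self_left.2 ((hab.pow_left 2).pow_right 2)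
  have h4 : a ^ 2 + b ^ 2 = u :=
    ((Nat.dvd_prime hu).1 (hcop.dvd_of_dvd_mul_right hdvd)).resolve_left fun h => by
      nlinarith [pow_pos ha 2, pow_pos hb 2]
  exact ⟨a, b, g, ha, hb, h4, by rw [hidx, ← h4]; ring⟩

end Cfsg.Agent.Char.TwoOver
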