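import Cfsg.Agent.Lib.CharInt.Galois
import Cfsg.Agent.Lib.CharInt.Congruence
import Cfsg.Agent.Lib.Char.Induction

/-!
# Schur's bound for rational characters of `p`-groups

If a character of a `p`-group `P` has rational integer values, degree at most `n` and kernel `M`,
then `[P : M]` divides `p ^ N * N!` with `N = ⌊n / (p - 1)⌋`.
-/

set_option autoImplicit false
set_option linter.unusedSectionVars false

namespace Cfsg.Agent.Char

open Finset

universe u

variable {P : Type u} [Group P] [Finite P] {Ψ : P → ℂ}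

theorem IsCharacter.pow {χ : P → ℂ} (h : IsCharacter P χ) (k : ℕ) :
    IsCharacter P (fun g => χ g ^ k) := by
  induction k with
  | zero => simpa using isCharacter_one (G := P)
  | succ k ih =>
    have := IsCharacter.mul ih h
    simpa [pow_succ, Pi.mul_def] using this

/-- The values of a character sum to a multiple of the group order. -/
theorem exists_sum_eq_natCard_mul [Fintype P] {χ : P → ℂ} (h : IsCharacter P χ) :
    ∃ a : ℕ, ∑ g : P, χ g = (Nat.card P : ℂ) * a := by
  obtain ⟨a, ha⟩ := IsCharacter.exists_nat_classInner h (isCharacter_one (G := P))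
  refine ⟨a, ?_⟩
  rw [← ha, classInner]
  simp only [map_one, mul_one]
  rw [← mul_assoc, mul_inv_cancel₀ (card_ne_zero (G := P)), one_mul]

/-- A polynomial with integer coefficients in a character sums to a multiple of the group order. -/
theorem exists_sum_aeval_eq [Fintype P] {χ : P → ℂ} (h : IsCharacter P χ) (f : Polynomial ℤ) :
    ∃ m : ℤ, ∑ g : P, Polynomial.aeval (χ g) f = (Nat.card P : ℂ) * m := by
  induction f using Polynomial.induction_on' with
  | add a b ha hb =>
    obtain ⟨x, hx⟩ := ha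
    obtain ⟨y, hy⟩ := hb
    exact ⟨x + y, by simp [map_add, Finset.sum_add_distrib, hx, hy, mul_add]⟩
  | monomial k c =>
    obtain ⟨a, ha⟩ := exists_sum_eq_natCard_mul (IsCharacter.pow h k)
    exact ⟨c * a, by
      simp only [Polynomial.aeval_monomial, ← Finset.mul_sum, ha, eq_intCast]
      push_cast
      ring⟩

theorem exists_int_of_forall_pow (h : IsCharacter P Ψ) (g : P)
    (hfix : ∀ k : ℕ, k.Coprime (orderOf g) → Ψ (g ^ k) = Ψ g) : ∃ z : ℤ, Ψ g = z := by
  obtain ⟨q, hq⟩ := CharInt.exists_rat_of_forall_pow h g hfix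
  have hi : IsIntegral ℤ (algebraMap ℚ ℂ q) := by
    rw [eq_ratCast, ← hq]
    exact CharInt.isIntegral_char h g
  obtain ⟨z, hz⟩ := IsIntegrallyClosed.isIntegral_iff.1
    ((isIntegral_algebraMap_iff (algebraMap ℚ ℂ).injective).1 hi)
  exact ⟨z, by rw [hq, ← hz]; simp⟩

theorem apply_pow_eq_of_int (h : IsCharacter P Ψ) (g : P) {z : ℤ} (hz : Ψ g = z) {k : ℕ}
    (hk : k.Coprime (orderOf g)) : Ψ (g ^ k) = z := by
  obtain ⟨m, hm, hm'⟩ := CharInt.exists_coprime_pow_eq g hk
  obtain ⟨f, hf⟩ := CharInt.exists_ringHom_pow Nat.card_pos.ne' hm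
  rw [← hm', ← CharInt.map_char_eq_pow h hf g, hz, map_intCast]

variable {p : ℕ}

/-- The possible values of a rational character of a `p`-group outside its kernel. -/
theorem exists_sub_eq_mul (hp : p.Prime) (hP : IsPGroup p P) (h : IsCharacter P Ψ) {d : ℕ}
    (hd : Ψ 1 = d) {g : P} (hg : Ψ g ≠ Ψ 1) {z : ℤ} (hz : Ψ g = z) :
    ∃ j : ℕ, 1 ≤ j ∧ j ≤ d / (p - 1) ∧ (d : ℤ) - z = (p * j : ℕ) := by
  haveI := Fintype.ofFinite P
  haveI : Fact p.Prime := ⟨hp⟩
  -- the upper bound
  have hnorm : ‖Ψ g‖ ≤ ‖Ψ 1‖ := CharInt.norm_char_le h g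
  rw [hz, hd, Complex.norm_intCast, Complex.norm_natCast] at hnorm
  have hzd : z < d := by
    refine lt_of_le_of_ne (le_trans (le_abs_self z) (by exact_mod_cast hnorm)) fun e => hg ?_
    rw [hz, hd, e, Int.cast_natCast]
  -- the congruence
  obtain ⟨e, he⟩ : ∃ e, g ^ p ^ e = 1 := hP g
  have hdvd : (p : ℤ) ∣ (d : ℤ) - z := by
    have h1 := CharInt.char_pow_sub_isIntegral h g hp e
    rw [he, hz, hd] at h1
    have h2 : (p : ℤ) ∣ z ^ p ^ e - d := by
      refine CharInt.dvd_of_isIntegral_div hp.ne_zero ?_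
      push_cast
      exact h1
    rw [← ZMod.intCast_zmod_eq_zero_iff_dvd] at h2 ⊢
    push_cast at h2 ⊢
    rw [ZMod.pow_card_pow, sub_eq_zero] at h2
    rw [h2, sub_self]
  obtain ⟨m, hm⟩ := hdvd
  -- the lower bound
  have hg1 : g ≠ 1 := fun e => hg (by rw [e])
  obtain ⟨r, hr⟩ : ∃ r, orderOf g = p ^ (r + 1) := by
    obtain ⟨r, hr, hr'⟩ := (Nat.dvd_prime_pow hp).1 (orderOf_dvd_of_pow_eq_one he)
    rcases r with _ | r
    · exact absurd (orderOf_eq_one_iff.1 (by simpa using hr')) hg1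
    · exact ⟨r, hr'⟩
  have hsum : 0 ≤ (∑ i ∈ range (orderOf g), Ψ (g ^ i)).re := by
    haveI := Fintype.ofFinite (Subgroup.zpowers g)
    obtain ⟨a, ha⟩ := exists_sum_eq_natCard_mul (IsCharacter.restrict h (Subgroup.zpowers g))
    have hsum' : ∑ i ∈ range (orderOf g), Ψ (g ^ i) = ∑ x : Subgroup.zpowers g, Ψ x := by
      rw [← Fin.sum_univ_eq_sum_range (fun i => Ψ (g ^ i))]
      exact Fintype.sum_equiv (finEquivZPowers (isOfFinOrder_of_finite g)) _ _ fun i => rfl
    rw [hsum', ha, ← Nat.cast_mul, Complex.natCast_re]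
    exact Nat.cast_nonneg _
  have htot : #({i ∈ range (orderOf g) | (orderOf g).Coprime i}) = p ^ r * (p - 1) := by
    rw [← Nat.totient_eq_card_coprime, hr, Nat.totient_prime_pow_succ hp]
  have hrest : #({i ∈ range (orderOf g) | ¬ (orderOf g).Coprime i}) = p ^ r := by
    have h1 := card_filter_add_card_filter_not (s := range (orderOf g))
      (fun i => (orderOf g).Coprime i)
    rw [htot, card_range, hr, Nat.mul_sub, mul_one, ← pow_succ] at h1
    have h2 : p ^ r ≤ p ^ (r + 1) := Nat.pow_le_pow_right hp.pos (Nat.le_succ r)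
    rw [hr]
    omega
  have hlow : 0 ≤ ((p : ℤ) - 1) * z + d := by
    rw [← sum_filter_add_sum_filter_not (range (orderOf g)) (fun i => (orderOf g).Coprime i),
      sum_congr rfl fun i hi => apply_pow_eq_of_int h g hz (Nat.Coprime.symm (mem_filter.1 hi).2),
      sum_const, htot, Complex.add_re, Complex.re_sum, nsmul_eq_mul, Complex.mul_re, Complex.natCast_re, Complex.natCast_im, zero_mul, sub_zero,
      Complex.intCast_re] at hsum
    have h1 : ∀ i ∈ ({i ∈ range (orderOf g) | ¬ (orderOf g).Coprime i} : Finset ℕ),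
        (Ψ (g ^ i)).re ≤ (d : ℝ) := fun i _ => by
      refine (Complex.re_le_norm _).trans ((CharInt.norm_char_le h _).trans_eq ?_)
      rw [hd, Complex.norm_natCast]
    have h2 := sum_le_card_nsmul _ _ _ h1
    rw [hrest, nsmul_eq_mul] at h2
    have h3 : (0 : ℝ) ≤ (p ^ r : ℕ) * (((p : ℝ) - 1) * z + d) := by
      rw [Nat.cast_mul, Nat.cast_sub hp.one_le, Nat.cast_one] at hsum
      nlinarith [hsum, h2]
    have h4 : (0 : ℝ) ≤ ((p : ℝ) - 1) * z + d :=
      nonneg_of_mul_nonneg_right h3 (by exact_mod_cast pow_pos hp.pos r)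
    exact_mod_cast h4
  have hm1 : 1 ≤ m := by nlinarith [hp.two_le]
  lift m to ℕ using by omega
  refine ⟨m, by exact_mod_cast hm1, ?_, by rw [hm]; push_cast; ring⟩
  rw [Nat.le_div_iff_mul_le (Nat.sub_pos_of_lt hp.one_lt)]
  have h5 : ((p : ℤ) - 1) * ((p : ℤ) * m) ≤ (p : ℤ) * d := by
    rw [← hm]; nlinarith
  have h6 : ((p : ℤ) - 1) * m ≤ d := by
    refine le_of_mul_le_mul_left ?_ (by exact_mod_cast hp.pos : (0 : ℤ) < p)
    linarith
  rw [← Nat.cast_le (α := ℤ), Nat.cast_mul, Nat.cast_sub hp.one_le, Nat.cast_one]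
  linarith

/-- Schur's bound in Blichfeldt's form: the index of the kernel of a rational character of degree
at most `n` of a `p`-group divides `p ^ N * N!`. -/
theorem card_dvd_of_rational (hp : p.Prime) (hP : IsPGroup p P) (h : IsCharacter P Ψ) {d n : ℕ}
    (hd : Ψ 1 = d) (hdn : d ≤ n) (hint : ∀ g, ∃ z : ℤ, Ψ g = z) :
    Nat.card P ∣ Nat.card (CharInt.charKernel h) *
      (p ^ (n / (p - 1)) * (n / (p - 1)).factorial) := by
  classical
  haveI := Fintype.ofFinite P
  set N := n / (p - 1)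
  set f : Polynomial ℤ :=
    ∏ i ∈ range N, (Polynomial.X - Polynomial.C ((d : ℤ) - (p * (i + 1) : ℕ))) with hf
  obtain ⟨m, hm⟩ := exists_sum_aeval_eq h f
  have hker : ∀ g : P, Ψ g = Ψ 1 →
      Polynomial.aeval (Ψ g) f = ((p ^ N * N.factorial : ℕ) : ℂ) := fun g hg => by
    rw [hf, map_prod, hg, hd]
    rw [← Finset.prod_range_add_one_eq_factorial, Nat.cast_mul, Nat.cast_pow, Nat.cast_prod,
      ← card_range N, ← prod_const, card_range, ← prod_mul_distrib]
    exact prod_congr rfl fun i _ => by simp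
  have hout : ∀ g : P, Ψ g ≠ Ψ 1 → Polynomial.aeval (Ψ g) f = 0 := fun g hg => by
    obtain ⟨z, hz⟩ := hint g
    obtain ⟨j, hj1, hj2, hj⟩ := exists_sub_eq_mul hp hP h hd hg hz
    rw [hf, map_prod]
    have hjN : j ≤ N := hj2.trans (Nat.div_le_div_right hdn)
    refine prod_eq_zero (mem_range.2 (show j - 1 < N by omega)) ?_
    rw [Nat.sub_add_cancel hj1, hz, map_sub, Polynomial.aeval_X, Polynomial.aeval_C, ← hj,
      sub_sub_cancel, eq_intCast, sub_self]
  rw [← sum_filter_add_sum_filter_not univ (fun g => Ψ g = Ψ 1),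
    sum_congr rfl fun g hg => hker g (mem_filter.1 hg).2,
    sum_eq_zero fun g hg => hout g (mem_filter.1 hg).2, add_zero, sum_const, nsmul_eq_mul,
    show #({g : P | Ψ g = Ψ 1}) = Nat.card (CharInt.charKernel h) by
      rw [Nat.card_eq_fintype_card, Fintype.card_subtype]
      rfl] at hm
  rw [← Int.natCast_dvd_natCast]
  refine ⟨m, ?_⟩
  have : ((Nat.card (CharInt.charKernel h) * (p ^ N * N.factorial) : ℕ) : ℂ) =
      (Nat.card P : ℂ) * m := by rw [← hm, Nat.cast_mul]
  exact_mod_cast this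

end Cfsg.Agent.Char
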