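import Cfsg.Agent.Lib.Char.Orthogonality

/-!
# Class sums, structure constants, Frobenius' commutator formula
-/

namespace Cfsg.Agent.Char

open scoped ComplexConjugate
open Representation Module

set_option linter.style.haveILetI false

universe u

variable {G : Type u} [Group G] [Fintype G]

/-- A class function acts on an irreducible character by a scalar: trace form. -/
theorem sum_mul_irr_apply_mul {c : G → ℂ} (hc : IsClassFunction G c) {χ : G → ℂ}
    (hχ : IsIrrCharacter G χ) (y : G) :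
    χ 1 * ∑ g, c g * χ (g * y) = (∑ g, c g * χ g) * χ y := by
  obtain ⟨n, ρ, hρ, rfl⟩ := hχ
  haveI := hρ
  obtain ⟨a, ha⟩ := exists_opSum_eq_smul hc ρ
  have hT : opSum c ρ = a • LinearMap.id := LinearMap.ext fun x => by simp [ha]
  have h1 : ∀ z : G, ∑ g, c g * ρ.character (g * z) = a * ρ.character z := by
    intro z
    have e1 : LinearMap.trace ℂ _ ((opSum c ρ : Module.End ℂ (Fin n → ℂ)) * ρ z) =
        ∑ g, c g * ρ.character (g * z) := by
      simp [opSum, Finset.sum_mul, Representation.character, map_mul]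
    rw [← e1, hT]
    simp [Representation.character, Module.End.mul_eq_comp, LinearMap.smul_comp]
  have h2 := h1 1
  simp only [mul_one] at h2
  rw [h1, h2]
  ring

/-- Averaging over conjugates multiplies character values. -/
theorem sum_irr_conj_mul {χ : G → ℂ} (hχ : IsIrrCharacter G χ) (x y : G) :
    χ 1 * ∑ b, χ (b * x * b⁻¹ * y) = (Nat.card G : ℂ) * χ x * χ y := by
  classical
  let c : G → ℂ := fun g => ((Finset.univ.filter fun b => b * x * b⁻¹ = g).card : ℂ)
  have hc : IsClassFunction G c := fun g a => by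
    simp only [c, Nat.cast_inj]
    refine Finset.card_equiv (Equiv.mulLeft a⁻¹) fun b => ?_
    simp only [Finset.mem_filter, Finset.mem_univ, true_and, Equiv.coe_mulLeft]
    constructor <;> intro h
    · rw [mul_inv_rev, inv_inv]
      calc a⁻¹ * b * x * (b⁻¹ * a) = a⁻¹ * (b * x * b⁻¹) * a := by group
        _ = a⁻¹ * (a * g * a⁻¹) * a := by rw [h]
        _ = g := by group
    · calc b * x * b⁻¹ = a * (a⁻¹ * b * x * (a⁻¹ * b)⁻¹) * a⁻¹ := by group
        _ = a * g * a⁻¹ := by rw [h]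
  have hsum : ∀ z, ∑ g, c g * χ (g * z) = ∑ b, χ (b * x * b⁻¹ * z) := by
    intro z
    rw [← Finset.sum_fiberwise Finset.univ (fun b => b * x * b⁻¹) fun b => χ (b * x * b⁻¹ * z)]
    refine Finset.sum_congr rfl fun g _ => ?_
    rw [Finset.sum_congr rfl fun b hb => by rw [(Finset.mem_filter.1 hb).2], Finset.sum_const,
      nsmul_eq_mul]
  have h2 : ∑ g, c g * χ g = (Nat.card G : ℂ) * χ x := by
    have := hsum 1
    simp only [mul_one] at this
    rw [this]
    have hcl := IsCharacter.isClassFunction (IsIrrCharacter.isCharacter hχ)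
    rw [Finset.sum_congr rfl fun b _ => hcl x b, Finset.sum_const, Finset.card_univ, nsmul_eq_mul,
      Nat.card_eq_fintype_card]
  rw [← hsum, sum_mul_irr_apply_mul hc hχ, h2]

theorem sum_irr_mul_conj_conj {χ : G → ℂ} (hχ : IsIrrCharacter G χ) (y : G) :
    χ 1 * ∑ a, conj (χ a) * χ (a * y) = (Nat.card G : ℂ) * χ y := by
  have hc : IsClassFunction G (fun a => conj (χ a)) := fun g h =>
    congrArg conj (IsCharacter.isClassFunction (IsIrrCharacter.isCharacter hχ) g h)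
  rw [sum_mul_irr_apply_mul hc hχ]
  congr 1
  have := classInner_irr_self hχ
  rw [classInner, inv_mul_eq_one₀ card_ne_zero] at this
  rw [this]
  exact Finset.sum_congr rfl fun a _ => mul_comm _ _

/-- The generalized convolution of two irreducible characters is zero unless they are equal. -/
theorem sum_irr_conj_mul_of_ne {χ ψ : G → ℂ} (hχ : IsIrrCharacter G χ) (hψ : IsIrrCharacter G ψ)
    (hne : χ ≠ ψ) (y : G) : ∑ a, conj (ψ a) * χ (a * y) = 0 := by
  have hc : IsClassFunction G (fun a => conj (ψ a)) := fun g h =>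
    congrArg conj (IsCharacter.isClassFunction (IsIrrCharacter.isCharacter hψ) g h)
  have h := sum_mul_irr_apply_mul hc hχ y
  have h0 := classInner_irr_of_ne hχ hψ hne
  simp only [classInner, mul_eq_zero, inv_eq_zero, card_ne_zero, false_or] at h0
  simp only [mul_comm (conj (ψ _)) (χ _)] at h ⊢
  rw [h0, zero_mul, mul_eq_zero] at h
  exact h.resolve_left (IsIrrCharacter.apply_one_ne_zero hχ)

/-- The class structure constants. -/
theorem card_conj_mul_conj_eq (x y g : G) :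
    (Nat.card {p : G × G // p.1 * x * p.1⁻¹ * (p.2 * y * p.2⁻¹) = g} : ℂ) =
      (Nat.card G : ℂ) * ∑ χ : IrrCharacter G, χ.1 x * χ.1 y * χ.1 g⁻¹ / χ.1 1 := by
  classical
  have key : ∀ h : G, (if h = 1 then (1 : ℂ) else 0) =
      (Nat.card G : ℂ)⁻¹ * ∑ χ : IrrCharacter G, χ.1 1 * χ.1 h := by
    intro h
    rw [sum_irr_degree_mul]
    split_ifs <;> simp [card_ne_zero]
  rw [Nat.card_eq_fintype_card (α := {p : G × G // p.1 * x * p.1⁻¹ * (p.2 * y * p.2⁻¹) = g}),
    Fintype.card_subtype, ← Finset.sum_boole]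
  have : ∀ p : G × G, (p.1 * x * p.1⁻¹ * (p.2 * y * p.2⁻¹) = g) ↔
      (p.1 * x * p.1⁻¹ * (p.2 * y * p.2⁻¹ * g⁻¹) = 1) := fun p => by
    rw [← mul_assoc _ _ g⁻¹, mul_inv_eq_one]
  simp only [this, key, ← Finset.mul_sum]
  rw [Finset.sum_comm, Finset.mul_sum, Finset.mul_sum]
  refine Finset.sum_congr rfl fun χ _ => ?_
  have h1 := IsIrrCharacter.apply_one_ne_zero χ.2
  have h3 : ∑ b, χ.1 (b * y * b⁻¹ * g⁻¹) = (Nat.card G : ℂ) * χ.1 y * χ.1 g⁻¹ / χ.1 1 := by
    rw [eq_div_iff h1, mul_comm, sum_irr_conj_mul χ.2]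
  have h4 : ∑ p : G × G, χ.1 1 * χ.1 (p.1 * x * p.1⁻¹ * (p.2 * y * p.2⁻¹ * g⁻¹)) =
      (Nat.card G : ℂ) * χ.1 x * ∑ b, χ.1 (b * y * b⁻¹ * g⁻¹) := by
    rw [Fintype.sum_prod_type_right, Finset.mul_sum]
    refine Finset.sum_congr rfl fun b _ => ?_
    rw [← Finset.mul_sum]
    dsimp only
    exact sum_irr_conj_mul χ.2 x _
  rw [h4, h3]
  field_simp [card_ne_zero (G := G)]

/-- Frobenius' formula for the number of ways of writing `g` as a commutator. -/
theorem card_commutator_eq (g : G) :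
    (Nat.card {p : G × G // p.1 * p.2 * p.1⁻¹ * p.2⁻¹ = g} : ℂ) =
      (Nat.card G : ℂ) * ∑ χ : IrrCharacter G, χ.1 g⁻¹ / χ.1 1 := by
  classical
  have key : ∀ h : G, (if h = 1 then (1 : ℂ) else 0) =
      (Nat.card G : ℂ)⁻¹ * ∑ χ : IrrCharacter G, χ.1 1 * χ.1 h := by
    intro h
    rw [sum_irr_degree_mul]
    split_ifs <;> simp [card_ne_zero]
  rw [Nat.card_eq_fintype_card (α := {p : G × G // p.1 * p.2 * p.1⁻¹ * p.2⁻¹ = g}),
    Fintype.card_subtype, ← Finset.sum_boole]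
  have : ∀ p : G × G, (p.1 * p.2 * p.1⁻¹ * p.2⁻¹ = g) ↔
      (p.2 * p.1⁻¹ * p.2⁻¹ * (g⁻¹ * p.1) = 1) := fun p => by
    rw [← mul_inv_eq_one]
    constructor <;> intro h
    · calc p.2 * p.1⁻¹ * p.2⁻¹ * (g⁻¹ * p.1)
          = p.1⁻¹ * (p.1 * p.2 * p.1⁻¹ * p.2⁻¹ * g⁻¹) * p.1 := by group
        _ = 1 := by rw [h]; group
    · calc p.1 * p.2 * p.1⁻¹ * p.2⁻¹ * g⁻¹
          = p.1 * (p.2 * p.1⁻¹ * p.2⁻¹ * (g⁻¹ * p.1)) * p.1⁻¹ := by group
        _ = 1 := by rw [h]; group
  simp only [this, key, ← Finset.mul_sum]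
  rw [Finset.sum_comm, Finset.mul_sum, Finset.mul_sum]
  refine Finset.sum_congr rfl fun χ _ => ?_
  have h1 := IsIrrCharacter.apply_one_ne_zero χ.2
  have h3 : ∑ a, conj (χ.1 a) * χ.1 (a * g⁻¹) = (Nat.card G : ℂ) * χ.1 g⁻¹ / χ.1 1 := by
    rw [eq_div_iff h1, mul_comm, sum_irr_mul_conj_conj χ.2]
  have h4 : ∑ p : G × G, χ.1 1 * χ.1 (p.2 * p.1⁻¹ * p.2⁻¹ * (g⁻¹ * p.1)) =
      (Nat.card G : ℂ) * ∑ a, conj (χ.1 a) * χ.1 (a * g⁻¹) := by
    rw [Fintype.sum_prod_type, Finset.mul_sum]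
    refine Finset.sum_congr rfl fun a _ => ?_
    rw [← Finset.mul_sum]
    dsimp only
    refine (sum_irr_conj_mul χ.2 a⁻¹ _).trans ?_
    rw [IsCharacter.conj_apply (irr_isCharacter χ),
      IsClassFunction.apply_mul_comm (IsCharacter.isClassFunction (irr_isCharacter χ)) g⁻¹ a]
    ring
  rw [h4, h3]
  field_simp [card_ne_zero (G := G)]

end Cfsg.Agent.Char
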