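import Cfsg.Prelude.Def_Characters
import Mathlib.LinearAlgebra.Matrix.Kronecker
import Mathlib.LinearAlgebra.Matrix.Charpoly.Coeff
import Mathlib.LinearAlgebra.Trace
import Mathlib.LinearAlgebra.Projection

/-!
# The Frobenius–Schur indicator

`fsIndicator χ = |G|⁻¹ ∑ g, χ (g * g)`.  For a character `χ` whose average of squares is `0` it
vanishes, and when that average is `1` it is `1` or `-1`.
-/

open Matrix
open scoped Kronecker

namespace Cfsg.Agent.Char

/-- The Frobenius–Schur indicator, in the shape used by the statements. -/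
noncomputable def fsIndicator {G : Type*} [Group G] (χ : G → ℂ) : ℂ :=
  (Nat.card G : ℂ)⁻¹ * ∑ᶠ g : G, χ (g * g)

variable {G : Type*} [Group G]

theorem fsIndicator_eq_sum [Fintype G] (χ : G → ℂ) :
    fsIndicator χ = (Nat.card G : ℂ)⁻¹ * ∑ g : G, χ (g * g) := by
  rw [fsIndicator, finsum_eq_sum_of_fintype]

theorem idempotent_matrix_of_trace_zero {ι : Type*} [Fintype ι] [DecidableEq ι] {P : Matrix ι ι ℂ}
    (hP : P * P = P) (h : P.trace = 0) : P = 0 := by
  set f := Matrix.toLin' P with hf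
  have hid : f ∘ₗ f = f := by rw [hf, ← Matrix.toLin'_mul, hP]
  have hproj : LinearMap.IsProj (LinearMap.range f) f := by
    refine ⟨fun x => LinearMap.mem_range_self f x, ?_⟩
    rintro x ⟨y, rfl⟩
    exact congrArg (fun φ => φ y) hid
  have h1 := hproj.trace
  rw [hf, Matrix.trace_toLin'_eq, h] at h1
  have h2 : Module.finrank ℂ (LinearMap.range f) = 0 := by exact_mod_cast h1.symm
  have h3 : f = 0 := LinearMap.range_eq_bot.1 (Submodule.finrank_eq_zero.1 h2)
  simpa [hf] using h3

theorem idempotent_matrix_of_trace_one {ι : Type*} [Fintype ι] [DecidableEq ι] {P : Matrix ι ι ℂ}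
    (hP : P * P = P) (h : P.trace = 1) : ∃ v w : ι → ℂ, (∀ a b, P a b = v a * w b) ∧ w ⬝ᵥ v = 1 := by
  set f := Matrix.toLin' P with hf
  have hid : f ∘ₗ f = f := by rw [hf, ← Matrix.toLin'_mul, hP]
  have hproj : LinearMap.IsProj (LinearMap.range f) f := by
    refine ⟨fun x => LinearMap.mem_range_self f x, ?_⟩
    rintro x ⟨y, rfl⟩
    exact congrArg (fun φ => φ y) hid
  have h1 := hproj.trace
  rw [hf, Matrix.trace_toLin'_eq, h] at h1
  have h2 : Module.finrank ℂ (LinearMap.range f) = 1 := by exact_mod_cast h1.symm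
  obtain ⟨v, -, hspan⟩ := finrank_eq_one_iff'.1 h2
  have hcol : ∀ b, ∃ c : ℂ, ∀ a, P a b = v.1 a * c := fun b => by
    obtain ⟨c, hc⟩ := hspan ⟨f (Pi.single b 1), LinearMap.mem_range_self _ _⟩
    refine ⟨c, fun a => ?_⟩
    have := congrFun (congrArg Subtype.val hc) a
    simp [hf] at this
    rw [← this, mul_comm]
  choose w hw using hcol
  refine ⟨v.1, w, fun a b => hw b a, ?_⟩
  rw [← h, Matrix.trace, dotProduct]
  exact Finset.sum_congr rfl fun a _ => by rw [Matrix.diag_apply, hw a a, mul_comm]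

section Rep

variable [Fintype G] {n : ℕ} (ρ : Representation ℂ G (Fin n → ℂ))

theorem character_eq_trace (g : G) :
    ρ.character g = (LinearMap.toMatrix' (ρ g)).trace := by
  rw [Representation.character, LinearMap.trace_eq_matrix_trace ℂ (Pi.basisFun ℂ (Fin n)),
    LinearMap.toMatrix_eq_toMatrix']

/-- The averaged Kronecker square of a representation. -/
noncomputable def sqAverage : Matrix (Fin n × Fin n) (Fin n × Fin n) ℂ :=
  (Nat.card G : ℂ)⁻¹ • ∑ g : G, LinearMap.toMatrix' (ρ g) ⊗ₖ LinearMap.toMatrix' (ρ g)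

theorem kronecker_mul_sqAverage (h : G) :
    (LinearMap.toMatrix' (ρ h) ⊗ₖ LinearMap.toMatrix' (ρ h)) * sqAverage ρ = sqAverage ρ := by
  unfold sqAverage
  rw [Matrix.mul_smul, Finset.mul_sum]
  congr 1
  refine Fintype.sum_equiv (Equiv.mulLeft h) _ _ fun g => ?_
  rw [← Matrix.mul_kronecker_mul, ← LinearMap.toMatrix'_mul, ← map_mul]
  rfl

theorem sqAverage_mul_self : sqAverage ρ * sqAverage ρ = sqAverage ρ := by
  conv_lhs => arg 1; rw [sqAverage]
  rw [Matrix.smul_mul, Finset.sum_mul]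
  simp only [kronecker_mul_sqAverage]
  rw [Finset.sum_const, Finset.card_univ, ← Nat.card_eq_fintype_card, ← Nat.cast_smul_eq_nsmul ℂ,
    smul_smul, inv_mul_cancel₀ (Nat.cast_ne_zero.2 Nat.card_pos.ne'), one_smul]

theorem trace_sqAverage :
    (sqAverage ρ).trace = (Nat.card G : ℂ)⁻¹ * ∑ g : G, ρ.character g * ρ.character g := by
  simp only [sqAverage, Matrix.trace_smul, Matrix.trace_sum, Matrix.trace_kronecker,
    ← character_eq_trace, smul_eq_mul]

theorem sqAverage_swap (a b : Fin n × Fin n) :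
    sqAverage ρ a.swap b.swap = sqAverage ρ a b := by
  simp only [sqAverage, Matrix.smul_apply, Matrix.sum_apply, Matrix.kroneckerMap_apply,
    Prod.fst_swap, Prod.snd_swap]
  exact congrArg _ (Finset.sum_congr rfl fun g _ => mul_comm _ _)

theorem fsIndicator_eq_swapTrace :
    fsIndicator ρ.character = ∑ a : Fin n × Fin n, sqAverage ρ a a.swap := by
  simp only [sqAverage, Matrix.smul_apply, Matrix.sum_apply, Matrix.kroneckerMap_apply,
    Prod.fst_swap, Prod.snd_swap, smul_eq_mul, ← Finset.mul_sum]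
  rw [Finset.sum_comm, fsIndicator_eq_sum]
  refine congrArg _ (Finset.sum_congr rfl fun g _ => ?_)
  rw [character_eq_trace, map_mul, LinearMap.toMatrix'_mul, Fintype.sum_prod_type]
  simp [Matrix.trace, Matrix.mul_apply]

theorem fsIndicator_eq_zero_of_rep
    (h : (Nat.card G : ℂ)⁻¹ * ∑ g : G, ρ.character g * ρ.character g = 0) :
    fsIndicator ρ.character = 0 := by
  rw [fsIndicator_eq_swapTrace,
    idempotent_matrix_of_trace_zero (sqAverage_mul_self ρ) (by rw [trace_sqAverage, h])]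
  simp

theorem fsIndicator_eq_one_or_neg_one_of_rep
    (h : (Nat.card G : ℂ)⁻¹ * ∑ g : G, ρ.character g * ρ.character g = 1) :
    fsIndicator ρ.character = 1 ∨ fsIndicator ρ.character = -1 := by
  obtain ⟨v, w, hvw, h1⟩ := idempotent_matrix_of_trace_one (sqAverage_mul_self ρ)
    (by rw [trace_sqAverage, h])
  have hsym : ∀ a b, v a.swap * w b.swap = v a * w b := fun a b => by
    rw [← hvw, ← hvw, sqAverage_swap]
  obtain ⟨a, -, ha⟩ := Finset.exists_ne_zero_of_sum_ne_zero
    (show ∑ a, w a * v a ≠ 0 by rw [show ∑ a, w a * v a = 1 from h1]; exact one_ne_zero)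
  obtain ⟨hwa, hva⟩ := mul_ne_zero_iff.1 ha
  have hT : fsIndicator ρ.character = ∑ b, v b * w b.swap := by
    simp [fsIndicator_eq_swapTrace, hvw]
  set c := w a.swap / w a with hc
  have hw' : w a.swap ≠ 0 := fun h0 => mul_ne_zero hva hwa (by rw [← hsym a a, h0, mul_zero])
  have hva' : v a.swap ≠ 0 := fun h0 => mul_ne_zero hva hwa (by rw [← hsym a a, h0, zero_mul])
  have hwb : ∀ b, w b.swap = (v a / v a.swap) * w b := fun b => by
    rw [div_mul_eq_mul_div, eq_div_iff hva', mul_comm, hsym a b]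
  have hd : (v a / v a.swap) * (v a / v a.swap) = 1 := by
    have h2 := hwb a.swap
    rw [Prod.swap_swap, hwb a, ← mul_assoc] at h2
    exact mul_right_cancel₀ hwa (by rw [one_mul]; exact h2.symm)
  have hT' : fsIndicator ρ.character = v a / v a.swap := by
    rw [hT, ← mul_one (v a / v a.swap), ← h1, dotProduct, Finset.mul_sum]
    exact Finset.sum_congr rfl fun b _ => by rw [hwb b]; ring
  rw [hT']
  exact mul_self_eq_one_iff.1 hd

end Rep

theorem fsIndicator_eq_zero [Fintype G] {χ : G → ℂ} (hχ : Cfsg.IsCharacter G χ)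
    (h : ∑ g : G, χ g * χ g = 0) : fsIndicator χ = 0 := by
  obtain ⟨n, ρ, rfl⟩ := hχ
  exact fsIndicator_eq_zero_of_rep ρ (by rw [h, mul_zero])

theorem fsIndicator_eq_one_or_neg_one [Fintype G] {χ : G → ℂ} (hχ : Cfsg.IsCharacter G χ)
    (h : (Nat.card G : ℂ)⁻¹ * ∑ g : G, χ g * χ g = 1) :
    fsIndicator χ = 1 ∨ fsIndicator χ = -1 := by
  obtain ⟨n, ρ, rfl⟩ := hχ
  exact fsIndicator_eq_one_or_neg_one_of_rep ρ h

end Cfsg.Agent.Char
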