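import Cfsg.Agent.Lib.CharInt.GaloisEquiv
import Cfsg.Agent.Lib.CharInt.Kazarin
import Cfsg.Agent.Lib.Blocks.SecondMain
import Cfsg.Agent.Lib.PrimeParts.Basic
import Cfsg.Agent.Lib.Char.KernelSum

/-!
# Families of `p`-conjugate characters

If `r` characters are `p`-conjugate to `χ`, then `r * χ 1` has `p`-exponent at most that of `|G|`,
and equality happens only for characters of defect zero.
-/

set_option linter.style.haveILetI false
set_option linter.unusedSectionVars false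

namespace Cfsg.Agent.Char.PConj

open Cfsg Cfsg.Agent
open scoped ComplexConjugate Classical

universe u

variable (G : Type u) [Group G] [Fintype G] (p : ℕ) [hp : Fact p.Prime]

/-- The `p`-part of `|G|`. -/
noncomputable abbrev pp : ℕ := p ^ (Nat.card G).factorization p

/-- The `p'`-part of `|G|`. -/
noncomputable abbrev mm : ℕ := Nat.card G / p ^ (Nat.card G).factorization p

theorem pp_mul : pp G p * mm G p = Nat.card G := Nat.ordProj_mul_ordCompl_eq_self _ _

theorem coprime : (pp G p).Coprime (mm G p) :=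
  Nat.Coprime.pow_left _ ((hp.out.coprime_iff_not_dvd).2 (Nat.not_dvd_ordCompl hp.out Nat.card_pos.ne'))

instance neZero_pp : NeZero (pp G p) := ⟨pow_ne_zero _ hp.out.ne_zero⟩

/-- The exponent attached to a unit modulo the `p`-part. -/
noncomputable def kexp (u : (ZMod (pp G p))ˣ) : ℕ :=
  (Nat.chineseRemainder (coprime G p) (u : ZMod (pp G p)).val 1).1

theorem kexp_spec (u : (ZMod (pp G p))ˣ) :
    kexp G p u ≡ (u : ZMod (pp G p)).val [MOD pp G p] ∧ kexp G p u ≡ 1 [MOD mm G p] :=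
  (Nat.chineseRemainder (coprime G p) (u : ZMod (pp G p)).val 1).2

variable {G p}

theorem pow_eq_of_modEq {x : ℂ} {n a b : ℕ} (hx : x ^ n = 1) (h : a ≡ b [MOD n]) : x ^ a = x ^ b := by
  rw [pow_eq_pow_mod a hx, pow_eq_pow_mod b hx, show a % n = b % n from h]

theorem pow_card_of_pow_mm {x : ℂ} (hx : x ^ mm G p = 1) : x ^ Nat.card G = 1 :=
  orderOf_dvd_iff_pow_eq_one.1
    ((orderOf_dvd_of_pow_eq_one hx).trans (Dvd.intro_left _ (pp_mul G p)))

theorem modEq_card {a b : ℕ} (h1 : a ≡ b [MOD pp G p]) (h2 : a ≡ b [MOD mm G p]) :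
    a ≡ b [MOD Nat.card G] := by
  have := (Nat.modEq_and_modEq_iff_modEq_mul (coprime G p)).1 ⟨h1, h2⟩
  rwa [pp_mul] at this

theorem pow_congr {a b : ℕ} (h : a ≡ b [MOD Nat.card G]) (g : G) : g ^ a = g ^ b :=
  pow_eq_pow_iff_modEq.2 (h.of_dvd (orderOf_dvd_natCard g))

theorem kexp_coprime (u : (ZMod (pp G p))ˣ) : (kexp G p u).Coprime (Nat.card G) := by
  rw [← pp_mul G p, Nat.coprime_mul_iff_right]
  refine ⟨?_, ?_⟩
  · rw [Nat.Coprime, (kexp_spec G p u).1.gcd_eq]
    exact ZMod.val_coe_unit_coprime u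
  · rw [Nat.Coprime, (kexp_spec G p u).2.gcd_eq, Nat.gcd_one_left]

theorem kexp_mul (u v : (ZMod (pp G p))ˣ) :
    kexp G p (u * v) ≡ kexp G p u * kexp G p v [MOD Nat.card G] := by
  refine modEq_card ((kexp_spec G p _).1.trans ?_)
    ((kexp_spec G p _).2.trans ((kexp_spec G p u).2.mul (kexp_spec G p v).2).symm)
  rw [Units.val_mul, ZMod.val_mul]
  exact (Nat.mod_modEq _ _).trans ((kexp_spec G p u).1.mul (kexp_spec G p v).1).symm

theorem kexp_one : kexp G p 1 ≡ 1 [MOD Nat.card G] := by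
  refine modEq_card ((kexp_spec G p _).1.trans ?_) (kexp_spec G p _).2
  rw [Units.val_one, ZMod.val_one_eq_one_mod]
  exact Nat.mod_modEq _ _

/-- The twist of `χ` by a unit. -/
noncomputable def tw (χ : IrrCharacter G) (u : (ZMod (pp G p))ˣ) : IrrCharacter G :=
  ⟨fun g => χ.1 (g ^ kexp G p u), CharInt.isIrrCharacter_pow χ.2 (kexp_coprime u)⟩

theorem tw_apply (χ : IrrCharacter G) (u : (ZMod (pp G p))ˣ) (g : G) :
    (tw χ u).1 g = χ.1 (g ^ kexp G p u) := rfl

theorem tw_tw (χ : IrrCharacter G) (u v : (ZMod (pp G p))ˣ) :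
    tw (tw χ u) v = tw χ (u * v) := Subtype.ext (funext fun g => by
  rw [tw_apply, tw_apply, tw_apply, pow_congr (kexp_mul u v), ← pow_mul, mul_comm])

theorem tw_one (χ : IrrCharacter G) : tw χ (1 : (ZMod (pp G p))ˣ) = χ :=
  Subtype.ext (funext fun g => by rw [tw_apply, pow_congr kexp_one, pow_one])

theorem degree_tw (χ : IrrCharacter G) (u : (ZMod (pp G p))ˣ) :
    Char.degree (tw χ u) = Char.degree χ := by
  apply Nat.cast_injective (R := ℂ)
  rw [← Char.apply_one_eq_degree, ← Char.apply_one_eq_degree, tw_apply, one_pow]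

variable (p) in
/-- `ψ` is obtained from `χ` by an automorphism of `ℂ` fixing the roots of unity of order `g'`. -/
def Rel (χ ψ : IrrCharacter G) : Prop :=
  ∃ σ : ℂ ≃+* ℂ, σ (Complex.exp (2 * Real.pi * Complex.I /
      ((Nat.card G / p ^ (Nat.card G).factorization p) : ℕ))) =
    Complex.exp (2 * Real.pi * Complex.I / ((Nat.card G / p ^ (Nat.card G).factorization p) : ℕ)) ∧
    ψ.1 = fun g => σ (χ.1 g)

theorem rel_iff (χ ψ : IrrCharacter G) :
    Rel p χ ψ ↔ ∃ u : (ZMod (pp G p))ˣ, tw χ u = ψ := by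
  have hm0 : mm G p ≠ 0 := (Nat.ordCompl_pos p Nat.card_pos.ne').ne'
  have hexp := Complex.isPrimitiveRoot_exp (mm G p) hm0
  haveI : NeZero (mm G p) := ⟨hm0⟩
  constructor
  · rintro ⟨σ, hσ, hψ⟩
    have hN := Complex.isPrimitiveRoot_exp (Nat.card G) Nat.card_pos.ne'
    haveI : NeZero (Nat.card G) := ⟨Nat.card_pos.ne'⟩
    obtain ⟨j, -, hj⟩ := hN.eq_pow_of_pow_eq_one (ξ := σ (Complex.exp (2 * Real.pi * Complex.I / (Nat.card G : ℕ)))) (by
      rw [← map_pow, hN.pow_eq_one, map_one])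
    have hσpow : ∀ z : ℂ, z ^ Nat.card G = 1 → σ z = z ^ j := fun z hz => by
      obtain ⟨i, -, rfl⟩ := hN.eq_pow_of_pow_eq_one hz
      rw [map_pow, ← hj, ← pow_mul, ← pow_mul, Nat.mul_comm]
    have hjco : j.Coprime (Nat.card G) := by
      rw [← hN.pow_iff_coprime Nat.card_pos, hj]
      exact hN.map_of_injective σ.injective
    have hjm : j ≡ 1 [MOD mm G p] := by
      have h1 := hσ.symm.trans (hσpow _ (pow_card_of_pow_mm hexp.pow_eq_one))
      have h2 : Complex.exp (2 * Real.pi * Complex.I / (mm G p : ℕ)) ^ (j % mm G p) =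
          Complex.exp (2 * Real.pi * Complex.I / (mm G p : ℕ)) ^ (1 % mm G p) := by
        rw [← pow_eq_pow_mod j hexp.pow_eq_one, ← pow_eq_pow_mod 1 hexp.pow_eq_one, pow_one]
        exact h1.symm
      exact hexp.pow_inj (Nat.mod_lt _ (Nat.pos_of_ne_zero hm0))
        (Nat.mod_lt _ (Nat.pos_of_ne_zero hm0)) h2
    refine ⟨ZMod.unitOfCoprime j (Nat.Coprime.coprime_mul_right_right
      (show j.Coprime (pp G p * mm G p) by rwa [pp_mul])), Subtype.ext ?_⟩
    rw [hψ]
    funext g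
    have hf := CharInt.map_char_eq_pow (Char.irr_isCharacter χ) (f := σ.toRingHom) (k := j) hσpow g
    refine Eq.trans ?_ hf.symm
    rw [tw_apply]
    refine congrArg χ.1 (pow_congr
      (modEq_card ((kexp_spec G p _).1.trans ?_) ((kexp_spec G p _).2.trans hjm.symm)) g)
    rw [ZMod.coe_unitOfCoprime, ZMod.val_natCast]
    exact Nat.mod_modEq _ _
  · rintro ⟨u, rfl⟩
    obtain ⟨f, hf⟩ := CharInt.exists_ringEquiv_pow Nat.card_pos.ne' (kexp_coprime u)
    refine ⟨f, ?_, funext fun g => ?_⟩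
    · refine (hf _ (pow_card_of_pow_mm hexp.pow_eq_one)).trans ?_
      refine Eq.trans (pow_eq_of_modEq hexp.pow_eq_one (kexp_spec G p u).2) ?_
      rw [pow_one]
    · exact (CharInt.map_char_eq_pow (Char.irr_isCharacter χ) (f := f.toRingHom) hf g).symm

variable (p) in
/-- The sum over the twists. -/
noncomputable def S (χ : IrrCharacter G) (g : G) : ℂ :=
  ∑ u : (ZMod (pp G p))ˣ, (tw χ u).1 g

theorem S_tw (χ : IrrCharacter G) (u : (ZMod (pp G p))ˣ) (g : G) :
    S p (tw χ u) g = S p χ g := by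
  simp only [S, tw_tw]
  exact Fintype.sum_equiv (Equiv.mulLeft u) _ _ fun v => rfl

theorem card_units : Fintype.card (ZMod (pp G p))ˣ = Nat.totient (pp G p) :=
  ZMod.card_units_eq_totient _

variable {M : Ideal AlgInt} [M.IsMaximal] (hpM : (p : AlgInt) ∈ M)
include hpM

/-- The normalised sum of powers of a root of unity of order dividing the `p`-part. -/
theorem memLocalRing_units_sum {γ : ℂ} (hγ : γ ^ pp G p = 1) :
    MemLocalRing M ((∑ u : (ZMod (pp G p))ˣ, γ ^ (u : ZMod (pp G p)).val) /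
      (Fintype.card (ZMod (pp G p))ˣ : ℂ)) := by
  have hsum : ∑ u : (ZMod (pp G p))ˣ, γ ^ (u : ZMod (pp G p)).val =
      ∑ i ∈ (Finset.range (pp G p)).filter (fun i => i.Coprime (pp G p)), γ ^ i := by
    refine Finset.sum_bij (fun u _ => (u : ZMod (pp G p)).val) (fun u _ => ?_)
      (fun a _ b _ hab => Units.ext (ZMod.val_injective _ hab)) (fun i hi => ?_) fun u _ => rfl
    · exact Finset.mem_filter.2 ⟨Finset.mem_range.2 (ZMod.val_lt _), ZMod.val_coe_unit_coprime u⟩
    · obtain ⟨hi1, hi2⟩ := Finset.mem_filter.1 hi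
      refine ⟨ZMod.unitOfCoprime i hi2, Finset.mem_univ _, ?_⟩
      rw [ZMod.coe_unitOfCoprime, ZMod.val_natCast, Nat.mod_eq_of_lt (Finset.mem_range.1 hi1)]
  have hgeom : ∀ (n : ℕ) (x : ℂ), x ^ n = 1 →
      ∑ i ∈ Finset.range n, x ^ i = if x = 1 then (n : ℂ) else 0 := by
    intro n x hx
    split_ifs with h
    · simp [h]
    · rw [geom_sum_eq h, hx, sub_self, zero_div]
  rw [hsum, card_units]
  clear hsum
  unfold pp at *
  generalize (Nat.card G).factorization p = a at hγ ⊢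
  cases a with
  | zero =>
    have h0 : (Finset.range (p ^ 0)).filter (fun i => i.Coprime (p ^ 0)) = {0} := by
      ext i; simp
    rw [h0]
    simpa using Blocks.memLocalRing_one (M := M)
  | succ a =>
    have hq : p ^ (a + 1) = p ^ a * p := pow_succ p a
    have hp0 : p ^ a ≠ 0 := pow_ne_zero _ hp.out.ne_zero
    have hsplit : ∑ i ∈ (Finset.range (p ^ (a + 1))).filter (fun i => i.Coprime (p ^ (a + 1))),
        γ ^ i = ∑ i ∈ Finset.range (p ^ (a + 1)), γ ^ i - ∑ j ∈ Finset.range (p ^ a), (γ ^ p) ^ j := by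
      rw [eq_sub_iff_add_eq]
      conv_rhs => rw [← Finset.sum_filter_add_sum_filter_not (Finset.range (p ^ (a + 1)))
        (fun i => i.Coprime (p ^ (a + 1)))]
      congr 1
      refine Finset.sum_bij (fun j _ => p * j) (fun j hj => Finset.mem_filter.2 ⟨?_, ?_⟩)
        (fun x _ y _ hxy => Nat.eq_of_mul_eq_mul_left hp.out.pos hxy) (fun i hi => ?_)
        fun j _ => by rw [pow_mul]
      · rw [Finset.mem_range, hq, mul_comm (p ^ a)]
        exact Nat.mul_lt_mul_of_pos_left (Finset.mem_range.1 hj) hp.out.pos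
      · rw [Nat.coprime_pow_right_iff (Nat.succ_pos a)]
        exact fun hc => (hp.out.coprime_iff_not_dvd.1 hc.symm) (dvd_mul_right p j)
      · obtain ⟨hi1, hi2⟩ := Finset.mem_filter.1 hi
        rw [Nat.coprime_pow_right_iff (Nat.succ_pos a)] at hi2
        have hdvd : p ∣ i := by
          by_contra hnd
          exact hi2 ((hp.out.coprime_iff_not_dvd.2 hnd).symm)
        obtain ⟨j, rfl⟩ := hdvd
        rw [Finset.mem_range, hq, mul_comm (p ^ a)] at hi1
        exact ⟨j, Finset.mem_range.2 (Nat.lt_of_mul_lt_mul_left hi1), rfl⟩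
    rw [hsplit, hgeom _ _ hγ, hgeom _ _ (by rw [← pow_mul, mul_comm, ← hq, hγ]),
      Nat.totient_prime_pow_succ hp.out]
    have hloc : ∀ c : ℕ, MemLocalRing M ((c : ℂ) * ((p - 1 : ℕ) : ℂ)⁻¹) := fun c =>
      Blocks.MemLocalRing.mul (Blocks.memLocalRing_natCast c)
        (Blocks.memLocalRing_inv_natCast hpM (fun hd => by
          have h1 := hp.out.one_lt
          have := Nat.le_of_dvd (by omega) hd
          omega))
    have hfinal : ((if γ = 1 then ((p ^ (a + 1) : ℕ) : ℂ) else 0) -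
        if γ ^ p = 1 then ((p ^ a : ℕ) : ℂ) else 0) / ((p ^ a * (p - 1) : ℕ) : ℂ) =
        ((if γ = 1 then p else 0 : ℕ) : ℂ) * ((p - 1 : ℕ) : ℂ)⁻¹ -
          ((if γ ^ p = 1 then 1 else 0 : ℕ) : ℂ) * ((p - 1 : ℕ) : ℂ)⁻¹ := by
      have h0 : ((p ^ a : ℕ) : ℂ) ≠ 0 := Nat.cast_ne_zero.2 hp0
      rw [hq]
      push_cast [apply_ite (Nat.cast (R := ℂ))] at h0 ⊢
      split_ifs <;> field_simp <;> ring
    rw [hfinal]
    exact Blocks.MemLocalRing.sub (hloc _) (hloc _)

/-- The normalised sum over the twists is a local integer. -/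
theorem memLocalRing_S (χ : IrrCharacter G) (g : G) :
    MemLocalRing M (S p χ g / (Fintype.card (ZMod (pp G p))ˣ : ℂ)) := by
  obtain ⟨n, μ, -, hμ, hval⟩ := CharInt.exists_roots (Char.irr_isCharacter χ) g
  simp only [S, tw_apply, hval]
  rw [Finset.sum_comm, Finset.sum_div]
  refine Blocks.MemLocalRing.sum _ fun i _ => ?_
  have hN : μ i ^ Nat.card G = 1 := by
    obtain ⟨d, hd⟩ := orderOf_dvd_natCard g
    rw [hd, pow_mul, hμ i, one_pow]
  obtain ⟨c₁, hc₁q, hc₁m⟩ := Nat.chineseRemainder (coprime G p) 1 0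
  obtain ⟨c₂, hc₂q, hc₂m⟩ := Nat.chineseRemainder (coprime G p) 0 1
  have hk : ∀ u : (ZMod (pp G p))ˣ,
      μ i ^ kexp G p u = μ i ^ c₂ * (μ i ^ c₁) ^ (u : ZMod (pp G p)).val := by
    intro u
    rw [← pow_mul, ← pow_add]
    refine pow_eq_of_modEq hN (modEq_card (p := p) ?_ ?_)
    · refine (kexp_spec G p u).1.trans ?_
      simpa using (hc₂q.add (hc₁q.mul_right (u : ZMod (pp G p)).val)).symm
    · refine (kexp_spec G p u).2.trans ?_
      simpa using (hc₂m.add (hc₁m.mul_right (u : ZMod (pp G p)).val)).symm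
  have hγ : (μ i ^ c₁) ^ pp G p = 1 := by
    obtain ⟨d, hd⟩ := Nat.modEq_zero_iff_dvd.1 hc₁m
    rw [← pow_mul, hd, show mm G p * d * pp G p = (pp G p * mm G p) * d by ring, pp_mul, pow_mul,
      hN, one_pow]
  rw [Finset.sum_congr rfl fun u _ => hk u, ← Finset.mul_sum, mul_div_assoc]
  exact Blocks.MemLocalRing.mul (Blocks.memLocalRing_of_isIntegral
    (IsIntegral.pow ((IsIntegral.of_pow Nat.card_pos (by rw [hN]; exact isIntegral_one))) _))
    (memLocalRing_units_sum hpM hγ)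

omit hpM

theorem sum_classes (f : G → ℂ) (hf : ∀ g x : G, f (x * g * x⁻¹) = f g) :
    ∑ g : G, f g = ∑ C : ConjClasses G,
      ((Subgroup.centralizer ({C.out} : Set G)).index : ℂ) * f C.out := by
  rw [← Finset.sum_fiberwise Finset.univ ConjClasses.mk]
  refine Finset.sum_congr rfl fun C _ => ?_
  have hC : ConjClasses.mk C.out = C := Quotient.out_eq C
  rw [← PrimeParts.ncard_carrier, hC, Set.ncard_eq_toFinset_card', ← nsmul_eq_mul, ← Finset.sum_const]
  refine Finset.sum_congr ?_ fun b hb => ?_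
  · ext b; simp [ConjClasses.mem_carrier_iff_mk_eq]
  · rw [Set.mem_toFinset, ConjClasses.mem_carrier_iff_mk_eq, ← hC] at hb
    obtain ⟨c, hc⟩ := isConj_iff.1 (ConjClasses.mk_eq_mk_iff_isConj.1 hb.symm)
    rw [← hc, hf]

/-- The weighted sum of a central character against the twists. -/
theorem central_sum (χ ψ : IrrCharacter G) :
    ∑ C : ConjClasses G, centralChar ψ.1 C.out *
        (S p χ C.out⁻¹ / (Fintype.card (ZMod (pp G p))ˣ : ℂ)) =
      ((Nat.card G * (Finset.univ.filter fun u : (ZMod (pp G p))ˣ => tw χ u = ψ).card : ℕ) : ℂ) /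
        ((Fintype.card (ZMod (pp G p))ˣ * Char.degree ψ : ℕ) : ℂ) := by
  have h1 : ∀ φ : IrrCharacter G, ∑ g : G, ψ.1 g * φ.1 g⁻¹ =
      if φ = ψ then (Nat.card G : ℂ) else 0 := by
    intro φ
    have hN : (Nat.card G : ℂ) ≠ 0 := Nat.cast_ne_zero.2 Nat.card_pos.ne'
    have : classInner ψ.1 φ.1 = if φ = ψ then 1 else 0 := by
      split_ifs with h
      · subst h; exact Char.classInner_irr_self φ.2
      · exact Char.classInner_irr_of_ne ψ.2 φ.2 fun hh => h (Subtype.ext hh).symm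
    rw [classInner] at this
    simp only [← CharInt.char_inv (Char.irr_isCharacter φ)] at this
    split_ifs at this ⊢
    · field_simp at this; exact this
    · exact (mul_eq_zero.1 this).resolve_left (inv_ne_zero hN)
  have h2 : ∑ g : G, ψ.1 g * S p χ g⁻¹ =
      ((Nat.card G * (Finset.univ.filter fun u : (ZMod (pp G p))ˣ => tw χ u = ψ).card : ℕ) : ℂ) := by
    simp only [S, Finset.mul_sum]
    rw [Finset.sum_comm, Finset.sum_congr rfl fun u _ => h1 (tw χ u), ← Finset.sum_filter,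
      Finset.sum_const, nsmul_eq_mul]
    push_cast
    ring
  rw [Nat.cast_mul (Fintype.card _), ← h2, sum_classes (fun g => ψ.1 g * S p χ g⁻¹) (fun g x => by
    show ψ.1 (x * g * x⁻¹) * S p χ (x * g * x⁻¹)⁻¹ = _
    rw [Blocks.irr_classFun ψ g x, show (x * g * x⁻¹)⁻¹ = x * g⁻¹ * x⁻¹ by group]
    simp only [S, fun u => Blocks.irr_classFun (tw (p := p) χ u) g⁻¹ x]), Finset.sum_div]
  refine Finset.sum_congr rfl fun C _ => ?_
  rw [centralChar, Char.apply_one_eq_degree]
  ring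

theorem card_stab_mul (χ : IrrCharacter G) :
    Nat.card {ψ : IrrCharacter G // Rel p χ ψ} *
      (Finset.univ.filter fun u : (ZMod (pp G p))ˣ => tw χ u = χ).card =
      Fintype.card (ZMod (pp G p))ˣ := by
  rw [Nat.card_eq_fintype_card, Fintype.card_subtype, ← Finset.card_univ (α := (ZMod (pp G p))ˣ),
    Finset.card_eq_sum_card_fiberwise (s := (Finset.univ : Finset (ZMod (pp G p))ˣ))
      (t := Finset.univ.filter (Rel p χ)) (f := tw χ)
      (fun u _ => Finset.mem_filter.2 ⟨Finset.mem_univ _, (rel_iff χ _).2 ⟨u, rfl⟩⟩),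
    ← smul_eq_mul, ← Finset.sum_const]
  refine Finset.sum_congr rfl fun ψ hψ => ?_
  obtain ⟨l, rfl⟩ := (rel_iff χ ψ).1 (Finset.mem_filter.1 hψ).2
  refine Finset.card_bij (fun u _ => u * l) (fun u hu => ?_) (fun a _ b _ h => mul_right_cancel h)
    fun v hv => ⟨v * l⁻¹, ?_, inv_mul_cancel_right v l⟩
  · rw [Finset.mem_filter] at hu ⊢
    exact ⟨Finset.mem_univ _, by rw [← tw_tw, hu.2]⟩
  · rw [Finset.mem_filter] at hv ⊢
    exact ⟨Finset.mem_univ _, by rw [← tw_tw, hv.2, tw_tw, mul_inv_cancel, tw_one]⟩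

theorem isPPart_self {x : G} {k : ℕ} (hx : orderOf x = p ^ k) : IsPPart p x x :=
  ⟨1, mul_one _, Commute.one_right _, ⟨k, hx⟩, by simp [hp.out.ne_one]⟩

/-- The two assertions. -/
theorem main (χ : IrrCharacter G) :
    (Nat.card {ψ : IrrCharacter G // Rel p χ ψ} * charDegree χ.1).factorization p ≤
        (Nat.card G).factorization p ∧
      (p ^ (Nat.card G).factorization p ∣ Nat.card {ψ : IrrCharacter G // Rel p χ ψ} *
          charDegree χ.1 → p ^ (Nat.card G).factorization p ∣ charDegree χ.1) := by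
  obtain ⟨M, hM⟩ := CharInt.exists_isPModular_of_prime hp.out
  haveI := hM.2.1
  have hpM := hM.2.2
  rw [charDegree_eq_degree]
  set r := Nat.card {ψ : IrrCharacter G // Rel p χ ψ} with hr
  set st := (Finset.univ.filter fun u : (ZMod (pp G p))ˣ => tw χ u = χ).card with hst
  have hst0 : st ≠ 0 := (Finset.card_pos.2 ⟨1, Finset.mem_filter.2
    ⟨Finset.mem_univ _, tw_one χ⟩⟩).ne'
  have hr0 : r ≠ 0 := fun h => Fintype.card_ne_zero (α := (ZMod (pp G p))ˣ) (by
    rw [← card_stab_mul χ, ← hr, h, zero_mul])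
  have hd0 := (Char.degree_pos χ).ne'
  set W : IrrCharacter G → ℂ := fun ψ => ∑ C : ConjClasses G, centralChar ψ.1 C.out *
    (S p χ C.out⁻¹ / (Fintype.card (ZMod (pp G p))ˣ : ℂ)) with hW
  have hWχ : W χ = (Nat.card G : ℂ) / ((r * Char.degree χ : ℕ) : ℂ) := by
    rw [hW]
    beta_reduce
    rw [central_sum χ χ, ← card_stab_mul χ, ← hr, ← hst]
    have h1 : (st : ℂ) ≠ 0 := Nat.cast_ne_zero.2 hst0
    push_cast
    field_simp
  have hloc : MemLocalRing M (W χ) := Blocks.MemLocalRing.sum _ fun C _ =>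
    Blocks.MemLocalRing.mul (Blocks.memLocalRing_centralChar χ _) (memLocalRing_S hpM χ _)
  rw [hWχ, Blocks.memLocalRing_natCast_div_iff hpM Nat.card_pos.ne' (mul_ne_zero hr0 hd0)] at hloc
  refine ⟨hloc, fun hdiv => ?_⟩
  have heq : (r * Char.degree χ).factorization p = (Nat.card G).factorization p :=
    le_antisymm hloc ((hp.out.pow_dvd_iff_le_factorization (mul_ne_zero hr0 hd0)).1 hdiv)
  have hunit : ¬ MemLocalIdeal M (W χ) := by
    rw [hWχ]
    exact Blocks.not_memLocalIdeal_natCast_div hpM Nat.card_pos.ne' (mul_ne_zero hr0 hd0) heq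
  have hBsub : ∀ ψ ∈ blockOf M χ.1, ∃ u : (ZMod (pp G p))ˣ, tw χ u = ψ := by
    intro ψ hψ
    by_contra hno
    refine hunit ?_
    have h0 : W ψ = 0 := by
      rw [hW]
      beta_reduce
      rw [central_sum χ ψ, show (Finset.univ.filter fun u : (ZMod (pp G p))ˣ => tw χ u = ψ) = ∅ from
        Finset.filter_eq_empty_iff.2 fun u _ hu => hno ⟨u, hu⟩, Finset.card_empty, mul_zero,
        Nat.cast_zero, zero_div]
    rw [← sub_zero (W χ), ← h0, hW]
    beta_reduce
    rw [← Finset.sum_sub_distrib]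
    refine Blocks.MemLocalIdeal.sum _ fun C _ => ?_
    rw [← sub_mul]
    exact Blocks.MemLocalIdeal.mul_right (hψ C.out) (memLocalRing_S hpM χ _)
  -- the values at nontrivial `p`-elements vanish
  have hvanish : ∀ x : G, x ≠ 1 → (∃ k, orderOf x = p ^ k) → χ.1 x = 0 := by
    rintro x hx1 ⟨k, hk⟩
    set Bf := Finset.univ.filter (· ∈ blockOf M χ.1) with hBf
    have hdvd : p ∣ orderOf x := by
      rw [hk]
      exact dvd_pow_self p fun h0 => hx1 (orderOf_eq_one_iff.1 (by rw [hk, h0, pow_zero]))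
    have hT : ∑ ψ ∈ Bf, ψ.1 x = 0 := by
      have h := Blocks.blockCoeff_eq_zero hpM (Blocks.isPBlock_blockOf (M := M) χ)
        (Blocks.not_isPRegular_iff.2 hdvd)
      rw [Blocks.blockCoeff_eq_sum, mul_eq_zero] at h
      replace h := h.resolve_left (inv_ne_zero (Nat.cast_ne_zero.2 Nat.card_pos.ne'))
      rw [Finset.sum_congr rfl fun ψ hψ => show ψ.1 1 * conj (ψ.1 x) =
        (Char.degree χ : ℂ) * conj (ψ.1 x) by
          obtain ⟨u, rfl⟩ := hBsub ψ (Finset.mem_filter.1 hψ).2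
          rw [Char.apply_one_eq_degree, degree_tw], ← Finset.mul_sum, ← map_sum] at h
      exact (map_eq_zero _).1 ((mul_eq_zero.1 h).resolve_left (Nat.cast_ne_zero.2 hd0))
    have hzero : ∑ u : (ZMod (pp G p))ˣ, ∑ ψ ∈ Bf, ψ.1 x * conj (ψ.1 (x ^ kexp G p u)) = 0 := by
      rw [Finset.sum_comm, Finset.sum_congr rfl fun ψ hψ => show
        ∑ u : (ZMod (pp G p))ˣ, ψ.1 x * conj (ψ.1 (x ^ kexp G p u)) = ψ.1 x * conj (S p χ x) by
          obtain ⟨l, rfl⟩ := hBsub ψ (Finset.mem_filter.1 hψ).2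
          rw [← Finset.mul_sum, ← map_sum, ← S_tw χ l x]
          rfl, ← Finset.sum_mul, hT, zero_mul]
    have hreal : ∀ u : (ZMod (pp G p))ˣ, ∑ ψ ∈ Bf, ψ.1 x * conj (ψ.1 (x ^ kexp G p u)) =
        ((if IsConj x (x ^ kexp G p u) then ∑ ψ ∈ Bf, Complex.normSq (ψ.1 x) else 0 : ℝ) : ℂ) := by
      intro u
      split_ifs with hc
      · obtain ⟨c, hc'⟩ := isConj_iff.1 hc
        rw [Complex.ofReal_sum]
        exact Finset.sum_congr rfl fun ψ _ => by
          rw [← hc', Blocks.irr_classFun ψ, Complex.mul_conj]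
      · rw [Complex.ofReal_zero]
        obtain ⟨j, -, hj⟩ := (Nat.dvd_prime_pow hp.out).1 (hk ▸ orderOf_pow_dvd (kexp G p u) :
          orderOf (x ^ kexp G p u) ∣ p ^ k)
        exact Blocks.block_orthogonality hpM (isPPart_self hk) (isPPart_self hj) hc
          (Blocks.isPBlock_blockOf χ)
    rw [Finset.sum_congr rfl fun u _ => hreal u, ← Complex.ofReal_sum, Complex.ofReal_eq_zero] at hzero
    have hnn : ∀ u : (ZMod (pp G p))ˣ,
        (0 : ℝ) ≤ if IsConj x (x ^ kexp G p u) then ∑ ψ ∈ Bf, Complex.normSq (ψ.1 x) else 0 :=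
      fun u => by
        split_ifs
        · exact Finset.sum_nonneg fun ψ _ => Complex.normSq_nonneg _
        · exact le_rfl
    have h1 := (Finset.sum_eq_zero_iff_of_nonneg fun u _ => hnn u).1 hzero 1 (Finset.mem_univ _)
    rw [if_pos (by rw [pow_congr kexp_one, pow_one])] at h1
    exact Complex.normSq_eq_zero.1 ((Finset.sum_eq_zero_iff_of_nonneg
      fun ψ _ => Complex.normSq_nonneg _).1 h1 χ
        (Finset.mem_filter.2 ⟨Finset.mem_univ _, Blocks.mem_blockOf_self χ⟩))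
  let Q : Sylow p G := default
  obtain ⟨n, hn⟩ := Char.IsCharacter.exists_nat_classInner
    (Char.IsCharacter.restrict (Char.irr_isCharacter χ) (Q : Subgroup G))
    (Char.irr_isCharacter (Char.trivialChar (Q : Subgroup G)))
  rw [classInner, Finset.sum_eq_single (1 : (Q : Subgroup G))] at hn
  · simp only [OneMemClass.coe_one, Char.trivialChar_apply, map_one, mul_one,
      Char.apply_one_eq_degree] at hn
    refine ⟨n, ?_⟩
    rw [← Q.card_eq_multiplicity]
    apply Nat.cast_injective (R := ℂ)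
    push_cast
    rw [← hn, mul_inv_cancel_left₀ (Nat.cast_ne_zero.2 Nat.card_pos.ne')]
  · intro y _ hy
    obtain ⟨k, hk⟩ := IsPGroup.iff_orderOf.1 Q.isPGroup' y
    rw [show χ.1 (y : G) = 0 from
      hvanish y (fun he => hy (Subtype.ext he)) ⟨k, by rw [Subgroup.orderOf_coe]; exact hk⟩, zero_mul]
  · exact fun h => absurd (Finset.mem_univ _) h

end Cfsg.Agent.Char.PConj
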