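import Cfsg.Agent.Lib.Char.TIAbelianBound
import Cfsg.Agent.Lib.Char.CliffordCorrespondence
import Cfsg.Agent.Lib.Coprime.Sylow
import Cfsg.Agent.Lib.Transfer.Burnside
import Cfsg.Agent.Lib.CharInt.Eigen
import Cfsg.Agent.Lib.Char.PRegular

/-!
# Groups with a faithful representation of small degree relative to `p`

If `n + 1 < p`, every proper subgroup has its `p`-elements closed under products, and a non-normal
Sylow `p`-subgroup has order at least `(n + 1)²`, then the Sylow `p`-subgroup is normal.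
-/

namespace Cfsg.Agent.Char.Blichfeldt

open scoped ComplexConjugate commutatorElement
open Complex (normSq)

set_option linter.style.haveILetI false
set_option linter.unusedSectionVars false

universe u

variable {G : Type u} [Group G] {p : ℕ}

/-- `x` has `p`-power order. -/
def PElt (p : ℕ) (x : G) : Prop := ∃ k : ℕ, x ^ p ^ k = 1

theorem PElt.conj {x : G} (h : PElt p x) (g : G) : PElt p (g * x * g⁻¹) := by
  obtain ⟨k, hk⟩ := h
  exact ⟨k, by rw [conj_pow, hk]; group⟩

theorem PElt.inv {x : G} (h : PElt p x) : PElt p x⁻¹ := by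
  obtain ⟨k, hk⟩ := h
  exact ⟨k, by rw [inv_pow, hk, inv_one]⟩

theorem PElt.mul {x y : G} (hc : Commute x y) (h : PElt p x) (h' : PElt p y) : PElt p (x * y) := by
  obtain ⟨k, hk⟩ := h
  obtain ⟨l, hl⟩ := h'
  refine ⟨k + l, ?_⟩
  have e1 : x ^ p ^ (k + l) = 1 := by rw [pow_add, pow_mul, hk, one_pow]
  have e2 : y ^ p ^ (k + l) = 1 := by rw [pow_add, Nat.mul_comm, pow_mul, hl, one_pow]
  rw [hc.mul_pow, e1, e2, one_mul]

theorem pElt_of_isPGroup {H : Subgroup G} (h : IsPGroup p H) {x : G} (hx : x ∈ H) : PElt p x := by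
  obtain ⟨k, hk⟩ := h ⟨x, hx⟩
  exact ⟨k, by simpa [Subtype.ext_iff] using hk⟩

/-- The `p`-elements of `L` are closed under products. -/
def PClosed (p : ℕ) (L : Subgroup G) : Prop :=
  ∀ x ∈ L, ∀ y ∈ L, PElt p x → PElt p y → PElt p (x * y)

/-- The subgroup of `p`-elements of a closed subgroup. -/
def pPart {L : Subgroup G} (h : PClosed p L) : Subgroup G where
  carrier := {x | x ∈ L ∧ PElt p x}
  one_mem' := ⟨L.one_mem, 0, one_pow _⟩
  mul_mem' := fun hx hy => ⟨L.mul_mem hx.1 hy.1, h _ hx.1 _ hy.1 hx.2 hy.2⟩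
  inv_mem' := fun hx => ⟨L.inv_mem hx.1, hx.2.inv⟩

theorem isPGroup_pPart {L : Subgroup G} (h : PClosed p L) : IsPGroup p (pPart h) := fun x => by
  obtain ⟨k, hk⟩ := x.2.2
  exact ⟨k, Subtype.ext (by simpa using hk)⟩

theorem sylow_normal_of_pClosed [Fact p.Prime] (h : PClosed p (⊤ : Subgroup G)) (P : Sylow p G) :
    (P : Subgroup G).Normal := by
  have hle : (P : Subgroup G) ≤ pPart h := fun x hx =>
    ⟨Subgroup.mem_top x, pElt_of_isPGroup P.2 hx⟩
  have heq := P.is_maximal' (isPGroup_pPart h) hle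
  refine ⟨fun x hx g => ?_⟩
  rw [← heq] at hx ⊢
  exact ⟨Subgroup.mem_top _, hx.2.conj g⟩

theorem pClosed_of_sylow_normal [Finite G] [Fact p.Prime] (L : Subgroup G)
    (h : ∀ Q : Sylow p L, (Q : Subgroup L).Normal) : PClosed p L := by
  intro x hx y hy hpx hpy
  let Q : Sylow p L := default
  haveI := h Q
  have hmem : ∀ z (hz : z ∈ L), PElt p z → (⟨z, hz⟩ : L) ∈ (Q : Subgroup L) := by
    intro z hz hpz
    obtain ⟨k, hk⟩ := hpz
    have hZ : IsPGroup p (Subgroup.zpowers (⟨z, hz⟩ : L)) := by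
      rintro ⟨w, m, rfl⟩
      refine ⟨k, Subtype.ext ?_⟩
      show ((⟨z, hz⟩ : L) ^ m) ^ p ^ k = 1
      have e : (⟨z, hz⟩ : L) ^ p ^ k = 1 := Subtype.ext (by simpa using hk)
      rw [← zpow_natCast, zpow_comm, zpow_natCast, e, one_zpow]
    exact Q.is_maximal' (hZ.to_sup_of_normal_right Q.2) le_sup_right ▸
      (le_sup_left : Subgroup.zpowers _ ≤ _ ⊔ (Q : Subgroup L)) (Subgroup.mem_zpowers _)
  obtain ⟨k, hk⟩ := Q.2 ⟨_, (Q : Subgroup L).mul_mem (hmem x hx hpx) (hmem y hy hpy)⟩
  exact ⟨k, by simpa [Subtype.ext_iff] using hk⟩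

variable [Finite G]

/-- A `p`-group with a faithful representation of degree less than `p` is abelian. -/
theorem commute_of_pgroup [hp : Fact p.Prime] {n : ℕ} (hn : n < p)
    (ρ : Representation ℂ G (Fin n → ℂ)) (hρ : Function.Injective ρ) {H : Subgroup G}
    (hH : IsPGroup p H) {x y : G} (hx : x ∈ H) (hy : y ∈ H) : Commute x y := by
  classical
  haveI := Fintype.ofFinite H
  let σ : Representation ℂ H (Fin n → ℂ) := ρ.comp H.subtype
  obtain ⟨m, hm, -⟩ := IsCharacter.exists_decomp (χ := σ.character) ⟨n, σ, rfl⟩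
  have hdeg : (n : ℂ) = ∑ ψ : IrrCharacter H, (m ψ : ℂ) * (degree ψ : ℂ) := by
    have := congrFun hm 1
    rw [σ.char_one, Module.finrank_fin_fun] at this
    simpa [apply_one_eq_degree] using this
  have hdeg' : n = ∑ ψ : IrrCharacter H, m ψ * degree ψ := by exact_mod_cast hdeg
  set c : H := ⁅(⟨x, hx⟩ : H), ⟨y, hy⟩⁆ with hc
  have hval : ∀ ψ : IrrCharacter H, (m ψ : ℂ) * ψ.1 c = (m ψ : ℂ) * (degree ψ : ℂ) := by
    intro ψ
    rcases eq_or_ne (m ψ) 0 with h0 | h0
    · simp [h0]
    have hlt : degree ψ < p := by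
      have h1 := Finset.single_le_sum (f := fun φ : IrrCharacter H => m φ * degree φ)
        (fun _ _ => Nat.zero_le _) (Finset.mem_univ ψ)
      rw [← hdeg'] at h1
      exact lt_of_le_of_lt ((Nat.le_mul_of_pos_left _ (Nat.pos_of_ne_zero h0)).trans h1) hn
    obtain ⟨k, hk⟩ := IsPGroup.iff_card.1 hH
    obtain ⟨j, -, hj⟩ := (Nat.dvd_prime_pow hp.out).1 (hk ▸ degree_dvd_natCard ψ)
    have hj0 : j = 0 := by
      by_contra hj0
      exact absurd (hj ▸ Nat.le_self_pow hj0 p) (not_le.2 hlt)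
    have h1 : ψ.1 1 = 1 := by rw [apply_one_eq_degree, hj, hj0]; simp
    obtain ⟨lam, hlam⟩ := IsCharacter.exists_monoidHom (irr_isCharacter ψ) h1
    rw [← apply_one_eq_degree, h1, ← hlam, hc, commutatorElement_def, map_mul, map_mul, map_mul,
      mul_right_comm (lam _) (lam _) (lam _), ← map_mul, mul_inv_cancel, map_one, one_mul,
      ← map_mul, mul_inv_cancel, map_one]
  have hchar : σ.character c = (Module.finrank ℂ (Fin n → ℂ) : ℂ) := by
    rw [Module.finrank_fin_fun, hdeg, hm, Finset.sum_apply]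
    exact Finset.sum_congr rfl fun ψ _ => by rw [Pi.smul_apply, smul_eq_mul, hval]
  have h1 := (CharInt.character_eq_finrank_iff σ c).1 hchar
  have h2 : (c : G) = 1 := hρ (h1.trans (map_one ρ).symm)
  rw [hc] at h2
  exact commutatorElement_eq_one_iff_mul_comm.1 h2

section Step

variable [Fintype G] [hp : Fact p.Prime] {n : ℕ} (hn : n + 1 < p)
  (ρ : Representation ℂ G (Fin n → ℂ)) (hρ : Function.Injective ρ)
  (hmax : ∀ L : Subgroup G, L ≠ ⊤ → PClosed p L)
include hn hρ hmax

theorem commute_of_proper {L : Subgroup G} (hL : L ≠ ⊤) {x y : G} (hx : x ∈ L) (hy : y ∈ L)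
    (hpx : PElt p x) (hpy : PElt p y) : Commute x y :=
  commute_of_pgroup (by omega) ρ hρ (isPGroup_pPart (hmax L hL)) (H := pPart (hmax L hL))
    ⟨hx, hpx⟩ ⟨hy, hpy⟩

theorem mem_sylow_of_commute (P : Sylow p G) {x : G} (hx : PElt p x)
    (hc : ∀ w ∈ (P : Subgroup G), Commute x w) : x ∈ (P : Subgroup G) := by
  obtain ⟨k, hk⟩ := hx
  have hZ : IsPGroup p (Subgroup.zpowers x) := by
    rintro ⟨w, m, rfl⟩
    refine ⟨k, Subtype.ext ?_⟩
    show (x ^ m) ^ p ^ k = 1
    rw [← zpow_natCast, zpow_comm, zpow_natCast, hk, one_zpow]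
  have hle : Subgroup.zpowers x ≤ Subgroup.normalizer ((P : Subgroup G) : Set G) :=
    (Subgroup.zpowers_le.2 (show x ∈ Subgroup.centralizer ((P : Subgroup G) : Set G) from
      fun w hw => (hc w hw).symm.eq)).trans (Subgroup.centralizer_le_normalizer _)
  exact P.is_maximal' (hZ.to_sup_of_normal_right' P.2 hle) le_sup_right ▸
    (le_sup_left : Subgroup.zpowers x ≤ _ ⊔ (P : Subgroup G)) (Subgroup.mem_zpowers x)

variable (P : Sylow p G) (hP : ¬ (P : Subgroup G).Normal)
include hP

theorem centralizer_ne_top {u : G} (hu : u ∉ Subgroup.center G) :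
    Subgroup.centralizer ({u} : Set G) ≠ ⊤ := fun h =>
  hu (Subgroup.mem_center_iff.2 fun g =>
    Subgroup.mem_centralizer_singleton_iff.1 (h ▸ Subgroup.mem_top g))

/-- No proper normal subgroup contains the Sylow subgroup. -/
theorem eq_top_of_normal_ge {M : Subgroup G} (hM : M.Normal) (hPM : (P : Subgroup G) ≤ M) :
    M = ⊤ := by
  by_contra hne
  refine hP ⟨fun x hx g => ?_⟩
  exact mem_sylow_of_commute hn ρ hρ hmax P ((pElt_of_isPGroup P.2 hx).conj g) fun w hw =>
    commute_of_proper hn ρ hρ hmax hne (hM.conj_mem x (hPM hx) g) (hPM hw)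
      ((pElt_of_isPGroup P.2 hx).conj g) (pElt_of_isPGroup P.2 hw)

theorem inf_center_commutator : ∀ x ∈ (P : Subgroup G), x ∈ Subgroup.center G →
    x ∈ commutator G → x = 1 := by
  intro x hxP hxZ hxG
  have hab : IsMulCommutative (P : Subgroup G) := ⟨⟨fun a b =>
    Subtype.ext (commute_of_pgroup (by omega) ρ hρ P.2 a.2 b.2).eq⟩⟩
  exact (Subgroup.eq_bot_iff_forall _).1
    (Transfer.inf_centralizer_normalizer_inf_commutator_eq_bot P hab) x
    ⟨⟨hxP, fun w _ => Subgroup.mem_center_iff.1 hxZ w⟩, hxG⟩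

/-- Centralisers of non-central elements meet at most one Sylow subgroup, for perfect groups. -/
theorem unique_of_perfect (hperf : commutator G = ⊤) :
    TIBound.Unique (P : Subgroup G) := by
  intro y hy a b ha hb
  obtain ⟨u, hu, hu1⟩ := (Subgroup.bot_or_exists_ne_one _).resolve_left ha
  obtain ⟨v, hv, hv1⟩ := (Subgroup.bot_or_exists_ne_one _).resolve_left hb
  have hconj : ∀ c : G, (P : Subgroup G).map (MulAut.conj c).toMonoidHom =
      ((c • P : Sylow p G) : Subgroup G) := fun c => rfl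
  rw [hconj] at hu hv
  rw [hconj, hconj]
  have hnc : ∀ (c : G) (w : G), w ∈ ((c • P : Sylow p G) : Subgroup G) → w ≠ 1 →
      w ∉ Subgroup.center G := by
    intro c z hz hz1 hzZ
    rw [← hconj] at hz
    obtain ⟨w, hw, rfl⟩ := Subgroup.mem_map.1 hz
    simp only [MulEquiv.coe_toMonoidHom, MulAut.conj_apply] at hz1 hzZ
    have hwc : c * w * c⁻¹ = w := by
      have := Subgroup.mem_center_iff.1 hzZ c
      calc c * w * c⁻¹ = c⁻¹ * (c * (c * w * c⁻¹)) := by group
        _ = c⁻¹ * (c * w * c⁻¹ * c) := by rw [this]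
        _ = w := by group
    rw [hwc] at hz1 hzZ
    exact hz1 (inf_center_commutator hn ρ hρ hmax P hP w hw hzZ (hperf ▸ Subgroup.mem_top w))
  have huZ := hnc a u hu.2 hu1
  have hvZ := hnc b v hv.2 hv1
  have hu' := pElt_of_isPGroup (a • P).2 hu.2
  have hv' := pElt_of_isPGroup (b • P).2 hv.2
  have huv : Commute u v :=
    commute_of_proper hn ρ hρ hmax (centralizer_ne_top hn ρ hρ hmax P hP hy) hu.1 hv.1 hu' hv'
  -- `v` lies in the conjugate containing `u`
  have hself : ∀ (Q : Sylow p G) {s t : G}, s ∈ (Q : Subgroup G) → t ∈ (Q : Subgroup G) →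
      Commute s t := fun Q s t hs ht => commute_of_pgroup (by omega) ρ hρ Q.2 hs ht
  have hva : v ∈ ((a • P : Sylow p G) : Subgroup G) :=
    mem_sylow_of_commute hn ρ hρ hmax _ hv' fun w hw =>
      commute_of_proper hn ρ hρ hmax (centralizer_ne_top hn ρ hρ hmax P hP huZ)
        (Subgroup.mem_centralizer_singleton_iff.2 huv.symm.eq)
        (Subgroup.mem_centralizer_singleton_iff.2 (hself (a • P) hw hu.2).eq)
        hv' (pElt_of_isPGroup (a • P).2 hw)
  ext w
  constructor <;> intro hw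
  · exact mem_sylow_of_commute hn ρ hρ hmax _ (pElt_of_isPGroup (a • P).2 hw) fun w' hw' =>
      commute_of_proper hn ρ hρ hmax (centralizer_ne_top hn ρ hρ hmax P hP hvZ)
        (Subgroup.mem_centralizer_singleton_iff.2 (hself (a • P) hw hva).eq)
        (Subgroup.mem_centralizer_singleton_iff.2 (hself (b • P) hw' hv.2).eq)
        (pElt_of_isPGroup (a • P).2 hw) (pElt_of_isPGroup (b • P).2 hw')
  · exact mem_sylow_of_commute hn ρ hρ hmax _ (pElt_of_isPGroup (b • P).2 hw) fun w' hw' =>
      commute_of_proper hn ρ hρ hmax (centralizer_ne_top hn ρ hρ hmax P hP hvZ)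
        (Subgroup.mem_centralizer_singleton_iff.2 (hself (b • P) hw hv.2).eq)
        (Subgroup.mem_centralizer_singleton_iff.2 (hself (a • P) hw' hva).eq)
        (pElt_of_isPGroup (b • P).2 hw) (pElt_of_isPGroup (a • P).2 hw')

theorem card_lt_of_perfect (hperf : commutator G = ⊤) :
    Nat.card (P : Subgroup G) < (n + 1) ^ 2 := by
  classical
  haveI := Fintype.ofFinite (P : Subgroup G)
  have hab : ∀ a ∈ (P : Subgroup G), ∀ b ∈ (P : Subgroup G), a * b = b * a := fun a ha b hb =>
    (commute_of_pgroup (by omega) ρ hρ P.2 ha hb).eq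
  have hZ : (P : Subgroup G) ⊓ Subgroup.center G = ⊥ := (Subgroup.eq_bot_iff_forall _).2
    fun x hx => inf_center_commutator hn ρ hρ hmax P hP x hx.1 hx.2 (hperf ▸ Subgroup.mem_top x)
  obtain ⟨x, hx, hx1⟩ := (Subgroup.bot_or_exists_ne_one (P : Subgroup G)).resolve_left fun h =>
    hP (by rw [h]; infer_instance)
  obtain ⟨m, hm, -⟩ := IsCharacter.exists_decomp (χ := ρ.character) ⟨n, ρ, rfl⟩
  obtain ⟨ψ, hψm, hψx⟩ : ∃ ψ : IrrCharacter G, m ψ ≠ 0 ∧ ψ.1 x ≠ ψ.1 1 := by
    by_contra hno
    push Not at hno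
    refine hx1 (hρ (((CharInt.character_eq_finrank_iff ρ x).1 ?_).trans (map_one ρ).symm))
    rw [← ρ.char_one, hm, Finset.sum_apply, Finset.sum_apply]
    refine Finset.sum_congr rfl fun φ _ => ?_
    rcases eq_or_ne (m φ) 0 with h0 | h0
    · simp [h0]
    · simp [hno φ h0]
  have hdle : degree ψ ≤ n := by
    have := congrFun hm 1
    rw [ρ.char_one, Module.finrank_fin_fun, Finset.sum_apply] at this
    simp only [Pi.smul_apply, apply_one_eq_degree, smul_eq_mul] at this
    have h' : n = ∑ φ, m φ * degree φ := by exact_mod_cast this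
    exact (Nat.le_mul_of_pos_left _ (Nat.pos_of_ne_zero hψm)).trans
      (h' ▸ Finset.single_le_sum (f := fun φ : IrrCharacter G => m φ * degree φ)
        (fun _ _ => Nat.zero_le _) (Finset.mem_univ ψ))
  have hne : ψ.1 1 ≠ 1 := by
    intro h1
    obtain ⟨lam, hlam⟩ := IsCharacter.exists_monoidHom (irr_isCharacter ψ) h1
    refine hψx ?_
    rw [← hlam, map_one]
    have hle : commutator G ≤ (lam.toHomUnits).ker := Abelianization.commutator_subset_ker _
    rw [hperf] at hle
    simpa [Units.ext_iff] using hle (Subgroup.mem_top x)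
  have h1 := TIBound.card_lt_degree_succ_sq hab hZ
    (unique_of_perfect hn ρ hρ hmax P hP hperf) ψ hne
    (fun M hM hPM => eq_top_of_normal_ge hn ρ hρ hmax P hP hM hPM)
  have h2 : (Nat.card (P : Subgroup G) : ℝ) < (((n + 1) ^ 2 : ℕ) : ℝ) := by
    refine h1.trans_le ?_
    push_cast
    rw [add_comm (1 : ℝ)]
    exact pow_le_pow_left₀ (by positivity) (by exact_mod_cast Nat.add_le_add_right hdle 1) 2
  exact_mod_cast h2

theorem coprime_commutator (hne : commutator G ≠ ⊤) {x : G} (hx : x ∈ commutator G)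
    (hpx : PElt p x) : x = 1 := by
  have hcl := hmax _ hne
  have hTn : (pPart hcl).Normal := ⟨fun t ht g =>
    ⟨(inferInstance : (commutator G).Normal).conj_mem t ht.1 g, ht.2.conj g⟩⟩
  have hTP : pPart hcl ≤ (P : Subgroup G) :=
    P.is_maximal' ((isPGroup_pPart hcl).to_sup_of_normal_left P.2) le_sup_right ▸ le_sup_left
  have hC : Subgroup.centralizer (pPart hcl : Set G) = ⊤ := by
    haveI := hTn
    refine eq_top_of_normal_ge hn ρ hρ hmax P hP inferInstance fun w hw t ht => ?_
    exact (commute_of_pgroup (by omega) ρ hρ P.2 (hTP ht) hw).eq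
  refine inf_center_commutator hn ρ hρ hmax P hP x (hTP ⟨hx, hpx⟩)
    (Subgroup.mem_center_iff.2 fun g => ?_) hx
  exact ((hC ▸ Subgroup.mem_top g : g ∈ Subgroup.centralizer (pPart hcl : Set G)) x ⟨hx, hpx⟩).symm

omit hP

/-- A `p`-element centralizes a normal `p'`-subgroup `N` if every smaller power does and
`N⟨x⟩` generates. -/
theorem commute_of_generate (N : Subgroup G) [hN : N.Normal]
    (hNp : ∀ u ∈ N, PElt p u → u = 1) {x : G} (hx : PElt p x) (hx1 : x ≠ 1)
    (htop : N ⊔ Subgroup.zpowers x = ⊤) (hpow : ∀ u ∈ N, Commute (x ^ p) u) :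
    ∀ u ∈ N, Commute x u := by
  classical
  haveI := Fintype.ofFinite N
  have hprop : ∀ W : Subgroup G, W ⊔ Subgroup.zpowers x ≠ ⊤ →
      ∀ w ∈ W, (w * x * w⁻¹) * x⁻¹ ∈ N → Commute x w := by
    intro W hW w hw hwN
    have hxL : x ∈ W ⊔ Subgroup.zpowers x :=
      (le_sup_right : Subgroup.zpowers x ≤ W ⊔ Subgroup.zpowers x) (Subgroup.mem_zpowers x)
    have hwL : w ∈ W ⊔ Subgroup.zpowers x := (le_sup_left : W ≤ W ⊔ Subgroup.zpowers x) hw
    have hcomm := commute_of_proper hn ρ hρ hmax hW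
      (Subgroup.mul_mem _ (Subgroup.mul_mem _ hwL hxL) (Subgroup.inv_mem _ hwL)) hxL
      (hx.conj w) hx
    have := hNp _ hwN ((hx.conj w).mul hcomm.inv_right hx.inv)
    rw [mul_inv_eq_one] at this
    exact ((mul_inv_eq_iff_eq_mul.1 this).symm : x * w = w * x)
  have hfN : ∀ u ∈ N, u * x * u⁻¹ * x⁻¹ ∈ N := fun u hu => by
    rw [show u * x * u⁻¹ * x⁻¹ = u * (x * u⁻¹ * x⁻¹) by group]
    exact N.mul_mem hu (hN.conj_mem _ (N.inv_mem hu) x)
  have hxN : Subgroup.zpowers x ≤ Subgroup.normalizer (N : Set G) := by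
    rw [Subgroup.normalizer_eq_top (H := N)]; exact le_top
  -- an invariant subgroup of `N` generating with `x` is `N`
  have hgen : ∀ W : Subgroup G, W ≤ N → x ∈ Subgroup.normalizer (W : Set G) →
      W ⊔ Subgroup.zpowers x = ⊤ → W = N := by
    intro W hWN hxW hW
    refine le_antisymm hWN fun u hu => ?_
    have hu' : u ∈ W ⊔ Subgroup.zpowers x := hW ▸ Subgroup.mem_top u
    rw [← SetLike.mem_coe, Subgroup.coe_mul_of_right_le_normalizer_left W _ (Subgroup.zpowers_le.2 hxW)] at hu'
    obtain ⟨w, hw, z, hz, rfl⟩ := hu'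
    have hzN : z ∈ N := by
      have := N.mul_mem (N.inv_mem (hWN hw)) hu
      rwa [inv_mul_cancel_left] at this
    obtain ⟨i, rfl⟩ := Subgroup.mem_zpowers_iff.1 hz
    have hz1 : x ^ i = 1 := hNp _ hzN (by
      obtain ⟨k, hk⟩ := hx
      exact ⟨k, by rw [← zpow_natCast, zpow_comm, zpow_natCast, hk, one_zpow]⟩)
    simpa [hz1] using hw
  have hsmall : ∀ W : Subgroup G, W ≤ N → x ∈ Subgroup.normalizer (W : Set G) → W ≠ N →
      ∀ w ∈ W, Commute x w := fun W hWN hxW hne w hw =>
    hprop W (fun h => hne (hgen W hWN hxW h)) w hw (hfN w (hWN hw))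
  by_contra hcon
  set C : Subgroup G := N ⊓ Subgroup.centralizer ({x} : Set G) with hC
  have hCN : C ≠ N := fun h => hcon fun u hu =>
    (Subgroup.mem_centralizer_singleton_iff.1 (h.symm ▸ hu : u ∈ C).2).symm
  have hxcop : (Nat.card (Subgroup.zpowers x)).Coprime (Nat.card N) := by
    obtain ⟨k, hk⟩ := hx
    refine Nat.Coprime.coprime_dvd_left (Nat.card_zpowers x ▸ orderOf_dvd_of_pow_eq_one hk)
      (Nat.Coprime.pow_left _ (hp.out.coprime_iff_not_dvd.2 fun hd => ?_))
    obtain ⟨z, hz⟩ := exists_prime_orderOf_dvd_card' p hd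
    have hz1 : (z : G) = 1 := hNp _ z.2
      ⟨1, by rw [pow_one, ← Subgroup.coe_pow, ← hz, pow_orderOf_eq_one, Subgroup.coe_one]⟩
    rw [← Subgroup.orderOf_coe, hz1, orderOf_one] at hz
    exact hp.out.one_lt.ne hz
  -- `N` is nilpotent
  obtain ⟨q, hq, hNq⟩ : ∃ q : ℕ, q.Prime ∧ IsPGroup q N := by
    by_contra hno
    have hsolv : Group.IsSolvable (Subgroup.zpowers x) :=
      isSolvable_of_comm fun a b => Subtype.ext (by
        obtain ⟨i, hi⟩ := a.2; obtain ⟨j, hj⟩ := b.2
        simp only [Subgroup.coe_mul, ← hi, ← hj]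
        exact (Commute.zpow_zpow_self x i j).eq)
    refine hCN (Coprime.eq_of_forall_invariant_pgroup_le hxN hxcop (Or.inl hsolv) inf_le_left
      fun r W hr hW hWN hxW w hw => ⟨hWN hw, ?_⟩)
    exact Subgroup.mem_centralizer_singleton_iff.2 (hsmall W hWN (hxW (Subgroup.mem_zpowers x))
      (fun h => hno ⟨r, hr, h ▸ hW⟩) w hw).symm.eq
  haveI := Fact.mk hq
  haveI : Group.IsNilpotent N := hNq.isNilpotent
  have hxC : x ∈ Subgroup.normalizer (C : Set G) := by
    rw [Subgroup.mem_normalizer_iff]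
    intro u
    constructor
    · rintro ⟨huN, huC⟩
      have e : x * u * x⁻¹ = u := by
        rw [← Subgroup.mem_centralizer_singleton_iff.1 huC, mul_inv_cancel_right]
      rw [e]; exact ⟨huN, huC⟩
    · rintro ⟨huN, huC⟩
      have e : x * u * x⁻¹ = u := by
        have h1 := Subgroup.mem_centralizer_singleton_iff.1 huC
        have h2 : x * (x * u * x⁻¹) = x * u := by rw [← h1]; group
        exact mul_left_cancel h2
      rw [e] at huN huC; exact ⟨huN, huC⟩
  -- `C` is normal in `N`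
  have hCnorm : ∀ u ∈ N, u ∈ Subgroup.normalizer (C : Set G) := by
    set W := N ⊓ Subgroup.normalizer (C : Set G)
    have hxW : x ∈ Subgroup.normalizer (W : Set G) :=
      Coprime.le_normalizer_inf_normalizer hxN (Subgroup.zpowers_le.2 hxC) (Subgroup.mem_zpowers x)
    by_cases hW : W = N
    · exact fun u hu => ((hW.symm ▸ hu) : u ∈ W).2
    · exfalso
      have hlt : C.subgroupOf N < ⊤ := lt_top_iff_ne_top.2 fun h =>
        hCN (le_antisymm inf_le_left (Subgroup.subgroupOf_eq_top.1 h))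
      obtain ⟨u, hu, hunot⟩ := SetLike.exists_of_lt
        (Group.normalizerCondition_of_isNilpotent _ hlt)
      rw [Subgroup.mem_normalizer_iff] at hu
      have hun : (u : G) ∈ Subgroup.normalizer (C : Set G) := by
        rw [Subgroup.mem_normalizer_iff]
        intro v
        constructor
        · intro hv; exact (hu ⟨v, hv.1⟩).1 hv
        · intro hv
          have hvN : v ∈ N := by
            have := N.mul_mem (N.mul_mem (N.inv_mem u.2) hv.1) u.2
            rwa [show (u : G)⁻¹ * ((u : G) * v * (u : G)⁻¹) * u = v by group] at this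
          exact (hu ⟨v, hvN⟩).2 hv
      refine hunot (show (u : G) ∈ C from ⟨u.2, Subgroup.mem_centralizer_singleton_iff.2 ?_⟩)
      exact (hsmall W inf_le_left hxW hW u ⟨u.2, hun⟩).symm.eq
  -- `C` is central in `N`
  have hCcen : ∀ c ∈ C, ∀ u ∈ N, Commute c u := by
    intro c hc
    let T := N ⊓ Subgroup.closure {s | ∃ u ∈ N, s = u * x * u⁻¹ * x⁻¹}
    have hcT : ∀ s ∈ T, Commute c s := by
      intro s hs
      have hle : Subgroup.closure {s | ∃ u ∈ N, s = u * x * u⁻¹ * x⁻¹} ≤
          Subgroup.centralizer ({c} : Set G) := by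
        rw [Subgroup.closure_le]
        rintro _ ⟨u, hu, rfl⟩
        rw [SetLike.mem_coe, Subgroup.mem_centralizer_singleton_iff]
        have h1 : u⁻¹ * c * u ∈ C := by
          have := (Subgroup.mem_normalizer_iff.1 (hCnorm _ (N.inv_mem hu)) c).1 hc
          simpa using this
        have h2 : (u⁻¹ * c * u) * x = x * (u⁻¹ * c * u) :=
          Subgroup.mem_centralizer_singleton_iff.1 h1.2
        have h3 : c * x = x * c := Subgroup.mem_centralizer_singleton_iff.1 hc.2
        have h3' : x⁻¹ * c = c * x⁻¹ := (show Commute x c from h3.symm).inv_left.eq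
        calc u * x * u⁻¹ * x⁻¹ * c = u * x * u⁻¹ * (x⁻¹ * c) := by group
          _ = u * (x * (u⁻¹ * c * u)) * u⁻¹ * x⁻¹ := by rw [h3']; group
          _ = u * ((u⁻¹ * c * u) * x) * u⁻¹ * x⁻¹ := by rw [h2]
          _ = c * (u * x * u⁻¹ * x⁻¹) := by group
      exact (Subgroup.mem_centralizer_singleton_iff.1 (hle hs.2)).symm
    have hxT : x ∈ Subgroup.normalizer (T : Set G) := by
      have hmap : ∀ i : ℤ, ∀ s ∈ T, x ^ i * s * (x ^ i)⁻¹ ∈ T := by
        intro i s hs
        refine ⟨hN.conj_mem s hs.1 _, ?_⟩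
        have hle : Subgroup.closure {s | ∃ u ∈ N, s = u * x * u⁻¹ * x⁻¹} ≤
            (Subgroup.closure {s | ∃ u ∈ N, s = u * x * u⁻¹ * x⁻¹}).comap
              (MulAut.conj (x ^ i)).toMonoidHom := by
          rw [Subgroup.closure_le]
          rintro _ ⟨u, hu, rfl⟩
          refine Subgroup.subset_closure ⟨x ^ i * u * (x ^ i)⁻¹, hN.conj_mem u hu _, ?_⟩
          show x ^ i * (u * x * u⁻¹ * x⁻¹) * (x ^ i)⁻¹ = _
          group
        exact hle hs.2
      rw [Subgroup.mem_normalizer_iff]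
      intro s
      refine ⟨fun hs => by simpa using hmap 1 s hs, fun hs => ?_⟩
      have := hmap (-1) _ hs
      simpa [mul_assoc] using this
    intro u hu
    by_cases hT : T = N
    · exact hcT u (hT.symm ▸ hu)
    · exfalso
      refine hcon fun u hu => ?_
      have hs := hsmall T inf_le_left hxT hT _
        ⟨hfN u hu, Subgroup.subset_closure ⟨u, hu, rfl⟩⟩
      have hcomm : Commute (u * x * u⁻¹) x := by
        have := hs.symm.mul_left (Commute.refl x)
        rwa [inv_mul_cancel_right] at this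
      have := hNp _ (hfN u hu) ((hx.conj u).mul hcomm.inv_right hx.inv)
      rw [mul_inv_eq_one] at this
      exact ((mul_inv_eq_iff_eq_mul.1 this).symm : x * u = u * x)
  -- hence central in `G`
  have hcenter : ∀ c : G, (∀ u ∈ N, Commute c u) → Commute c x → c ∈ Subgroup.center G := by
    intro c h1 h2
    have hle : N ⊔ Subgroup.zpowers x ≤ Subgroup.centralizer ({c} : Set G) := sup_le
      (fun u hu => Subgroup.mem_centralizer_singleton_iff.2 (h1 u hu).symm.eq)
      (Subgroup.zpowers_le.2 (Subgroup.mem_centralizer_singleton_iff.2 h2.symm.eq))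
    rw [htop] at hle
    exact Subgroup.mem_center_iff.2 fun g =>
      Subgroup.mem_centralizer_singleton_iff.1 (hle (Subgroup.mem_top g))
  have hxp : x ^ p ∈ Subgroup.center G := hcenter _ hpow (Commute.pow_self x p)
  have hCG : ∀ c ∈ C, c ∈ Subgroup.center G := fun c hc =>
    hcenter c (hCcen c hc) (Subgroup.mem_centralizer_singleton_iff.1 hc.2)
  -- each coset of `N` at a generator consists of conjugates up to central elements
  have hcover : ∀ k : ℕ, ¬ p ∣ k → ∀ u ∈ N, ∃ c ∈ Subgroup.center G, ∃ w,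
      u * x ^ k = c * (w * x ^ k * w⁻¹) := by
    intro k hk
    set y := x ^ k
    have hCy : ∀ w : G, Commute y w → Commute x w := by
      intro w hw
      obtain ⟨j, hj⟩ := hx
      have hcop : Nat.Coprime (orderOf x) k := Nat.Coprime.coprime_dvd_left
        (orderOf_dvd_of_pow_eq_one hj) (Nat.Coprime.pow_left _ (hp.out.coprime_iff_not_dvd.2 hk))
      obtain ⟨i, hi⟩ := exists_pow_eq_self_of_coprime (x := x) hcop.symm
      rw [← hi]
      exact hw.pow_left i
    have hmem : ∀ w : N, (w : G) * y * (w : G)⁻¹ * y⁻¹ ∈ N := fun w => by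
      rw [show (w : G) * y * (w : G)⁻¹ * y⁻¹ = w * (y * (w : G)⁻¹ * y⁻¹) by group]
      exact N.mul_mem w.2 (hN.conj_mem _ (N.inv_mem w.2) y)
    set CN : Subgroup N := C.subgroupOf N
    let r : N → N := fun w => (QuotientGroup.mk w : N ⧸ CN).out
    have hr : ∀ w : N, (r w)⁻¹ * w ∈ CN := fun w =>
      QuotientGroup.eq.1 (QuotientGroup.out_eq' (QuotientGroup.mk w : N ⧸ CN))
    let g : N → N := fun w => ⟨_, hmem w⟩
    let F : N → N := fun w => g w * ((r w)⁻¹ * w)
    have hconj : ∀ (w : N) (c : G), c ∈ C → (w : G) * c * y * ((w : G) * c)⁻¹ = w * y * (w : G)⁻¹ := by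
      intro w c hc
      have h := (Subgroup.mem_center_iff.1 (hCG c hc) y)
      calc (w : G) * c * y * ((w : G) * c)⁻¹ = w * (c * y) * c⁻¹ * (w : G)⁻¹ := by group
        _ = w * (y * c) * c⁻¹ * (w : G)⁻¹ := by rw [h]
        _ = _ := by group
    have hinj : Function.Injective F := by
      intro a b hab
      have e : ((a : G) * y * (a : G)⁻¹ * y⁻¹) * (((r a)⁻¹ * a : N) : G) =
          ((b : G) * y * (b : G)⁻¹ * y⁻¹) * (((r b)⁻¹ * b : N) : G) := congrArg Subtype.val hab
      set c : G := (((r b)⁻¹ * b : N) : G) * (((r a)⁻¹ * a : N) : G)⁻¹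
      have hcC : c ∈ C := C.mul_mem (hr b) (C.inv_mem (hr a))
      have e1 : (a : G) * y * (a : G)⁻¹ = (b : G) * y * (b : G)⁻¹ * c := by
        have h := Subgroup.mem_center_iff.1 (hCG c hcC) y⁻¹
        calc (a : G) * y * (a : G)⁻¹ = ((a : G) * y * (a : G)⁻¹ * y⁻¹) *
              (((r a)⁻¹ * a : N) : G) * (((r a)⁻¹ * a : N) : G)⁻¹ * y := by group
          _ = (b : G) * y * (b : G)⁻¹ * (y⁻¹ * c) * y := by rw [e]; simp only [c]; group
          _ = (b : G) * y * (b : G)⁻¹ * (c * y⁻¹) * y := by rw [h]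
          _ = _ := by group
      -- `c` is a `p`-element of `N`
      set w : G := (b : G)⁻¹ * a with hw
      have e2 : w * y * w⁻¹ = y * c := by
        have h := Subgroup.mem_center_iff.1 (hCG c hcC) (b : G)
        calc w * y * w⁻¹ = (b : G)⁻¹ * ((a : G) * y * (a : G)⁻¹) * b := by rw [hw]; group
          _ = (b : G)⁻¹ * ((b : G) * y * (b : G)⁻¹ * c) * b := by rw [e1]
          _ = y * (b : G)⁻¹ * (c * b) := by group
          _ = y * (b : G)⁻¹ * (b * c) := by rw [h]
          _ = _ := by group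
      have hy : PElt p y := by
        obtain ⟨j, hj⟩ := hx
        exact ⟨j, by rw [← pow_mul, Nat.mul_comm, pow_mul, hj, one_pow]⟩
      have hc1 : c = 1 := by
        refine hNp c (C.mul_mem (hr b) (C.inv_mem (hr a))).1 ?_
        have hcy : Commute y c := Subgroup.mem_center_iff.1 (hCG c hcC) y
        have h := (hy.conj w)
        rw [e2] at h
        have := hy.inv.mul ((Commute.refl y).mul_right hcy).inv_left h
        rwa [inv_mul_cancel_left] at this
      rw [hc1, mul_one, mul_inv_eq_iff_eq_mul] at e2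
      have hwC : w ∈ C := ⟨N.mul_mem (N.inv_mem b.2) a.2,
        Subgroup.mem_centralizer_singleton_iff.2 (hCy w e2.symm).symm.eq⟩
      have hrr : r a = r b := by
        simp only [r]
        congr 1
        exact (QuotientGroup.eq.2 (show b⁻¹ * a ∈ CN from hwC)).symm
      rw [hc1, mul_one] at e1
      have hga : g a = g b := Subtype.ext (show _ * y⁻¹ = _ * y⁻¹ by rw [e1])
      have : g a * ((r a)⁻¹ * a) = g b * ((r b)⁻¹ * b) := hab
      rw [hga, hrr] at this
      exact mul_left_cancel (mul_left_cancel this)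
    intro u hu
    obtain ⟨w, hw⟩ := (Finite.injective_iff_surjective.1 hinj) ⟨u, hu⟩
    have e : ((w : G) * y * (w : G)⁻¹ * y⁻¹) * (((r w)⁻¹ * w : N) : G) = u :=
      congrArg Subtype.val hw
    refine ⟨_, hCG _ (hr w), w, ?_⟩
    set c : G := (((r w)⁻¹ * w : N) : G) with hcdef
    have h := Subgroup.mem_center_iff.1 (hCG c (hr w))
    show u * y = c * ((w : G) * y * (w : G)⁻¹)
    rw [← e, mul_assoc, ← h y, ← mul_assoc, inv_mul_cancel_right, h]
  -- every constituent is linear on `N`
  obtain ⟨m, hm, -⟩ := IsCharacter.exists_decomp (χ := ρ.character) ⟨n, ρ, rfl⟩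
  have hlin : ∀ ψ : IrrCharacter G, m ψ ≠ 0 → ∀ u ∈ N,
      ψ.1 (u * x * u⁻¹ * x⁻¹) = ψ.1 1 := by
    intro ψ hψ
    set d := degree ψ with hd
    have hdn : d ≤ n := by
      have := congrFun hm 1
      rw [ρ.char_one, Module.finrank_fin_fun, Finset.sum_apply] at this
      simp only [Pi.smul_apply, apply_one_eq_degree, smul_eq_mul] at this
      have h' : n = ∑ φ, m φ * degree φ := by exact_mod_cast this
      exact (Nat.le_mul_of_pos_left _ (Nat.pos_of_ne_zero hψ)).trans
        (h' ▸ Finset.single_le_sum (f := fun φ : IrrCharacter G => m φ * degree φ)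
          (fun _ _ => Nat.zero_le _) (Finset.mem_univ ψ))
    obtain ⟨θ, hθ⟩ := exists_constituent N ψ
    obtain ⟨e, he⟩ := IsCharacter.exists_nat_classInner
      (IsCharacter.restrict (irr_isCharacter ψ) N) (irr_isCharacter θ)
    replace he : classInner (resFun N ψ.1) θ.1 = e := he
    have he0 : e ≠ 0 := fun h => hθ (by rw [he, h, Nat.cast_zero])
    obtain ⟨k, hk⟩ := hx
    -- the orbit is trivial
    have hdvd : ∃ j, j ≤ k ∧ (orbitFinset N θ).card = p ^ j := by
      refine (Nat.dvd_prime_pow hp.out).1 ?_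
      rw [← index_inertia]
      refine (Subgroup.index_dvd_of_le (irr_le_inertia N θ)).trans ?_
      have h1 : (N ⊔ Subgroup.zpowers x).index = 1 := by rw [htop, Subgroup.index_top]
      rw [← N.relIndex_top_right, ← htop, Subgroup.relIndex_sup_left]
      exact (N.relIndex_dvd_card (Subgroup.zpowers x)).trans
        (Nat.card_zpowers x ▸ orderOf_dvd_of_pow_eq_one hk)
    have hd1 : d = e * ((orbitFinset N θ).card * degree θ) := by
      have := apply_one_eq_mul_card_orbit N ψ θ hθ
      rw [he, apply_one_eq_degree, apply_one_eq_degree] at this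
      exact_mod_cast this
    have hdpos := degree_pos θ
    have horb : (orbitFinset N θ).card = 1 := by
      obtain ⟨j, -, hj⟩ := hdvd
      rcases Nat.eq_zero_or_pos j with rfl | hj0
      · simpa using hj
      · exfalso
        have h1 : p ≤ d := by
          rw [hd1, hj]
          calc p ≤ p ^ j := Nat.le_self_pow hj0.ne' p
            _ ≤ p ^ j * degree θ := Nat.le_mul_of_pos_right _ hdpos
            _ ≤ _ := Nat.le_mul_of_pos_left _ (Nat.pos_of_ne_zero he0)
        omega
    have hres : ∀ u : N, ψ.1 (u : G) = (e : ℂ) * θ.1 u := by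
      intro u
      have h1 : θ ∈ orbitFinset N θ :=
        (mem_orbitFinset N).2 ⟨1, Subtype.ext (conjFun_one N θ.1).symm⟩
      obtain ⟨η, hη⟩ := Finset.card_eq_one.1 horb
      have := congrFun (resFun_eq_smul_orbitSum N ψ θ hθ) u
      rw [he, orbitSum, hη, Finset.sum_singleton] at this
      rw [hη, Finset.mem_singleton] at h1
      simpa [h1] using this
    -- counting
    have hzq : ∀ z ∈ Subgroup.center G, ∀ g, normSq (ψ.1 (z * g)) = normSq (ψ.1 g) := by
      intro z hz g
      obtain ⟨r, σ, hσ, hσψ⟩ := ψ.2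
      haveI := hσ
      have hc' : IsClassFunction G (fun a => if a = z then (1 : ℂ) else 0) := fun a b => by
        have : b * a * b⁻¹ = z ↔ a = z := by
          rw [mul_inv_eq_iff_eq_mul, ← Subgroup.mem_center_iff.1 hz b]; exact mul_right_inj b
        simp [this]
      obtain ⟨l, hl⟩ := exists_opSum_eq_smul hc' σ
      have hop : σ z = l • 1 := LinearMap.ext fun v => by
        have := hl v
        rw [opSum_apply] at this
        simpa [ite_smul] using this
      have hnz : ‖ψ.1 z‖ = ‖ψ.1 1‖ := by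
        rw [← hσψ]; exact (CharInt.norm_eq_iff_scalar σ z).2 ⟨l, hop⟩
      have hmul := congrArg normSq (CharInt.char_mul_of_mem_centre (irr_isCharacter ψ) hnz g)
      rw [map_mul, map_mul, Complex.normSq_eq_norm_sq (ψ.1 z), hnz, ← Complex.normSq_eq_norm_sq,
        mul_comm (normSq (ψ.1 1))] at hmul
      exact mul_right_cancel₀ (fun h => IsIrrCharacter.apply_one_ne_zero ψ.2
        (Complex.normSq_eq_zero.1 h)) hmul
    set o := orderOf x with ho
    have hbij : Function.Bijective fun q : N × Fin o => (q.1 : G) * x ^ (q.2 : ℕ) := by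
      constructor
      · rintro ⟨u, i⟩ ⟨v, j⟩ (h : (u : G) * x ^ (i : ℕ) = v * x ^ (j : ℕ))
        have h1 : x ^ (i : ℕ) * (x ^ (j : ℕ))⁻¹ ∈ N := by
          have : (u : G)⁻¹ * v = x ^ (i : ℕ) * (x ^ (j : ℕ))⁻¹ := by
            rw [eq_mul_inv_iff_mul_eq, mul_assoc, ← h, inv_mul_cancel_left]
          exact this ▸ N.mul_mem (N.inv_mem u.2) v.2
        have h2 := hNp _ h1 ((PElt.mul (((Commute.refl x).pow_pow _ _).inv_right))
          ⟨k, by rw [← pow_mul, Nat.mul_comm, pow_mul, hk, one_pow]⟩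
          ⟨k, by rw [inv_pow, ← pow_mul, Nat.mul_comm, pow_mul, hk, one_pow, inv_one]⟩)
        rw [mul_inv_eq_one] at h2
        have hij : i = j := Fin.ext (pow_injOn_Iio_orderOf i.2 j.2 h2)
        subst hij
        exact Prod.ext (Subtype.ext (mul_right_cancel h)) rfl
      · intro g
        have hg : g ∈ N ⊔ Subgroup.zpowers x := htop ▸ Subgroup.mem_top g
        rw [← SetLike.mem_coe, Subgroup.normal_mul] at hg
        obtain ⟨u, hu, z, hz, rfl⟩ := hg
        obtain ⟨i, rfl⟩ := (isOfFinOrder_of_finite x).mem_zpowers_iff_mem_range_orderOf.1 hz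
          |> Finset.mem_image.1 |> fun ⟨i, hi, hi'⟩ => (⟨⟨i, Finset.mem_range.1 hi⟩, hi'⟩ :
            ∃ i : Fin o, x ^ (i : ℕ) = z)
        exact ⟨(⟨u, hu⟩, i), rfl⟩
    have hN1 : ∑ u : N, normSq (ψ.1 (u : G)) = (Nat.card N : ℝ) * (e : ℝ) ^ 2 := by
      have h1 := classInner_irr_self θ.2
      rw [classInner_self, ← Complex.ofReal_one, Complex.ofReal_inj,
        inv_mul_eq_one₀ (Nat.cast_ne_zero.2 Nat.card_pos.ne')] at h1
      simp only [hres, map_mul, Complex.normSq_natCast]
      rw [← Finset.mul_sum, ← h1]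
      ring
    have hcoset : ∀ i : ℕ, ∑ u : N, normSq (ψ.1 ((u : G) * x ^ i)) =
        (Nat.card N : ℝ) * (if p ∣ i then (e : ℝ) ^ 2 else normSq (ψ.1 (x ^ i))) := by
      intro i
      split_ifs with hi
      · obtain ⟨j, rfl⟩ := hi
        have hz : x ^ (p * j) ∈ Subgroup.center G := by
          rw [pow_mul]; exact Subgroup.pow_mem _ hxp j
        rw [← hN1]
        exact Finset.sum_congr rfl fun u _ => by
          rw [Subgroup.mem_center_iff.1 hz (u : G), hzq _ hz]
      · rw [Finset.sum_congr rfl (g := fun _ => normSq (ψ.1 (x ^ i))) fun u _ => ?_,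
          Finset.sum_const, Finset.card_univ, nsmul_eq_mul, ← Nat.card_eq_fintype_card]
        obtain ⟨c, hc, w, hw⟩ := hcover i hi u u.2
        rw [hw, hzq c hc, IsCharacter.isClassFunction (irr_isCharacter ψ) _ w]
    have htot : ∑ i : Fin o, (if p ∣ (i : ℕ) then (e : ℝ) ^ 2 else normSq (ψ.1 (x ^ (i : ℕ)))) =
        (o : ℝ) := by
      have h := classInner_irr_self ψ.2
      rw [classInner_self, ← Complex.ofReal_one, Complex.ofReal_inj,
        inv_mul_eq_one₀ (Nat.cast_ne_zero.2 Nat.card_pos.ne')] at h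
      rw [← hbij.sum_comp (fun g => normSq (ψ.1 g)), Fintype.sum_prod_type] at h
      simp only at h
      rw [Finset.sum_comm,
        Finset.sum_congr rfl fun (i : Fin o) _ => hcoset (i : ℕ), ← Finset.mul_sum,
        ← Nat.card_congr (Equiv.ofBijective _ hbij), Nat.card_prod, Nat.card_fin, Nat.cast_mul] at h
      exact (mul_left_cancel₀ (Nat.cast_ne_zero.2 Nat.card_pos.ne') h).symm
    -- restriction to the cyclic group
    haveI := Fintype.ofFinite (Subgroup.zpowers x)
    obtain ⟨A, hA⟩ := IsCharacter.exists_nat_classInner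
      (IsCharacter.restrict (irr_isCharacter ψ) (Subgroup.zpowers x))
      (IsCharacter.restrict (irr_isCharacter ψ) (Subgroup.zpowers x))
    rw [classInner_self, ← Complex.ofReal_natCast, Complex.ofReal_inj,
      inv_mul_eq_iff_eq_mul₀ (Nat.cast_ne_zero.2 Nat.card_pos.ne'), Nat.card_zpowers] at hA
    have hcyc : ∑ i : Fin o, normSq (ψ.1 (x ^ (i : ℕ))) = (o : ℝ) * A := by
      rw [← hA]
      exact (Equiv.sum_comp (finEquivZPowers (isOfFinOrder_of_finite x))
        fun z => normSq (ψ.1 (z : G)))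
    have hmult : (o : ℝ) * A + (Finset.univ.filter fun i : Fin o => p ∣ (i : ℕ)).card *
        ((e : ℝ) ^ 2 - (d : ℝ) ^ 2) = (o : ℝ) := by
      conv_rhs => rw [← htot]
      rw [← hcyc, ← nsmul_eq_mul, ← Finset.sum_const, Finset.sum_filter, ← Finset.sum_add_distrib]
      refine Finset.sum_congr rfl fun i _ => ?_
      split_ifs with hi
      · obtain ⟨j, hj⟩ := hi
        have hz : x ^ (i : ℕ) ∈ Subgroup.center G := by
          rw [hj, pow_mul]; exact Subgroup.pow_mem _ hxp j
        have := hzq _ hz 1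
        rw [mul_one, apply_one_eq_degree, Complex.normSq_natCast] at this
        rw [this, ← hd]
        ring
      · ring
    have ho1 : p ∣ o := by
      obtain ⟨j, -, hj⟩ := (Nat.dvd_prime_pow hp.out).1 (orderOf_dvd_of_pow_eq_one hk)
      rw [ho, hj]
      refine dvd_pow_self p fun hj0 => hx1 ?_
      rw [hj0, pow_zero] at hj
      exact orderOf_eq_one_iff.1 hj
    obtain ⟨o', ho'⟩ := ho1
    have hcard : (Finset.univ.filter fun i : Fin o => p ∣ (i : ℕ)).card = o' := by
      refine (Finset.card_bij' (s := Finset.univ.filter fun i : Fin o => p ∣ (i : ℕ))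
        (t := Finset.range o') (fun i _ => (i : ℕ) / p)
        (fun j hj => (⟨p * j, by
          rw [ho']; exact Nat.mul_lt_mul_of_pos_left (Finset.mem_range.1 hj) hp.out.pos⟩ : Fin o))
        ?_ ?_ ?_ ?_).trans (Finset.card_range o')
      · intro i _
        exact Finset.mem_range.2 ((Nat.div_lt_iff_lt_mul hp.out.pos).2 (by
          rw [mul_comm, ← ho']; exact i.2))
      · intro j _; simp
      · intro i hi
        exact Fin.ext (Nat.mul_div_cancel' (Finset.mem_filter.1 hi).2)
      · intro j _; simp [hp.out.pos]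
    rw [hcard, ho', Nat.cast_mul] at hmult
    have ho'0 : (o' : ℝ) ≠ 0 := by
      have : o' ≠ 0 := fun h => by
        rw [h, mul_zero] at ho'
        exact (orderOf_pos x).ne' ho'
      exact_mod_cast this
    have heq : (p : ℝ) * A + ((e : ℝ) ^ 2 - (d : ℝ) ^ 2) = p :=
      mul_left_cancel₀ ho'0 (by linear_combination hmult)
    have heqZ : (p : ℤ) * A + ((e : ℤ) ^ 2 - (d : ℤ) ^ 2) = p := by exact_mod_cast heq
    rw [horb, one_mul] at hd1
    have hθ1 : degree θ = 1 := by
      have hdiv : (p : ℤ) ∣ (e : ℤ) ^ 2 * ((degree θ : ℤ) ^ 2 - 1) :=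
        ⟨(A : ℤ) - 1, by rw [hd1] at heqZ; push_cast at heqZ; linear_combination -heqZ⟩
      have hpZ : Prime (p : ℤ) := Nat.prime_iff_prime_int.1 hp.out
      have hedvd : ¬ (p : ℤ) ∣ (e : ℤ) ^ 2 := fun h => by
        have h' : p ∣ e := Int.natCast_dvd_natCast.1 (hpZ.dvd_of_dvd_pow h)
        have := Nat.le_of_dvd (Nat.pos_of_ne_zero he0) h'
        have : e ≤ d := hd1 ▸ Nat.le_mul_of_pos_right _ hdpos
        omega
      have hfac : (p : ℤ) ∣ ((degree θ : ℤ) - 1) * ((degree θ : ℤ) + 1) := by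
        rw [show ((degree θ : ℤ) - 1) * ((degree θ : ℤ) + 1) = (degree θ : ℤ) ^ 2 - 1 by ring]
        exact (hpZ.dvd_or_dvd hdiv).resolve_left hedvd
      have hle : degree θ ≤ d := hd1 ▸ Nat.le_mul_of_pos_left _ (Nat.pos_of_ne_zero he0)
      rcases hpZ.dvd_or_dvd hfac with h | h
      · by_contra hne
        have := Int.le_of_dvd (by omega) h
        omega
      · have := Int.le_of_dvd (by omega) h
        omega
    intro u hu
    obtain ⟨lam, hlam⟩ := IsCharacter.exists_monoidHom (irr_isCharacter θ)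
      (by rw [apply_one_eq_degree, hθ1, Nat.cast_one])
    have hinv : conjFun N θ.1 x = θ.1 := by
      funext v
      have h2 := hres (MulAut.conjNormal x v)
      rw [MulAut.conjNormal_apply, IsCharacter.isClassFunction (irr_isCharacter ψ) (v : G) x,
        hres v] at h2
      exact (mul_left_cancel₀ (Nat.cast_ne_zero.2 he0) h2).symm
    have e1 : ψ.1 (u * x * u⁻¹ * x⁻¹) =
        (e : ℂ) * θ.1 ((⟨u, hu⟩ : N) * MulAut.conjNormal x (⟨u, hu⟩ : N)⁻¹) := by
      rw [← hres]
      congr 1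
      simp [MulAut.conjNormal_apply, mul_assoc]
    have e2 := congrFun hinv (⟨u, hu⟩ : N)⁻¹
    simp only [conjFun] at e2
    rw [e1, ← hlam, map_mul, hlam, e2, ← hlam, ← map_mul, mul_inv_cancel, map_one, mul_one,
      apply_one_eq_degree, ← hd, hd1, hθ1, mul_one]
  refine hcon fun u hu => ?_
  have hval : ρ.character (u * x * u⁻¹ * x⁻¹) = (Module.finrank ℂ (Fin n → ℂ) : ℂ) := by
    rw [← ρ.char_one, hm, Finset.sum_apply, Finset.sum_apply]
    refine Finset.sum_congr rfl fun ψ _ => ?_
    rcases eq_or_ne (m ψ) 0 with h0 | h0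
    · simp [h0]
    · simp [hlin ψ h0 u hu]
  have := hρ (((CharInt.character_eq_finrank_iff ρ _).1 hval).trans (map_one ρ).symm)
  rw [mul_inv_eq_one] at this
  exact ((mul_inv_eq_iff_eq_mul.1 this).symm : x * u = u * x)

include hP

theorem false_of_not_perfect (hne : commutator G ≠ ⊤) : False := by
  set N := commutator G
  have hNp : ∀ u ∈ N, PElt p u → u = 1 := fun u hu hpu =>
    coprime_commutator hn ρ hρ hmax P hP hne hu hpu
  have htop : N ⊔ (P : Subgroup G) = ⊤ := eq_top_of_normal_ge hn ρ hρ hmax P hP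
    (Subgroup.Normal.of_commutator_le G le_sup_left) le_sup_right
  have hfN : ∀ (u x : G), u ∈ N → u * x * u⁻¹ * x⁻¹ ∈ N := fun u x hu => by
    rw [show u * x * u⁻¹ * x⁻¹ = u * (x * u⁻¹ * x⁻¹) by group]
    exact N.mul_mem hu ((inferInstance : N.Normal).conj_mem _ (N.inv_mem hu) x)
  have hall : ∀ (j : ℕ) (x : G), orderOf x = j → PElt p x → ∀ u ∈ N, Commute x u := by
    intro j
    induction j using Nat.strong_induction_on with
    | _ j ih =>
      intro x hj hx u hu
      rcases eq_or_ne x 1 with rfl | hx1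
      · exact Commute.one_left u
      by_cases hL : N ⊔ Subgroup.zpowers x = ⊤
      · refine commute_of_generate hn ρ hρ hmax N hNp hx hx1 hL ?_ u hu
        have hlt : orderOf (x ^ p) < j := by
          obtain ⟨k, hk⟩ := hx
          obtain ⟨i, -, hi⟩ := (Nat.dvd_prime_pow hp.out).1 (orderOf_dvd_of_pow_eq_one hk)
          have hi0 : i ≠ 0 := fun h0 => hx1 (orderOf_eq_one_iff.1 (by rw [hi, h0, pow_zero]))
          have hd : p ∣ orderOf x := hi ▸ dvd_pow_self p hi0
          rw [orderOf_pow, Nat.gcd_eq_right hd, ← hj]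
          exact Nat.div_lt_self (orderOf_pos x) hp.out.one_lt
        intro v hv
        refine ih _ hlt (x ^ p) rfl ?_ v hv
        obtain ⟨k, hk⟩ := hx
        exact ⟨k, by rw [← pow_mul, Nat.mul_comm, pow_mul, hk, one_pow]⟩
      · have hxL : x ∈ N ⊔ Subgroup.zpowers x :=
          (le_sup_right : Subgroup.zpowers x ≤ N ⊔ Subgroup.zpowers x) (Subgroup.mem_zpowers x)
        have huL : u ∈ N ⊔ Subgroup.zpowers x := (le_sup_left : N ≤ N ⊔ Subgroup.zpowers x) hu
        have hcomm := commute_of_proper hn ρ hρ hmax hL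
          (Subgroup.mul_mem _ (Subgroup.mul_mem _ huL hxL) (Subgroup.inv_mem _ huL)) hxL
          (hx.conj u) hx
        have := hNp _ (hfN u x hu) ((hx.conj u).mul hcomm.inv_right hx.inv)
        rw [mul_inv_eq_one] at this
        exact ((mul_inv_eq_iff_eq_mul.1 this).symm : x * u = u * x)
  apply hP
  rw [← Subgroup.normalizer_eq_top_iff, eq_top_iff, ← htop]
  refine sup_le (fun u hu => Subgroup.centralizer_le_normalizer _ fun w hw => ?_) Subgroup.le_normalizer
  exact hall _ w rfl (pElt_of_isPGroup P.2 hw) u hu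

omit hP

theorem pClosed_top (hbig : ∀ P : Sylow p G, ¬ (P : Subgroup G).Normal →
    (n + 1) ^ 2 ≤ Nat.card (P : Subgroup G)) (P : Sylow p G) : (P : Subgroup G).Normal := by
  by_contra hP
  by_cases hperf : commutator G = ⊤
  · have h1 := card_lt_of_perfect hn ρ hρ hmax P hP hperf
    have h2 := hbig P hP
    omega
  · exact false_of_not_perfect hn ρ hρ hmax P hP hperf

end Step

end Cfsg.Agent.Char.Blichfeldt
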