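import Cfsg.Agent.Lib.Char.FixedConstituent
import Cfsg.Agent.Lib.Char.Product

/-!
# Fixed characters over a linear character of a central subgroup

The case to which the invariant character theorem reduces: operators of order prime to the index
of a centralised central subgroup.
-/

set_option autoImplicit false
set_option linter.style.haveILetI false
set_option linter.unusedSectionVars false

namespace Cfsg.Agent.Char

open Cfsg.Agent.Glauberman (IsFix)
open Cfsg.Agent.RelGlauberman (restrictAut)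

universe u

variable {Q : Type u} [Group Q] [Fintype Q]

/-- The primary part of a central subgroup for the primes dividing `m`, with index prime to `m`. -/
theorem exists_primary_part (Z : Subgroup Q) (hZ : Z ≤ Subgroup.center Q) {m : ℕ}
    (hcop : m.Coprime Z.index) : ∃ A : Subgroup Q, A ≤ Z ∧ (Nat.card A).Coprime A.index ∧
      m.Coprime A.index := by
  let A : Subgroup Q :=
    { carrier := {z | z ∈ Z ∧ ∀ q : ℕ, q.Prime → q ∣ orderOf z → q ∣ m}
      one_mem' := ⟨Z.one_mem, fun q hq h => absurd (by simpa using h) hq.ne_one⟩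
      mul_mem' := fun {x y} hx hy => ⟨Z.mul_mem hx.1 hy.1, fun q hq h =>
        (hq.dvd_mul.1 (h.trans ((Commute.orderOf_mul_dvd_lcm
          (Subgroup.mem_center_iff.1 (hZ hy.1) x)).trans (Nat.lcm_dvd_mul _ _)))).elim
          (hx.2 q hq) (hy.2 q hq)⟩
      inv_mem' := fun {x} hx => ⟨Z.inv_mem hx.1, fun q hq h => hx.2 q hq (by rwa [orderOf_inv] at h)⟩ }
  have hAZ : A ≤ Z := fun x hx => hx.1
  have hidx : ∀ q : ℕ, q.Prime → q ∣ m → ¬ q ∣ A.index := by
    intro q hq hqm hdvd
    haveI := Fact.mk hq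
    rw [← Subgroup.relIndex_mul_index hAZ] at hdvd
    rcases hq.dvd_mul.1 hdvd with h | h
    · haveI : (A.subgroupOf Z).Normal := ⟨fun n hn g => by
        rwa [show g * n * g⁻¹ = n from Subtype.ext (by
          show (g : Q) * n * (g : Q)⁻¹ = n
          rw [(Subgroup.mem_center_iff.1 (hZ n.2) g : _), mul_inv_cancel_right])]⟩
      rw [Subgroup.relIndex, Subgroup.index_eq_card] at h
      obtain ⟨x, hx⟩ := exists_prime_orderOf_dvd_card' (G := Z ⧸ A.subgroupOf Z) q h
      obtain ⟨z, rfl⟩ := QuotientGroup.mk_surjective x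
      have hn0 : orderOf z ≠ 0 := (orderOf_pos z).ne'
      obtain ⟨k, r, hr, hkr⟩ := Nat.exists_eq_pow_mul_and_not_dvd hn0 q hq.ne_one
      refine hr (?_)
      rw [← hx]
      refine orderOf_dvd_of_pow_eq_one ?_
      rw [← QuotientGroup.mk_pow, QuotientGroup.eq_one_iff, Subgroup.mem_subgroupOf]
      refine ⟨(z ^ r).2, fun q' hq' hd => ?_⟩
      have h1 : orderOf (z ^ r) ∣ q ^ k := by
        refine orderOf_dvd_of_pow_eq_one ?_
        rw [← pow_mul, mul_comm, ← hkr, pow_orderOf_eq_one]
      rw [Subgroup.orderOf_coe] at hd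
      have : q' = q := (Nat.prime_dvd_prime_iff_eq hq' hq).1 (hq'.dvd_of_dvd_pow (hd.trans h1))
      exact this ▸ hqm
    · exact hq.not_dvd_one (hcop ▸ Nat.dvd_gcd hqm h)
  have hm : m.Coprime A.index := Nat.coprime_of_dvd fun q hq h h' => hidx q hq h h'
  refine ⟨A, hAZ, Nat.coprime_of_dvd fun q hq h h' => ?_, hm⟩
  haveI := Fact.mk hq
  obtain ⟨x, hx⟩ := exists_prime_orderOf_dvd_card' (G := A) q h
  exact hidx q hq (x.2.2 q hq (by rw [Subgroup.orderOf_coe, hx])) h'

/-- Over a linear character of a centralised central subgroup of coprime index there is a fixed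
irreducible character. -/
theorem exists_fix_over_central (Z : Subgroup Q) [hZn : Z.Normal] [Fintype Z]
    (hZ : Z ≤ Subgroup.center Q) (T : Subgroup (MulAut Q)) (hfix : ∀ e ∈ T, ∀ z ∈ Z, e z = z)
    (hcop : (Nat.card T).Coprime Z.index)
    (hs : Group.IsSolvable T ∨ Group.IsSolvable (Q ⧸ Z)) (l : Z →* ℂ) :
    ∃ β : IrrCharacter Q, IsFix T.subtype β.1 ∧ classInner (resFun Z β.1) (linIrr l).1 ≠ 0 := by
  classical
  have hinv : ∀ t : T, ∀ x ∈ Z, T.subtype t x ∈ Z := fun t x hx => by
    show (t : MulAut Q) x ∈ Z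
    rw [hfix _ t.2 x hx]; exact hx
  rcases hs with hT | hQ
  swap
  · refine exists_fix_over_of_isSolvable_quotient T.subtype Z hinv hcop hQ (linIrr l) fun t x => ?_
    exact congrArg l (Subtype.ext (hfix _ t.2 x x.2))
  obtain ⟨A, hAZ, hA, hAm⟩ := exists_primary_part Z hZ hcop
  haveI : A.Normal := ⟨fun n hn g => by
    rwa [(Subgroup.mem_center_iff.1 (hZ (hAZ hn)) g : _), mul_inv_cancel_right]⟩
  obtain ⟨K, hK⟩ := Subgroup.exists_right_complement'_of_coprime hA
  have hKcard : Nat.card K = A.index := (hK.symm.index_eq_card).symm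
  have hKinv : ∀ t : T, ∀ x ∈ K, T.subtype t x ∈ K := by
    intro t x hx
    obtain ⟨⟨a, k⟩, hak⟩ := hK.2 (T.subtype t x)
    replace hak : (a : Q) * (k : Q) = (t : MulAut Q) x := hak
    have h1 : ((t : MulAut Q) x) ^ Nat.card K = 1 := by
      rw [← map_pow, show x ^ Nat.card K = 1 from
        congrArg Subtype.val (pow_card_eq_one' (x := (⟨x, hx⟩ : K))), map_one]
    rw [← hak, Commute.mul_pow (Subgroup.mem_center_iff.1 (hZ (hAZ a.2)) k).symm,
      show ((k : Q)) ^ Nat.card K = 1 from congrArg Subtype.val (pow_card_eq_one' (x := k)),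
      mul_one] at h1
    have h2 : a = 1 := by
      refine orderOf_eq_one_iff.1 (Nat.eq_one_of_dvd_coprimes (hKcard.symm ▸ hA) (orderOf_dvd_natCard a)
        (orderOf_dvd_of_pow_eq_one (Subtype.ext h1)))
    show (t : MulAut Q) x ∈ K
    rw [← hak, h2, Subgroup.coe_one, one_mul]
    exact k.2
  let e₀ : A × K →* Q := MonoidHom.noncommCoprod A.subtype K.subtype
    fun a k => (Subgroup.mem_center_iff.1 (hZ (hAZ a.2)) k).symm
  let e : A × K ≃* Q := MulEquiv.ofBijective e₀ hK
  haveI := Fintype.ofFinite K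
  haveI := Fintype.ofFinite (Z.subgroupOf K)
  let lK : Z.subgroupOf K →* ℂ := l.comp
    { toFun := fun x => ⟨((x : K) : Q), Subgroup.mem_subgroupOf.1 x.2⟩
      map_one' := rfl
      map_mul' := fun _ _ => rfl }
  haveI := hT
  obtain ⟨η, hη, hη'⟩ := Glauberman.exists_fix_over (T := T) inferInstance
    (restrictAut T.subtype K hKinv)
    (restrictAut (restrictAut T.subtype K hKinv) (Z.subgroupOf K)
      fun t x hx => hinv t _ hx)
    (Z.subgroupOf K).subtype (Subgroup.subtype_injective _) (fun t x => rfl)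
    (by rw [hKcard]; exact hAm.symm) (linIrr lK)
    (fun t x => congrArg l (Subtype.ext (hfix _ t.2 _ x.2)))
  let lA : A →* ℂ := l.comp (Subgroup.inclusion hAZ)
  let β : IrrCharacter Q :=
    ⟨fun x => lA (e.symm x).1 * η.1 (e.symm x).2, IsIrrCharacter.comp_mulEquiv
      (isIrrCharacter_prod_mul (isIrrCharacter_of_monoidHom lA) η.2) e.symm⟩
  refine ⟨β, fun t x => ?_, ?_⟩
  · obtain ⟨⟨a, k⟩, rfl⟩ := e.surjective x
    have h1 : T.subtype t (e (a, k)) = e (a, ⟨T.subtype t k, hKinv t k k.2⟩) := by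
      show (t : MulAut Q) ((a : Q) * k) = (a : Q) * (t : MulAut Q) k
      rw [map_mul, hfix _ t.2 a (hAZ a.2)]
    show lA (e.symm (T.subtype t (e (a, k)))).1 * η.1 (e.symm (T.subtype t (e (a, k)))).2 =
      lA (e.symm (e (a, k))).1 * η.1 (e.symm (e (a, k))).2
    rw [h1, e.symm_apply_apply, e.symm_apply_apply]
    exact congrArg (lA a * ·) (hη t k)
  · haveI : (Z.subgroupOf K).Normal := hZn.comap K.subtype
    have hres := resFun_eq_smul_of_invariant (Z.subgroupOf K) η (linIrr lK)
      (fun g => funext fun x => congrArg lK (Subtype.ext (Subtype.ext (by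
        show (g : Q) * ((x : K) : Q) * (g : Q)⁻¹ = ((x : K) : Q)
        rw [(Subgroup.mem_center_iff.1 (hZ (Subgroup.mem_subgroupOf.1 x.2)) g : _),
          mul_inv_cancel_right])))) hη'
    set c := classInner (resFun (Z.subgroupOf K) η.1) (linIrr lK).1 with hc
    have hβ : resFun Z β.1 = c • (linIrr l).1 := by
      funext z
      obtain ⟨⟨a, k⟩, hak⟩ := e.surjective (z : Q)
      have hak' : (a : Q) * k = z := hak
      have hk : (k : Q) ∈ Z := by
        rw [show (k : Q) = (a : Q)⁻¹ * z by rw [← hak', inv_mul_cancel_left]]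
        exact Z.mul_mem (Z.inv_mem (hAZ a.2)) z.2
      show lA (e.symm z).1 * η.1 (e.symm z).2 = c * l z
      rw [← hak, e.symm_apply_apply,
        show η.1 k = c * lK ⟨k, hk⟩ from congrFun hres ⟨k, hk⟩,
        show l z = l (Subgroup.inclusion hAZ a * ⟨(k : Q), hk⟩) from
          congrArg l (Subtype.ext hak'.symm), map_mul]
      show l _ * (c * l _) = c * (l _ * l _)
      exact mul_left_comm _ _ _
    rw [hβ, classInner_smul_left, classInner_irr_self (linIrr l).2, mul_one]
    exact hη'

end Cfsg.Agent.Char
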