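import Cfsg.Agent.Lib.Char.CliffordGallagher
import Cfsg.Agent.Lib.Char.Linear

/-!
# Induction from a normal subgroup with abelian inertia quotient

If `T` is the inertia group of `θ ∈ Irr N` and `T / N` is abelian, then `θ^G` is `e` times the sum of
`s` irreducible characters with `e² s = |T : N|` (Isaacs 6.11, 6.17).
-/

set_option linter.style.haveILetI false
set_option linter.unusedSectionVars false

namespace Cfsg.Agent.Char

open scoped ComplexConjugate

universe u

variable {G : Type u} [Group G] [Fintype G]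

/-- All irreducible characters over an invariant `θ` have the same restriction when the quotient is
abelian. -/
theorem exists_common_ramification (N : Subgroup G) [N.Normal] [Fintype N] (θ : IrrCharacter N)
    (hinv : ∀ g, conjFun N θ.1 g = θ.1) (hab : ∀ a b : G ⧸ N, a * b = b * a) :
    ∃ (e : ℕ) (C : Finset (IrrCharacter G)), 0 < e ∧ indFun N θ.1 = (e : ℂ) • ∑ χ ∈ C, χ.1 ∧
      e ^ 2 * C.card * Nat.card N = Nat.card G ∧ ∀ χ ∈ C, ∀ n : N, χ.1 n = e * θ.1 n := by
  classical
  have hind := isCharacter_indFun N (irr_isCharacter θ)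
  obtain ⟨m, hm, hm'⟩ := IsCharacter.exists_decomp hind
  have hmul : ∀ χ : IrrCharacter G, classInner (resFun N χ.1) θ.1 = m χ := fun χ => by
    have h := classInner_indFun_right N θ.1 (IsCharacter.isClassFunction (irr_isCharacter χ))
    rw [← conj_classInner, hm' χ, map_natCast] at h
    exact h.symm
  have hres : ∀ χ : IrrCharacter G, m χ ≠ 0 → ∀ n : N, χ.1 n = m χ * θ.1 n := by
    intro χ hχ n
    have h := resFun_eq_smul_of_invariant N χ θ hinv (by rw [hmul]; exact Nat.cast_ne_zero.2 hχ)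
    rw [hmul] at h
    exact congrFun h n
  obtain ⟨ψ, hψ⟩ : ∃ ψ, m ψ ≠ 0 := by
    by_contra hcon
    push Not at hcon
    have h0 : indFun N θ.1 1 = 0 := by rw [hm]; simp [hcon]
    rw [indFun_apply_one, mul_eq_zero] at h0
    exact h0.elim (fun h => Subgroup.index_ne_zero_of_finite (Nat.cast_eq_zero.1 h))
      (IsIrrCharacter.apply_one_ne_zero θ.2)
  haveI : Fintype (G ⧸ N) := Fintype.ofFinite _
  have hlin : ∀ β : IrrCharacter (G ⧸ N), IsIrrCharacter G (mulQuotient N ψ.1 β.1) := by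
    intro β
    obtain ⟨lam, hlam⟩ := IsCharacter.exists_monoidHom (irr_isCharacter β) (apply_one_of_comm hab β)
    have h := IsIrrCharacter.mul_linear ψ.2 (lam.comp (QuotientGroup.mk' N))
    convert h using 1
    funext g
    simp [← hlam, mul_comm]
  have hconst : ∀ χ : IrrCharacter G, m χ ≠ 0 → m χ = m ψ := by
    intro χ hχ
    obtain ⟨β, hβ⟩ : ∃ β : IrrCharacter (G ⧸ N), mulQuotient N ψ.1 β.1 = χ.1 := by
      by_contra! hne
      have e : indFun N (resFun N ψ.1) = (m ψ : ℂ) • indFun N θ.1 := by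
        rw [← indFun_smul]; congr 1; exact funext (hres ψ hψ)
      rw [indFun_resFun_eq_sum N (IsCharacter.isClassFunction (irr_isCharacter ψ))] at e
      have h := congrArg (fun f => classInner f χ.1) e
      rw [classInner_smul_left, hm' χ, classInner_sum_left, Finset.sum_eq_zero fun β _ => by
        rw [classInner_smul_left, classInner_irr_of_ne (hlin β) χ.2 (hne β), mul_zero]] at h
      rcases mul_eq_zero.1 h.symm with h | h
      · exact hψ (Nat.cast_eq_zero.1 h)
      · exact hχ (Nat.cast_eq_zero.1 h)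
    have h1 := hres χ hχ 1
    rw [← hβ, mulQuotient_apply, hres ψ hψ 1, show (((1 : N) : G) : G ⧸ N) = 1 by simp,
      apply_one_of_comm hab β, mul_one] at h1
    exact (Nat.cast_injective (R := ℂ) (mul_right_cancel₀ (IsIrrCharacter.apply_one_ne_zero θ.2) h1)).symm
  set C := Finset.univ.filter fun χ => m χ ≠ 0 with hC
  have hsum : indFun N θ.1 = (m ψ : ℂ) • ∑ χ ∈ C, χ.1 := by
    rw [hm, Finset.smul_sum, hC, Finset.sum_filter]
    refine Finset.sum_congr rfl fun χ _ => ?_
    split_ifs with h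
    · rw [hconst χ h]
    · simp [not_not.1 h]
  have hC' : ∀ χ ∈ C, ∀ n : N, χ.1 n = m ψ * θ.1 n := fun χ hχ n => by
    have h := (Finset.mem_filter.1 hχ).2
    rw [hres χ h n, hconst χ h]
  refine ⟨m ψ, C, Nat.pos_of_ne_zero hψ, hsum, ?_, hC'⟩
  have h1 := congrFun hsum 1
  rw [indFun_apply_one, Pi.smul_apply, Finset.sum_apply,
    Finset.sum_congr rfl (g := fun _ => (m ψ : ℂ) * θ.1 1) fun χ hχ => by
      have h := hC' χ hχ 1
      rwa [Subgroup.coe_one] at h,
    Finset.sum_const, nsmul_eq_mul, smul_eq_mul] at h1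
  have h2 : (N.index : ℂ) = ((m ψ ^ 2 * C.card : ℕ) : ℂ) :=
    mul_right_cancel₀ (IsIrrCharacter.apply_one_ne_zero θ.2) (h1.trans (by push_cast; ring))
  rw [← N.index_mul_card, Nat.cast_inj.1 h2]

variable (N : Subgroup G) [N.Normal] [Fintype N]

/-- The inertia form. -/
theorem exists_clifford_abelian (θ : IrrCharacter N) (T : Subgroup G) [Fintype T]
    (hT : ∀ g, g ∈ T ↔ conjFun N θ.1 g = θ.1) (hab : ∀ x ∈ T, ∀ y ∈ T, x * y * x⁻¹ * y⁻¹ ∈ N) :
    ∃ (e : ℕ) (C : Finset (IrrCharacter G)), 0 < e ∧ e ^ 2 * C.card * Nat.card N = Nat.card T ∧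
      indFun N θ.1 = (e : ℂ) • ∑ χ ∈ C, χ.1 ∧
      ∀ χ ∈ C, χ.1 1 = (T.index : ℂ) * e * θ.1 1 := by
  classical
  have hNT : N ≤ T := fun n hn => (hT n).2 (irr_le_inertia N θ hn)
  haveI : Fintype (N.subgroupOf T) := Fintype.ofFinite _
  set θ' := toSubgroupOf N hNT θ with hθ'
  have hinv : ∀ g : T, conjFun (N.subgroupOf T) θ'.1 g = θ'.1 := fun g =>
    (conjFun_toSubgroupOf_iff N hNT θ g).2 ((hT g).1 g.2)
  have habq : ∀ a b : T ⧸ N.subgroupOf T, a * b = b * a := by
    intro a b
    obtain ⟨x, rfl⟩ := QuotientGroup.mk'_surjective _ a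
    obtain ⟨y, rfl⟩ := QuotientGroup.mk'_surjective _ b
    refine mul_inv_eq_one.1 ?_
    rw [mul_inv_rev, ← map_inv, ← map_inv, ← map_mul, ← map_mul, ← map_mul, QuotientGroup.mk'_apply,
      QuotientGroup.eq_one_iff, Subgroup.mem_subgroupOf]
    have h := hab x x.2 y y.2
    simpa [mul_assoc] using h
  obtain ⟨e, C', he, hsum, hcard, hres⟩ := exists_common_ramification (N.subgroupOf T) θ' hinv habq
  have hres' : ∀ χ ∈ C', ∀ n : N, χ.1 ⟨n, hNT n.2⟩ = e * θ.1 n := fun χ hχ n =>
    (hres χ hχ ⟨⟨n, hNT n.2⟩, n.2⟩).trans rfl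
  have hI : ∀ g, conjFun N θ.1 g = θ.1 → g ∈ T := fun g h => (hT g).2 h
  have hirr : ∀ χ ∈ C', IsIrrCharacter G (indFun T χ.1) := fun χ hχ =>
    isIrrCharacter_indFun_inertia N T hNT θ hI he.ne' (hres' χ hχ)
  set f : {χ // χ ∈ C'} → IrrCharacter G := fun χ => ⟨indFun T χ.1.1, hirr χ.1 χ.2⟩ with hf
  have hinj : Function.Injective f := fun χ χ' h => Subtype.ext
    (indFun_inertia_injective N T hNT θ hI he.ne' he.ne' (hres' χ.1 χ.2) (hres' χ'.1 χ'.2)
      (congrArg Subtype.val h))
  refine ⟨e, C'.attach.image f, he, ?_, ?_, ?_⟩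
  · rw [Finset.card_image_of_injective _ hinj, Finset.card_attach,
      ← Nat.card_congr (Subgroup.subgroupOfEquivOfLe hNT).toEquiv]
    exact hcard
  · rw [Finset.sum_image fun a _ b _ h => hinj h,
      show ∑ x ∈ C'.attach, (f x).1 = ∑ χ ∈ C', indFun T χ.1 from
        Finset.sum_attach C' fun χ => indFun T χ.1,
      ← indFun_sum, ← indFun_smul, ← hsum]
    refine sub_eq_zero.1 (eq_zero_of_classInner_irr (fun g h => by
      simp [isClassFunction_indFun N θ.1 g h, isClassFunction_indFun T _ g h]) fun φ => ?_)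
    have hφ := IsCharacter.isClassFunction (irr_isCharacter φ)
    rw [classInner_sub_left, classInner_indFun N _ hφ, classInner_indFun T _ hφ,
      classInner_indFun (N.subgroupOf T) _ (IsCharacter.isClassFunction (IsCharacter.restrict (irr_isCharacter φ) T)),
      sub_eq_zero]
    have h := congrArg conj (classInner_toSubgroupOf N hNT (fun t : T => φ.1 t) θ)
    rw [conj_classInner, conj_classInner] at h
    exact h.symm
  · intro χ hχ
    obtain ⟨χ', -, rfl⟩ := Finset.mem_image.1 hχ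
    show indFun T χ'.1.1 1 = _
    rw [indFun_apply_one, mul_assoc]
    exact congrArg ((T.index : ℂ) * ·) (hres' χ'.1 χ'.2 1)

end Cfsg.Agent.Char
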