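import Cfsg.Agent.Lib.Char.Induction
import Cfsg.Agent.Lib.Char.KernelSum

/-!
# Recognising an induced irreducible character by its degree
-/

namespace Cfsg.Agent.Char

open scoped ComplexConjugate

set_option linter.style.haveILetI false

universe u

variable {G : Type u} [Group G] [Fintype G]

/-- A character containing an irreducible one of no smaller degree equals it. -/
theorem eq_of_constituent_degree {φ : G → ℂ} (hφ : IsCharacter G φ) (χ : IrrCharacter G)
    (h : classInner φ χ.1 ≠ 0) (hdeg : φ 1 = χ.1 1) : φ = χ.1 := by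
  classical
  obtain ⟨m, hm, hm'⟩ := IsCharacter.exists_decomp hφ
  have h1 : ∑ ψ : IrrCharacter G, m ψ * charDegree ψ.1 = charDegree χ.1 := by
    have := congrFun hm 1
    rw [hdeg, Finset.sum_apply] at this
    apply Nat.cast_injective (R := ℂ)
    push_cast
    simp only [charDegree_cast]
    rw [this]
    simp
  have hmχ : m χ ≠ 0 := fun h0 => h (by rw [hm', h0, Nat.cast_zero])
  rw [← Finset.add_sum_erase _ _ (Finset.mem_univ χ)] at h1
  have hle : charDegree χ.1 ≤ m χ * charDegree χ.1 := Nat.le_mul_of_pos_left _ (Nat.pos_of_ne_zero hmχ)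
  have hrest : ∑ ψ ∈ Finset.univ.erase χ, m ψ * charDegree ψ.1 = 0 := by omega
  have hone : m χ = 1 := by
    have : m χ * charDegree χ.1 = 1 * charDegree χ.1 := by omega
    exact Nat.eq_of_mul_eq_mul_right (charDegree_pos χ) this
  rw [hm, ← Finset.add_sum_erase _ _ (Finset.mem_univ χ), hone, Finset.sum_eq_zero, add_zero,
    Nat.cast_one, one_smul]
  intro ψ hψ
  have := Finset.sum_eq_zero_iff.1 hrest ψ hψ
  rw [(Nat.mul_eq_zero.1 this).resolve_right (charDegree_pos ψ).ne', Nat.cast_zero, zero_smul]

theorem le_of_constituent {φ : G → ℂ} (hφ : IsCharacter G φ) (χ : IrrCharacter G)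
    (h : classInner φ χ.1 ≠ 0) {n : ℕ} (hn : φ 1 = n) : charDegree χ.1 ≤ n := by
  classical
  obtain ⟨m, hm, hm'⟩ := IsCharacter.exists_decomp hφ
  have h1 : ∑ ψ : IrrCharacter G, m ψ * charDegree ψ.1 = n := by
    have := congrFun hm 1
    rw [hn, Finset.sum_apply] at this
    apply Nat.cast_injective (R := ℂ)
    push_cast
    simp only [charDegree_cast]
    rw [this]
    simp
  have hmχ : m χ ≠ 0 := fun h0 => h (by rw [hm', h0, Nat.cast_zero])
  rw [← h1]
  exact (Nat.le_mul_of_pos_left _ (Nat.pos_of_ne_zero hmχ)).trans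
    (Finset.single_le_sum (f := fun ψ : IrrCharacter G => m ψ * charDegree ψ.1)
      (fun _ _ => Nat.zero_le _) (Finset.mem_univ χ))

/-- If `θ` is a constituent of the restriction of `χ` and `[G : H] θ(1) = χ(1)` then `χ` is the
induced character. -/
theorem eq_indFun_of_degree (H : Subgroup G) [Fintype H] (χ : IrrCharacter G) {θ : H → ℂ}
    (hθ : IsCharacter H θ) (h : classInner θ (fun x : H => χ.1 x) ≠ 0)
    (hdeg : (H.index : ℂ) * θ 1 = χ.1 1) : χ.1 = indFun H θ :=
  (eq_of_constituent_degree (isCharacter_indFun H hθ) χ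
    (by rwa [classInner_indFun H θ (IsCharacter.isClassFunction (irr_isCharacter χ))])
    (by rw [indFun_apply_one, hdeg])).symm

theorem degree_le_index_mul (H : Subgroup G) [Fintype H] (χ : IrrCharacter G) (θ : IrrCharacter H)
    (h : classInner θ.1 (fun x : H => χ.1 x) ≠ 0) :
    charDegree χ.1 ≤ H.index * charDegree θ.1 :=
  le_of_constituent (isCharacter_indFun H (irr_isCharacter θ)) χ
    (by rwa [classInner_indFun H θ.1 (IsCharacter.isClassFunction (irr_isCharacter χ))])
    (by rw [indFun_apply_one, Nat.cast_mul, charDegree_cast])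

/-- `∑ m θ(1) = χ(1)` for the restriction to a subgroup. -/
theorem exists_res_decomp (H : Subgroup G) [Fintype H] (χ : IrrCharacter G) :
    ∃ m : IrrCharacter H → ℕ, (∀ θ, classInner θ.1 (fun x : H => χ.1 x) = m θ) ∧
      ∑ θ, m θ * charDegree θ.1 = charDegree χ.1 := by
  obtain ⟨m, hm, hm'⟩ := IsCharacter.exists_decomp (IsCharacter.restrict (irr_isCharacter χ) H)
  refine ⟨m, fun θ => by rw [← conj_classInner, hm', map_natCast], ?_⟩
  have := congrFun hm 1
  rw [Finset.sum_apply] at this
  apply Nat.cast_injective (R := ℂ)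
  push_cast
  simp only [charDegree_cast]
  simpa using this.symm

end Cfsg.Agent.Char
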