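import Cfsg.Agent.Lib.Char.Ito
import Cfsg.Agent.Lib.Char.InducedEq

/-!
# Clifford theory between a normal subgroup and an intermediate subgroup

For `A ≤ K` with `A` normal in the whole group, the constituents on `A` of an irreducible character
of `K`, as characters of the subgroup `A` of the whole group.
-/

set_option autoImplicit false
set_option linter.unusedSectionVars false
set_option linter.style.haveILetI false

namespace Cfsg.Agent.Char

universe u

variable {G : Type u} [Group G] [Fintype G] (A : Subgroup G) [A.Normal] {K : Subgroup G}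

/-- A character of `A` as a character of `A` seen inside `K`. -/
noncomputable def liftSub (h : A ≤ K) : IrrCharacter A ≃ IrrCharacter (A.subgroupOf K) where
  toFun η := ⟨fun x => η.1 (Subgroup.subgroupOfEquivOfLe h x),
    IsIrrCharacter.comp_surjective η.2 (Subgroup.subgroupOfEquivOfLe h).toMonoidHom
      (Subgroup.subgroupOfEquivOfLe h).surjective⟩
  invFun η := ⟨fun x => η.1 ((Subgroup.subgroupOfEquivOfLe h).symm x),
    IsIrrCharacter.comp_surjective η.2 (Subgroup.subgroupOfEquivOfLe h).symm.toMonoidHom
      (Subgroup.subgroupOfEquivOfLe h).symm.surjective⟩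
  left_inv _ := rfl
  right_inv _ := rfl

theorem liftSub_apply (h : A ≤ K) (η : IrrCharacter A) (x : A.subgroupOf K) :
    (liftSub A h η).1 x = η.1 (Subgroup.subgroupOfEquivOfLe h x) := rfl

theorem liftSub_apply_one (h : A ≤ K) (η : IrrCharacter A) :
    (liftSub A h η).1 1 = η.1 1 := by
  rw [liftSub_apply, map_one]

theorem liftSub_conjChar (h : A ≤ K) (η : IrrCharacter A) (k : K) :
    conjChar (A.subgroupOf K) (liftSub A h η) k = liftSub A h (conjChar A η (k : G)) := by
  refine Subtype.ext (funext fun x => ?_)
  exact congrArg η.1 (Subtype.ext (by simp [Subgroup.subgroupOfEquivOfLe]))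

variable [Fintype K] [Fintype A]

/-- `η` is a constituent of the restriction of `θ`. -/
def Over (h : A ≤ K) (θ : IrrCharacter K) (η : IrrCharacter A) : Prop :=
  classInner (resIncl A h θ.1) η.1 ≠ 0

theorem classInner_resFun_liftSub (h : A ≤ K) [Fintype (A.subgroupOf K)] (f : K → ℂ)
    (η : IrrCharacter A) :
    classInner (resFun (A.subgroupOf K) f) (liftSub A h η).1 = classInner (resIncl A h f) η.1 := by
  simp only [classInner, Nat.card_congr (Subgroup.subgroupOfEquivOfLe h).toEquiv]
  congr 1
  exact Fintype.sum_equiv (Subgroup.subgroupOfEquivOfLe h).toEquiv _ _ fun x => rfl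

theorem over_iff_liftSub (h : A ≤ K) [Fintype (A.subgroupOf K)] (θ : IrrCharacter K)
    (η : IrrCharacter A) :
    Over A h θ η ↔ classInner (resFun (A.subgroupOf K) θ.1) (liftSub A h η).1 ≠ 0 := by
  rw [Over, classInner_resFun_liftSub]

theorem exists_over (h : A ≤ K) (θ : IrrCharacter K) : ∃ η, Over A h θ η := by
  classical
  haveI := Fintype.ofFinite (A.subgroupOf K)
  obtain ⟨η, hη⟩ := exists_constituent (A.subgroupOf K) θ
  exact ⟨(liftSub A h).symm η, by rw [over_iff_liftSub, Equiv.apply_symm_apply]; exact hη⟩

theorem over_conjugate (h : A ≤ K) {θ : IrrCharacter K} {η η' : IrrCharacter A}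
    (hη : Over A h θ η) (hη' : Over A h θ η') : ∃ k ∈ K, η' = conjChar A η k := by
  classical
  haveI := Fintype.ofFinite (A.subgroupOf K)
  rw [over_iff_liftSub] at hη hη'
  obtain ⟨k, hk⟩ := exists_conjChar_of_constituents (A.subgroupOf K) θ _ _ hη hη'
  rw [liftSub_conjChar] at hk
  exact ⟨k, k.2, (liftSub A h).injective hk⟩

theorem over_conjChar_mem (h : A ≤ K) {θ : IrrCharacter K} {η : IrrCharacter A}
    (hη : Over A h θ η) {k : G} (hk : k ∈ K) : Over A h θ (conjChar A η k) := by
  classical
  haveI := Fintype.ofFinite (A.subgroupOf K)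
  rw [over_iff_liftSub] at hη ⊢
  rw [show liftSub A h (conjChar A η k) = conjChar (A.subgroupOf K) (liftSub A h η) ⟨k, hk⟩ from
    (liftSub_conjChar A h η ⟨k, hk⟩).symm, conjChar_coe,
    classInner_resFun_conjFun (A.subgroupOf K) (IsCharacter.isClassFunction (irr_isCharacter θ))]
  exact hη

/-- The number of constituents is the index of the inertia group. -/
theorem card_over (h : A ≤ K) {θ : IrrCharacter K} {η : IrrCharacter A} (hη : Over A h θ η) :
    Nat.card {η' : IrrCharacter A // Over A h θ η'} = (inertia A η.1).relIndex K := by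
  classical
  haveI := Fintype.ofFinite (A.subgroupOf K)
  have hI : inertia (A.subgroupOf K) (liftSub A h η).1 = (inertia A η.1).subgroupOf K := by
    ext k
    rw [Subgroup.mem_subgroupOf, mem_inertia, mem_inertia, ← conjChar_coe, ← conjChar_coe,
      ← Subtype.ext_iff, ← Subtype.ext_iff, liftSub_conjChar, (liftSub A h).injective.eq_iff]
  have hidx := index_inertia (A.subgroupOf K) (liftSub A h η)
  rw [hI] at hidx
  rw [Subgroup.relIndex, hidx, ← Nat.card_eq_finsetCard]
  refine Nat.card_congr (Equiv.subtypeEquiv (liftSub A h) fun η' => ?_)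
  rw [mem_orbitFinset]
  constructor
  · intro h'
    obtain ⟨k, hk, rfl⟩ := over_conjugate A h hη h'
    exact ⟨⟨k, hk⟩, (liftSub_conjChar A h η ⟨k, hk⟩).symm⟩
  · rintro ⟨k, hk⟩
    rw [liftSub_conjChar, (liftSub A h).injective.eq_iff] at hk
    exact hk ▸ over_conjChar_mem A h hη k.2

/-- The index of the inertia group in `K` times the degree of a constituent divides the degree. -/
theorem relIndex_inertia_mul_dvd (h : A ≤ K) {θ : IrrCharacter K} {η : IrrCharacter A}
    (hη : Over A h θ η) : (inertia A η.1).relIndex K * charDegree η.1 ∣ charDegree θ.1 := by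
  classical
  haveI := Fintype.ofFinite (A.subgroupOf K)
  rw [← card_over A h hη]
  have hη' := (over_iff_liftSub A h θ η).1 hη
  obtain ⟨e, he⟩ := IsCharacter.exists_nat_classInner
    (IsCharacter.restrict (irr_isCharacter θ) (A.subgroupOf K)) (irr_isCharacter (liftSub A h η))
  refine ⟨e, ?_⟩
  have h1 := apply_one_eq_mul_card_orbit (A.subgroupOf K) θ (liftSub A h η) hη'
  have he' : classInner (resFun (A.subgroupOf K) θ.1) (liftSub A h η).1 = (e : ℂ) := he
  have hc : (orbitFinset (A.subgroupOf K) (liftSub A h η)).card =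
      Nat.card {η' : IrrCharacter A // Over A h θ η'} := by
    rw [← Nat.card_eq_finsetCard]
    refine Nat.card_congr (Equiv.subtypeEquiv (liftSub A h) fun η'' => ?_).symm
    rw [mem_orbitFinset]
    constructor
    · intro h'
      obtain ⟨k, hk, rfl⟩ := over_conjugate A h hη h'
      exact ⟨⟨k, hk⟩, (liftSub_conjChar A h η ⟨k, hk⟩).symm⟩
    · rintro ⟨k, hk⟩
      rw [liftSub_conjChar, (liftSub A h).injective.eq_iff] at hk
      exact hk ▸ over_conjChar_mem A h hη k.2
  rw [he', hc, liftSub_apply_one, ← charDegree_cast, ← charDegree_cast] at h1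
  have : charDegree θ.1 = e * (Nat.card {η' : IrrCharacter A // Over A h θ η'} * charDegree η.1) := by
    exact_mod_cast h1
  rw [this]; ring

/-- A character over `η` is determined by `η` when `η` has trivial inertia in `K`. -/
theorem eq_of_over_of_inertia (h : A ≤ K) {θ θ' : IrrCharacter K} {η : IrrCharacter A}
    (hI : inertia A η.1 ⊓ K ≤ A) (hθ : Over A h θ η) (hθ' : Over A h θ' η) : θ = θ' := by
  classical
  haveI := Fintype.ofFinite (A.subgroupOf K)
  have hirr : IsIrrCharacter K (indFun (A.subgroupOf K) (liftSub A h η).1) := by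
    refine isIrrCharacter_indFun_inertia (A.subgroupOf K) (A.subgroupOf K) le_rfl (liftSub A h η)
      (e := 1) (fun k hk => ?_) one_ne_zero (fun n => ?_)
    · rw [← conjChar_coe, ← Subtype.ext_iff, liftSub_conjChar, (liftSub A h).injective.eq_iff] at hk
      exact hI ⟨congrArg Subtype.val hk, k.2⟩
    · simp
  have key : ∀ τ : IrrCharacter K, Over A h τ η → τ.1 = indFun (A.subgroupOf K) (liftSub A h η).1 := by
    intro τ hτ
    by_contra hne
    rw [over_iff_liftSub] at hτ
    have h0 := classInner_irr_of_ne hirr τ.2 (Ne.symm hne)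
    rw [classInner_indFun _ _ (IsCharacter.isClassFunction (irr_isCharacter τ))] at h0
    exact hτ (by
      show classInner (fun x : A.subgroupOf K => τ.1 x) (liftSub A h η).1 = 0
      rw [← conj_classInner, h0, map_zero])
  exact Subtype.ext ((key θ hθ).trans (key θ' hθ').symm)

/-- Conjugation carries constituents to constituents. -/
theorem over_conjChar [K.Normal] (h : A ≤ K) {θ : IrrCharacter K} {η : IrrCharacter A}
    (hη : Over A h θ η) (g : G) : Over A h (conjChar K θ g) (conjChar A η g) := by
  have hres : resIncl A h (conjChar K θ g).1 = conjFun A (resIncl A h θ.1) g :=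
    funext fun x => congrArg θ.1 (Subtype.ext (by simp))
  rw [Over, hres, conjChar_coe, classInner_conjFun]
  exact hη

end Cfsg.Agent.Char
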