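import Cfsg.Agent.Lib.Char.Orthogonality

/-!
# Constituents of `χ χ̄` detected by sums of `χ` over commutators
-/

set_option autoImplicit false

namespace Cfsg.Agent.Char

open Representation Module ComplexConjugate

universe u v

variable {G : Type u} [Group G] [Fintype G]

/-- An irreducible character not occurring in a representation kills it by its class sum operator. -/
theorem opSum_eq_zero_of_not_constituent (ψ : IrrCharacter G) {V : Type v} [AddCommGroup V]
    [Module ℂ V] [FiniteDimensional ℂ V] (ρ : Representation ℂ G V)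
    (h : ∑ g, conj (ψ.1 g) * ρ.character g = 0) :
    opSum (fun g => conj (ψ.1 g)) ρ = 0 := by
  set c : G → ℂ := fun g => conj (ψ.1 g) with hcdef
  have hc : IsClassFunction G c := fun a b => by
    show conj (ψ.1 (b * a * b⁻¹)) = conj (ψ.1 a)
    rw [IsCharacter.isClassFunction (irr_isCharacter ψ) a b]
  have hnat : ∀ {W : Type v} [AddCommGroup W] [Module ℂ W] [FiniteDimensional ℂ W]
      (σ : Representation ℂ G W),
      ∃ m : ℕ, ∑ g, c g * σ.character g = (Nat.card G : ℂ) * m := by
    intro W _ _ _ σ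
    obtain ⟨m, hm⟩ :=
      IsCharacter.exists_nat_classInner (isCharacter_character σ) (irr_isCharacter ψ)
    refine ⟨m, ?_⟩
    rw [← hm, classInner, mul_inv_cancel_left₀ card_ne_zero]
    exact Finset.sum_congr rfl fun g _ => mul_comm _ _
  suffices H : ∀ (n : ℕ) (W : Type v) (_ : AddCommGroup W) (_ : Module ℂ W)
      (_ : FiniteDimensional ℂ W), finrank ℂ W = n → ∀ σ : Representation ℂ G W,
      ∑ g, c g * σ.character g = 0 → ∀ x, opSum c σ x = 0 from
    LinearMap.ext fun x => H _ V _ _ inferInstance rfl ρ h x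
  intro n
  induction n using Nat.strong_induction_on with
  | _ n ih =>
    intro W _ _ _ hn σ h0 x
    rcases subsingleton_or_irreducible_or_split σ with hs | hs | ⟨A, B, hc', hA, hB⟩
    · exact Subsingleton.elim _ _
    · haveI := hs
      obtain ⟨a, ha⟩ := exists_opSum_eq_smul hc σ
      have hT : opSum c σ = a • LinearMap.id := LinearMap.ext fun y => by simp [ha]
      have h1 := trace_opSum c σ
      rw [h0, hT] at h1
      haveI := nontrivial_of_isIrreducible σ
      have hn : (finrank ℂ W : ℂ) ≠ 0 := Nat.cast_ne_zero.2 Module.finrank_pos.ne'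
      rw [map_smul, LinearMap.trace_id, smul_eq_mul, mul_eq_zero] at h1
      rw [ha, h1.resolve_right hn, zero_smul]
    · obtain ⟨a, haA⟩ := hnat A.toRepresentation
      obtain ⟨b, hbB⟩ := hnat B.toRepresentation
      rw [character_eq_add_of_isCompl σ A B hc'] at h0
      simp only [Pi.add_apply, mul_add, Finset.sum_add_distrib] at h0
      rw [haA, hbB, ← mul_add, mul_eq_zero, or_iff_right card_ne_zero, ← Nat.cast_add,
        Nat.cast_eq_zero] at h0
      have key : ∀ (S : Subrepresentation σ), finrank ℂ S.toSubmodule < n →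
          (∑ g, c g * S.toRepresentation.character g = 0) →
          ∀ y ∈ S.toSubmodule, opSum c σ y = 0 := by
        intro S hS hS0 y hy
        have h2 := congrArg Subtype.val (ih _ hS S.toSubmodule _ _ inferInstance rfl S.toRepresentation hS0 ⟨y, hy⟩)
        simp [opSum_apply, Subrepresentation.toRepresentation] at h2
        rw [opSum_apply]
        exact h2
      obtain ⟨y, hy, z, hz, rfl⟩ := Submodule.mem_sup.1
        (show x ∈ A.toSubmodule ⊔ B.toSubmodule by rw [hc'.sup_eq_top]; trivial)
      rw [map_add, key A (hn ▸ hA) (by rw [haA, (Nat.eq_zero_of_add_eq_zero_right h0)]; simp) y hy,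
        key B (hn ▸ hB) (by rw [hbB, (Nat.eq_zero_of_add_eq_zero_left h0)]; simp) z hz, add_zero]

/-- If `ψ` does not occur in `χ χ̄`, the sums `∑ g, ψ̄ g χ [g, x]` vanish. -/
theorem sum_conj_mul_commutator_eq_zero (χ ψ : IrrCharacter G)
    (h : classInner (fun g => χ.1 g * conj (χ.1 g)) ψ.1 = 0) (x : G) :
    ∑ g, conj (ψ.1 g) * χ.1 (g * x * g⁻¹ * x⁻¹) = 0 := by
  obtain ⟨n, ρ, hρ, hχ⟩ := χ.2
  have h0 : ∑ g, conj (ψ.1 g) * (linHom ρ ρ).character g = 0 := by
    rw [classInner, mul_eq_zero, or_iff_right (inv_ne_zero card_ne_zero)] at h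
    rw [← h]
    refine Finset.sum_congr rfl fun g _ => ?_
    rw [char_linHom, hχ, IsCharacter.conj_apply (irr_isCharacter χ)]
    ring
  have hT := opSum_eq_zero_of_not_constituent ψ (linHom ρ ρ) h0
  have hX := congrArg (fun T : Module.End ℂ (Module.End ℂ (Fin n → ℂ)) =>
    LinearMap.trace ℂ (Fin n → ℂ) (T (ρ x) * ρ x⁻¹)) hT
  simp only [opSum_apply, Finset.sum_mul, map_sum, smul_mul_assoc, map_smul, smul_eq_mul,
    LinearMap.zero_apply, zero_mul, map_zero] at hX
  refine (Finset.sum_congr rfl fun g _ => ?_).trans hX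
  congr 1
  rw [← hχ]
  show LinearMap.trace ℂ _ (ρ (g * x * g⁻¹ * x⁻¹)) = _
  congr 1
  simp only [map_mul, linHom_apply, Module.End.mul_eq_comp, LinearMap.comp_assoc]

end Cfsg.Agent.Char
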