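import Cfsg.Agent.Lib.Char.Ito
import Cfsg.Agent.Lib.Char.PRegular
import Cfsg.Agent.Lib.CharInt.Basic
import Cfsg.Agent.Lib.Coprime.Commutator
import Cfsg.Agent.Lib.Coprime.Sylow
import Cfsg.Agent.Lib.PCore.HallHigmanDual
import Cfsg.Agent.Lib.Clifford.Extension

/-!
# Degrees of `p`-elements acting on a coprime `q`-group inside a linear group

If `x` has `p`-power order, acts on `R` of class at most `2` with `[R, x] = R`, fixes the
constituent `θ` and `x ^ p` centralises `R`, then `θ(1) ^ 2 ≡ 1 (mod p)`.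
-/

set_option autoImplicit false
set_option linter.style.haveILetI false

open Cfsg
open scoped Classical ComplexConjugate commutatorElement Pointwise

namespace Cfsg.Agent.Char

universe u

section Count

variable {X : Type u} [Group X] [Fintype X]

theorem degree_sq_eq_one_of_action (p : ℕ) [Fact p.Prime] (R : Subgroup X) [R.Normal] [Fintype R]
    (x : X) (hgen : R ⊔ Subgroup.zpowers x = ⊤) (k : ℕ) (hox : orderOf x = p ^ (k + 1))
    (hcop : (Nat.card R).Coprime p) (hxp : ∀ r ∈ R, Commute (x ^ p) r)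
    (hRx : ⁅R, Subgroup.zpowers x⁆ = R)
    (hcl2 : ∀ r ∈ R, ∀ s ∈ R, ⁅r, s⁆ ∈ Subgroup.center X)
    (φ : IrrCharacter X) (θ : IrrCharacter R) (hθ : classInner (resFun R φ.1) θ.1 ≠ 0)
    (hinv : conjFun R θ.1 x = θ.1) : ((degree θ : ZMod p)) ^ 2 = 1 := by
  obtain ⟨e, he⟩ := IsCharacter.exists_nat_classInner
    (IsCharacter.restrict (irr_isCharacter φ) R) (irr_isCharacter θ)
  have he' : classInner (resFun R φ.1) θ.1 = (e : ℂ) := he
  have hinvall : ∀ g : X, conjFun R θ.1 g = θ.1 := fun g => by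
    have h : Subgroup.zpowers x ⊔ R ≤ inertia R θ.1 :=
      sup_le (Subgroup.zpowers_le.2 hinv) (irr_le_inertia R θ)
    exact h (by rw [sup_comm, hgen]; exact Subgroup.mem_top g)
  have hres : ∀ r : R, φ.1 r = (e : ℂ) * θ.1 r := fun r => by
    have h1 := congrFun (resFun_eq_smul_orbitSum R φ θ hθ) r
    have horb : orbitFinset R θ = {θ} := by
      ext η
      rw [mem_orbitFinset, Finset.mem_singleton]
      exact ⟨fun ⟨g, hg⟩ => hg.trans (Subtype.ext (hinvall g)),
        fun h => ⟨1, h.trans (Subtype.ext (conjFun_one R θ.1).symm)⟩⟩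
    rwa [resFun_apply, Pi.smul_apply, orbitSum, horb, Finset.sum_singleton, he', smul_eq_mul] at h1
  have hφ1 : φ.1 1 = (e : ℂ) * degree θ := by
    rw [← apply_one_eq_degree, ← hres, Subgroup.coe_one]
  obtain ⟨d, ρ, hirr, hρ⟩ := φ.2
  haveI := hirr
  have hch : IsCharacter X φ.1 := irr_isCharacter φ
  have hK : (CharInt.charKernel hch).Normal := CharInt.charKernel_normal hch
  haveI := hK
  set C : Subgroup X := (Subgroup.center (X ⧸ CharInt.charKernel hch)).comap
    (QuotientGroup.mk' (CharInt.charKernel hch)) with hC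
  have hCmem : ∀ g : X, g ∈ C ↔ ∀ h : X, ⁅h, g⁆ ∈ CharInt.charKernel hch := fun g => by
    rw [hC, Subgroup.mem_comap, Subgroup.mem_center_iff]
    constructor
    · intro hg h
      rw [← QuotientGroup.eq_one_iff, ← QuotientGroup.mk'_apply, map_commutatorElement]
      exact commutatorElement_eq_one_iff_commute.2 (hg _)
    · intro hg h
      obtain ⟨h, rfl⟩ := QuotientGroup.mk'_surjective _ h
      refine (commutatorElement_eq_one_iff_commute.1 ?_).eq
      rw [← map_commutatorElement]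
      exact (QuotientGroup.eq_one_iff _).2 (hg h)
  have hKρ : ∀ g : X, g ∈ CharInt.charKernel hch → ρ g = 1 := fun g hg => by
    have hg' : φ.1 g = φ.1 1 := hg
    rw [← hρ] at hg'
    rw [ρ.char_one] at hg'
    exact (CharInt.character_eq_finrank_iff ρ g).1 hg'
  -- elements of `C` act by scalars
  have hscal : ∀ g ∈ C, ‖φ.1 g‖ = ‖φ.1 1‖ := fun g hg => by
    rw [← hρ]
    refine (CharInt.norm_eq_iff_scalar ρ g).2 ?_
    have hcomm : ∀ h : X, ρ h * ρ g = ρ g * ρ h := fun h => by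
      have h1 := hKρ _ ((hCmem g).1 hg h)
      rw [commutatorElement_def, map_mul, map_mul, map_mul] at h1
      calc ρ h * ρ g = ρ h * ρ g * (ρ h⁻¹ * (ρ g⁻¹ * ρ g) * ρ h) := by
            rw [← map_mul ρ g⁻¹, inv_mul_cancel, map_one, mul_one, ← map_mul ρ h⁻¹, inv_mul_cancel,
              map_one, mul_one]
        _ = (ρ h * ρ g * ρ h⁻¹ * ρ g⁻¹) * (ρ g * ρ h) := by simp only [mul_assoc]
        _ = _ := by rw [h1, one_mul]
    obtain ⟨c, hc⟩ := Clifford.exists_scalar_of_commute ρ (ρ g) fun h => (hcomm h).symm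
    exact ⟨c, hc.trans (Algebra.algebraMap_eq_smul_one c)⟩
  have hfac : ∀ g ∈ C, ∀ h : X, φ.1 (g * h) * conj (φ.1 (g * h)) = φ.1 h * conj (φ.1 h) := by
    intro g hg h
    have h1 := CharInt.char_mul_of_mem_centre hch (hscal g hg) h
    have h2 := congrArg (fun z => z * conj z) h1
    simp only [map_mul] at h2
    have h3 : φ.1 g * conj (φ.1 g) = φ.1 1 * conj (φ.1 1) := by
      simp only [Complex.mul_conj, Complex.normSq_eq_norm_sq, hscal g hg]
    have h4 : φ.1 1 * conj (φ.1 1) ≠ 0 := mul_ne_zero (CharInt.irr_one_ne_zero φ.2)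
      (by simpa using CharInt.irr_one_ne_zero φ.2)
    refine mul_right_cancel₀ h4 ?_
    linear_combination h2 + (φ.1 h * conj (φ.1 h)) * h3
  have hxpC : x ^ p ∈ Subgroup.center X := Subgroup.mem_center_iff.2 fun g => by
    have : R ⊔ Subgroup.zpowers x ≤ Subgroup.centralizer ({x ^ p} : Set X) :=
      sup_le (fun r hr => Subgroup.mem_centralizer_singleton_iff.2 (hxp r hr).eq.symm)
        (Subgroup.zpowers_le.2 (Subgroup.mem_centralizer_singleton_iff.2 ((Commute.refl x).pow_right p).eq))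
    exact (Subgroup.mem_centralizer_singleton_iff.1 (this (hgen ▸ Subgroup.mem_top g)))
  have hcenC : Subgroup.center X ≤ C := fun g hg => (hCmem g).2 fun h => by
    rw [commutatorElement_eq_one_iff_commute.2 (Subgroup.mem_center_iff.1 hg h)]
    exact Subgroup.one_mem _
  set π := QuotientGroup.mk' C with hπ
  haveI hCn : C.Normal := (Subgroup.instNormalCenter).comap _
  have hπC : ∀ g, π g = 1 ↔ g ∈ C := fun g => QuotientGroup.eq_one_iff g
  have hQab : ∀ r ∈ R, ∀ s ∈ R, Commute (π r) (π s) := fun r hr s hs => by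
    rw [← commutatorElement_eq_one_iff_commute, ← map_commutatorElement, hπC]
    exact hcenC (hcl2 r hr s hs)
  -- commuting with `x` modulo `C` forces membership of `C`
  have hkey : ∀ c ∈ R, ⁅c, x⁆ ∈ C → c ∈ C := by
    intro c hc hcx
    set ι := QuotientGroup.mk' (CharInt.charKernel hch) with hι
    have hcen : ∀ r ∈ R, ∀ s ∈ R, ι ⁅r, s⁆ ∈ Subgroup.center (X ⧸ CharInt.charKernel hch) :=
      fun r hr s hs => hcenC (hcl2 r hr s hs)
    have hz : ι ⁅x, c⁆ ∈ Subgroup.center (X ⧸ CharInt.charKernel hch) := by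
      rw [← commutatorElement_inv]; exact C.inv_mem hcx
    let f : R →* X ⧸ CharInt.charKernel hch :=
      { toFun := fun s => ι ⁅c, (s : X)⁆
        map_one' := by simp
        map_mul' := fun a b => by
          rw [Subgroup.coe_mul, commutatorElement_mul_right_eq_mul_conj]
          simp only [map_mul, map_inv]
          rw [mul_assoc (ι ⁅c, (a : X)⁆) (ι (a : X)), Subgroup.mem_center_iff.1 (hcen c hc b b.2),
            ← mul_assoc, mul_inv_cancel_right] }
    have hfx : ∀ s : R, f (MulAut.conjNormal x s) = f s := by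
      intro s
      show ι ⁅c, ((MulAut.conjNormal x s : R) : X)⁆ = ι ⁅c, (s : X)⁆
      rw [MulAut.conjNormal_apply]
      have h1 : ι (x * ⁅c, (s : X)⁆ * x⁻¹) = ι ⁅c, (s : X)⁆ := by
        rw [map_mul, map_mul, map_inv, Subgroup.mem_center_iff.1 (hcen c hc s s.2), mul_inv_cancel_right]
      have h2 : ι (x * ⁅c, (s : X)⁆ * x⁻¹) = ⁅ι (⁅x, c⁆ * c), ι (x * s * x⁻¹)⁆ := by
        rw [← map_commutatorElement]; simp [commutatorElement_def, mul_assoc]
      rw [← h1, h2, map_mul, map_commutatorElement ι c, commutatorElement_mul_left_eq_conj_mul,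
        commutatorElement_eq_one_iff_commute.2 (Subgroup.mem_center_iff.1 hz _).symm, mul_one]
      rw [← Subgroup.mem_center_iff.1 hz, mul_inv_cancel_right]
    have hker : ⁅R, Subgroup.zpowers x⁆ ≤ f.ker.map R.subtype := by
      have hfy : ∀ y ∈ Subgroup.zpowers x, ∀ s : R, f (MulAut.conjNormal y s) = f s := by
        intro y hy
        let S : Subgroup X :=
          { carrier := {y | ∀ s : R, f (MulAut.conjNormal y s) = f s}
            one_mem' := fun s => by simp
            mul_mem' := fun {a b} ha hb s => by rw [map_mul, MulAut.mul_apply, ha, hb]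
            inv_mem' := fun {a} ha s => by
              conv_rhs => rw [show s = MulAut.conjNormal a (MulAut.conjNormal a⁻¹ s) by
                rw [← MulAut.mul_apply, ← map_mul]; simp]
              rw [ha] }
        exact (Subgroup.zpowers_le.2 (show x ∈ S from hfx)) hy
      rw [Subgroup.commutator_le]
      intro r hr y hy
      refine ⟨⟨r, hr⟩ * (MulAut.conjNormal y (⟨r, hr⟩ : R))⁻¹, ?_, by simp [commutatorElement_def, mul_assoc]⟩
      rw [SetLike.mem_coe, MonoidHom.mem_ker, map_mul, map_inv, hfy y hy, mul_inv_cancel]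
    rw [hRx] at hker
    refine (hCmem c).2 fun h => ?_
    have hall : R ⊔ Subgroup.zpowers x ≤
        (Subgroup.centralizer ({ι c} : Set (X ⧸ CharInt.charKernel hch))).comap ι := by
      refine sup_le (fun s hs => ?_) (Subgroup.zpowers_le.2 ?_)
      · obtain ⟨t, ht, ht'⟩ := hker hs
        have h1 : ι ⁅c, (t : X)⁆ = 1 := ht
        rw [map_commutatorElement, commutatorElement_eq_one_iff_commute,
          show (t : X) = s from ht'] at h1
        exact Subgroup.mem_centralizer_singleton_iff.2 h1.eq.symm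
      · rw [Subgroup.mem_comap, Subgroup.mem_centralizer_singleton_iff]
        -- `⁅c, x⁆` is central and its image has order dividing both `|R|` and a power of `p`
        have hzc : ι ⁅c, x⁆ ∈ Subgroup.center (X ⧸ CharInt.charKernel hch) := hcx
        have hpw : ∀ n : ℕ, ι ⁅c, x ^ n⁆ = ι ⁅c, x⁆ ^ n := by
          intro n
          induction n with
          | zero => simp
          | succ n ih =>
            rw [pow_succ' x, commutatorElement_mul_right_eq_mul_conj, map_mul, map_mul, map_mul, map_inv, ih,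
              mul_assoc (ι ⁅c, x⁆) (ι x), Subgroup.mem_center_iff.1 (Subgroup.pow_mem _ hzc n), ← mul_assoc,
              mul_inv_cancel_right, ← pow_succ']
        have h1 : ι ⁅c, x⁆ ^ p ^ (k + 1) = 1 := by
          rw [← hpw, ← hox, pow_orderOf_eq_one]; simp
        have h2 : orderOf (ι ⁅c, x⁆) ∣ Nat.card R := by
          have hmem : ⁅c, x⁆ ∈ R := by
            rw [commutatorElement_def, mul_assoc, mul_assoc, ← mul_assoc x]
            exact R.mul_mem hc (‹R.Normal›.conj_mem _ (R.inv_mem hc) x)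
          exact (orderOf_map_dvd ι _).trans (Subgroup.orderOf_dvd_natCard R hmem)
        have h3 : ι ⁅c, x⁆ = 1 := orderOf_eq_one_iff.1 (Nat.eq_one_of_dvd_coprimes
          (hcop.pow_right (k + 1)) h2 (orderOf_dvd_of_pow_eq_one h1))
        rw [map_commutatorElement, commutatorElement_eq_one_iff_commute] at h3
        exact h3.eq.symm
    have h4 := Subgroup.mem_centralizer_singleton_iff.1 (Subgroup.mem_comap.1 (hall (hgen ▸ Subgroup.mem_top h)))
    rw [← QuotientGroup.eq_one_iff, ← QuotientGroup.mk'_apply, map_commutatorElement]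
    exact commutatorElement_eq_one_iff_commute.2 h4
  -- the values on the cosets
  have hcoset : ∀ y ∈ Subgroup.zpowers x, x ∈ Subgroup.zpowers y ⊔ Subgroup.zpowers (x ^ p) →
      ∀ r : R, φ.1 ((r : X) * y) * conj (φ.1 ((r : X) * y)) = φ.1 y * conj (φ.1 y) := by
    intro y hy hxy r
    have hRn : ∀ t ∈ R, ⁅t, y⁆ ∈ R := fun t ht => by
      rw [commutatorElement_def, mul_assoc, mul_assoc, ← mul_assoc y]
      exact R.mul_mem ht (‹R.Normal›.conj_mem _ (R.inv_mem ht) y)
    let Rb : Subgroup (X ⧸ C) := R.map π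
    have hRb : ∀ t : Rb, ⁅(t : X ⧸ C), π y⁆ ∈ Rb := fun t => by
      obtain ⟨a, ha, hat⟩ := t.2
      exact ⟨⁅a, y⁆, hRn a ha, by rw [map_commutatorElement, hat]⟩
    have hab : ∀ a ∈ Rb, ∀ b ∈ Rb, Commute a b := by
      rintro _ ⟨a, ha, rfl⟩ _ ⟨b, hb, rfl⟩; exact hQab a ha b hb
    let g : Rb →* Rb :=
      { toFun := fun t => ⟨⁅(t : X ⧸ C), π y⁆, hRb t⟩
        map_one' := Subtype.ext (by simp)
        map_mul' := fun a b => Subtype.ext (by
          show ⁅(a : X ⧸ C) * b, π y⁆ = ⁅(a : X ⧸ C), π y⁆ * ⁅(b : X ⧸ C), π y⁆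
          rw [commutatorElement_mul_left_eq_conj_mul, (hab _ a.2 _ (hRb b)).eq, mul_inv_cancel_right,
            (hab _ (hRb b) _ (hRb a)).eq]) }
    have ginj : Function.Injective g := by
      rw [← MonoidHom.ker_eq_bot_iff, Subgroup.eq_bot_iff_forall]
      rintro ⟨-, c, hc, rfl⟩ ht
      refine Subtype.ext ((hπC c).2 (hkey c hc ?_))
      rw [← hπC, map_commutatorElement, commutatorElement_eq_one_iff_commute]
      have h1 : Commute (π c) (π y) := commutatorElement_eq_one_iff_commute.1 (congrArg Subtype.val ht)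
      have h2 : Subgroup.zpowers y ⊔ Subgroup.zpowers (x ^ p) ≤
          (Subgroup.centralizer ({π c} : Set (X ⧸ C))).comap π :=
        sup_le (Subgroup.zpowers_le.2 (Subgroup.mem_centralizer_singleton_iff.2 h1.eq.symm))
          (Subgroup.zpowers_le.2 (Subgroup.mem_centralizer_singleton_iff.2 (by
            rw [(hπC _).2 (hcenC hxpC), one_mul, mul_one])))
      exact (show Commute (π x) (π c) from Subgroup.mem_centralizer_singleton_iff.1 (h2 hxy)).symm
    obtain ⟨⟨_, s, hs, rfl⟩, hs'⟩ := (Finite.injective_iff_surjective.1 ginj) ⟨π r, r, r.2, rfl⟩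
    have hz : (r : X) * ⁅s, y⁆⁻¹ ∈ C := by
      have h1 : π ⁅s, y⁆ = π r := by rw [map_commutatorElement]; exact congrArg Subtype.val hs'
      rw [← hπC, map_mul, map_inv, h1, mul_inv_cancel]
    rw [show (r : X) * y = ((r : X) * ⁅s, y⁆⁻¹) * (s * y * s⁻¹) by
      simp [commutatorElement_def, mul_assoc], hfac _ hz, CharInt.char_conj_apply hch]
  -- the two sums
  set Y := Subgroup.zpowers x
  haveI : Fintype Y := Fintype.ofFinite Y
  have hdisj : ∀ g ∈ R, g ∈ Y → g = 1 := fun g hg hg' => orderOf_eq_one_iff.1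
    (Nat.eq_one_of_dvd_coprimes (hcop.pow_right (k + 1)) (Subgroup.orderOf_dvd_natCard R hg)
      (hox ▸ Nat.card_zpowers x ▸ Subgroup.orderOf_dvd_natCard Y hg'))
  have hbij : Function.Bijective (fun w : R × Y => (w.1 : X) * w.2) := by
    constructor
    · intro a b hab
      simp only at hab
      have h1 : (b.1 : X)⁻¹ * a.1 = 1 := hdisj _ (R.mul_mem (R.inv_mem b.1.2) a.1.2) (by
        rw [show (b.1 : X)⁻¹ * a.1 = b.2 * (a.2 : X)⁻¹ by
          rw [eq_mul_inv_iff_mul_eq, mul_assoc, hab, inv_mul_cancel_left]]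
        exact Y.mul_mem b.2.2 (Y.inv_mem a.2.2))
      rw [inv_mul_eq_one] at h1
      rw [← h1] at hab
      exact Prod.ext (Subtype.ext h1.symm) (Subtype.ext (mul_left_cancel hab))
    · intro g
      obtain ⟨r, hr, y, hy, h⟩ := Subgroup.mem_sup_of_normal_left.1 (hgen ▸ Subgroup.mem_top g : g ∈ R ⊔ Y)
      exact ⟨(⟨r, hr⟩, ⟨y, hy⟩), h⟩
  set a : X → ℂ := fun g => φ.1 g * conj (φ.1 g) with ha
  set Y0 : Finset Y := Finset.univ.filter fun y : Y => (y : X) ∈ Subgroup.zpowers (x ^ p) with hY0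
  have hY0card : Y0.card = p ^ k := by
    have h1 : orderOf (x ^ p) = p ^ k := by
      rw [orderOf_pow_of_dvd (Fact.out : p.Prime).ne_zero (hox ▸ dvd_pow_self p k.succ_ne_zero), hox,
        pow_succ, Nat.mul_div_cancel _ (Fact.out : p.Prime).pos]
    have hle : Subgroup.zpowers (x ^ p) ≤ Y := Subgroup.zpowers_le.2 (Y.pow_mem (Subgroup.mem_zpowers x) p)
    rw [← h1, ← Nat.card_zpowers, hY0, ← Fintype.card_subtype, ← Nat.card_eq_fintype_card]
    exact Nat.card_congr ⟨fun y => ⟨y.1.1, y.2⟩, fun w => ⟨⟨w.1, hle w.2⟩, w.2⟩, fun _ => rfl, fun _ => rfl⟩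
  have hin : ∀ y ∈ Y0, ∀ r : R, a ((r : X) * y) = (e : ℂ) * e * (θ.1 r * conj (θ.1 r)) := by
    intro y hy r
    have hyC : (y : X) ∈ C := hcenC ((Subgroup.zpowers_le.2 hxpC) (Finset.mem_filter.1 hy).2)
    show φ.1 ((r : X) * y) * conj (φ.1 ((r : X) * y)) = _
    rw [show (r : X) * y = (y : X) * (r : X) from Subgroup.mem_center_iff.1
      ((Subgroup.zpowers_le.2 hxpC) (Finset.mem_filter.1 hy).2) r, hfac _ hyC, hres, map_mul, map_natCast]
    ring
  have hout : ∀ y ∈ (Finset.univ \ Y0), ∀ r : R, a ((r : X) * y) = a (y : X) := by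
    intro y hy r
    refine hcoset y y.2 ?_ r
    obtain ⟨i, hi⟩ := mem_powers_iff_mem_zpowers.2 y.2
    simp only at hi
    have hpi : ¬ p ∣ i := by
      rintro ⟨j, rfl⟩
      exact (Finset.mem_sdiff.1 hy).2 (Finset.mem_filter.2 ⟨Finset.mem_univ _, by
        rw [← hi, pow_mul]; exact Subgroup.pow_mem _ (Subgroup.mem_zpowers _) j⟩)
    obtain ⟨m, hm⟩ := exists_pow_eq_self_of_coprime (x := x) (n := i)
      (hox ▸ Nat.Coprime.pow_right _ ((Fact.out : p.Prime).coprime_iff_not_dvd.2 hpi).symm)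
    refine Subgroup.mem_sup_left ?_
    have := Subgroup.pow_mem (Subgroup.zpowers (y : X)) (Subgroup.mem_zpowers _) m
    exact (show (y : X) ^ m = x by rw [← hi, hm]) ▸ this
  have hθn : ∑ r : R, θ.1 r * conj (θ.1 r) = Nat.card R := by
    have := classInner_irr_self θ.2
    rw [classInner, inv_mul_eq_iff_eq_mul₀ card_ne_zero, mul_one] at this
    exact this
  have hφn : ∑ g : X, a g = Nat.card X := by
    have := classInner_irr_self φ.2
    rw [classInner, inv_mul_eq_iff_eq_mul₀ card_ne_zero, mul_one] at this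
    exact this
  have hcardX : (Nat.card X : ℂ) = Nat.card R * (p : ℂ) ^ (k + 1) := by
    rw [← Nat.card_eq_of_bijective _ hbij, Nat.card_prod, show Nat.card Y = p ^ (k + 1) by
      rw [Nat.card_zpowers, hox]]
    push_cast; ring
  set A : ℂ := ∑ y ∈ Finset.univ \ Y0, a (y : X) with hA
  have e1 : (Nat.card R : ℂ) * ((p : ℂ) ^ k * (e * e) + A) = (Nat.card R : ℂ) * (p : ℂ) ^ (k + 1) := by
    rw [← hcardX, ← hφn, ← Equiv.sum_comp (Equiv.ofBijective _ hbij) a, Fintype.sum_prod_type,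
      Finset.sum_comm, ← Finset.sum_add_sum_compl Y0, Finset.compl_eq_univ_sdiff]
    simp only [Equiv.ofBijective_apply]
    rw [Finset.sum_congr rfl fun y hy => Finset.sum_congr rfl fun r _ => hin y hy r,
      Finset.sum_congr (s₁ := Finset.univ \ Y0) rfl fun y hy => Finset.sum_congr rfl fun r _ => hout y hy r]
    simp only [← Finset.mul_sum, hθn, Finset.sum_const, hY0card, Finset.card_univ, ← Nat.card_eq_fintype_card,
      nsmul_eq_mul, hA]
    push_cast; ring
  have e1' := mul_left_cancel₀ card_ne_zero e1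
  obtain ⟨N, hN⟩ := IsCharacter.exists_nat_classInner (IsCharacter.restrict hch Y) (IsCharacter.restrict hch Y)
  have e2 : (p : ℂ) ^ k * (e * e) * ((degree θ : ℂ) * degree θ) + A = (p : ℂ) ^ (k + 1) * N := by
    rw [← hN, classInner, show (Nat.card Y : ℂ) = (p : ℂ) ^ (k + 1) by rw [Nat.card_zpowers, hox]; push_cast; rfl,
      ← mul_assoc ((p : ℂ) ^ (k + 1)), mul_inv_cancel₀ (pow_ne_zero _ (Nat.cast_ne_zero.2 (Fact.out : p.Prime).ne_zero)), one_mul,
      ← Finset.sum_add_sum_compl Y0, Finset.compl_eq_univ_sdiff]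
    congr 1
    rw [Finset.sum_congr rfl (g := fun _ => (e : ℂ) * e * ((degree θ : ℂ) * degree θ)) fun y hy => ?_,
      Finset.sum_const, hY0card, nsmul_eq_mul]
    · push_cast; ring
    · have h1 := hin y hy 1
      rw [Subgroup.coe_one, one_mul, apply_one_eq_degree, map_natCast] at h1
      exact h1
  -- `e ^ 2 ≤ p`
  have hAre : 0 ≤ A.re := by
    rw [hA, Complex.re_sum]
    exact Finset.sum_nonneg fun y _ => by simp [ha, Complex.mul_conj, Complex.normSq_nonneg]
  have hle : e * e ≤ p := by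
    have h1 := congrArg Complex.re e1'
    rw [Complex.add_re, show ((p : ℂ) ^ k * (e * e)).re = ((p ^ k * (e * e) : ℕ) : ℝ) by
      rw [show (p : ℂ) ^ k * (e * e) = ((p ^ k * (e * e) : ℕ) : ℂ) by push_cast; ring, Complex.natCast_re],
      show ((p : ℂ) ^ (k + 1)).re = ((p ^ (k + 1) : ℕ) : ℝ) by
      rw [show (p : ℂ) ^ (k + 1) = ((p ^ (k + 1) : ℕ) : ℂ) by push_cast; ring, Complex.natCast_re]] at h1
    have h2 : p ^ k * (e * e) ≤ p ^ k * p := by
      rw [← pow_succ]
      exact_mod_cast (by linarith : ((p ^ k * (e * e) : ℕ) : ℝ) ≤ ((p ^ (k + 1) : ℕ) : ℝ))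
    exact Nat.le_of_mul_le_mul_left h2 (pow_pos (Fact.out : p.Prime).pos k)
  have e3 : p + e * e * (degree θ * degree θ) = e * e + p * N := by
    have h1 : (p : ℂ) ^ k * ((p : ℂ) + e * e * ((degree θ : ℂ) * degree θ)) =
        (p : ℂ) ^ k * ((e : ℂ) * e + p * N) := by linear_combination e2 - e1'
    have h2 := mul_left_cancel₀ (pow_ne_zero _ (Nat.cast_ne_zero.2 (Fact.out : p.Prime).ne_zero)) h1
    exact_mod_cast h2
  have e4 := congrArg (Nat.cast : ℕ → ZMod p) e3
  push_cast at e4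
  rw [ZMod.natCast_self, zero_add, zero_mul, add_zero] at e4
  have he0 : (e : ZMod p) ≠ 0 := by
    rw [Ne, ZMod.natCast_eq_zero_iff]
    intro hd
    have hp2 := (Fact.out : p.Prime).two_le
    have hpos : e ≠ 0 := fun h => hθ (by rw [he', h, Nat.cast_zero])
    have := Nat.le_of_dvd (Nat.pos_of_ne_zero hpos) hd
    nlinarith
  refine mul_left_cancel₀ (mul_ne_zero he0 he0) ?_
  linear_combination e4

end Count

section Reduce

variable {G : Type u} [Group G] [Finite G] (p : ℕ) [Fact p.Prime]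

/-- A `p`-solvable group with a non-normal Sylow `p`-subgroup has a `p`-element acting
nontrivially on a `q`-subgroup, `q ≠ p`. -/
theorem exists_noncentral_action (hs : IsPSolvable p G) (P : Sylow p G)
    (hP : ¬ (P : Subgroup G).Normal) :
    ∃ (q : ℕ) (R : Subgroup G) (x : G), q.Prime ∧ q ≠ p ∧ IsPGroup q R ∧ (∃ k, orderOf x = p ^ k) ∧
      x ∈ Subgroup.normalizer (R : Set G) ∧ ∃ r ∈ R, ¬ Commute x r := by
  haveI hO : (pCore p G).Normal := inferInstance
  set π := QuotientGroup.mk' (pCore p G) with hπ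
  set L := pPrimeCore p (G ⧸ pCore p G) with hL
  have hcen := PCore.centralizer_pPrimeCore_le (p := p) (PCore.isPSolvable_quotient hs (pCore p G))
    PCore.pCore_quotient_self_eq_bot
  rw [← hL] at hcen
  obtain ⟨y, hy, hyO⟩ : ∃ y ∈ (P : Subgroup G), y ∉ pCore p G := by
    by_contra! h
    exact hP (le_antisymm (PCore.pCore_le_sylow P) h ▸ hO)
  obtain ⟨i, hi⟩ := (IsPGroup.iff_orderOf (p := p)).1 P.2 ⟨y, hy⟩
  rw [Subgroup.orderOf_mk] at hi
  obtain ⟨j, -, hj⟩ := (Nat.dvd_prime_pow Fact.out).1 (hi ▸ orderOf_map_dvd π y)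
  have hAcop : (Nat.card (Subgroup.zpowers (π y))).Coprime (Nat.card L) := by
    rw [Nat.card_zpowers, hj]
    exact Nat.Coprime.pow_left j PCore.coprime_card_pPrimeCore.symm
  have hAn : Subgroup.zpowers (π y) ≤ Subgroup.normalizer (L : Set (G ⧸ pCore p G)) := by
    rw [Subgroup.normalizer_eq_top_iff.2 (by rw [hL]; infer_instance)]; exact le_top
  have hAsol : Group.IsSolvable (Subgroup.zpowers (π y)) := inferInstance
  have hnc : ¬ Subgroup.zpowers (π y) ≤ Subgroup.centralizer (L : Set (G ⧸ pCore p G)) := by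
    intro h
    refine hyO ((QuotientGroup.eq_one_iff y).1 (orderOf_eq_one_iff.1 ?_))
    refine Nat.eq_one_of_dvd_coprimes (PCore.coprime_card_pPrimeCore (p := p) (G := G ⧸ pCore p G)).symm
      ?_ (Subgroup.orderOf_dvd_natCard L (hcen (h (Subgroup.mem_zpowers _))))
    rw [show (y : G ⧸ pCore p G) = π y from rfl, hj]
    rcases j with _ | j
    · simp
    · exfalso
      have h1 := Subgroup.orderOf_dvd_natCard L (hcen (h (Subgroup.mem_zpowers (π y))))
      rw [hj] at h1
      exact (PCore.not_dvd_card_pPrimeCore (p := p)) ((dvd_pow_self p j.succ_ne_zero).trans h1)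
  obtain ⟨q, hq, Q, hQA, hQn⟩ : ∃ q, ∃ (_ : Fact q.Prime), ∃ Q : Sylow q L,
      Subgroup.zpowers (π y) ≤ Subgroup.normalizer (((Q : Subgroup L).map L.subtype : Subgroup _) : Set _) ∧
      ¬ Subgroup.zpowers (π y) ≤ Subgroup.centralizer (((Q : Subgroup L).map L.subtype : Subgroup _) : Set _) := by
    by_contra! hall
    refine hnc ?_
    have hle : L ≤ Subgroup.centralizer ((Subgroup.zpowers (π y) : Subgroup _) : Set _) := by
      intro l hl
      have key : (⊤ : Subgroup L) ≤ (Subgroup.centralizer ((Subgroup.zpowers (π y) : Subgroup _) : Set _)).subgroupOf L := by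
        refine le_of_eq (Subgroup.index_eq_one.1 ?_).symm
        by_contra hne
        obtain ⟨q, hq, hqd⟩ := Nat.exists_prime_and_dvd hne
        haveI := Fact.mk hq
        obtain ⟨Q, hQ⟩ := Coprime.exists_invariant_sylow hAn hAcop (Or.inl hAsol) q
        refine Q.not_dvd_index (hqd.trans (Subgroup.index_dvd_of_le fun t ht => ?_))
        exact Subgroup.mem_centralizer_iff.2 fun a ha =>
          (Subgroup.mem_centralizer_iff.1 (hall q ⟨hq⟩ Q hQ ha) (t : G ⧸ pCore p G) ⟨t, ht, rfl⟩).symm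
      exact key (Subgroup.mem_top ⟨l, hl⟩)
    exact Subgroup.le_centralizer_iff.1 hle
  haveI := hq
  set Qb := (Q : Subgroup L).map L.subtype with hQb
  have hqp : q ≠ p := by
    rintro rfl
    refine hQn fun a ha => ?_
    have : Qb = ⊥ := by
      rw [hQb, Subgroup.map_eq_bot_iff_of_injective _ L.subtype_injective, ← Subgroup.card_eq_one,
        Q.card_eq_multiplicity, Nat.factorization_eq_zero_of_not_dvd (PCore.not_dvd_card_pPrimeCore (p := q)),
        pow_zero]
    rw [this]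
    exact Subgroup.mem_centralizer_iff.2 fun t ht => by rw [Subgroup.mem_bot.1 ht, one_mul, mul_one]
  set H := Qb.comap π with hH
  have hOH : pCore p G ≤ H := fun o ho => by
    rw [hH, Subgroup.mem_comap, hπ, QuotientGroup.mk'_apply, (QuotientGroup.eq_one_iff o).2 ho]
    exact Subgroup.one_mem _
  have hxH : ∀ g : G, π g ∈ Subgroup.normalizer (Qb : Set _) → g ∈ Subgroup.normalizer (H : Set G) :=
    fun g hg => Subgroup.mem_normalizer_iff.2 fun h => by
      simp only [hH, Subgroup.mem_comap, map_mul, map_inv]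
      exact Subgroup.mem_normalizer_iff.1 hg (π h)
  let R0 : Sylow q H := default
  set R := (R0 : Subgroup H).map H.subtype with hR
  obtain ⟨s, hs⟩ := (Q.2.map L.subtype).exists_card_eq
  have hmapR : R.map π = Qb := by
    have hle : R.map π ≤ Qb := by
      rw [hR]; rintro _ ⟨_, ⟨t, -, rfl⟩, rfl⟩; exact t.2
    refine Subgroup.eq_of_le_of_card_ge hle ?_
    -- the Sylow subgroup of `H` maps onto `Qb`
    let f : H →* Qb := π.subgroupComap Qb
    have hf : Function.Surjective f := by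
      rintro ⟨w, hw⟩
      obtain ⟨g, rfl⟩ := QuotientGroup.mk'_surjective (pCore p G) w
      exact ⟨⟨g, hw⟩, rfl⟩
    have hcs : Nat.card ((R0 : Subgroup H).map f) = Nat.card Qb := by
      have h := Sylow.coe_mapSurjective hf R0
      rw [← h, (Sylow.mapSurjective hf R0).card_eq_multiplicity]
      rw [show Nat.card Qb = q ^ s from hs, hq.out.factorization_pow, Finsupp.single_eq_same]
    rw [← hcs, ← Subgroup.card_map_of_injective Qb.subtype_injective]
    refine le_of_eq (congrArg (fun S : Subgroup _ => Nat.card S) ?_)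
    rw [hR, Subgroup.map_map, Subgroup.map_map]
    rfl
  -- Frattini
  obtain ⟨o, ho, hg⟩ : ∃ o ∈ pCore p G, o * y ∈ Subgroup.normalizer (R : Set G) := by
    obtain ⟨h, hh, hh'⟩ := Coprime.exists_mem_conj_sylow_eq R0 (a := y) (hxH y (hQA (Subgroup.mem_zpowers _)))
    rw [← hR] at hh'
    have hsplit : π h ∈ R.map π := by rw [hmapR]; exact hh
    obtain ⟨r, hr, hrh⟩ := hsplit
    have ho' : h * r⁻¹ ∈ pCore p G := by
      rw [← QuotientGroup.eq_one_iff, ← QuotientGroup.mk'_apply, map_mul, map_inv, ← hπ, hrh, mul_inv_cancel]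
    have hrR : MulAut.conj r • R = R :=
      Coprime.conj_smul_eq_self_of_mem (Subgroup.le_normalizer hr)
    have h2 : MulAut.conj (h * r⁻¹) • R = MulAut.conj y • R := by
      rw [← hh']
      conv_rhs => rw [show h = h * r⁻¹ * r by group, ← Coprime.conj_smul_smul, hrR]
    refine ⟨(h * r⁻¹)⁻¹, (pCore p G).inv_mem ho', Coprime.mem_normalizer_of_conj_smul_eq ?_⟩
    rw [← Coprime.conj_smul_smul, ← h2, Coprime.conj_smul_smul, inv_mul_cancel, map_one, one_smul]
  refine ⟨q, R, o * y, hq.out, hqp, R0.2.map H.subtype, ?_, hg, ?_⟩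
  · have hm : o * y ∈ pCore p G ⊔ Subgroup.zpowers y := Subgroup.mul_mem_sup ho (Subgroup.mem_zpowers y)
    have hgp : IsPGroup p (pCore p G ⊔ Subgroup.zpowers y : Subgroup G) :=
      (PCore.isPGroup_pCore (p := p)).to_sup_of_normal_left (IsPGroup.of_card (n := i) (by rw [Nat.card_zpowers, hi]))
    obtain ⟨l, hl⟩ := (IsPGroup.iff_orderOf (p := p)).1 hgp ⟨_, hm⟩
    exact ⟨l, by rwa [Subgroup.orderOf_mk] at hl⟩
  · by_contra! hall
    refine hQn (Subgroup.zpowers_le.2 (Subgroup.mem_centralizer_iff.2 fun t ht => ?_))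
    have ht' : t ∈ R.map π := by rw [hmapR]; exact ht
    obtain ⟨r, hr, rfl⟩ := ht'
    have h1 := ((hall r hr).map π).eq.symm
    rwa [map_mul, show π o = 1 from (QuotientGroup.eq_one_iff o).2 ho, one_mul] at h1

/-- Passing to a minimal configuration: `[R, x] = R`, class at most `2`, `x ^ p` central. -/
theorem exists_reduced_action {q : ℕ} [Fact q.Prime] (hqp : q ≠ p) {R₀ : Subgroup G}
    (hR₀ : IsPGroup q R₀) {x₀ : G} (hx₀ : ∃ k, orderOf x₀ = p ^ k)
    (hn₀ : x₀ ∈ Subgroup.normalizer (R₀ : Set G)) (hne : ∃ r ∈ R₀, ¬ Commute x₀ r) :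
    ∃ (R : Subgroup G) (x : G) (k : ℕ), R ≤ R₀ ∧ x ∈ Subgroup.zpowers x₀ ∧ orderOf x = p ^ (k + 1) ∧
      x ∈ Subgroup.normalizer (R : Set G) ∧ (∀ r ∈ R, Commute (x ^ p) r) ∧
      ⁅R, Subgroup.zpowers x⁆ = R ∧ (∃ r ∈ R, ¬ Commute x r) ∧
      ∀ r ∈ R, ∀ s ∈ R, Commute x ⁅r, s⁆ ∧ ∀ t ∈ R, Commute t ⁅r, s⁆ := by
  obtain ⟨K, hK⟩ := hx₀
  -- the last power not centralising `R₀`
  obtain ⟨j, hj1, hj2⟩ : ∃ j, (∃ r ∈ R₀, ¬ Commute (x₀ ^ p ^ j) r) ∧
      ∀ r ∈ R₀, Commute (x₀ ^ p ^ (j + 1)) r := by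
    by_contra! hcon
    have : ∀ j, ∃ r ∈ R₀, ¬ Commute (x₀ ^ p ^ j) r := by
      intro j
      induction j with
      | zero => simpa using hne
      | succ j ih => exact hcon j ih
    obtain ⟨r, -, hr⟩ := this K
    rw [← hK, pow_orderOf_eq_one] at hr
    exact hr (Commute.one_left r)
  set x := x₀ ^ p ^ j with hx
  have hxp : ∀ r ∈ R₀, Commute (x ^ p) r := fun r hr => by
    rw [hx, ← pow_mul, ← pow_succ]; exact hj2 r hr
  obtain ⟨R, ⟨hle, hxn, hRne⟩, hmin⟩ := (Set.toFinite {R : Subgroup G | R ≤ R₀ ∧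
    x ∈ Subgroup.normalizer (R : Set G) ∧ ∃ r ∈ R, ¬ Commute x r}).exists_minimal
    ⟨R₀, le_rfl, Subgroup.pow_mem _ hn₀ _, hj1⟩
  have hsmall : ∀ S : Subgroup G, S ≤ R → x ∈ Subgroup.normalizer (S : Set G) → S ≠ R →
      ∀ s ∈ S, Commute x s := by
    intro S hS hSn hSne s hs
    by_contra hc
    exact hSne (le_antisymm hS (hmin ⟨hS.trans hle, hSn, s, hs, hc⟩ hS))
  have hRq : IsPGroup q R := hR₀.to_le hle
  have hAn : Subgroup.zpowers x ≤ Subgroup.normalizer (R : Set G) := Subgroup.zpowers_le.2 hxn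
  obtain ⟨i, -, hi⟩ := (Nat.dvd_prime_pow Fact.out).1 (hK ▸ orderOf_pow_dvd (x := x₀) (p ^ j))
  rw [← hx] at hi
  have hcop : (Nat.card (Subgroup.zpowers x)).Coprime (Nat.card R) := by
    obtain ⟨m, hm⟩ := hRq.exists_card_eq
    rw [Nat.card_zpowers, hi, hm]
    exact Nat.Coprime.pow i m ((Nat.coprime_primes Fact.out Fact.out).2 hqp.symm)
  have hx1 : x ≠ 1 := fun h => by
    obtain ⟨r, -, hr⟩ := hRne
    exact hr (h ▸ Commute.one_left r)
  obtain ⟨k, rfl⟩ : ∃ k, i = k + 1 := ⟨i - 1, by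
    rcases i with _ | i
    · exact absurd (orderOf_eq_one_iff.1 hi) hx1
    · rfl⟩
  have hnR : ∀ a ∈ R, x * a * x⁻¹ ∈ R := fun a ha => (Subgroup.mem_normalizer_iff.1 hxn a).1 ha
  have hRx : ⁅R, Subgroup.zpowers x⁆ = R := by
    by_contra hne'
    have hle' := Coprime.commutator_le_left_of_le_normalizer hAn
    have hn' : x ∈ Subgroup.normalizer ((⁅R, Subgroup.zpowers x⁆ : Subgroup G) : Set G) :=
      Subgroup.normalizer_commutator_ge_right R _ (Subgroup.mem_zpowers x)
    have hc := hsmall _ hle' hn' hne'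
    obtain ⟨r, hr, hr'⟩ := hRne
    have := Coprime.le_centralizer_of_commutator_le_centralizer hAn hcop (Or.inl inferInstance)
      (Subgroup.zpowers_le.2 (Subgroup.mem_centralizer_iff.2 fun t ht => (hc t ht).eq.symm))
      (Subgroup.mem_zpowers x)
    exact hr' (Subgroup.mem_centralizer_iff.1 this r hr).symm
  refine ⟨R, x, k, hle, Subgroup.pow_mem _ (Subgroup.mem_zpowers x₀) _, hi, hxn,
    fun r hr => hxp r (hle hr), hRx, hRne, ?_⟩
  have hdle : ⁅R, R⁆ ≤ R := Subgroup.commutator_le.2 fun a ha b hb => by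
    rw [commutatorElement_def]
    exact R.mul_mem (R.mul_mem (R.mul_mem ha hb) (R.inv_mem ha)) (R.inv_mem hb)
  have hdn : x ∈ Subgroup.normalizer ((⁅R, R⁆ : Subgroup G) : Set G) := by
    refine Coprime.mem_normalizer_of_conj_smul_eq ?_
    show Subgroup.map (MulAut.conj x).toMonoidHom ⁅R, R⁆ = _
    rw [Subgroup.map_commutator, show Subgroup.map (MulAut.conj x).toMonoidHom R = R from
      Coprime.conj_smul_eq_self_of_mem hxn]
  have hdne : ⁅R, R⁆ ≠ R := by
    intro h
    haveI := hRq.isNilpotent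
    haveI : Nontrivial R := by
      obtain ⟨r, hr, hr'⟩ := hRne
      exact ⟨⟨r, hr⟩, 1, fun e => hr' (by rw [show r = 1 from congrArg Subtype.val e]; exact Commute.one_right x)⟩
    have hlt := Group.IsSolvable.commutator_lt_top_of_nontrivial R
    refine hlt.ne (Subgroup.map_injective R.subtype_injective ?_)
    rw [commutator_def, Subgroup.map_commutator, ← MonoidHom.range_eq_map, Subgroup.range_subtype, h]
  have hdc := hsmall _ hdle hdn hdne
  intro r hr s hs
  have hm : ⁅r, s⁆ ∈ ⁅R, R⁆ := Subgroup.commutator_mem_commutator hr hs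
  refine ⟨hdc _ hm, fun t ht => ?_⟩
  -- the centraliser of `⁅r, s⁆` contains the generators of `⁅R, x⁆`
  set w := ⁅r, s⁆ with hw
  have hle2 : ⁅R, Subgroup.zpowers x⁆ ≤ Subgroup.centralizer ({w} : Set G) := by
    rw [Subgroup.commutator_le]
    intro a ha u hu
    have hfix : ∀ m ∈ ⁅R, R⁆, Commute u m := fun m hm' => by
      obtain ⟨z, rfl⟩ := Subgroup.mem_zpowers_iff.1 hu
      exact (hdc m hm').zpow_left z
    have ha' := R.inv_mem ha
    have hu' : u * a⁻¹ * u⁻¹ ∈ R := (Subgroup.mem_normalizer_iff.1 (hAn hu) _).1 ha'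
    have h1 : u * ⁅w, a⁻¹⁆ * u⁻¹ = ⁅w, a⁻¹⁆ := mul_inv_eq_iff_eq_mul.2
      (hfix _ (Subgroup.commutator_mem_commutator (hdle hm) ha')).eq
    have h2 : u * ⁅w, a⁻¹⁆ * u⁻¹ = ⁅w, u * a⁻¹ * u⁻¹⁆ := by
      rw [show u * ⁅w, a⁻¹⁆ * u⁻¹ = MulAut.conj u ⁅w, a⁻¹⁆ from rfl, map_commutatorElement,
        MulAut.conj_apply, MulAut.conj_apply, mul_inv_eq_iff_eq_mul.2 (hfix w hm).eq]
    rw [h1, commutatorElement_def, commutatorElement_def] at h2
    -- `w a⁻¹ w⁻¹ a = w b w⁻¹ b⁻¹` with `b = u a⁻¹ u⁻¹`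
    rw [Subgroup.mem_centralizer_singleton_iff, show ⁅a, u⁆ = a * (u * a⁻¹ * u⁻¹) by
      simp [commutatorElement_def, mul_assoc]]
    generalize u * a⁻¹ * u⁻¹ = b at h2 ⊢
    have h3 : a⁻¹ * w⁻¹ * a⁻¹⁻¹ = b * w⁻¹ * b⁻¹ := by
      simpa [mul_assoc] using h2
    calc a * b * w = a * (b * w⁻¹ * b⁻¹)⁻¹ * b := by group
      _ = a * (a⁻¹ * w⁻¹ * a⁻¹⁻¹)⁻¹ * b := by rw [h3]
      _ = w * (a * b) := by group
  rw [hRx] at hle2
  exact Subgroup.mem_centralizer_singleton_iff.1 (hle2 ht)

end Reduce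

end Cfsg.Agent.Char
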