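import Cfsg.Agent.Lib.Clifford.CoprimeExtension
import Cfsg.Agent.Lib.Char.RationalBound
import Cfsg.Agent.Lib.Coprime.Basic

/-!
# A rational character of a `p`-group acting on a `p'`-group with a character

If `K ⊴ X` is a `p'`-group, `X = K P` with a `p`-group `P` and `χ` is a character of `X` faithful
on `K`, then `X` has a character of degree at most `χ(1)`, faithful on `K`, with rational values
on `P`.
-/

set_option autoImplicit false
set_option linter.unusedSectionVars false
set_option linter.style.haveILetI false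

namespace Cfsg.Agent.Char

open Clifford

universe u

variable {X : Type u} [Group X]

/-- The determinant of a Galois twist. -/
theorem detChar_map [Finite X] (f : ℂ →+* ℂ) (ψ ψ' : IrrCharacter X)
    (h : ∀ g, ψ'.1 g = f (ψ.1 g)) (g : X) : detChar ψ' g = f (detChar ψ g) := by
  obtain ⟨d, σ, hσ, hσχ⟩ := ψ.2
  let b := Pi.basisFun ℂ (Fin d)
  let τ : Representation ℂ X (Fin d → ℂ) :=
    (Matrix.toLinAlgEquiv b).toAlgHom.toMonoidHom.comp
      ((f.mapMatrix.toMonoidHom).comp
        ((LinearMap.toMatrixAlgEquiv b).toAlgHom.toMonoidHom.comp σ))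
  have hmat : ∀ x, LinearMap.toMatrix b b (τ x) = f.mapMatrix (LinearMap.toMatrix b b (σ x)) :=
    fun x => LinearMap.toMatrixAlgEquiv_toLinAlgEquiv b _
  have hτ : τ.character = ψ'.1 := by
    funext x
    rw [h, ← congrFun hσχ x]
    simp only [Representation.character, LinearMap.trace_eq_matrix_trace ℂ b, hmat]
    exact (AddMonoidHom.map_trace f.toAddMonoidHom _).symm
  rw [detChar_eq ψ' τ hτ g, detChar_eq ψ σ hσχ g, ← LinearMap.det_toMatrix b,
    ← LinearMap.det_toMatrix b (σ g), hmat, RingHom.map_det]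

/-- A character value reaching the degree in a sum does so in every summand. -/
theorem eq_of_sum_eq {ι : Type*} (s : Finset ι) (F : ι → X → ℂ)
    (hF : ∀ i ∈ s, IsCharacter X (F i)) [Finite X] {g : X}
    (h : ∑ i ∈ s, F i g = ∑ i ∈ s, F i 1) : ∀ i ∈ s, F i g = F i 1 := by
  have hle : ∀ i ∈ s, (F i g).re ≤ (F i 1).re := fun i hi => by
    obtain ⟨a, ha⟩ := IsCharacter.apply_one (hF i hi)
    refine (Complex.re_le_norm _).trans ((CharInt.norm_char_le (hF i hi) g).trans_eq ?_)
    rw [ha, Complex.norm_natCast, Complex.natCast_re]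
  have heq := (Finset.sum_eq_sum_iff_of_le hle).1
    (by rw [← Complex.re_sum, ← Complex.re_sum, h])
  intro i hi
  obtain ⟨a, ha⟩ := IsCharacter.apply_one (hF i hi)
  have hn := CharInt.norm_char_le (hF i hi) g
  have hr : ‖F i g‖ = (F i g).re := by
    refine le_antisymm (hn.trans_eq ?_) (Complex.re_le_norm _)
    rw [heq i hi, ha, Complex.norm_natCast, Complex.natCast_re]
  refine Complex.ext (heq i hi) ?_
  rw [ha, Complex.natCast_im]
  have h2 := Complex.sq_norm (F i g)
  rw [hr, Complex.normSq_apply] at h2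
  nlinarith [sq_nonneg (F i g).im]

variable [Fintype X] (K : Subgroup X) [K.Normal]

/-- Galois endomorphisms fixing the `|K|`-th roots of unity fix the canonical extensions; the
characters they induce. -/
theorem exists_galois_fixed_over [Fintype K] (hco : K.index.Coprime (Nat.card K))
    (θ : IrrCharacter K) :
    ∃ Φ : IrrCharacter X, resFun K Φ.1 = orbitSum K θ ∧
      ∀ f : ℂ →+* ℂ, (∀ z : ℂ, z ^ Nat.card K = 1 → f z = z) → ∀ g, f (Φ.1 g) = Φ.1 g := by
  classical
  haveI : Fintype (inertia K θ.1) := Fintype.ofFinite _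
  set T := inertia K θ.1
  have hKT : K ≤ T := irr_le_inertia K θ
  haveI := Fintype.ofFinite (K.subgroupOf T)
  set e : ↥(K.subgroupOf T) ≃* ↥K := Subgroup.subgroupOfEquivOfLe hKT with he
  let θ' : IrrCharacter (K.subgroupOf T) :=
    ⟨fun x => θ.1 (e x), IsIrrCharacter.comp_surjective θ.2 e.toMonoidHom e.surjective⟩
  have hinv' : ∀ g : T, conjFun (K.subgroupOf T) θ'.1 g = θ'.1 := fun g => funext fun x => by
    refine Eq.trans ?_ (congrFun ((mem_inertia K).1 g.2) (e x))
    exact congrArg θ.1 (Subtype.ext (by simp [e, Subgroup.subgroupOfEquivOfLe]))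
  have hco' : (K.subgroupOf T).index.Coprime (Nat.card (K.subgroupOf T)) := by
    rw [Nat.card_congr e.toEquiv]
    exact hco.coprime_dvd_left (K.relIndex_dvd_index_of_normal T)
  obtain ⟨ψ, ⟨hψ, hψdet⟩, huniq⟩ := existsUnique_extension_of_coprime_card θ' hinv' hco'
  have hres : ∀ n : K, ψ.1 (Subgroup.inclusion hKT n) = θ.1 n := fun n => by
    refine (hψ (e.symm n)).trans ?_
    exact congrArg θ.1 (e.apply_symm_apply n)
  have hres' : resIncl K hKT ψ.1 = θ.1 := funext hres
  have hne : classInner (resIncl K hKT ψ.1) θ.1 ≠ 0 := by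
    rw [hres', classInner_irr_self θ.2]; exact one_ne_zero
  refine ⟨cliffordInduce K θ ⟨ψ, hne⟩, ?_, fun f hf g => ?_⟩
  · have h1 : classInner (resFun K (cliffordInduce K θ ⟨ψ, hne⟩).1) θ.1 = 1 := by
      rw [classInner_resFun_cliffordInduce, hres', classInner_irr_self θ.2]
    rw [resFun_eq_smul_orbitSum K _ θ (by rw [h1]; exact one_ne_zero), h1, one_smul]
  · let ψf : IrrCharacter T := ⟨fun t => f (ψ.1 t), CharInt.isIrrCharacter_map ψ.2 f⟩
    have hfix : ψf = ψ := by
      refine huniq ψf ⟨fun n => ?_, fun t => ?_⟩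
      · show f (ψ.1 n) = θ'.1 n
        rw [hψ]
        show f (θ.1 (e n)) = θ.1 (e n)
        rw [CharInt.map_char_eq_pow (irr_isCharacter θ) (k := 1)
          (fun z hz => by rw [pow_one]; exact hf z hz), pow_one]
      · rw [detChar_map f ψ ψf (fun _ => rfl), ← map_pow, hψdet, map_one]
    have hval : ∀ t : T, f (ψ.1 t) = ψ.1 t := fun t =>
      congrFun (congrArg Subtype.val hfix) t
    rw [cliffordInduce_coe, indFun, map_mul, map_inv₀, map_natCast, map_sum]
    refine congrArg _ (Finset.sum_congr rfl fun x _ => ?_)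
    by_cases hx : x⁻¹ * g * x ∈ T
    · rw [extendByZero_of_mem T _ hx, hval]
    · rw [extendByZero_of_notMem T _ hx, map_zero]

theorem orbitFinset_eq_of_mem [Fintype K] {θ η : IrrCharacter K} (h : η ∈ orbitFinset K θ) :
    orbitFinset K η = orbitFinset K θ := by
  obtain ⟨a, rfl⟩ := (mem_orbitFinset K).1 h
  ext η'
  rw [mem_orbitFinset, mem_orbitFinset]
  constructor
  · rintro ⟨b, rfl⟩
    exact ⟨a * b, Subtype.ext (by simp only [conjChar_coe]; rw [conjFun_mul])⟩
  · rintro ⟨b, rfl⟩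
    exact ⟨a⁻¹ * b, Subtype.ext (by
      simp only [conjChar_coe]
      rw [← conjFun_mul, mul_inv_cancel_left])⟩

theorem self_mem_orbitFinset [Fintype K] (θ : IrrCharacter K) : θ ∈ orbitFinset K θ :=
  (mem_orbitFinset K).2 ⟨1, Subtype.ext (by rw [conjChar_coe, conjFun_one])⟩

/-- The rational character. -/
theorem exists_rational_character {p : ℕ} (hp : p.Prime) (P : Subgroup X) (hP : IsPGroup p P)
    (hK : (Nat.card K).Coprime p) (hX : P ⊔ K = ⊤) {χ : X → ℂ} (hχ : IsCharacter X χ)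
    (hf : ∀ k ∈ K, χ k = χ 1 → k = 1) {n : ℕ} (hn : χ 1 = n) :
    ∃ (Ψ : X → ℂ) (d : ℕ), IsCharacter X Ψ ∧ Ψ 1 = d ∧ d ≤ n ∧
      (∀ g ∈ P, ∃ z : ℤ, Ψ g = z) ∧ ∀ k ∈ K, Ψ k = Ψ 1 → k = 1 := by
  classical
  haveI : Fact p.Prime := ⟨hp⟩
  haveI := Fintype.ofFinite K
  obtain ⟨e, he⟩ := IsPGroup.iff_card.1 hP
  have hcoPK : (Nat.card P).Coprime (Nat.card K) := he ▸ (hK.symm.pow_left e)
  have hnorm : P ≤ Subgroup.normalizer (K : Set X) := by
    rw [Subgroup.normalizer_eq_top]; exact le_top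
  have hcard : Nat.card X = Nat.card P * Nat.card K := by
    rw [← Coprime.card_sup_of_le_normalizer hnorm (Coprime.disjoint_of_coprime_card hcoPK), hX,
      Subgroup.card_top]
  have hco : K.index.Coprime (Nat.card K) := by
    have h1 := Subgroup.card_mul_index K
    rw [hcard, mul_comm (Nat.card P)] at h1
    rw [Nat.eq_of_mul_eq_mul_left Nat.card_pos h1]
    exact hcoPK
  obtain ⟨m, hm, hm'⟩ := IsCharacter.exists_decomp (IsCharacter.restrict hχ K)
  have hχK : ∀ k : K, χ k = ∑ η, (m η : ℂ) * η.1 k := fun k => by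
    have := congrFun hm k
    simpa using this
  set S : Finset (IrrCharacter K) := Finset.univ.filter fun η => m η ≠ 0 with hS
  have hinv : ∀ θ ∈ S, ∀ η ∈ orbitFinset K θ, η ∈ S := fun θ hθ η hη => by
    obtain ⟨a, rfl⟩ := (mem_orbitFinset K).1 hη
    have h1 := classInner_resFun_conjFun K (IsCharacter.isClassFunction hχ) θ.1 a
    rw [← conjChar_coe] at h1
    have h2 : (m (conjChar K θ a) : ℂ) = m θ := by
      rw [← hm', ← hm']
      exact h1
    rw [hS, Finset.mem_filter] at hθ ⊢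
    exact ⟨Finset.mem_univ _, by rw [Nat.cast_inj.1 h2]; exact hθ.2⟩
  choose Φ hΦres hΦfix using exists_galois_fixed_over K hco
  -- representatives of the orbits
  let rep : Finset (IrrCharacter K) → IrrCharacter K := fun O =>
    if h : O.Nonempty then h.choose else trivialChar K
  have hrep : ∀ θ, rep (orbitFinset K θ) ∈ orbitFinset K θ := fun θ => by
    have h : (orbitFinset K θ).Nonempty := ⟨θ, self_mem_orbitFinset K θ⟩
    show dite _ _ _ ∈ _
    rw [dif_pos h]
    exact h.choose_spec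
  let r : IrrCharacter K → IrrCharacter K := fun θ => rep (orbitFinset K θ)
  let R := S.image r
  set Ψ : X → ℂ := ∑ θ ∈ R, (Φ θ).1 with hΨdef
  have hΨ : IsCharacter X Ψ := IsCharacter.sum R fun θ _ => irr_isCharacter _
  have hfib : ∀ θ ∈ R, S.filter (fun η => r η = θ) = orbitFinset K θ := fun θ hθ => by
    obtain ⟨θ₀, hθ₀, rfl⟩ := Finset.mem_image.1 hθ
    ext η
    rw [Finset.mem_filter, orbitFinset_eq_of_mem K (hrep θ₀)]
    constructor
    · rintro ⟨-, hη⟩
      have h1 := orbitFinset_eq_of_mem K (hrep η)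
      change rep (orbitFinset K η) = rep (orbitFinset K θ₀) at hη
      rw [hη, orbitFinset_eq_of_mem K (hrep θ₀)] at h1
      rw [h1]
      exact self_mem_orbitFinset K η
    · intro hη
      exact ⟨hinv θ₀ hθ₀ η hη, congrArg rep (orbitFinset_eq_of_mem K hη)⟩
  have hΨK : ∀ k : K, Ψ k = ∑ η ∈ S, η.1 k := fun k => by
    rw [← Finset.sum_fiberwise_of_maps_to (g := r) (t := R)
      (fun η hη => Finset.mem_image_of_mem r hη), hΨdef, Finset.sum_apply]
    refine Finset.sum_congr rfl fun θ hθ => ?_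
    rw [hfib θ hθ, ← resFun_apply K (Φ θ).1 k, hΦres, orbitSum, Finset.sum_apply]
  obtain ⟨d, hd⟩ := IsCharacter.apply_one hΨ
  refine ⟨Ψ, d, hΨ, hd, ?_, fun g hg => ?_, fun k hk hk1 => ?_⟩
  · have h1 : d = ∑ η ∈ S, degree η := by
      have := hΨK 1
      rw [Subgroup.coe_one, hd, Finset.sum_congr rfl fun η _ => apply_one_eq_degree η] at this
      exact_mod_cast this
    have h2 : n = ∑ η, m η * degree η := by
      have := hχK 1
      rw [Subgroup.coe_one, hn,
        Finset.sum_congr rfl fun η _ => by rw [apply_one_eq_degree η, ← Nat.cast_mul]] at this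
      exact_mod_cast this
    rw [h1, h2]
    refine le_trans (Finset.sum_le_sum fun η hη => ?_)
      (Finset.sum_le_univ_sum_of_nonneg fun _ => Nat.zero_le _)
    exact Nat.le_mul_of_pos_left _ (Nat.pos_of_ne_zero (Finset.mem_filter.1 hη).2)
  · have hg' : IsCharacter P (fun x => Ψ x) := IsCharacter.restrict hΨ P
    refine exists_int_of_forall_pow hg' ⟨g, hg⟩ fun k hk => ?_
    obtain ⟨k₁, hk₁, hk₁'⟩ := CharInt.exists_coprime_pow_eq (⟨g, hg⟩ : P) hk
    obtain ⟨k', hkP, hkK⟩ := Nat.chineseRemainder hcoPK k₁ 1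
    have hk' : k'.Coprime (Nat.card X) := by
      rw [hcard]
      refine Nat.Coprime.mul_right ?_ ?_
      · rw [Nat.coprime_iff_gcd_eq_one, hkP.gcd_eq, ← Nat.coprime_iff_gcd_eq_one]
        exact hk₁
      · rw [Nat.coprime_iff_gcd_eq_one, hkK.gcd_eq, Nat.gcd_one_left]
    obtain ⟨f, hf'⟩ := CharInt.exists_ringHom_pow Nat.card_pos.ne' hk'
    have hfK : ∀ z : ℂ, z ^ Nat.card K = 1 → f z = z := fun z hz => by
      rw [hf' z (by rw [hcard, mul_comm, pow_mul, hz, one_pow])]
      rw [pow_eq_pow_mod k' hz, hkK, ← pow_eq_pow_mod 1 hz, pow_one]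
    show Ψ ((⟨g, hg⟩ : P) ^ k : P) = Ψ g
    rw [← hk₁']
    have hpow : (⟨g, hg⟩ : P) ^ k₁ = (⟨g, hg⟩ : P) ^ k' := by
      rw [pow_eq_pow_iff_modEq]
      exact (hkP.of_dvd (orderOf_dvd_natCard _)).symm
    rw [hpow, SubgroupClass.coe_pow, hΨdef, Finset.sum_apply, Finset.sum_apply]
    refine Finset.sum_congr rfl fun θ _ => ?_
    rw [← CharInt.map_char_eq_pow (irr_isCharacter (Φ θ)) hf' g, hΦfix θ f hfK g]
  · refine hf k hk ?_
    have hk2 : ∑ η ∈ S, η.1 ⟨k, hk⟩ = ∑ η ∈ S, η.1 1 := by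
      rw [← hΨK, ← hΨK, Subgroup.coe_one]
      exact hk1
    have h3 := eq_of_sum_eq S (fun η => η.1) (fun η _ => irr_isCharacter η) hk2
    rw [show χ k = χ ((⟨k, hk⟩ : K) : X) from rfl, hχK, ← Subgroup.coe_one K, hχK]
    refine Finset.sum_congr rfl fun η _ => ?_
    by_cases h0 : m η = 0
    · rw [h0, Nat.cast_zero, zero_mul, zero_mul]
    · rw [h3 η (Finset.mem_filter.2 ⟨Finset.mem_univ _, h0⟩)]

end Cfsg.Agent.Char
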