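import Cfsg.Agent.Lib.Char.TwoDegrees
import Cfsg.Agent.Lib.Char.Ito
import Cfsg.Agent.Lib.PGroup.Basic

/-!
# Groups whose degrees are `1` and a prime

* `sq_degree_le_index_center`;
* `exists_abelian_index_or_center_index`: a group with degrees `{1, p}` has an abelian normal
  subgroup of index `p` or centre of index `p ^ 3`.
-/

set_option autoImplicit false
set_option linter.style.haveILetI false
set_option linter.unusedSectionVars false

open scoped Classical ComplexConjugate commutatorElement IsMulCommutative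

namespace Cfsg.Agent.Char

universe u

variable {G : Type u} [Group G] [Fintype G]

theorem conjChar_eq_self_of_central (χ : IrrCharacter G) (Z : Subgroup G) [Z.Normal]
    (hZ : Z ≤ Subgroup.center G) (θ : IrrCharacter Z) (g : G) : conjChar Z θ g = θ := by
  refine Subtype.ext (funext fun z => congrArg θ.1 (Subtype.ext ?_))
  rw [MulAut.conjNormal_apply, Subgroup.mem_center_iff.1 (hZ z.2) g, mul_inv_cancel_right]

/-- The square of a degree is at most the index of the centre. -/
theorem sq_degree_le_index_center (χ : IrrCharacter G) :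
    degree χ ^ 2 ≤ (Subgroup.center G).index := by
  set Z := Subgroup.center G
  obtain ⟨θ, hθ⟩ := exists_constituent Z χ
  have horb : orbitFinset Z θ = {θ} := Finset.eq_singleton_iff_unique_mem.2
    ⟨(mem_orbitFinset Z).2 ⟨1, (conjChar_eq_self_of_central χ Z le_rfl θ 1).symm⟩, fun η hη => by
      obtain ⟨g, rfl⟩ := (mem_orbitFinset Z).1 hη
      exact conjChar_eq_self_of_central χ Z le_rfl θ g⟩
  obtain ⟨e, he⟩ := IsCharacter.exists_nat_classInner
    (IsCharacter.restrict (irr_isCharacter χ) Z) (irr_isCharacter θ)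
  have he' : classInner (resFun Z χ.1) θ.1 = e := he
  have hres := resFun_eq_smul_orbitSum Z χ θ hθ
  rw [orbitSum, horb, Finset.sum_singleton, he'] at hres
  have hθ1 : θ.1 1 = 1 := apply_one_of_comm
    (fun a b => Subtype.ext (Subgroup.mem_center_iff.1 b.2 a)) θ
  have hd : degree χ = e := by
    refine degree_eq_of_apply_one ?_
    have := congrFun hres 1
    rwa [resFun_apply, Pi.smul_apply, hθ1, smul_eq_mul, mul_one, Subgroup.coe_one] at this
  have hn : ∀ z : Z, Complex.normSq (χ.1 z) = (e : ℝ) ^ 2 := by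
    intro z
    have := congrFun hres z
    rw [resFun_apply, Pi.smul_apply, smul_eq_mul] at this
    obtain ⟨l, hl⟩ := IsCharacter.exists_monoidHom (irr_isCharacter θ) hθ1
    have h1 : Complex.normSq (θ.1 z) = 1 := by
      have h2 : ((Complex.normSq (θ.1 z) : ℝ) : ℂ) = 1 := by
        rw [← Complex.mul_conj, ← hl]; exact normSq_linear l z
      exact_mod_cast h2
    rw [this, map_mul, h1, mul_one, Complex.normSq_natCast, sq]
  have htot : ∑ g : G, Complex.normSq (χ.1 g) = (Nat.card G : ℝ) := by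
    have h := classInner_irr_self χ.2
    rw [classInner, inv_mul_eq_one₀ card_ne_zero] at h
    have h2 : ((∑ g : G, Complex.normSq (χ.1 g) : ℝ) : ℂ) = ((Nat.card G : ℝ) : ℂ) := by
      push_cast
      rw [h]
      exact Finset.sum_congr rfl fun g _ => (Complex.mul_conj _).symm
    exact_mod_cast h2
  have hle : ((Nat.card Z : ℝ) * (e : ℝ) ^ 2) ≤ (Nat.card G : ℝ) := by
    rw [← htot]
    calc (Nat.card Z : ℝ) * (e : ℝ) ^ 2
        = ∑ g ∈ Finset.univ.filter (· ∈ Z), Complex.normSq (χ.1 g) := by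
          rw [Finset.sum_congr rfl fun g hg => hn ⟨g, (Finset.mem_filter.1 hg).2⟩,
            Finset.sum_const, nsmul_eq_mul, Nat.card_eq_fintype_card, Fintype.card_subtype]
      _ ≤ _ := Finset.sum_le_sum_of_subset_of_nonneg (Finset.filter_subset _ _)
            fun g _ _ => Complex.normSq_nonneg _
  have hle' : Nat.card Z * e ^ 2 ≤ Nat.card Z * Z.index := by
    rw [Z.card_mul_index]; exact_mod_cast hle
  rw [hd]
  exact Nat.le_of_mul_le_mul_left hle' Nat.card_pos

/-- A pair of homomorphisms, one always a power of the other, the other non-cyclic. -/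
theorem exists_pow_of_mem_zpowers {W : Type*} [CommGroup W] {p : ℕ} (hp : p.Prime) (f u : G →* W)
    (hu : ∀ x, u x ^ p = 1) (hf : ∀ x, f x ∈ Subgroup.zpowers (u x))
    (hnc : ∀ x, ∃ y, u y ∉ Subgroup.zpowers (u x)) :
    ∃ c : ℤ, ∀ x, f x = u x ^ c := by
  haveI := Fact.mk hp
  choose k hk using fun x => Subgroup.mem_zpowers_iff.1 (hf x)
  have hind : ∀ x y, u x ≠ 1 → u y ∉ Subgroup.zpowers (u x) →
      ∀ i j : ℤ, u x ^ i = u y ^ j → (p : ℤ) ∣ i ∧ (p : ℤ) ∣ j := by
    intro x y hx hy i j hij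
    have hox : orderOf (u x) = p := orderOf_eq_prime (hu x) hx
    have hy1 : u y ≠ 1 := fun h => hy (h ▸ one_mem _)
    have hoy : orderOf (u y) = p := orderOf_eq_prime (hu y) hy1
    have hj : (p : ℤ) ∣ j := by
      by_contra hj
      refine hy ?_
      obtain ⟨a, b, hab⟩ := (Nat.prime_iff_prime_int.1 hp).coprime_iff_not_dvd.2 hj
      rw [← zpow_one (u y), ← hab, zpow_add, mul_comm a, zpow_mul, zpow_natCast, hu y, one_zpow,
        one_mul, mul_comm b, zpow_mul, ← hij, ← zpow_mul]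
      exact Subgroup.zpow_mem_zpowers _ _
    refine ⟨?_, hj⟩
    rw [← hox, orderOf_dvd_iff_zpow_eq_one, hij, ← orderOf_dvd_iff_zpow_eq_one, hoy]
    exact hj
  have hpair : ∀ x y, u x ≠ 1 → u y ∉ Subgroup.zpowers (u x) → f y = u y ^ k x := by
    intro x y hx hy
    have h := hk (x * y)
    rw [map_mul f, map_mul u, mul_zpow, ← hk x, ← hk y] at h
    have h2 : u x ^ (k (x * y) - k x) = u y ^ (k y - k (x * y)) := by
      rw [zpow_sub, zpow_sub, ← div_eq_mul_inv, ← div_eq_mul_inv, div_eq_div_iff_mul_eq_mul]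
      exact h.trans (mul_comm _ _)
    obtain ⟨⟨a, ha⟩, ⟨b, hb⟩⟩ := hind x y hx hy _ _ h2
    have hkk : k y - k x = (p : ℤ) * (a + b) := by rw [mul_add, ← ha, ← hb]; ring
    have : u y ^ (k y - k x) = 1 := by rw [hkk, zpow_mul, zpow_natCast, hu, one_zpow]
    rw [← hk y]
    rwa [zpow_sub, mul_inv_eq_one] at this
  by_cases hall : ∀ x, u x = 1
  · exact ⟨0, fun x => by rw [zpow_zero, ← hk x, hall x, one_zpow]⟩
  push Not at hall
  obtain ⟨x₀, hx₀⟩ := hall
  refine ⟨k x₀, fun x => ?_⟩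
  by_cases hx : u x ∈ Subgroup.zpowers (u x₀)
  · by_cases hx1 : u x = 1
    · rw [← hk x, hx1, one_zpow, one_zpow]
    obtain ⟨z, hz⟩ := hnc x₀
    have hzx : u z ∉ Subgroup.zpowers (u x) := fun h => hz (Subgroup.zpowers_le.2 hx h)
    have hz1 : u z ≠ 1 := fun h => hz (h ▸ one_mem _)
    have e1 := hpair x₀ z hx₀ hz
    have e2 := hpair x z hx1 hzx
    rw [← hk x]
    have he : u z ^ (k x - k x₀) = 1 := by rw [zpow_sub, ← e2, ← e1, mul_inv_cancel]
    rw [← orderOf_dvd_iff_zpow_eq_one, orderOf_eq_prime (hu z) hz1] at he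
    obtain ⟨a, ha⟩ := he
    have : u x ^ (k x - k x₀) = 1 := by rw [ha, zpow_mul, zpow_natCast, hu, one_zpow]
    rwa [zpow_sub, mul_inv_eq_one] at this
  · exact hpair x₀ x hx₀ hx

/-- An invariant linear character `v` of `A` over which all degrees are small. -/
theorem linear_over_facts {p : ℕ} (hp : p.Prime)
    (hcd : ∀ χ : IrrCharacter G, degree χ = 1 ∨ degree χ = p) (A : Subgroup G) [A.Normal]
    [Fintype A] (v : A →* ℂˣ) (M : Subgroup G)
    (hM : ∀ g, g ∈ M ↔ ∀ x : A, v (MulAut.conjNormal g x) = v x) :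
    (M = ⊤ ∨ M.index = p) ∧
      (M ≠ ⊤ → ∀ g ∈ M, ∀ h ∈ M, ∀ hA : ⁅g, h⁆ ∈ A, v ⟨_, hA⟩ = 1) := by
  set θ : IrrCharacter A := linIrr ((Units.coeHom ℂ).comp v) with hθ
  have hI : inertia A θ.1 = M := by
    ext g
    rw [mem_inertia, hM]
    exact ⟨fun h x => Units.ext (congrFun h x), fun h => funext fun x => congrArg Units.val (h x)⟩
  haveI := Fintype.ofFinite (inertia A θ.1)
  obtain ⟨χ, hχ⟩ := Glauberman.exists_over A.subtype A.subtype_injective θ
  have hχ' : classInner (resFun A χ.1) θ.1 ≠ 0 := hχ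
  obtain ⟨ψ, hψ⟩ := (cliffordInduce_bijective A θ).2 χ hχ'
  have h1 : M.index * degree ψ.1 = degree χ := by
    have := cliffordInduce_apply_one A θ ψ
    rw [hψ, congrArg Subgroup.index hI, apply_one_eq_degree, apply_one_eq_degree, ← Nat.cast_mul] at this
    exact_mod_cast this.symm
  have hd : M.index ∣ p := by
    rcases hcd χ with h | h <;> rw [h] at h1
    · exact (Dvd.intro _ h1).trans (one_dvd p)
    · exact Dvd.intro _ h1
  rcases (Nat.dvd_prime hp).1 hd with h | h
  · exact ⟨Or.inl (Subgroup.index_eq_one.1 h), fun hne => absurd (Subgroup.index_eq_one.1 h) hne⟩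
  refine ⟨Or.inr h, fun _ g hg k hk hA => ?_⟩
  have hψ1 : degree ψ.1 = 1 := by
    rcases hcd χ with h2 | h2 <;> rw [h, h2] at h1
    · exact absurd (Nat.eq_one_of_mul_eq_one_right h1) hp.one_lt.ne'
    · exact (mul_eq_left₀ hp.ne_zero).1 h1
  obtain ⟨l, hl⟩ := IsCharacter.exists_monoidHom (irr_isCharacter ψ.1)
    (by rw [apply_one_eq_degree, hψ1, Nat.cast_one])
  obtain ⟨e, he, -, hres⟩ := exists_mult_of_over_inertia A θ ψ.1 ψ.2
  have he1 : (e : ℂ) = 1 := by
    have := hres 1
    rw [show (⟨((1 : A) : G), irr_le_inertia A θ (1 : A).2⟩ : inertia A θ.1) = 1 from rfl,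
      ← hl, map_one, hθ, linIrr_apply, map_one, mul_one] at this
    exact this.symm
  refine Units.ext ?_
  rw [← hI] at hg hk
  have h3 := hres ⟨_, hA⟩
  rw [he1, one_mul, show (⟨((⟨⁅g, k⁆, hA⟩ : A) : G), irr_le_inertia A θ hA⟩ : inertia A θ.1) =
    ⁅(⟨g, hg⟩ : inertia A θ.1), ⟨k, hk⟩⁆ from rfl, ← hl,
    show l ⁅(⟨g, hg⟩ : inertia A θ.1), ⟨k, hk⟩⁆ = 1 from congrArg Units.val
      (MonoidHom.mem_ker.1 (Abelianization.commutator_subset_ker l.toHomUnits
        (Subgroup.commutator_mem_commutator (Subgroup.mem_top _) (Subgroup.mem_top _))))] at h3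
  exact h3.symm

/-- The orbit differences of a faithful action all of whose orbits have size at most `p`, with
normal stabilisers containing all `p`-th powers. -/
theorem exists_common_difference {p : ℕ} (hp : p.Prime) {V : Type*} [CommGroup V]
    {Γ : Type*} [Group Γ] (act : Γ → V →* V) (hact : ∀ g g' v, act g (act g' v) = act (g' * g) v)
    (hone : ∀ v, act 1 v = v) (stab : V → Subgroup Γ)
    (hstab : ∀ v g, g ∈ stab v ↔ act g v = v)
    (hidx : ∀ v, stab v = ⊤ ∨ (stab v).index = p) (hnorm : ∀ v, (stab v).Normal)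
    (hmove : ∃ v, stab v ≠ ⊤)
    (hpair : ∀ v, stab v ≠ ⊤ → ∃ w, stab w ≠ ⊤ ∧ stab w ≠ stab v) :
    ∃ c : V, c ≠ 1 ∧ c ^ p = 1 ∧ (∀ g, act g c = c) ∧
      ∀ v g, act g v / v ∈ Subgroup.zpowers c := by
  haveI := Fact.mk hp
  -- the differences
  set d : V → Γ → V := fun v g => act g v / v with hd
  have hd1 : ∀ v g, d v g = act g v / v := fun _ _ => rfl
  have hpq : ∀ v, stab v ≠ ⊤ → ∀ g, g ^ p ∈ stab v := fun v hv g => by
    haveI := hnorm v
    have h : ((g : Γ ⧸ stab v)) ^ p = 1 := by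
      rw [← (hidx v).resolve_left hv, Subgroup.index_eq_card]
      exact pow_card_eq_one'
    rwa [← QuotientGroup.mk_pow, QuotientGroup.eq_one_iff] at h
  have hgen : ∀ v, stab v ≠ ⊤ → ∀ q, q ∉ stab v → ∀ g,
      ∃ i : ℕ, act g v = act (q ^ i) v := by
    intro v hv q hq g
    haveI := hnorm v
    have hi := (hidx v).resolve_left hv
    haveI : Finite (Γ ⧸ stab v) := Nat.finite_of_card_ne_zero
      (by rw [← Subgroup.index_eq_card, hi]; exact hp.ne_zero)
    have hq1 : (q : Γ ⧸ stab v) ≠ 1 := fun h => hq ((QuotientGroup.eq_one_iff q).1 h)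
    obtain ⟨i, hi'⟩ := (isOfFinOrder_of_finite (q : Γ ⧸ stab v)).mem_powers_iff_mem_zpowers.2
      (mem_zpowers_of_prime_card (p := p) (g' := (g : Γ ⧸ stab v))
        (by rw [← Subgroup.index_eq_card, hi]) hq1)
    refine ⟨i, ?_⟩
    simp only at hi'
    rw [← QuotientGroup.mk_pow, QuotientGroup.eq] at hi'
    have hs : g * (q ^ i)⁻¹ ∈ stab v := (hnorm v).mem_comm hi'
    calc act g v = act (q ^ i) (act (g * (q ^ i)⁻¹) v) := by rw [hact, inv_mul_cancel_right]
      _ = act (q ^ i) v := by rw [(hstab v _).1 hs]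
  have hle : ∀ a b, stab a ≠ ⊤ → stab b ≠ ⊤ → stab a ≤ stab b → stab a = stab b := by
    intro a b ha hb hab
    have h1 := Subgroup.relIndex_mul_index hab
    rw [(hidx a).resolve_left ha, (hidx b).resolve_left hb] at h1
    exact le_antisymm hab (Subgroup.relIndex_eq_one.1
      (Nat.eq_of_mul_eq_mul_right hp.pos (by rw [h1, one_mul])))
  -- two different stabilisers
  have key : ∀ v w, stab v ≠ ⊤ → stab w ≠ ⊤ → stab v ≠ stab w →
      ∃ r, r ∉ stab v ∧ (∀ h, act h (d v r) = d v r) ∧ ∃ g, d v r = d w g := by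
    intro v w hv hw hne
    obtain ⟨q, hqv, hqw⟩ := SetLike.not_le_iff_exists.1 fun h => hne (hle v w hv hw h)
    obtain ⟨r, hrw, hrv⟩ := SetLike.not_le_iff_exists.1 fun h => hne (hle w v hw hv h).symm
    set u := v * w
    have hqu : q ∉ stab u := fun h => hqw ((hstab w q).2 (mul_left_cancel (a := v) (by
      have h1 := (hstab u q).1 h
      rwa [map_mul, (hstab v q).1 hqv] at h1)))
    have hu : stab u ≠ ⊤ := fun h => hqu (h ▸ Subgroup.mem_top q)
    obtain ⟨i, hi⟩ := hgen u hu q hqu r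
    rw [map_mul, map_mul, (hstab w r).1 hrw, (hstab v _).1 ((stab v).pow_mem hqv i)] at hi
    have hc : d v r = d w (q ^ i) := by
      rw [hd1, hd1, div_eq_div_iff_mul_eq_mul, hi, mul_comm]
    refine ⟨r, hrv, fun h => ?_, _, hc⟩
    have hMfix : ∀ m ∈ stab v, act m (d v r) = d v r := by
      intro m hm
      have h2 : act m (act r v) = act r v := by
        rw [hact, show r * m = r * m * r⁻¹ * r by group, ← hact,
          (hstab v _).1 ((hnorm v).conj_mem m hm r)]
      rw [hd1, map_div, h2, (hstab v m).1 hm]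
    have hrfix : act r (d v r) = d v r := by
      rw [hc]
      have h2 : act r (act (q ^ i) w) = act (q ^ i) w := by
        rw [hact, show q ^ i * r = q ^ i * r * (q ^ i)⁻¹ * q ^ i by group, ← hact,
          (hstab w _).1 ((hnorm w).conj_mem r hrw _)]
      rw [hd1, map_div, h2, (hstab w r).1 hrw]
    set c := d v r
    let S : Subgroup Γ :=
      { carrier := {x | act x c = c}
        one_mem' := hone c
        mul_mem' := fun {a b} (ha : act a c = c) (hb : act b c = c) => by
          show act (a * b) c = c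
          rw [← hact, ha, hb]
        inv_mem' := fun {a} (ha : act a c = c) => by
          show act a⁻¹ c = c
          conv_lhs => rw [← ha]
          rw [hact, mul_inv_cancel, hone] }
    have hle' : stab v ≤ S := fun m hm => hMfix m hm
    have h1 := Subgroup.relIndex_mul_index hle'
    rw [(hidx v).resolve_left hv] at h1
    rcases (Nat.dvd_prime hp).1 (Dvd.intro_left _ h1) with h' | h'
    · exact (show h ∈ S by rw [Subgroup.index_eq_one.1 h']; exact Subgroup.mem_top h)
    · exfalso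
      rw [h'] at h1
      exact hrv (Subgroup.relIndex_eq_one.1
        (Nat.eq_of_mul_eq_mul_right hp.pos (by rw [h1, one_mul])) hrfix)
  -- every difference is a power of a single fixed one
  have hpow : ∀ v r, (∀ h, act h (d v r) = d v r) → ∀ i : ℕ, d v (r ^ i) = d v r ^ i := by
    intro v r hfix i
    induction i with
    | zero => rw [hd1, pow_zero, hone, div_self', pow_zero]
    | succ i ih =>
      have h1 : act r v = d v r * v := (div_mul_cancel _ _).symm
      have h2 : act (r ^ i) v = d v r ^ i * v := by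
        rw [← ih]; exact (div_mul_cancel _ _).symm
      rw [hd1 v (r ^ (i + 1)), pow_succ r, ← hact, h2, map_mul, map_pow, hfix, h1, ← mul_assoc,
        ← pow_succ, mul_div_cancel_right]
  have hrange : ∀ v r, r ∉ stab v → (∀ h, act h (d v r) = d v r) →
      ∀ g, d v g ∈ Subgroup.zpowers (d v r) := by
    intro v r hr hfix g
    have hv : stab v ≠ ⊤ := fun h => hr (h ▸ Subgroup.mem_top r)
    obtain ⟨i, hi⟩ := hgen v hv r hr g
    rw [hd1 v g, hi, ← hd1 v (r ^ i), hpow v r hfix i]
    exact pow_mem (Subgroup.mem_zpowers _) i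
  obtain ⟨v₀, hv₀⟩ := hmove
  obtain ⟨w₀, hw₀, hne₀⟩ := hpair v₀ hv₀
  obtain ⟨r₀, hr₀, hfix₀, -⟩ := key v₀ w₀ hv₀ hw₀ hne₀.symm
  refine ⟨d v₀ r₀, fun h => hr₀ ((hstab v₀ r₀).2 (div_eq_one.1 h)), ?_, hfix₀, ?_⟩
  · rw [← hpow v₀ r₀ hfix₀ p, hd1, (hstab v₀ _).1 (hpq v₀ hv₀ r₀), div_self']
  have hother : ∀ v, stab v ≠ stab v₀ → ∀ g, d v g ∈ Subgroup.zpowers (d v₀ r₀) := by
    intro v hne g
    by_cases hv : stab v = ⊤
    · rw [hd1 v g, (hstab v g).1 (hv ▸ Subgroup.mem_top g), div_self']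
      exact one_mem _
    obtain ⟨r, hr, hfix, g', hg'⟩ := key v v₀ hv hv₀ hne
    refine Subgroup.zpowers_le.2 ?_ (hrange v r hr hfix g)
    rw [hg']
    exact hrange v₀ r₀ hr₀ hfix₀ g'
  intro v g
  by_cases hne : stab v = stab v₀
  · have hv : stab v ≠ ⊤ := hne ▸ hv₀
    obtain ⟨z, hz, hzne⟩ := hpair v hv
    obtain ⟨r, hr, hfix, g', hg'⟩ := key v z hv hz hzne.symm
    refine Subgroup.zpowers_le.2 ?_ (hrange v r hr hfix g)
    rw [hg']
    exact hother z (hne ▸ hzne) g'
  · exact hother v hne g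

/-- A value which lies in two spans lies in their intersection. -/
theorem mem_zpowers_of_span {W : Type*} [CommGroup W] {p : ℕ} (hp : p.Prime)
    (φ : G →* W) (hφp : ∀ x, φ x ^ p = 1) (fg fg' : G →* W) {g g' h : G} (b : W) (hb : b = fg h * fg' h)
    (hg : fg h ∈ Subgroup.zpowers (φ g)) (hg' : fg' h ∈ Subgroup.zpowers (φ g'))
    (hh : φ h ∉ Subgroup.closure ({φ g, φ g'} : Set W))
    (hs : b ∈ Subgroup.closure ({φ (g * g'), φ h} : Set W)) :
    b ∈ Subgroup.zpowers (φ (g * g')) := by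
  have hφh := hφp h
  obtain ⟨m, n, hmn⟩ := Subgroup.mem_closure_pair.1 hs
  have hgS : φ g ∈ Subgroup.closure ({φ g, φ g'} : Set W) :=
    Subgroup.subset_closure (Set.mem_insert _ _)
  have hg'S : φ g' ∈ Subgroup.closure ({φ g, φ g'} : Set W) :=
    Subgroup.subset_closure (Set.mem_insert_of_mem _ (Set.mem_singleton _))
  set S := Subgroup.closure ({φ g, φ g'} : Set W) with hS
  have hbS : b ∈ S := by
    obtain ⟨i, hi⟩ := Subgroup.mem_zpowers_iff.1 hg
    obtain ⟨i', hi'⟩ := Subgroup.mem_zpowers_iff.1 hg'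
    rw [hb, ← hi, ← hi']
    exact S.mul_mem (S.zpow_mem hgS i) (S.zpow_mem hg'S i')
  have hmS : φ (g * g') ^ m ∈ S := by
    rw [map_mul]
    exact S.zpow_mem (S.mul_mem hgS hg'S) m
  have hn : φ h ^ n ∈ S := by
    rw [← hmn] at hbS
    exact (S.mul_mem_cancel_left hmS).1 hbS
  have hdvd : (p : ℤ) ∣ n := by
    by_contra hndvd
    obtain ⟨s, t, hst⟩ := (Nat.prime_iff_prime_int.1 hp).coprime_iff_not_dvd.2 hndvd
    refine hh ?_
    rw [← zpow_one (φ h), ← hst, zpow_add, mul_comm s, zpow_mul, zpow_natCast, hφh, one_zpow,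
      one_mul, mul_comm t, zpow_mul]
    exact Subgroup.zpow_mem _ hn t
  obtain ⟨t, rfl⟩ := hdvd
  rw [zpow_mul (φ h), zpow_natCast, hφh, one_zpow, mul_one] at hmn
  rw [← hmn]
  exact Subgroup.zpow_mem_zpowers _ _

/-- `exists_pow_of_mem_zpowers` modulo a cyclic subgroup. -/
theorem exists_pow_mod {W : Type*} [CommGroup W] {p : ℕ} (hp : p.Prime) (f φ : G →* W)
    (hφp : ∀ x, φ x ^ p = 1) (w : W) (hf : ∀ x, f x ∈ Subgroup.closure ({w, φ x} : Set W))
    (hnc : ∀ x, ∃ y, φ y ∉ Subgroup.closure ({w, φ x} : Set W)) :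
    ∃ c : ℤ, ∀ x, f x * (φ x ^ c)⁻¹ ∈ Subgroup.zpowers w := by
  set X := Subgroup.zpowers w
  obtain ⟨c, hc⟩ := exists_pow_of_mem_zpowers hp ((QuotientGroup.mk' X).comp f)
    ((QuotientGroup.mk' X).comp φ) (fun x => by rw [MonoidHom.comp_apply, ← map_pow, hφp, map_one])
    (fun x => by
      have h1 := Subgroup.mem_map_of_mem (QuotientGroup.mk' X) (hf x)
      rw [MonoidHom.map_closure, Set.image_pair, QuotientGroup.mk'_apply,
        (QuotientGroup.eq_one_iff (N := X) w).2 (Subgroup.mem_zpowers _),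
        Subgroup.closure_insert_one, ← Subgroup.zpowers_eq_closure] at h1
      exact h1)
    (fun x => by
      obtain ⟨y, hy⟩ := hnc x
      refine ⟨y, fun hmem => hy ?_⟩
      obtain ⟨i, hi⟩ := hmem
      have h1 : (φ x ^ i)⁻¹ * φ y ∈ X := QuotientGroup.eq.1 hi
      have hw : w ∈ Subgroup.closure ({w, φ x} : Set W) :=
        Subgroup.subset_closure (Set.mem_insert _ _)
      have hx : φ x ∈ Subgroup.closure ({w, φ x} : Set W) :=
        Subgroup.subset_closure (Set.mem_insert_of_mem _ (Set.mem_singleton _))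
      have h2 := Subgroup.mul_mem _ (Subgroup.zpow_mem _ hx i) (Subgroup.zpowers_le.2 hw h1)
      rwa [mul_inv_cancel_left] at h2)
  refine ⟨c, fun x => ?_⟩
  rw [← QuotientGroup.eq_one_iff]
  have h3 : (f x : W ⧸ X) = (φ x : W ⧸ X) ^ c := hc x
  rw [QuotientGroup.mk_mul, QuotientGroup.mk_inv, QuotientGroup.mk_zpow, h3, mul_inv_cancel]

set_option maxHeartbeats 2000000 in
/-- The abelian subgroup of index `p` from the commutator pairing with an element `a`. -/
theorem exists_abelian_index_of_pairing {p : ℕ} (hp : p.Prime) (a : G)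
    (φ : G →* ↥(Subgroup.center G)) (hφa : ∀ g, (φ g : G) = ⁅g, a⁆) (hφp : ∀ g, φ g ^ p = 1)
    (hbig : ∀ g g', ∃ h, φ h ∉ Subgroup.closure ({φ g, φ g'} : Set ↥(Subgroup.center G)))
    (hap : a ^ p ∈ Subgroup.center G)
    (hspan : ∀ g h : G,
      ⁅g, h⁆ ∈ (Subgroup.closure ({φ g, φ h} : Set ↥(Subgroup.center G))).map (Subgroup.center G).subtype) :
    ∃ A : Subgroup G, A.Normal ∧ (∀ a ∈ A, ∀ b ∈ A, a * b = b * a) ∧ A.index = p := by
  haveI := Fact.mk hp
  have hG'Z : ∀ g h : G, ⁅g, h⁆ ∈ Subgroup.center G := fun g h => Subgroup.map_subtype_le _ (hspan g h)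
  have hmul : ∀ g g' h : G, ⁅g * g', h⁆ = ⁅g, h⁆ * ⁅g', h⁆ := fun g g' h => by
    calc ⁅g * g', h⁆ = g * ⁅g', h⁆ * h * g⁻¹ * h⁻¹ := by simp only [commutatorElement_def]; group
      _ = ⁅g', h⁆ * ⁅g, h⁆ := by
          rw [Subgroup.mem_center_iff.1 (hG'Z g' h) g]; simp only [commutatorElement_def]; group
      _ = _ := (Subgroup.mem_center_iff.1 (hG'Z g' h) _).symm
  have hmul2 : ∀ g h h' : G, ⁅g, h * h'⁆ = ⁅g, h⁆ * ⁅g, h'⁆ := fun g h h' => by
    rw [← commutatorElement_inv (h * h') g, hmul, mul_inv_rev, commutatorElement_inv,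
      commutatorElement_inv]
    exact Subgroup.mem_center_iff.1 (hG'Z g h) _
  let fz : G → G →* ↥(Subgroup.center G) := fun g =>
    { toFun := fun h => ⟨⁅g, h⁆, hG'Z g h⟩
      map_one' := Subtype.ext (commutatorElement_one_right _)
      map_mul' := fun h h' => Subtype.ext (hmul2 g h h') }
  have hfz : ∀ g h, (fz g h : G) = ⁅g, h⁆ := fun _ _ => rfl
  have hfzmul : ∀ g g' h, fz (g * g') h = fz g h * fz g' h := fun g g' h => Subtype.ext (hmul g g' h)
  have hfzone : ∀ h, fz 1 h = 1 := fun h => Subtype.ext (commutatorElement_one_left h)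
  have hfzinv : ∀ g h, fz g⁻¹ h = (fz g h)⁻¹ := fun g h =>
    eq_inv_of_mul_eq_one_left (by rw [← hfzmul, inv_mul_cancel, hfzone])
  have hspan' : ∀ g h, fz g h ∈ Subgroup.closure ({φ g, φ h} : Set ↥(Subgroup.center G)) := fun g h => by
    obtain ⟨z, hz, hze⟩ := hspan g h
    rwa [show fz g h = z from Subtype.ext hze.symm]
  -- the abelian subgroup
  let E : Subgroup G :=
    { carrier := {g | ∀ h, fz g h ∈ Subgroup.zpowers (φ g)}
      one_mem' := fun h => by rw [hfzone]; exact one_mem _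
      inv_mem' := fun {g} hg h => by
        rw [hfzinv, map_inv, Subgroup.zpowers_inv]; exact inv_mem (hg h)
      mul_mem' := fun {g g'} hg hg' => by
        set X := Subgroup.zpowers (φ (g * g'))
        intro h
        by_cases hh : φ h ∈ Subgroup.closure ({φ g, φ g'} : Set ↥(Subgroup.center G))
        · obtain ⟨k', hk'⟩ := hbig g g'
          have hk2 : φ (h * k') ∉ Subgroup.closure ({φ g, φ g'} : Set ↥(Subgroup.center G)) := fun h0 => hk' (by
            rw [map_mul] at h0; exact (Subgroup.mul_mem_cancel_left _ hh).1 h0)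
          have key : ∀ y, φ y ∉ Subgroup.closure ({φ g, φ g'} : Set ↥(Subgroup.center G)) → fz (g * g') y ∈ X := by
            intro y hy
            exact mem_zpowers_of_span hp φ hφp (fz g) (fz g') (g := g) (g' := g') (h := y)
              (fz (g * g') y) (hfzmul g g' y) (hg y) (hg' y) hy (hspan' (g * g') y)
          have h1 := key k' hk'
          have h2 := key (h * k') hk2
          rw [map_mul] at h2
          exact (Subgroup.mul_mem_cancel_right _ h1).1 h2
        · exact mem_zpowers_of_span hp φ hφp (fz g) (fz g') (g := g) (g' := g') (h := h)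
              (fz (g * g') h) (hfzmul g g' h) (hg h) (hg' h) hh (hspan' (g * g') h) }
  have hEmem : ∀ g, g ∈ E ↔ ∀ h, fz g h ∈ Subgroup.zpowers (φ g) := fun _ => Iff.rfl
  have hZE : Subgroup.center G ≤ E := fun z hz h => by
    rw [show fz z h = 1 from Subtype.ext (commutatorElement_eq_one_iff_commute.2
      (Subgroup.mem_center_iff.1 hz h).symm)]
    exact one_mem _
  have hAE : ∀ x, φ x = 1 → x ∈ E → x ∈ Subgroup.center G :=
      fun x hx hxE => Subgroup.mem_center_iff.2 fun y => by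
    have h1 := hxE y
    rw [hx, Subgroup.zpowers_one_eq_bot,
      Subgroup.mem_bot, Subtype.ext_iff, hfz, Subgroup.coe_one,
      commutatorElement_eq_one_iff_commute] at h1
    exact h1.eq.symm
  have hEab : ∀ x ∈ E, ∀ y ∈ E, x * y = y * x := by
    intro x hx y hy
    by_cases hyx : φ y ∈ Subgroup.zpowers (φ x)
    · obtain ⟨i, hi⟩ := hyx
      set u := (x ^ i)⁻¹ * y with hu
      have huA : φ u = 1 := by
        rw [hu, map_mul, map_inv, map_zpow]
        exact inv_mul_eq_one.2 hi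
      have huZ := hAE u huA (E.mul_mem (E.inv_mem (E.zpow_mem hx i)) hy)
      have hy' : y = x ^ i * u := by rw [hu, mul_inv_cancel_left]
      rw [hy']
      exact ((Commute.refl x).zpow_right i).mul_right (Subgroup.mem_center_iff.1 huZ x)
    · have h1 := hx y
      have h2 : fz x y ∈ Subgroup.zpowers (φ y) := by
        have := hy x
        rwa [show fz y x = (fz x y)⁻¹ from Subtype.ext (commutatorElement_inv x y).symm,
          inv_mem_iff] at this
      have h3 : fz x y = 1 := by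
        by_contra hne
        refine hyx ?_
        have hy1 : φ y ≠ 1 := fun h0 => hyx (h0 ▸ one_mem _)
        obtain ⟨i, hi⟩ := h2
        have hi' : φ y ^ i = fz x y := hi
        have hndvd : ¬ (p : ℤ) ∣ i := fun ⟨t, ht⟩ => hne (by
          rw [← hi', ht, zpow_mul, zpow_natCast, hφp, one_zpow])
        obtain ⟨s, t, hst⟩ := (Nat.prime_iff_prime_int.1 hp).coprime_iff_not_dvd.2 hndvd
        rw [← zpow_one (φ y), ← hst, zpow_add, mul_comm s, zpow_mul, zpow_natCast, hφp, one_zpow,
          one_mul, mul_comm t, zpow_mul, hi']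
        exact Subgroup.zpow_mem _ h1 t
      exact (commutatorElement_eq_one_iff_commute.1 (congrArg Subtype.val h3)).eq
  have hG'E : commutator G ≤ E := by
    rw [commutator_def, Subgroup.commutator_le]
    exact fun g _ h _ => hZE (hG'Z g h)
  haveI hEn : E.Normal := ⟨fun t ht q => by
    rw [show q * t * q⁻¹ = ⁅q, t⁆ * t by rw [commutatorElement_def]; group]
    exact E.mul_mem (hG'E (Subgroup.commutator_mem_commutator (Subgroup.mem_top q) (Subgroup.mem_top t))) ht⟩
  refine ⟨E, hEn, hEab, ?_⟩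
  have hφaa : φ a = 1 := Subtype.ext (by rw [hφa, commutatorElement_self, Subgroup.coe_one])
  have haE : a ∉ E := fun h => by
    obtain ⟨x, hx⟩ := hbig 1 1
    refine hx ?_
    rw [show φ x = 1 from Subtype.ext (by
      rw [hφa, Subgroup.coe_one, commutatorElement_eq_one_iff_commute]
      exact Subgroup.mem_center_iff.1 (hAE _ hφaa h) x)]
    exact one_mem _
  have hgen : ∀ g : G, (g : G ⧸ E) ∈ Subgroup.zpowers (a : G ⧸ E) := by
    intro g
    obtain ⟨c, hc⟩ := exists_pow_mod hp (fz g) φ hφp (φ g) (hspan' g) (hbig g)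
    have hgE : g * a ^ c ∈ E := fun h => by
      have h1 : fz (g * a ^ c) h = fz g h * (φ h ^ c)⁻¹ := by
        rw [hfzmul]
        congr 1
        let L : G →* ↥(Subgroup.center G) := MonoidHom.mk' (fun x => fz x h) fun x y => hfzmul x y h
        show L (a ^ c) = _
        rw [map_zpow, show L a = (φ h)⁻¹ from Subtype.ext (by
          show ⁅a, h⁆ = (φ h : G)⁻¹
          rw [hφa]; exact (commutatorElement_inv h a).symm),
          inv_zpow]
      have h2 : φ (g * a ^ c) = φ g := by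
        rw [map_mul, map_zpow, hφaa,
          one_zpow, mul_one]
      rw [h1, h2]
      exact hc h
    refine ⟨-c, ?_⟩
    have h4 := (QuotientGroup.eq_one_iff _).2 hgE
    rw [QuotientGroup.mk_mul, QuotientGroup.mk_zpow, mul_eq_one_iff_eq_inv] at h4
    show (a : G ⧸ E) ^ (-c) = _
    rw [zpow_neg, h4]
  have hord : orderOf (a : G ⧸ E) = p := by
    refine orderOf_eq_prime ?_ fun h => haE ((QuotientGroup.eq_one_iff _).1 h)
    rw [← QuotientGroup.mk_pow, QuotientGroup.eq_one_iff]
    exact hZE hap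
  rw [Subgroup.index_eq_card, ← hord, ← Nat.card_zpowers, ← Subgroup.card_top (G := G ⧸ E)]
  refine congrArg (fun K : Subgroup (G ⧸ E) => Nat.card K) (Eq.symm ?_)
  rw [Subgroup.eq_top_iff']
  intro y
  obtain ⟨g, rfl⟩ := QuotientGroup.mk_surjective y
  exact hgen g


set_option maxHeartbeats 4000000 in
/-- A group with degrees `{1, p}` has an abelian normal subgroup of index `p` or centre of index
`p ^ 3`. -/
theorem exists_abelian_index_or_center_index {p : ℕ} (hp : p.Prime)
    (hcd : ∀ χ : IrrCharacter G, degree χ = 1 ∨ degree χ = p) (hex : ∃ χ : IrrCharacter G, degree χ = p) :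
    (∃ A : Subgroup G, A.Normal ∧ (∀ a ∈ A, ∀ b ∈ A, a * b = b * a) ∧ A.index = p) ∨
      (Subgroup.center G).index = p ^ 3 := by
  haveI := Fact.mk hp
  rcases exists_abelian_index_or_central hp.one_lt hcd hex with h | h
  · exact Or.inl h
  obtain ⟨p', e, hp', hpe, H, hHZ, -, k, hk⟩ := h
  have hpp : p' = p :=
    ((Nat.prime_dvd_prime_iff_eq hp hp').1 (hp.dvd_of_dvd_pow (n := e) (by rw [← hpe]))).symm
  rw [hpp] at hk
  clear hpe hp' hpp
  by_cases hdone : ∃ A : Subgroup G, A.Normal ∧ (∀ a ∈ A, ∀ b ∈ A, a * b = b * a) ∧ A.index = p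
  · exact Or.inl hdone
  right
  -- a maximal abelian normal subgroup
  obtain ⟨A, ⟨hAn, hAab, hZA⟩, hAmax⟩ := (Finset.univ.filter fun B : Subgroup G =>
      B.Normal ∧ (∀ a ∈ B, ∀ b ∈ B, a * b = b * a) ∧ Subgroup.center G ≤ B).exists_max_image
    (fun B => Nat.card B) ⟨Subgroup.center G, Finset.mem_filter.2 ⟨Finset.mem_univ _, inferInstance,
      fun a _ b hb => (Subgroup.mem_center_iff.1 hb a), le_rfl⟩⟩ |>.imp fun B h =>
        (⟨(Finset.mem_filter.1 h.1).2, h.2⟩ : _ ∧ _)
  have hHA : H ≤ A := hHZ.trans hZA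
  have hPQ : IsPGroup p (G ⧸ A) := by
    obtain ⟨j, -, hj⟩ := (Nat.dvd_prime_pow hp).1 (hk ▸ Subgroup.index_dvd_of_le hHA)
    exact IsPGroup.of_card (by rw [← Subgroup.index_eq_card, hj])
  have hCA : ∀ x : G, (∀ a ∈ A, x * a = a * x) → x ∈ A := by
    by_contra! hcon
    obtain ⟨x, hxc, hxA⟩ := hcon
    set C := Subgroup.centralizer (A : Set G) with hC
    have hne : C.map (QuotientGroup.mk' A) ≠ ⊥ := by
      intro hb
      have := Subgroup.mem_map_of_mem (QuotientGroup.mk' A)
        (show x ∈ C from Subgroup.mem_centralizer_iff.2 fun a ha => (hxc a ha).symm)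
      rw [hb, Subgroup.mem_bot] at this
      exact hxA ((QuotientGroup.eq_one_iff x).1 this)
    haveI : (C.map (QuotientGroup.mk' A)).Normal :=
      Subgroup.Normal.map inferInstance _ (QuotientGroup.mk'_surjective A)
    obtain ⟨y, hy1⟩ := (Subgroup.ne_bot_iff_exists_ne_one.1
      (PGroup.inf_center_ne_bot hPQ (C.map (QuotientGroup.mk' A)) hne))
    obtain ⟨⟨c, hc, hcy⟩, hyZ⟩ := y.2
    have hyc : (c : G ⧸ A) = y.1 := hcy
    have hcA : c ∉ A := fun h => hy1 (Subtype.ext (by
      rw [← hyc, (QuotientGroup.eq_one_iff c).2 h]; rfl))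
    have hB : (A ⊔ Subgroup.zpowers c).Normal := by
      refine ⟨fun z hz g => ?_⟩
      have hz' : (z : G ⧸ A) ∈ Subgroup.zpowers (c : G ⧸ A) := by
        have := Subgroup.mem_map_of_mem (QuotientGroup.mk' A) hz
        rwa [Subgroup.map_sup, MonoidHom.map_zpowers, QuotientGroup.map_mk'_self, bot_sup_eq] at this
      obtain ⟨i, hi⟩ := hz'
      have h2 : ((g * z * g⁻¹ : G) : G ⧸ A) = ((c ^ i : G) : G ⧸ A) := by
        have hi' : (c : G ⧸ A) ^ i = z := hi
        rw [QuotientGroup.mk_mul, QuotientGroup.mk_mul, QuotientGroup.mk_inv, QuotientGroup.mk_zpow,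
          hi']
        have := Subgroup.mem_center_iff.1
          (Subgroup.zpow_mem _ (hyc ▸ hyZ : (c : G ⧸ A) ∈ Subgroup.center (G ⧸ A)) i) (g : G ⧸ A)
        rw [hi'] at this
        rw [this, mul_inv_cancel_right]
      have h3 : g * z * g⁻¹ * (c ^ i)⁻¹ ∈ A := by
        rw [← QuotientGroup.eq_one_iff, QuotientGroup.mk_mul, h2, QuotientGroup.mk_inv, mul_inv_cancel]
      have := Subgroup.mul_mem _ (le_sup_left (b := Subgroup.zpowers c) h3)
        (le_sup_right (a := A) (Subgroup.zpow_mem_zpowers c i))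
      rwa [inv_mul_cancel_right] at this
    have hBab : ∀ a ∈ A ⊔ Subgroup.zpowers c, ∀ b ∈ A ⊔ Subgroup.zpowers c, a * b = b * a := by
      intro a ha b hb
      have hmem : ∀ z ∈ A ⊔ Subgroup.zpowers c, ∃ u ∈ A, ∃ i : ℤ, z = u * c ^ i := fun z hz => by
        obtain ⟨u, hu, w, ⟨i, hi⟩, rfl⟩ := Subgroup.mem_sup_of_normal_left.1 hz
        exact ⟨u, hu, i, congrArg (u * ·) hi.symm⟩
      obtain ⟨u, hu, i, rfl⟩ := hmem a ha
      obtain ⟨w, hw, j, rfl⟩ := hmem b hb
      have hcc : ∀ z ∈ A, Commute c z := fun z hz => (Subgroup.mem_centralizer_iff.1 hc z hz).symm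
      have c1 : Commute u w := hAab u hu w hw
      exact ((c1.mul_right (((hcc u hu).zpow_left j).symm)).mul_left
        (((hcc w hw).zpow_left i).mul_right ((Commute.refl c).zpow_zpow i j))).eq
    have hle := hAmax (A ⊔ Subgroup.zpowers c) (Finset.mem_filter.2
      ⟨Finset.mem_univ _, hB, hBab, hZA.trans le_sup_left⟩)
    exact hcA ((Subgroup.eq_of_le_of_card_ge le_sup_left hle) ▸
      le_sup_right (a := A) (Subgroup.mem_zpowers c))
  haveI := Fintype.ofFinite A
  have hA' : ∀ a b : A, a * b = b * a := fun a b => Subtype.ext (hAab a a.2 b b.2)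
  -- the action on the linear characters
  let act : G → (A →* ℂˣ) →* (A →* ℂˣ) := fun g =>
    { toFun := fun v => v.comp (MulAut.conjNormal g : A ≃* A).toMonoidHom
      map_one' := rfl
      map_mul' := fun _ _ => rfl }
  have hact1 : ∀ g (v : A →* ℂˣ) x, act g v x = v (MulAut.conjNormal g x) := fun _ _ _ => rfl
  have hone : ∀ v, act 1 v = v := fun v => MonoidHom.ext fun x => by rw [hact1, map_one, MulAut.one_apply]
  have hact : ∀ g g' v, act g (act g' v) = act (g' * g) v := fun g g' v => MonoidHom.ext fun x => by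
    rw [hact1, hact1, hact1, map_mul, MulAut.mul_apply]
  let stab : (A →* ℂˣ) → Subgroup G := fun v =>
    { carrier := {g | act g v = v}
      one_mem' := hone v
      mul_mem' := fun {a b} (ha : act a v = v) (hb : act b v = v) => by
        show act (a * b) v = v
        rw [← hact, ha, hb]
      inv_mem' := fun {a} (ha : act a v = v) => by
        show act a⁻¹ v = v
        conv_lhs => rw [← ha]
        rw [hact, mul_inv_cancel, hone] }
  have hstab : ∀ v g, g ∈ stab v ↔ act g v = v := fun _ _ => Iff.rfl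
  have hfacts := fun v => linear_over_facts hp hcd A v (stab v) fun g =>
    (hstab v g).trans MonoidHom.ext_iff
  have hidx : ∀ v, stab v = ⊤ ∨ (stab v).index = p := fun v => (hfacts v).1
  have hG'le : ∀ v, commutator G ≤ stab v := fun v => (hidx v).elim (fun h => h ▸ le_top)
    fun h => commutator_le_of_index hp.one_lt hcd _ h
  have hnorm : ∀ v, (stab v).Normal := fun v => ⟨fun t ht q => by
    rw [show q * t * q⁻¹ = ⁅q, t⁆ * t by rw [commutatorElement_def]; group]
    exact (stab v).mul_mem (hG'le v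
      (Subgroup.commutator_mem_commutator (Subgroup.mem_top q) (Subgroup.mem_top t))) ht⟩
  have hfaith : ∀ g, (∀ v, g ∈ stab v) → g ∈ A := fun g hg => hCA g fun a ha => by
    have h1 : MulAut.conjNormal g (⟨a, ha⟩ : A) * (⟨a, ha⟩ : A)⁻¹ = 1 :=
      eq_one_of_forall_hom hA' fun v => by
        rw [map_mul, map_inv, ← hact1, (hstab v g).1 (hg v), mul_inv_cancel]
    have h2 := congrArg Subtype.val (mul_inv_eq_one.1 h1)
    rw [MulAut.conjNormal_apply] at h2
    exact mul_inv_eq_iff_eq_mul.1 h2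
  have hG'A : ∀ g h : G, ⁅g, h⁆ ∈ A := fun g h => hfaith _ fun v => hG'le v
    (Subgroup.commutator_mem_commutator (Subgroup.mem_top g) (Subgroup.mem_top h))
  have hAstab : ∀ v, ∀ a ∈ A, a ∈ stab v := fun v a ha => (hstab v a).2 <| MonoidHom.ext fun x => by
    rw [hact1]
    congr 1
    refine Subtype.ext ?_
    rw [MulAut.conjNormal_apply, hAab a ha x x.2, mul_inv_cancel_right]
  have hAtop : A ≠ ⊤ := fun h => by
    obtain ⟨χ, hχ⟩ := hex
    have habG : ∀ a b : G, a * b = b * a := fun a b =>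
      hAab a (h ▸ Subgroup.mem_top a) b (h ▸ Subgroup.mem_top b)
    have := degree_eq_of_apply_one (χ := χ) (n := 1)
      (by rw [apply_one_of_comm habG χ, Nat.cast_one])
    exact hp.one_lt.ne (this.symm.trans hχ)
  have hmove : ∃ v, stab v ≠ ⊤ := by
    by_contra! hall
    exact hAtop ((Subgroup.eq_top_iff' A).2 fun g => hfaith g fun v => hall v ▸ Subgroup.mem_top g)
  have hpair : ∀ v, stab v ≠ ⊤ → ∃ w, stab w ≠ ⊤ ∧ stab w ≠ stab v := by
    intro v hv
    by_contra! hall
    refine hdone ⟨A, hAn, hAab, ?_⟩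
    have : stab v = A := le_antisymm (fun g hg => hfaith g fun w => by
      by_cases hw : stab w = ⊤
      · exact hw ▸ Subgroup.mem_top g
      · exact hall w hw ▸ hg) fun a ha => hAstab v a ha
    rw [← this]
    exact (hidx v).resolve_left hv
  obtain ⟨c₀, hc₀1, hc₀p, hc₀fix, hc₀⟩ :=
    exists_common_difference hp act hact hone stab hstab hidx hnorm hmove hpair
  -- the centre has index `p` in `A`
  have hker : ∀ x : A, c₀ x = 1 → (x : G) ∈ Subgroup.center G := by
    intro x hx
    rw [Subgroup.mem_center_iff]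
    intro g
    have h1 : MulAut.conjNormal g x * x⁻¹ = 1 := eq_one_of_forall_hom hA' fun v => by
      obtain ⟨i, hi⟩ := hc₀ v g
      have h2 := DFunLike.congr_fun hi.symm x
      rw [MonoidHom.div_apply, hact1] at h2
      rw [map_mul, map_inv, ← div_eq_mul_inv, h2]
      show (c₀ ^ i) x = 1
      rw [MonoidHom.zpow_apply, hx, one_zpow]
    have h2 := congrArg Subtype.val (mul_inv_eq_one.1 h1)
    rw [MulAut.conjNormal_apply] at h2
    exact mul_inv_eq_iff_eq_mul.1 h2
  obtain ⟨a, ha⟩ : ∃ a : A, c₀ a ≠ 1 := not_forall.1 fun h => hc₀1 (MonoidHom.ext h)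
  have hc₀x : ∀ x : A, c₀ x ^ p = 1 := fun x => by rw [← MonoidHom.pow_apply, hc₀p]; rfl
  have hprim : IsPrimitiveRoot ((c₀ a : ℂˣ) : ℂ) p :=
    IsPrimitiveRoot.coe_units_iff.2 ((orderOf_eq_prime (hc₀x a) ha) ▸ IsPrimitiveRoot.orderOf (c₀ a))
  have hdec : ∀ x : A, ∃ i : ℕ, (x : G) * ((a : G) ^ i)⁻¹ ∈ Subgroup.center G := fun x => by
    obtain ⟨i, -, hi'⟩ := hprim.eq_pow_of_pow_eq_one (ξ := ((c₀ x : ℂˣ) : ℂ))
      (by rw [← Units.val_pow_eq_pow_val, hc₀x x, Units.val_one])
    have hi : c₀ a ^ i = c₀ x := Units.ext (by rw [Units.val_pow_eq_pow_val]; exact hi')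
    exact ⟨i, hker (x * (a ^ i)⁻¹) (by rw [map_mul, map_inv, map_pow, hi, mul_inv_cancel])⟩
  -- `φ g = [g, a]` is a homomorphism to the centre
  have hφmem : ∀ g : G, ⁅g, (a : G)⁆ ∈ Subgroup.center G := fun g => by
    have h1 : ⁅g, (a : G)⁆ = ((MulAut.conjNormal g a * a⁻¹ : A) : G) := by
      rw [Subgroup.coe_mul, Subgroup.coe_inv, MulAut.conjNormal_apply, commutatorElement_def]
    rw [h1]
    refine hker _ ?_
    rw [map_mul, map_inv, ← hact1, hc₀fix, mul_inv_cancel]
  let φ : G →* ↥(Subgroup.center G) :=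
    { toFun := fun g => ⟨⁅g, (a : G)⁆, hφmem g⟩
      map_one' := Subtype.ext (commutatorElement_one_left _)
      map_mul' := fun g h => Subtype.ext (by
        show ⁅g * h, (a : G)⁆ = ⁅g, (a : G)⁆ * ⁅h, (a : G)⁆
        have h1 := Subgroup.mem_center_iff.1 (hφmem h) g
        calc ⁅g * h, (a : G)⁆ = g * ⁅h, (a : G)⁆ * (a : G) * g⁻¹ * (a : G)⁻¹ := by
              simp only [commutatorElement_def]; group
          _ = ⁅h, (a : G)⁆ * ⁅g, (a : G)⁆ := by
              rw [h1]; simp only [commutatorElement_def]; group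
          _ = ⁅g, (a : G)⁆ * ⁅h, (a : G)⁆ := (Subgroup.mem_center_iff.1 (hφmem h) _).symm) }
  have hφa : ∀ g : G, (φ g : G) = ⁅g, (a : G)⁆ := fun _ => rfl
  have hφker : φ.ker = A := by
    ext g
    rw [MonoidHom.mem_ker, Subtype.ext_iff, hφa, Subgroup.coe_one,
      commutatorElement_eq_one_iff_commute]
    refine ⟨fun h => hCA g fun x hx => ?_, fun h => hAab g h a a.2⟩
    obtain ⟨i, hi⟩ := hdec ⟨x, hx⟩
    have h1 : Commute g (x * ((a : G) ^ i)⁻¹) := Subgroup.mem_center_iff.1 hi g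
    have h2 := h1.mul_right (h.pow_right i)
    rw [inv_mul_cancel_right] at h2
    exact h2.eq
  have hφp : ∀ g, φ g ^ p = 1 := fun g => by
    rw [← map_pow, ← MonoidHom.mem_ker, hφker]
    refine hfaith _ fun v => ?_
    rcases hidx v with h | h
    · exact h ▸ Subgroup.mem_top _
    · haveI := hnorm v
      rw [← QuotientGroup.eq_one_iff (N := stab v), QuotientGroup.mk_pow, ← h, Subgroup.index_eq_card]
      exact pow_card_eq_one'
  have hrange : Nat.card φ.range = A.index := by
    rw [← Subgroup.index_ker, hφker]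
  -- the index of the centre
  have hZA' : (Subgroup.center G).relIndex A = p := by
    have hk : c₀.ker = (Subgroup.center G).subgroupOf A := by
      ext x
      rw [MonoidHom.mem_ker, Subgroup.mem_subgroupOf]
      refine ⟨hker x, fun hx => ?_⟩
      by_contra hne
      obtain ⟨v, hv⟩ := hmove
      obtain ⟨g, hg⟩ := SetLike.exists_not_mem_of_ne_top (stab v) hv rfl
      obtain ⟨i, hi⟩ := hc₀ v g
      have hfixx : MulAut.conjNormal g x = x := Subtype.ext (by
        rw [MulAut.conjNormal_apply, Subgroup.mem_center_iff.1 hx g, mul_inv_cancel_right])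
      have h2 : (c₀ ^ i) x = (act g v / v) x := DFunLike.congr_fun hi x
      rw [MonoidHom.div_apply, hact1, hfixx, div_self', MonoidHom.zpow_apply,
        ← orderOf_dvd_iff_zpow_eq_one, orderOf_eq_prime (hc₀x x) hne] at h2
      obtain ⟨j, rfl⟩ := h2
      have h3 : c₀ ^ ((p : ℤ) * j) = 1 := MonoidHom.ext fun y => by
        rw [MonoidHom.zpow_apply, zpow_mul, zpow_natCast, hc₀x y, one_zpow]; rfl
      exact hg ((hstab v g).2 (div_eq_one.1 (hi.symm.trans h3)))
    rw [Subgroup.relIndex, ← hk, Subgroup.index_ker]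
    rw [← orderOf_eq_prime (hc₀x a) ha, ← Nat.card_zpowers]
    congr 2
    refine le_antisymm ?_ (Subgroup.zpowers_le.2 ⟨a, rfl⟩)
    rintro _ ⟨x, rfl⟩
    obtain ⟨i, -, hi'⟩ := hprim.eq_pow_of_pow_eq_one (ξ := ((c₀ x : ℂˣ) : ℂ))
      (by rw [← Units.val_pow_eq_pow_val, hc₀x x, Units.val_one])
    have hi : c₀ a ^ i = c₀ x := Units.ext (by rw [Units.val_pow_eq_pow_val]; exact hi')
    rw [← hi]
    exact pow_mem (Subgroup.mem_zpowers _) i
  have hindex : (Subgroup.center G).index = p * A.index := by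
    rw [← Subgroup.relIndex_mul_index hZA, hZA']
  obtain ⟨j, -, hj⟩ := (Nat.dvd_prime_pow hp).1 (hk ▸ Subgroup.index_dvd_of_le hHA)
  rcases j with _ | _ | _ | j
  · exact absurd (Subgroup.index_eq_one.1 (by rw [hj, pow_zero])) hAtop
  · exact absurd ⟨A, hAn, hAab, by rw [hj, pow_one]⟩ hdone
  · rw [hindex, hj]; ring
  -- at least `p ^ 3` differences: an abelian subgroup of index `p`
  exfalso
  have hbig : ∀ g g' : G, ∃ h, φ h ∉ Subgroup.closure ({φ g, φ g'} : Set ↥(Subgroup.center G)) := by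
    intro g g'
    by_contra! hall
    have h1 : φ.range ≤ Subgroup.zpowers (φ g) ⊔ Subgroup.zpowers (φ g') := by
      rintro _ ⟨h, rfl⟩
      have := hall h
      rwa [Set.insert_eq, Subgroup.closure_union, ← Subgroup.zpowers_eq_closure,
        ← Subgroup.zpowers_eq_closure] at this
    have h2 := Nat.le_of_dvd Nat.card_pos (Subgroup.card_dvd_of_le h1)
    have h3 : Nat.card ↥(Subgroup.zpowers (φ g) ⊔ Subgroup.zpowers (φ g')) ≤ p * p := by
      refine le_trans (Nat.card_le_card_of_surjective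
        (fun z : Subgroup.zpowers (φ g) × Subgroup.zpowers (φ g') =>
          (⟨z.1.1 * z.2.1, Subgroup.mul_mem_sup z.1.2 z.2.2⟩ :
            ↥(Subgroup.zpowers (φ g) ⊔ Subgroup.zpowers (φ g')))) ?_) ?_
      · rintro ⟨z, hz⟩
        obtain ⟨x, hx, y, hy, rfl⟩ := Subgroup.mem_sup.1 hz
        exact ⟨(⟨x, hx⟩, ⟨y, hy⟩), rfl⟩
      · rw [Nat.card_prod, Nat.card_zpowers, Nat.card_zpowers]
        exact Nat.mul_le_mul (Nat.le_of_dvd hp.pos (orderOf_dvd_of_pow_eq_one (hφp g)))
          (Nat.le_of_dvd hp.pos (orderOf_dvd_of_pow_eq_one (hφp g')))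
    rw [hrange, hj] at h2
    have h4 : p ^ 3 ≤ p ^ (j + 1 + 1 + 1) := Nat.pow_le_pow_right hp.pos (by omega)
    have h5 : p * p < p ^ 3 := by
      calc p * p = p ^ 2 := (sq p).symm
        _ < p ^ 3 := Nat.pow_lt_pow_right hp.one_lt (by norm_num)
    omega
  have hvφ : ∀ v g (h : ⁅g, (a : G)⁆ ∈ A), (g ∈ stab v ↔ v ⟨_, h⟩ = 1) := by
    intro v g h
    have key : ∀ x : A, ∃ i : ℕ, v (MulAut.conjNormal g x) / v x = v ⟨_, h⟩ ^ i := fun x => by
      obtain ⟨i, hi⟩ := hdec x
      refine ⟨i, ?_⟩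
      have hz : MulAut.conjNormal g (x * (a ^ i)⁻¹) = x * (a ^ i)⁻¹ := Subtype.ext (by
        rw [MulAut.conjNormal_apply]
        push_cast
        rw [Subgroup.mem_center_iff.1 hi g, mul_inv_cancel_right])
      have h1 : MulAut.conjNormal g x =
          x * (a ^ i)⁻¹ * (MulAut.conjNormal g a) ^ i := by
        conv_lhs => rw [← inv_mul_cancel_right x (a ^ i)]
        rw [map_mul, hz, map_pow]
      have h2 : v (MulAut.conjNormal g a) = v ⟨_, h⟩ * v a := by
        rw [← map_mul]
        congr 1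
        refine Subtype.ext ?_
        rw [MulAut.conjNormal_apply, Subgroup.coe_mul]
        show _ = ⁅g, (a : G)⁆ * (a : G)
        rw [commutatorElement_def, inv_mul_cancel_right]
      rw [h1, map_mul, map_mul, map_inv, map_pow, map_pow, h2, mul_pow]
      rw [div_eq_iff_eq_mul]
      simp [mul_comm, mul_left_comm]
    rw [hstab]
    constructor
    · intro hg
      have := DFunLike.congr_fun hg a
      rw [hact1] at this
      have h2 : v (MulAut.conjNormal g a) = v ⟨_, h⟩ * v a := by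
        rw [← map_mul]
        congr 1
        refine Subtype.ext ?_
        rw [MulAut.conjNormal_apply, Subgroup.coe_mul]
        show _ = ⁅g, (a : G)⁆ * (a : G)
        rw [commutatorElement_def, inv_mul_cancel_right]
      rw [h2] at this
      exact mul_eq_right.1 this
    · intro hg
      refine MonoidHom.ext fun x => ?_
      obtain ⟨i, hi⟩ := key x
      rw [hg, one_pow, div_eq_one] at hi
      rw [hact1, hi]
  have hmemA : ∀ g, ⁅g, (a : G)⁆ ∈ A := fun g => hZA (hφmem g)
  -- commutators lie in the span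
  have hspan : ∀ g h : G,
      ⁅g, h⁆ ∈ (Subgroup.closure ({φ g, φ h} : Set ↥(Subgroup.center G))).map (Subgroup.center G).subtype := by
    intro g h
    set X := ((Subgroup.closure ({φ g, φ h} : Set ↥(Subgroup.center G))).map (Subgroup.center G).subtype).subgroupOf A
    haveI : X.Normal := ⟨fun x hx y => by rw [hA' y x, mul_inv_cancel_right]; exact hx⟩
    show (⟨⁅g, h⁆, hG'A g h⟩ : A) ∈ X
    rw [← QuotientGroup.eq_one_iff]
    haveI := Fintype.ofFinite (A ⧸ X)
    refine eq_one_of_forall_hom (fun x y => ?_) fun w => ?_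
    · obtain ⟨x, rfl⟩ := QuotientGroup.mk_surjective x
      obtain ⟨y, rfl⟩ := QuotientGroup.mk_surjective y
      rw [← QuotientGroup.mk_mul, ← QuotientGroup.mk_mul, hA']
    set v : A →* ℂˣ := w.comp (QuotientGroup.mk' X)
    have hvX : ∀ x : A, x ∈ X → v x = 1 := fun x hx => by
      rw [MonoidHom.comp_apply, QuotientGroup.mk'_apply, (QuotientGroup.eq_one_iff x).2 hx, map_one]
    have hgX : (⟨_, hmemA g⟩ : A) ∈ X :=
      ⟨φ g, Subgroup.subset_closure (Set.mem_insert _ _), rfl⟩
    have hhX : (⟨_, hmemA h⟩ : A) ∈ X :=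
      ⟨φ h, Subgroup.subset_closure (Set.mem_insert_of_mem _ rfl), rfl⟩
    show v ⟨⁅g, h⁆, hG'A g h⟩ = 1
    by_cases hv : stab v = ⊤
    · -- multiply by a moved character
      obtain ⟨k', hk'⟩ := hbig g h
      obtain ⟨w', hw', hw'1⟩ : ∃ w' : A →* ℂˣ, (∀ x ∈ X, w' x = 1) ∧ w' ⟨_, hmemA k'⟩ ≠ 1 := by
        have hne : ((⟨_, hmemA k'⟩ : A) : A ⧸ X) ≠ 1 := fun h0 => hk' (by
          obtain ⟨z, hz, hze⟩ := (QuotientGroup.eq_one_iff _).1 h0
          rwa [show φ k' = z from Subtype.ext hze.symm])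
        by_contra! hall
        refine hne (eq_one_of_forall_hom (fun x y => ?_) fun u => ?_)
        · obtain ⟨x, rfl⟩ := QuotientGroup.mk_surjective x
          obtain ⟨y, rfl⟩ := QuotientGroup.mk_surjective y
          rw [← QuotientGroup.mk_mul, ← QuotientGroup.mk_mul, hA']
        exact hall (u.comp (QuotientGroup.mk' X)) fun x hx => by
          rw [MonoidHom.comp_apply, QuotientGroup.mk'_apply, (QuotientGroup.eq_one_iff x).2 hx, map_one]
      have hm : ∀ u : A →* ℂˣ, (∀ x ∈ X, u x = 1) → stab u ≠ ⊤ → u ⟨⁅g, h⁆, hG'A g h⟩ = 1 :=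
        fun u hu hne => (hfacts u).2 hne g ((hvφ u g (hmemA g)).2 (hu _ hgX)) h
          ((hvφ u h (hmemA h)).2 (hu _ hhX)) _
      have hw't : stab w' ≠ ⊤ := fun ht =>
        hw'1 ((hvφ w' k' (hmemA k')).1 (ht ▸ Subgroup.mem_top k'))
      have hvk : v ⟨_, hmemA k'⟩ = 1 := (hvφ v k' (hmemA k')).1 (hv ▸ Subgroup.mem_top k')
      have hmt : stab (v * w') ≠ ⊤ := fun ht => hw'1 (by
        have := (hvφ (v * w') k' (hmemA k')).1 (ht ▸ Subgroup.mem_top k')
        rwa [MonoidHom.mul_apply, hvk, one_mul] at this)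
      have h1 := hm (v * w') (fun x hx => by rw [MonoidHom.mul_apply, hvX x hx, hw' x hx, one_mul]) hmt
      rwa [MonoidHom.mul_apply, hm w' hw' hw't, mul_one] at h1
    · exact (hfacts v).2 hv g ((hvφ v g (hmemA g)).2 (hvX _ hgX)) h
        ((hvφ v h (hmemA h)).2 (hvX _ hhX)) _
  exact hdone (exists_abelian_index_of_pairing hp (a : G) φ hφa hφp hbig
    (hker (a ^ p) (by rw [map_pow, hc₀x])) hspan)

end Cfsg.Agent.Char
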