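import Cfsg.Agent.Lib.Char.Brauer
import Cfsg.Agent.Lib.Char.ClassSum
import Cfsg.Agent.Lib.CharInt.Eigen
import Mathlib.FieldTheory.IntermediateField.Adjoin.Basic
import Mathlib.RingTheory.RootsOfUnity.Complex

/-!
# Brauer's splitting field theorem

`IsKChar K f`: `f` is the character of a matrix representation over the subfield `K` of `ℂ`.
If `K` contains the exponent-th roots of unity then every character is a `K`-character.
-/

namespace Cfsg.Agent.Char

open scoped ComplexConjugate
open Representation Module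

variable {G : Type*} [Group G] [Fintype G] (K : IntermediateField ℚ ℂ)

/-- `f` is the character of a representation over `K`. -/
def IsKChar (f : G → ℂ) : Prop :=
  ∃ (n : ℕ) (π : Representation K G (Fin n → K)), ∀ g, f g = (π.character g : ℂ)

variable {K}

theorem isKChar_of_rep {W : Type*} [AddCommGroup W] [Module K W] [FiniteDimensional K W]
    (ρ : Representation K G W) {f : G → ℂ} (hf : ∀ g, f g = (ρ.character g : ℂ)) : IsKChar K f := by
  let e := (Module.finBasis K W).equivFun
  let π : Representation K G (Fin (finrank K W) → K) :=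
    { toFun := fun g => e.conj (ρ g)
      map_one' := by ext x; simp [LinearEquiv.conj_apply]
      map_mul' := fun a b => by ext x; simp [LinearEquiv.conj_apply] }
  refine ⟨_, π, fun g => ?_⟩
  rw [hf g]
  congr 1
  exact (LinearMap.trace_conj' (ρ g) e).symm

/-- The complex matrix representation underlying a `K`-representation. -/
noncomputable def extendScalars {n : ℕ} (π : Representation K G (Fin n → K)) :
    Representation ℂ G (Fin n → ℂ) :=
  MonoidHom.comp (Matrix.toLinAlgEquiv' (R := ℂ) (n := Fin n)).toAlgHom.toRingHom.toMonoidHom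
    (MonoidHom.comp ((algebraMap K ℂ).mapMatrix (m := Fin n)).toMonoidHom
      (MonoidHom.comp (LinearMap.toMatrixAlgEquiv' (R := K) (n := Fin n)).toAlgHom.toRingHom.toMonoidHom π))

theorem toMatrix_extendScalars {n : ℕ} (π : Representation K G (Fin n → K)) (g : G) :
    LinearMap.toMatrix' (extendScalars π g) =
      (LinearMap.toMatrix' (π g)).map (fun x : K => (x : ℂ)) :=
  LinearMap.toMatrix'_toLin' _

theorem character_extendScalars {n : ℕ} (π : Representation K G (Fin n → K)) (g : G) :
    (extendScalars π).character g = (π.character g : ℂ) := by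
  simp only [Representation.character]
  rw [LinearMap.trace_eq_matrix_trace ℂ (Pi.basisFun ℂ (Fin n)),
    LinearMap.trace_eq_matrix_trace K (Pi.basisFun K (Fin n))]
  simp only [LinearMap.toMatrix_eq_toMatrix', toMatrix_extendScalars, Matrix.trace, Matrix.diag,
    Matrix.map_apply]
  push_cast
  rfl

theorem IsKChar.isCharacter {f : G → ℂ} (hf : IsKChar K f) : IsCharacter G f := by
  obtain ⟨n, π, hπ⟩ := hf
  exact ⟨n, extendScalars π, funext fun g => (character_extendScalars π g).trans (hπ g).symm⟩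

theorem IsKChar.zero : IsKChar K (0 : G → ℂ) :=
  ⟨0, 1, fun g => by simp [Representation.character, Subsingleton.elim (1 : Module.End K (Fin 0 → K)) 0]⟩

theorem IsKChar.add {f f' : G → ℂ} (hf : IsKChar K f) (hf' : IsKChar K f') : IsKChar K (f + f') := by
  obtain ⟨n, π, hπ⟩ := hf
  obtain ⟨n', π', hπ'⟩ := hf'
  refine isKChar_of_rep (π.prod π') fun g => ?_
  have : (π.prod π').character g = π.character g + π'.character g :=
    LinearMap.trace_prodMap' (π g) (π' g)
  rw [this, Pi.add_apply, hπ g, hπ' g]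
  rfl

/-- The character of the image of an idempotent intertwiner. -/
theorem isKChar_range {W : Type*} [AddCommGroup W] [Module K W] [FiniteDimensional K W]
    (ρ : Representation K G W) (e : W →ₗ[K] W) (hcomm : ∀ g w, e (ρ g w) = ρ g (e w))
    (he : e ∘ₗ e = e) {f : G → ℂ} (hf : ∀ g, f g = (LinearMap.trace K W (ρ g ∘ₗ e) : ℂ)) :
    IsKChar K f := by
  let S : Subrepresentation ρ := ⟨LinearMap.range e, by
    rintro g _ ⟨v, rfl⟩
    exact ⟨ρ g v, hcomm g v⟩⟩
  refine isKChar_of_rep S.toRepresentation fun g => ?_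
  rw [hf g]
  congr 1
  let i := S.toSubmodule.subtype
  let p : W →ₗ[K] S.toSubmodule := e.codRestrict _ fun w => LinearMap.mem_range_self e w
  have h1 : i ∘ₗ (S.toRepresentation g ∘ₗ p) = ρ g ∘ₗ e := LinearMap.ext fun w => rfl
  have h2 : (S.toRepresentation g ∘ₗ p) ∘ₗ i = S.toRepresentation g := by
    refine LinearMap.ext fun w => ?_
    obtain ⟨v, hv⟩ := w.2
    refine congrArg (S.toRepresentation g) (Subtype.ext ?_)
    show e w = w
    rw [← hv]
    exact LinearMap.congr_fun he v
  rw [← h1, LinearMap.trace_comp_comm', h2]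
  rfl

theorem conj_eq_character_inv {n : ℕ} (π : Representation K G (Fin n → K)) {f : G → ℂ}
    (hπ : ∀ g, f g = (π.character g : ℂ)) (g : G) : conj (f g) = (π.character g⁻¹ : ℂ) := by
  rw [IsCharacter.conj_apply (IsKChar.isCharacter ⟨n, π, hπ⟩), hπ]

/-- Inner products of `K`-characters detect `K`-intertwiners. -/
theorem classInner_kChar {n m : ℕ} (π : Representation K G (Fin n → K))
    (σ : Representation K G (Fin m → K)) {f f' : G → ℂ} (hπ : ∀ g, f g = (π.character g : ℂ))
    (hσ : ∀ g, f' g = (σ.character g : ℂ)) :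
    classInner f' f = (finrank K (IntertwiningMap π σ) : ℂ) := by
  haveI : Invertible (Nat.card G : K) :=
    invertibleOfNonzero (Nat.cast_ne_zero.2 Nat.card_pos.ne')
  have h := congrArg (fun x : K => (x : ℂ)) (card_inv_mul_sum_char_mul_char_eq_finrank π σ)
  push_cast at h
  rw [← h, classInner]
  congr 1
  exact Finset.sum_congr rfl fun g _ => by rw [hσ g, conj_eq_character_inv π hπ]

/-- The `χ`-component of a `K`-character. -/
theorem isKChar_component (hvals : ∀ χ : IrrCharacter G, ∀ g, χ.1 g ∈ K) {f : G → ℂ}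
    (hf : IsKChar K f) (χ : IrrCharacter G) : IsKChar K (classInner f χ.1 • χ.1) := by
  obtain ⟨n, π, hπ⟩ := hf
  let c : G → K := fun g => (⟨χ.1 1, hvals χ 1⟩ : K) * (Nat.card G : K)⁻¹ * ⟨χ.1 g⁻¹, hvals χ g⁻¹⟩
  let e : (Fin n → K) →ₗ[K] (Fin n → K) := ∑ g : G, c g • π g
  have hcl := IsCharacter.isClassFunction (irr_isCharacter χ)
  have hcls : ∀ g h : G, c (h * g * h⁻¹) = c g := fun g h => by
    simp only [c]
    congr 1
    exact Subtype.ext (by
      show χ.1 (h * g * h⁻¹)⁻¹ = χ.1 g⁻¹
      rw [show (h * g * h⁻¹)⁻¹ = h * g⁻¹ * h⁻¹ by group]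
      exact hcl g⁻¹ h)
  have hcomm : ∀ h w, e (π h w) = π h (e w) := by
    intro h w
    simp only [e, LinearMap.coe_sum, Finset.sum_apply, LinearMap.smul_apply, map_sum, map_smul]
    refine Fintype.sum_equiv (MulAut.conj h⁻¹).toEquiv _ _ fun g => ?_
    show c g • π g (π h w) = c (h⁻¹ * g * h⁻¹⁻¹) • π h (π (h⁻¹ * g * h⁻¹⁻¹) w)
    rw [hcls g h⁻¹, ← Module.End.mul_apply, ← Module.End.mul_apply, ← map_mul, ← map_mul]
    congr 3
    group
  have hconv : ∀ d : G, ∑ a : G, c a * c (a⁻¹ * d) = c d := by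
    intro d
    apply Subtype.ext
    push_cast [c]
    have h1 : ∀ a : G, conj (χ.1 a) * χ.1 (a * d⁻¹) = χ.1 a⁻¹ * χ.1 (a⁻¹ * d)⁻¹ := fun a => by
      rw [IsCharacter.conj_apply (irr_isCharacter χ),
        IsClassFunction.apply_mul_comm hcl a d⁻¹, mul_inv_rev, inv_inv]
    have h2 := sum_irr_mul_conj_conj χ.2 d⁻¹
    rw [Finset.sum_congr rfl fun a _ => h1 a] at h2
    have hne : (Nat.card G : ℂ) ≠ 0 := card_ne_zero
    calc ∑ a : G, χ.1 1 * (Nat.card G : ℂ)⁻¹ * χ.1 a⁻¹ *
          (χ.1 1 * (Nat.card G : ℂ)⁻¹ * χ.1 (a⁻¹ * d)⁻¹)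
        = χ.1 1 * ((Nat.card G : ℂ)⁻¹ * (Nat.card G : ℂ)⁻¹) *
            (χ.1 1 * ∑ a : G, χ.1 a⁻¹ * χ.1 (a⁻¹ * d)⁻¹) := by
          rw [Finset.mul_sum, Finset.mul_sum]
          exact Finset.sum_congr rfl fun a _ => by ring
      _ = χ.1 1 * (Nat.card G : ℂ)⁻¹ * χ.1 d⁻¹ := by rw [h2]; field_simp
  have he : e ∘ₗ e = e := by
    refine LinearMap.ext fun w => ?_
    simp only [e, LinearMap.comp_apply, LinearMap.coe_sum, Finset.sum_apply, LinearMap.smul_apply,
      map_sum, map_smul]
    calc ∑ a : G, c a • ∑ b : G, c b • π b (π a w)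
        = ∑ a : G, ∑ d : G, (c a * c (a⁻¹ * d)) • π d w := by
          refine Finset.sum_congr rfl fun a _ => ?_
          rw [Finset.smul_sum]
          refine Fintype.sum_equiv (MulAut.conj a⁻¹ |>.toEquiv.trans (Equiv.mulLeft a)) _ _ fun b => ?_
          have hb : ((MulAut.conj a⁻¹).toEquiv.trans (Equiv.mulLeft a)) b = b * a := by
            show a * (a⁻¹ * b * a⁻¹⁻¹) = b * a
            group
          rw [hb, show a⁻¹ * (b * a) = a⁻¹ * b * a⁻¹⁻¹ by group, hcls b a⁻¹, smul_smul,
            map_mul, Module.End.mul_apply]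
      _ = ∑ d : G, c d • π d w := by
          rw [Finset.sum_comm]
          exact Finset.sum_congr rfl fun d _ => by rw [← Finset.sum_smul, hconv d]
  refine isKChar_range π e hcomm he fun g => ?_
  have htr : (LinearMap.trace K _ (π g ∘ₗ e) : ℂ) = ∑ h : G, (c h : ℂ) * f (g * h) := by
    have : LinearMap.trace K _ (π g ∘ₗ e) = ∑ h : G, c h * π.character (g * h) := by
      rw [← Module.End.mul_eq_comp]
      simp only [e, Finset.mul_sum, map_sum, mul_smul_comm, map_smul, smul_eq_mul, ← map_mul,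
        Representation.character]
    rw [this]
    push_cast
    exact Finset.sum_congr rfl fun h _ => by rw [hπ]
  rw [htr, Pi.smul_apply, smul_eq_mul]
  push_cast [c]
  have hfc := IsCharacter.isClassFunction (IsKChar.isCharacter ⟨n, π, hπ⟩)
  have h3 := eq_sum_classInner_smul hfc
  calc classInner f χ.1 * χ.1 g
      = ∑ ψ : IrrCharacter G, classInner f ψ.1 *
          (χ.1 1 * (Nat.card G : ℂ)⁻¹ * ∑ h : G, conj (χ.1 h) * ψ.1 (h * g)) := by
        rw [Finset.sum_eq_single χ]
        · rw [show χ.1 1 * (Nat.card G : ℂ)⁻¹ * (∑ h : G, conj (χ.1 h) * χ.1 (h * g)) =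
              (Nat.card G : ℂ)⁻¹ * (χ.1 1 * ∑ h : G, conj (χ.1 h) * χ.1 (h * g)) by ring,
            sum_irr_mul_conj_conj χ.2 g]
          field_simp [card_ne_zero (G := G)]
        · intro ψ _ hψ
          rw [sum_irr_conj_mul_of_ne ψ.2 χ.2 (fun he => hψ (Subtype.ext he)) g, mul_zero, mul_zero]
        · simp
    _ = ∑ h : G, χ.1 1 * (Nat.card G : ℂ)⁻¹ * χ.1 h⁻¹ * f (g * h) := by
        simp only [Finset.mul_sum]
        rw [Finset.sum_comm]
        refine Finset.sum_congr rfl fun h _ => ?_
        rw [IsClassFunction.apply_mul_comm hfc g h]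
        conv_rhs => rw [congrFun h3 (h * g), Finset.sum_apply, Finset.mul_sum]
        refine Finset.sum_congr rfl fun ψ _ => ?_
        rw [IsCharacter.conj_apply (irr_isCharacter χ), Pi.smul_apply, smul_eq_mul]
        ring

/-- Characters induced from linear characters with values in `K` are `K`-characters. -/
theorem isKChar_indFun_linear (H : Subgroup G) (lam : H →* ℂ) (hlam : ∀ h, lam h ∈ K) :
    IsKChar K (indFun H lam) := by
  classical
  let l : G → K := fun y => if hy : y ∈ H then ⟨lam ⟨y, hy⟩, hlam _⟩ else 0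
  have hl : ∀ y, (l y : ℂ) = extendByZero H lam y := fun y => by
    simp only [l]
    split_ifs with hy
    · rw [extendByZero_of_mem _ _ hy]
    · rw [extendByZero_of_notMem _ _ hy]; rfl
  let L : Representation K G (G → K) :=
    { toFun := fun g => LinearMap.funLeft K K (fun x => g⁻¹ * x)
      map_one' := by ext f x; simp [LinearMap.funLeft]
      map_mul' := fun a b => by ext f x; simp [LinearMap.funLeft, mul_assoc] }
  -- `e f x = |H|⁻¹ ∑ λ(h) f (x h)`
  let A : Matrix G G K := Matrix.of fun x y => (Nat.card H : K)⁻¹ * l (x⁻¹ * y)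
  let e : (G → K) →ₗ[K] (G → K) := Matrix.toLin' A
  have happ : ∀ f x, e f x = ∑ y : G, (Nat.card H : K)⁻¹ * l (x⁻¹ * y) * f y := fun f x => rfl
  have hcomm : ∀ g f, e (L g f) = L g (e f) := by
    intro g f
    funext x
    show e (L g f) x = e f (g⁻¹ * x)
    rw [happ, happ]
    refine Fintype.sum_equiv (Equiv.mulLeft g⁻¹) _ _ fun y => ?_
    show _ = (Nat.card H : K)⁻¹ * l ((g⁻¹ * x)⁻¹ * (g⁻¹ * y)) * f (g⁻¹ * y)
    rw [show (g⁻¹ * x)⁻¹ * (g⁻¹ * y) = x⁻¹ * y by group]
    rfl
  have hconv : ∀ d : G, ∑ a : G, l a * l (a⁻¹ * d) = (Nat.card H : K) * l d := by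
    intro d
    apply Subtype.ext
    push_cast
    simp only [hl]
    letI : Fintype H := Fintype.ofFinite H
    rw [sum_extendByZero_mul H lam fun a => extendByZero H lam (a⁻¹ * d)]
    by_cases hd : d ∈ H
    · rw [extendByZero_of_mem _ _ hd, Finset.sum_congr rfl (g := fun _ => lam ⟨d, hd⟩) ?_,
        Finset.sum_const, Finset.card_univ, nsmul_eq_mul, Nat.card_eq_fintype_card]
      intro a _
      rw [extendByZero_of_mem _ _ (mul_mem (inv_mem a.2) hd), ← map_mul]
      exact congrArg lam (Subtype.ext (mul_inv_cancel_left _ _))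
    · rw [extendByZero_of_notMem _ _ hd, mul_zero]
      refine Finset.sum_eq_zero fun a _ => ?_
      rw [extendByZero_of_notMem _ _ fun h => hd ?_, mul_zero]
      have := mul_mem a.2 h
      rwa [mul_inv_cancel_left] at this
  have hH : (Nat.card H : K) ≠ 0 := Nat.cast_ne_zero.2 Nat.card_pos.ne'
  have hA : A * A = A := by
    ext x y
    rw [Matrix.mul_apply]
    show ((∑ z : G, (Nat.card H : K)⁻¹ * l (x⁻¹ * z) * ((Nat.card H : K)⁻¹ * l (z⁻¹ * y)) : K) : ℂ) =
      (((Nat.card H : K)⁻¹ * l (x⁻¹ * y) : K) : ℂ)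
    refine congrArg _ ?_
    have h := hconv (x⁻¹ * y)
    rw [← Fintype.sum_equiv (Equiv.mulLeft x⁻¹) (fun z => l (x⁻¹ * z) * l (z⁻¹ * y))
      (fun a => l a * l (a⁻¹ * (x⁻¹ * y))) fun z => by
        show _ = l (x⁻¹ * z) * l ((x⁻¹ * z)⁻¹ * (x⁻¹ * y))
        rw [show (x⁻¹ * z)⁻¹ * (x⁻¹ * y) = z⁻¹ * y by group]] at h
    calc _ = (Nat.card H : K)⁻¹ * (Nat.card H : K)⁻¹ * ∑ z : G, l (x⁻¹ * z) * l (z⁻¹ * y) := by
          rw [Finset.mul_sum]; exact Finset.sum_congr rfl fun z _ => by ring
      _ = _ := by rw [h]; field_simp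
  have he : e ∘ₗ e = e := by rw [← Matrix.toLin'_mul, hA]
  refine isKChar_range L e hcomm he fun g => ?_
  have hdiag : LinearMap.trace K _ (L g ∘ₗ e) = ∑ x : G, (Nat.card H : K)⁻¹ * l (x⁻¹ * g * x) := by
    rw [LinearMap.trace_eq_matrix_trace K (Pi.basisFun K G), LinearMap.toMatrix_eq_toMatrix']
    simp only [Matrix.trace, Matrix.diag, LinearMap.toMatrix'_apply, LinearMap.comp_apply]
    show ∑ x, e (Pi.single x 1) (g⁻¹ * x) = _
    refine Finset.sum_congr rfl fun x _ => ?_
    rw [happ, Finset.sum_eq_single x]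
    · simp [mul_assoc]
    · intro y _ hy; simp [hy]
    · simp
  rw [hdiag]
  push_cast
  simp only [hl, indFun, Finset.mul_sum]

/-- Maschke: a subrepresentation has a complement, and the characters add up. -/
theorem exists_complement_character {k : ℕ} (τ : Representation K G (Fin k → K)) {h : G → ℂ}
    (hh : ∀ g, h g = (τ.character g : ℂ)) (A : Subrepresentation τ) :
    ∃ B : Subrepresentation τ, IsKChar K (fun g => (B.toRepresentation.character g : ℂ)) ∧
      IsKChar K (fun g => (A.toRepresentation.character g : ℂ)) ∧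
      (fun g => (A.toRepresentation.character g : ℂ)) + (fun g => (B.toRepresentation.character g : ℂ)) = h := by
  haveI : NeZero (Nat.card G : K) := ⟨Nat.cast_ne_zero.2 Nat.card_pos.ne'⟩
  obtain ⟨B, hB⟩ := exists_isCompl A
  have hB' : IsCompl A.toSubmodule B.toSubmodule := by
    refine ⟨disjoint_iff.mpr ?_, codisjoint_iff.mpr ?_⟩
    · exact congrArg Subrepresentation.toSubmodule hB.inf_eq_bot
    · exact congrArg Subrepresentation.toSubmodule hB.sup_eq_top
  refine ⟨B, isKChar_of_rep _ fun g => rfl, isKChar_of_rep _ fun g => rfl, funext fun g => ?_⟩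
  have he : τ.character g = A.toRepresentation.character g + B.toRepresentation.character g := by
    simp only [Representation.character]
    rw [← LinearMap.trace_prodMap',
      ← LinearMap.trace_conj' (LinearMap.prodMap _ _) (Submodule.prodEquivOfIsCompl _ _ hB')]
    congr 1
    refine LinearMap.ext fun x => ?_
    obtain ⟨⟨a, b⟩, rfl⟩ := (Submodule.prodEquivOfIsCompl _ _ hB').surjective x
    rw [LinearEquiv.conj_apply]
    rw [LinearMap.comp_apply, LinearMap.comp_apply, LinearEquiv.coe_coe, LinearEquiv.coe_coe,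
      LinearEquiv.symm_apply_apply, LinearMap.prodMap_apply, Submodule.coe_prodEquivOfIsCompl',
      Submodule.coe_prodEquivOfIsCompl', map_add]
    rfl
  rw [hh g, he, Pi.add_apply]
  push_cast
  rfl

/-- Two characters summing to a multiple of `χ` are multiples of `χ`. -/
theorem eq_smul_of_add_eq_smul (χ : IrrCharacter G) (k : ℕ) {u v : G → ℂ} (hu : IsCharacter G u)
    (hv : IsCharacter G v) (huv : u + v = (k : ℂ) • χ.1) : ∃ i ≤ k, u = (i : ℂ) • χ.1 := by
  classical
  obtain ⟨mu, hmu, hmu'⟩ := IsCharacter.exists_decomp hu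
  obtain ⟨mv, hmv, hmv'⟩ := IsCharacter.exists_decomp hv
  have hc : ∀ ψ, (mu ψ + mv ψ : ℕ) = if χ = ψ then k else 0 := fun ψ => by
    have := congrArg (fun x => classInner x ψ.1) huv
    simp only [classInner_add_left, hmu', hmv', classInner_smul_left, classInner_irr] at this
    split_ifs at this ⊢ with h
    · exact_mod_cast (by simpa using this : (mu ψ : ℂ) + mv ψ = k)
    · exact_mod_cast (by simpa using this : (mu ψ : ℂ) + mv ψ = 0)
  refine ⟨mu χ, (by have := hc χ; rw [if_pos rfl] at this; omega), ?_⟩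
  conv_lhs => rw [hmu]
  refine Finset.sum_eq_single χ (fun ψ _ hψ => ?_) (by simp)
  have := hc ψ
  rw [if_neg (Ne.symm hψ)] at this
  simp [show mu ψ = 0 by omega]

/-- Peeling the least realised multiple `s·χ` off a realised multiple `a·χ`. -/
theorem exists_peel (χ : IrrCharacter G) {s a : ℕ} (hs0 : 0 < s)
    (hmin : ∀ i : ℕ, 0 < i → IsKChar K ((i : ℂ) • χ.1) → s ≤ i)
    (hs : IsKChar K ((s : ℂ) • χ.1)) (ha : IsKChar K ((a : ℂ) • χ.1)) (ha0 : 0 < a) :
    ∃ j : ℕ, a = s + j ∧ IsKChar K ((j : ℂ) • χ.1) := by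
  obtain ⟨n, π, hπ⟩ := hs
  obtain ⟨m, σ, hσ⟩ := ha
  have hdim : (finrank K (IntertwiningMap π σ) : ℂ) = ((a * s : ℕ) : ℂ) := by
    rw [← classInner_kChar π σ hπ hσ, classInner_smul_left, classInner_smul_right,
      classInner_irr_self χ.2, map_natCast]
    push_cast; ring
  have hdim' : finrank K (IntertwiningMap π σ) = a * s := by exact_mod_cast hdim
  have hpos : 0 < finrank K (IntertwiningMap π σ) := hdim' ▸ Nat.mul_pos ha0 hs0
  haveI : Nontrivial (IntertwiningMap π σ) := Module.nontrivial_of_finrank_pos hpos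
  obtain ⟨φ, hφ⟩ := exists_ne (0 : IntertwiningMap π σ)
  let Ker : Subrepresentation π := ⟨LinearMap.ker φ.toLinearMap, fun g v hv => by
    rw [LinearMap.mem_ker] at hv ⊢
    have := LinearMap.congr_fun (φ.isIntertwining' g) v
    simp only [LinearMap.comp_apply] at this
    rw [this, hv, map_zero]⟩
  let Im : Subrepresentation σ := ⟨LinearMap.range φ.toLinearMap, by
    rintro g _ ⟨v, rfl⟩
    exact ⟨π g v, LinearMap.congr_fun (φ.isIntertwining' g) v⟩⟩
  obtain ⟨C, hCC, hKC, hCsum⟩ := exists_complement_character π hπ Ker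
  obtain ⟨i, hi, hic⟩ := eq_smul_of_add_eq_smul χ s (IsKChar.isCharacter hKC)
    (IsKChar.isCharacter hCC) hCsum
  have hdimKer : (finrank K Ker.toSubmodule : ℂ) = i * χ.1 1 := by
    simpa [Representation.char_one] using congrFun hic 1
  have hi0 : i = 0 := by
    rcases Nat.eq_zero_or_pos i with h | h
    · exact h
    exfalso
    have his : i = s := le_antisymm hi (hmin i h (hic ▸ hKC))
    have h2 : (n : ℂ) = s * χ.1 1 := by
      simpa [Representation.char_one] using (hπ 1).symm
    rw [his, ← h2] at hdimKer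
    have hfull : finrank K Ker.toSubmodule = n := by exact_mod_cast hdimKer
    have htop : Ker.toSubmodule = ⊤ :=
      Submodule.eq_top_of_finrank_eq (hfull.trans (Module.finrank_fin_fun K).symm)
    apply hφ
    refine IntertwiningMap.ext (LinearMap.ext fun v => ?_)
    have : v ∈ Ker.toSubmodule := htop ▸ Submodule.mem_top
    exact LinearMap.mem_ker.mp this
  have hinj : Function.Injective φ.toLinearMap := by
    rw [← LinearMap.ker_eq_bot]
    rw [hi0, Nat.cast_zero, zero_mul, Nat.cast_eq_zero] at hdimKer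
    exact Submodule.finrank_eq_zero.mp hdimKer
  have himg : ∀ g, (Im.toRepresentation.character g : ℂ) = (s : ℂ) * χ.1 g := by
    intro g
    have : Im.toRepresentation.character g = π.character g := by
      simp only [Representation.character]
      rw [← LinearMap.trace_conj' (π g) (LinearEquiv.ofInjective φ.toLinearMap hinj)]
      congr 1
      refine LinearMap.ext fun x => ?_
      obtain ⟨v, rfl⟩ := (LinearEquiv.ofInjective φ.toLinearMap hinj).surjective x
      rw [LinearEquiv.conj_apply]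
      simp only [LinearMap.comp_apply, LinearEquiv.coe_coe, LinearEquiv.symm_apply_apply]
      exact Subtype.ext (LinearMap.congr_fun (φ.isIntertwining' g) v).symm
    rw [this, ← hπ g]; rfl
  obtain ⟨D, hDC, hIC, hDsum⟩ := exists_complement_character σ hσ Im
  obtain ⟨j, -, hjc⟩ := eq_smul_of_add_eq_smul χ a (IsKChar.isCharacter hDC)
    (IsKChar.isCharacter hIC) ((add_comm _ _).trans hDsum)
  refine ⟨j, ?_, hjc ▸ hDC⟩
  have h1 := congrFun hDsum 1
  rw [hjc, Pi.add_apply, Pi.smul_apply, Pi.smul_apply, smul_eq_mul, smul_eq_mul, himg 1,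
    ← add_mul] at h1
  have h2 := mul_right_cancel₀ (IsIrrCharacter.apply_one_ne_zero χ.2) h1
  exact_mod_cast h2.symm

variable (K)

/-- Brauer: if the values of all linear characters of subgroups and of all irreducible characters
lie in `K`, every character is the character of a representation over `K`. -/
theorem isKChar_of_values (hvals : ∀ χ : IrrCharacter G, ∀ g, χ.1 g ∈ K)
    (hlin : ∀ (H : Subgroup G) (lam : H →* ℂ) (h : H), lam h ∈ K)
    {f : G → ℂ} (hf : IsCharacter G f) : IsKChar K f := by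
  classical
  refine IsCharacter.induction_on hf IsKChar.zero (fun _ _ _ _ h h' => IsKChar.add h h') ?_
  intro χ₀ hχ₀
  set χ : IrrCharacter G := ⟨χ₀, hχ₀⟩ with hχdef
  have hcomp : ∀ h : G → ℂ, IsKChar K h → ∀ a : ℕ, classInner h χ.1 = a → IsKChar K ((a : ℂ) • χ.1) :=
    fun h hh a ha => ha ▸ isKChar_component hvals hh χ
  -- generators
  have hgen : ∀ h ∈ elemLinInd (G := G), ∀ d : ℤ,
      (∀ a : ℕ, IsKChar K ((a : ℂ) • χ.1) → d ∣ a) → ∃ z : ℤ, classInner h χ.1 = z ∧ d ∣ z := by
    intro h hh d hd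
    induction hh using AddSubgroup.closure_induction with
    | mem h hh =>
      obtain ⟨E, lam, -, rfl⟩ := hh
      have hk := isKChar_indFun_linear E lam (hlin E lam)
      obtain ⟨a, ha⟩ := IsCharacter.exists_nat_classInner (IsKChar.isCharacter hk) (irr_isCharacter χ)
      exact ⟨a, by rw [ha]; norm_num, hd a (hcomp _ hk a ha)⟩
    | zero => exact ⟨0, by simp, dvd_zero _⟩
    | add a b _ _ iha ihb =>
      obtain ⟨x, hx, hdx⟩ := iha
      obtain ⟨y, hy, hdy⟩ := ihb
      exact ⟨x + y, by rw [classInner_add_left, hx, hy]; push_cast; ring, dvd_add hdx hdy⟩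
    | neg a _ iha =>
      obtain ⟨x, hx, hdx⟩ := iha
      exact ⟨-x, by rw [classInner_neg_left, hx]; push_cast; ring, hdx.neg_right⟩
  have hχmem : χ.1 ∈ elemLinInd (G := G) :=
    IsGeneralizedCharacter.mem_elemLinInd (irr_isGeneralized χ)
  have hself : classInner χ.1 χ.1 = 1 := classInner_irr_self χ.2
  -- some positive multiple of `χ` is realised
  have hex : ∃ s : ℕ, 0 < s ∧ IsKChar K ((s : ℂ) • χ.1) := by
    by_contra hno
    obtain ⟨z, hz, hdvd⟩ := hgen χ.1 hχmem 0 fun a ha => by
      rcases Nat.eq_zero_or_pos a with h | h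
      · simp [h]
      · exact absurd ⟨a, h, ha⟩ hno
    rw [hself, zero_dvd_iff.mp hdvd] at hz
    norm_num at hz
  obtain ⟨hspos, hs⟩ := Nat.find_spec hex
  set s := Nat.find hex with hsdef
  have hdvd : ∀ a : ℕ, IsKChar K ((a : ℂ) • χ.1) → s ∣ a := by
    intro a
    induction a using Nat.strong_induction_on with
    | _ a ih =>
      intro ha
      rcases Nat.eq_zero_or_pos a with h0 | h0
      · simp [h0]
      obtain ⟨j, hja, hj⟩ := exists_peel χ hspos (fun i hi hi' => Nat.find_min' hex ⟨hi, hi'⟩) hs ha h0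
      rw [hja]
      exact dvd_add dvd_rfl (ih j (by omega) hj)
  obtain ⟨z, hz, hzd⟩ := hgen χ.1 hχmem (s : ℤ) fun a ha => Int.natCast_dvd_natCast.mpr (hdvd a ha)
  rw [hself] at hz
  have hz1 : z = 1 := by exact_mod_cast hz.symm
  rw [hz1] at hzd
  have hs1 : s = 1 := Nat.dvd_one.mp (Int.natCast_dvd_natCast.mp (by simpa using hzd))
  rw [hs1, Nat.cast_one, one_smul] at hs
  exact hs

end Cfsg.Agent.Char
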