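import Cfsg.Agent.Lib.Char.Monomial
import Cfsg.Agent.Lib.Char.Multiplicity
import Cfsg.Agent.Lib.Clifford.Extension
import Mathlib.LinearAlgebra.Eigenspace.Pi
import Mathlib.RingTheory.Norm.Defs

/-!
# Blocks of imprimitivity above a fully ramified section

Let `M` be normal in `G = M K`, `L = M ∩ K`, and let the irreducible character `χ` be induced from
`K`, with `χ` homogeneous on `M` and on `L`.  If a normal subgroup `U` of `K` with `U / L` abelian
acts nontrivially on `M / L` and `|U : L|` is prime to `|M : L|`, then `χ` is induced from a proper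
subgroup containing `M` (`exists_indFun_ge`).

The elements of `U` act on the `L`-endomorphisms of the constituent on `M` by commuting operators;
these define `M`-endomorphisms of the module of `χ`, whose common eigenspaces are permuted by `G`.
-/

set_option autoImplicit false
set_option linter.style.haveILetI false
set_option linter.unusedSectionVars false

namespace Cfsg.Agent.Char

open Representation Module

/-! ### Coordinates in a homogeneous representation -/

section Coord

variable {N : Type*} [Group N] [Finite N]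
variable {V : Type*} [AddCommGroup V] [Module ℂ V] [FiniteDimensional ℂ V]
variable {W : Type*} [AddCommGroup W] [Module ℂ W] [FiniteDimensional ℂ W]

/-- A representation whose character is a multiple of an irreducible one is a sum of copies. -/
theorem exists_coord (ρ : Representation ℂ N V) (θ : Representation ℂ N W) [θ.IsIrreducible]
    (k : ℕ) (h : ρ.character = (k : ℂ) • θ.character) :
    ∃ P : V ≃ₗ[ℂ] (Fin k → W), ∀ (n : N) (v : V) (i : Fin k), P (ρ n v) i = θ n (P v i) := by
  classical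
  letI : Fintype N := Fintype.ofFinite N
  have hdimH : finrank ℂ (IntertwiningMap ρ θ) = k := by
    have h1 := classInner_character ρ θ
    rw [h, classInner_smul_right, classInner_irr_self (isIrrCharacter_character θ ‹_›), mul_one,
      Complex.conj_natCast] at h1
    exact_mod_cast h1.symm
  haveI : FiniteDimensional ℂ (IntertwiningMap ρ θ) := inferInstance
  let b := (Module.finBasisOfFinrankEq ℂ (IntertwiningMap ρ θ) hdimH)
  let P : V →ₗ[ℂ] (Fin k → W) := LinearMap.pi fun i => (b i).toLinearMap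
  have hP : ∀ (n : N) (v : V) (i : Fin k), P (ρ n v) i = θ n (P v i) := fun n v i =>
    IntertwiningMap.isIntertwining ρ θ (b i) n v
  have hinj : Function.Injective P := by
    rw [← LinearMap.ker_eq_bot]
    by_contra hne
    let S : Subrepresentation ρ := ⟨LinearMap.ker P, fun n v hv => by
      rw [LinearMap.mem_ker] at hv ⊢
      funext i
      rw [hP, hv, Pi.zero_apply, map_zero]⟩
    haveI : Nontrivial S.toSubmodule := Submodule.nontrivial_iff_ne_bot.2 hne
    obtain ⟨A, hA⟩ := exists_irreducible_sub S.toRepresentation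
    haveI := hA
    let j : A.toSubmodule →ₗ[ℂ] V := S.toSubmodule.subtype ∘ₗ A.toSubmodule.subtype
    have hj : ∀ n x, j (A.toRepresentation n x) = ρ n (j x) := fun n x => rfl
    let jI : IntertwiningMap A.toRepresentation ρ :=
      LinearMap.intertwiningMap_of_isIntertwiningMap A.toRepresentation ρ j hj
    haveI := nontrivial_of_isIrreducible A.toRepresentation
    obtain ⟨x0, hx0⟩ := exists_ne (0 : A.toSubmodule)
    have hjx : j x0 ≠ 0 := fun h0 => hx0 (Subtype.ext (Subtype.ext h0))
    haveI : Nontrivial (IntertwiningMap A.toRepresentation ρ) :=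
      ⟨jI, 0, fun h0 => hjx (by
        have h2 := congrArg (fun f : IntertwiningMap A.toRepresentation ρ => f.toLinearMap x0) h0
        simpa [jI] using h2)⟩
    have hpos : 0 < finrank ℂ (IntertwiningMap A.toRepresentation ρ) := Module.finrank_pos
    have h1 := classInner_character A.toRepresentation ρ
    rw [h, classInner_smul_left] at h1
    have hchar : θ.character = A.toRepresentation.character := by
      by_contra hne'
      rw [classInner_irr_of_ne (isIrrCharacter_character θ ‹_›)
        (isIrrCharacter_character A.toRepresentation hA) hne', mul_zero] at h1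
      have : finrank ℂ (IntertwiningMap A.toRepresentation ρ) = 0 := by exact_mod_cast h1.symm
      omega
    obtain ⟨e⟩ := nonempty_equiv_of_character_eq A.toRepresentation θ hchar.symm
    obtain ⟨r, hr⟩ := LinearMap.exists_leftInverse_of_injective j (LinearMap.ker_eq_bot.2 (by
      intro a c hac
      exact Subtype.ext (Subtype.ext hac)))
    let g : V →ₗ[ℂ] W := (Nat.card N : ℂ)⁻¹ •
      ∑ n : N, θ n ∘ₗ (e.toLinearEquiv.toLinearMap ∘ₗ r) ∘ₗ ρ n⁻¹
    have hg : ∀ m v, g (ρ m v) = θ m (g v) := by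
      intro m v
      simp only [g, LinearMap.smul_apply, LinearMap.sum_apply, LinearMap.comp_apply, map_smul,
        map_sum]
      congr 1
      refine Fintype.sum_equiv (Equiv.mulLeft m⁻¹) _ _ fun n => ?_
      simp only [Equiv.coe_mulLeft, ← Module.End.mul_apply, ← map_mul]
      rw [show (m⁻¹ * n)⁻¹ = n⁻¹ * m by group, show m * (m⁻¹ * n) = n by group]
    have hgj : g (j x0) = e.toLinearEquiv x0 := by
      simp only [g, LinearMap.smul_apply, LinearMap.sum_apply, LinearMap.comp_apply]
      have hterm : ∀ n : N,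
          θ n (e.toLinearEquiv.toLinearMap (r (ρ n⁻¹ (j x0)))) = e.toLinearEquiv x0 := by
        intro n
        have hrj : ∀ a, r (j a) = a := fun a => LinearMap.congr_fun hr a
        rw [← hj, hrj, LinearEquiv.coe_coe]
        have := IntertwiningMap.isIntertwining _ _ e.toIntertwiningMap n⁻¹ x0
        rw [show e.toLinearEquiv (A.toRepresentation n⁻¹ x0) = θ n⁻¹ (e.toLinearEquiv x0) from this,
          ← Module.End.mul_apply, ← map_mul, mul_inv_cancel, map_one, Module.End.one_apply]
      rw [Finset.sum_congr rfl fun n _ => hterm n, Finset.sum_const, Finset.card_univ,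
        ← Nat.cast_smul_eq_nsmul ℂ, ← Nat.card_eq_fintype_card, smul_smul,
        inv_mul_cancel₀ card_ne_zero, one_smul]
    let gI : IntertwiningMap ρ θ := LinearMap.intertwiningMap_of_isIntertwiningMap ρ θ g hg
    have hker : ∀ f : IntertwiningMap ρ θ, f.toLinearMap (j x0) = 0 := by
      intro f
      have hb : ∀ i, (b i).toLinearMap (j x0) = 0 := fun i =>
        congrFun (LinearMap.mem_ker.1 (x0.1.2 : j x0 ∈ LinearMap.ker P)) i
      rw [← b.sum_repr f, IntertwiningMap.toLinearMap_sum, LinearMap.sum_apply]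
      refine Finset.sum_eq_zero fun i _ => ?_
      show b.repr f i • (b i).toLinearMap (j x0) = 0
      rw [hb, smul_zero]
    have h2 : e.toLinearEquiv x0 = 0 := hgj.symm.trans (hker gI)
    exact hx0 (e.toLinearEquiv.map_eq_zero_iff.1 h2)
  have hdim : finrank ℂ V = finrank ℂ (Fin k → W) := by
    have h1 := congrFun h 1
    simp only [Pi.smul_apply, smul_eq_mul, Representation.char_one] at h1
    rw [Module.finrank_pi_fintype]
    simp only [Finset.sum_const, Finset.card_univ, Fintype.card_fin, smul_eq_mul]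
    exact_mod_cast h1
  exact ⟨LinearEquiv.ofBijective P
    ⟨hinj, (LinearMap.injective_iff_surjective_of_finrank_eq_finrank hdim).1 hinj⟩, hP⟩

/-- An endomorphism of `W` acting on every coordinate. -/
noncomputable def lift {k : ℕ} (P : V ≃ₗ[ℂ] (Fin k → W)) (T : Module.End ℂ W) : Module.End ℂ V :=
  P.symm.toLinearMap ∘ₗ (LinearMap.pi fun i => T ∘ₗ LinearMap.proj i) ∘ₗ P.toLinearMap

@[simp] theorem lift_apply {k : ℕ} (P : V ≃ₗ[ℂ] (Fin k → W)) (T : Module.End ℂ W) (v : V)
    (i : Fin k) : P (lift P T v) i = T (P v i) := by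
  simp [lift]

theorem ext_coord {k : ℕ} (P : V ≃ₗ[ℂ] (Fin k → W)) {x y : V} (h : ∀ i, P x i = P y i) : x = y :=
  P.injective (funext h)

theorem lift_mul {k : ℕ} (P : V ≃ₗ[ℂ] (Fin k → W)) (S T : Module.End ℂ W) :
    lift P (S * T) = lift P S * lift P T :=
  LinearMap.ext fun v => ext_coord P fun i => by simp

theorem lift_smul {k : ℕ} (P : V ≃ₗ[ℂ] (Fin k → W)) (a : ℂ) (T : Module.End ℂ W) :
    lift P (a • T) = a • lift P T :=
  LinearMap.ext fun v => ext_coord P fun i => by simp

theorem lift_one {k : ℕ} (P : V ≃ₗ[ℂ] (Fin k → W)) : lift P 1 = 1 :=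
  LinearMap.ext fun v => ext_coord P fun i => by simp

theorem lift_sub {k : ℕ} (P : V ≃ₗ[ℂ] (Fin k → W)) (S T : Module.End ℂ W) :
    lift P (S - T) = lift P S - lift P T :=
  LinearMap.ext fun v => ext_coord P fun i => by simp

variable {k : ℕ} {P : V ≃ₗ[ℂ] (Fin k → W)} {ι : Type*}
variable {A : ι → Module.End ℂ V} {B : ι → Module.End ℂ W}

theorem coord_symm_single (hA : ∀ n v i, P (A n v) i = B n (P v i)) (n : ι) (i : Fin k) (w : W) :
    A n (P.symm (Pi.single i w)) = P.symm (Pi.single i (B n w)) := by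
  classical
  refine ext_coord P fun j => ?_
  rw [hA]
  rcases eq_or_ne j i with rfl | hj
  · simp
  · simp [Pi.single_eq_of_ne hj]

/-- If `S` commutes with every endomorphism commuting with all `B n`, then lifts commute with all
maps to `W` intertwining `A` and `B`. -/
theorem map_lift_comm (hA : ∀ n v i, P (A n v) i = B n (P v i)) {S : Module.End ℂ W}
    (hS : ∀ R : Module.End ℂ W, (∀ n w, R (B n w) = B n (R w)) → ∀ w, R (S w) = S (R w))
    (H : V →ₗ[ℂ] W) (hH : ∀ n v, H (A n v) = B n (H v)) (v : V) : H (lift P S v) = S (H v) := by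
  classical
  let R : Fin k → Module.End ℂ W := fun i =>
    H ∘ₗ P.symm.toLinearMap ∘ₗ LinearMap.single ℂ (fun _ => W) i
  have hR : ∀ i n w, R i (B n w) = B n (R i w) := fun i n w => by
    show H (P.symm (Pi.single i (B n w))) = B n (H (P.symm (Pi.single i w)))
    rw [← coord_symm_single hA, hH]
  have hsum : ∀ x, H x = ∑ i, R i (P x i) := by
    intro x
    conv_lhs => rw [← P.symm_apply_apply x, ← Finset.univ_sum_single (P x), map_sum, map_sum]
    rfl
  rw [hsum, hsum v, map_sum]
  exact Finset.sum_congr rfl fun i _ => by rw [lift_apply, hS _ (hR i)]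

/-- If `S` commutes with every endomorphism commuting with all `B n`, then lifts commute with all
endomorphisms commuting with all `A n`. -/
theorem end_lift_comm (hA : ∀ n v i, P (A n v) i = B n (P v i)) {S : Module.End ℂ W}
    (hS : ∀ R : Module.End ℂ W, (∀ n w, R (B n w) = B n (R w)) → ∀ w, R (S w) = S (R w))
    {R : Module.End ℂ V} (hR : ∀ n v, R (A n v) = A n (R v)) (v : V) :
    R (lift P S v) = lift P S (R v) := by
  refine ext_coord P fun i => ?_
  have := map_lift_comm hA hS (LinearMap.proj i ∘ₗ P.toLinearMap ∘ₗ R) (fun n x => by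
    show P (R (A n x)) i = B n (P (R x) i)
    rw [hR, hA]) v
  rw [lift_apply]
  exact this

variable {N' : Type*} [Group N'] {Φ : Type*} [AddCommGroup Φ] [Module ℂ Φ] [FiniteDimensional ℂ Φ]

/-- The centre of the endomorphism ring of a homogeneous representation is scalar. -/
theorem exists_scalar_of_central (ρ : Representation ℂ N V) (φ : Representation ℂ N Φ)
    [φ.IsIrreducible] {e : ℕ} (Q : V ≃ₗ[ℂ] (Fin e → Φ))
    (hQ : ∀ (n : N) (v : V) (i : Fin e), Q (ρ n v) i = φ n (Q v i)) {z : Module.End ℂ V}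
    (hz : ∀ n v, z (ρ n v) = ρ n (z v))
    (hc : ∀ R : Module.End ℂ V, (∀ n v, R (ρ n v) = ρ n (R v)) → ∀ v, R (z v) = z (R v)) :
    ∃ a : ℂ, z = a • 1 := by
  classical
  rcases Nat.eq_zero_or_pos e with rfl | he
  · refine ⟨0, LinearMap.ext fun v => ext_coord Q fun i => i.elim0⟩
  let i₀ : Fin e := ⟨0, he⟩
  let z₀ : Module.End ℂ Φ := LinearMap.proj i₀ ∘ₗ Q.toLinearMap ∘ₗ z ∘ₗ Q.symm.toLinearMap ∘ₗ
    LinearMap.single ℂ (fun _ => Φ) i₀
  obtain ⟨a, ha⟩ := Clifford.exists_scalar_of_commute φ z₀ (fun n => LinearMap.ext fun w => by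
    show Q (z (Q.symm (Pi.single i₀ (φ n w)))) i₀ = φ n (Q (z (Q.symm (Pi.single i₀ w))) i₀)
    rw [← coord_symm_single (A := fun n => ρ n) (B := fun n => φ n) hQ, hz, hQ])
  refine ⟨a, LinearMap.ext fun v => ext_coord Q fun i => ?_⟩
  -- move coordinate `j` to coordinate `i₀` and back
  let R : Fin e → Fin e → Module.End ℂ V := fun i j =>
    Q.symm.toLinearMap ∘ₗ LinearMap.single ℂ (fun _ => Φ) i ∘ₗ LinearMap.proj j ∘ₗ Q.toLinearMap
  have hR : ∀ i j n v, R i j (ρ n v) = ρ n (R i j v) := by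
    intro i j n v
    show Q.symm (Pi.single i (Q (ρ n v) j)) = ρ n (Q.symm (Pi.single i (Q v j)))
    rw [coord_symm_single (A := fun n => ρ n) (B := fun n => φ n) hQ, hQ]
  have h1 : ∀ w, z₀ w = a • w := fun w => by rw [ha]; simp [Module.algebraMap_end_apply]
  have h2 : Q (R i₀ i (z v)) i₀ = Q (z (R i₀ i v)) i₀ := by rw [hc _ (hR i₀ i)]
  have h3 : Q (R i₀ i (z v)) i₀ = Q (z v) i := by simp [R]
  have h4 : Q (z (R i₀ i v)) i₀ = a • Q v i := h1 (Q v i)
  rw [← h3, h2, h4]
  simp

/-- A nonzero invariant subspace of a homogeneous representation that is stable under the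
endomorphisms is everything. -/
theorem eq_top_of_stable (ρ : Representation ℂ N V) (φ : Representation ℂ N Φ) [φ.IsIrreducible]
    {e : ℕ} (Q : V ≃ₗ[ℂ] (Fin e → Φ))
    (hQ : ∀ (n : N) (v : V) (i : Fin e), Q (ρ n v) i = φ n (Q v i)) (I : Submodule ℂ V)
    (hI : ∀ n, ∀ v ∈ I, ρ n v ∈ I) (hne : I ≠ ⊥)
    (hst : ∀ R : Module.End ℂ V, (∀ n v, R (ρ n v) = ρ n (R v)) → ∀ v ∈ I, R v ∈ I) : I = ⊤ := by
  classical
  obtain ⟨v, hv, hv0⟩ := Submodule.exists_mem_ne_zero_of_ne_bot hne
  obtain ⟨j, hj⟩ : ∃ j, Q v j ≠ 0 := by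
    by_contra! h
    exact hv0 (ext_coord Q fun i => by simp [h])
  let T : Subrepresentation φ := ⟨I.map (LinearMap.proj j ∘ₗ Q.toLinearMap), fun n w hw => by
    obtain ⟨x, hx, rfl⟩ := hw
    exact ⟨ρ n x, hI n x hx, hQ n x j⟩⟩
  have hT : T.toSubmodule = ⊤ := by
    rcases eq_bot_or_eq_top T with h | h
    · exact absurd ((Submodule.eq_bot_iff _).1 (congrArg Subrepresentation.toSubmodule h) (Q v j)
        ⟨v, hv, rfl⟩) hj
    · exact congrArg Subrepresentation.toSubmodule h
  refine eq_top_iff.2 fun y _ => ?_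
  rw [← Q.symm_apply_apply y, ← Finset.univ_sum_single (Q y), map_sum]
  refine Submodule.sum_mem _ fun i _ => ?_
  obtain ⟨x, hx, hxy⟩ : Q y i ∈ T.toSubmodule := hT ▸ Submodule.mem_top
  let R : Module.End ℂ V :=
    Q.symm.toLinearMap ∘ₗ LinearMap.single ℂ (fun _ => Φ) i ∘ₗ LinearMap.proj j ∘ₗ Q.toLinearMap
  have := hst R (fun n u => by
    show Q.symm (Pi.single i (Q (ρ n u) j)) = ρ n (Q.symm (Pi.single i (Q u j)))
    rw [coord_symm_single (A := fun n => ρ n) (B := fun n => φ n) hQ, hQ]) x hx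
  rw [← hxy]
  exact this

end Coord

/-- Commuting operators on a nonzero space have a common eigenvector. -/
theorem exists_common_eigenvector {ι : Type*} [Fintype ι] {V : Type*} [AddCommGroup V] [Module ℂ V]
    [FiniteDimensional ℂ V] [Nontrivial V] (τ : ι → Module.End ℂ V)
    (h : ∀ i j x, τ i (τ j x) = τ j (τ i x)) :
    ∃ (w : ι → ℂ) (x : V), x ≠ 0 ∧ ∀ i, τ i x = w i • x := by
  classical
  suffices H : ∀ s : Finset ι, ∃ S : Submodule ℂ V, S ≠ ⊥ ∧ (∀ i, ∀ x ∈ S, τ i x ∈ S) ∧
      ∀ i ∈ s, ∃ a : ℂ, ∀ x ∈ S, τ i x = a • x by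
    obtain ⟨S, hS, -, hs⟩ := H Finset.univ
    obtain ⟨x, hx, hx0⟩ := Submodule.exists_mem_ne_zero_of_ne_bot hS
    choose a ha using fun i => hs i (Finset.mem_univ i)
    exact ⟨a, x, hx0, fun i => ha i x hx⟩
  intro s
  induction s using Finset.induction with
  | empty => exact ⟨⊤, top_ne_bot, fun _ _ _ => trivial, by simp⟩
  | insert i s hi ih =>
    obtain ⟨S, hS, hinv, hs⟩ := ih
    haveI : Nontrivial S := Submodule.nontrivial_iff_ne_bot.2 hS
    obtain ⟨a, ha⟩ := Module.End.exists_eigenvalue ((τ i).restrict (hinv i))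
    obtain ⟨y, hy⟩ := ha.exists_hasEigenvector
    have hy' : τ i (y : V) = a • (y : V) := congrArg Subtype.val hy.apply_eq_smul
    refine ⟨S ⊓ LinearMap.ker (τ i - a • 1), ?_, fun j x hx => ⟨hinv j x hx.1, ?_⟩, fun j hj => ?_⟩
    · refine fun h0 => hy.2 (Subtype.ext ?_)
      have : (y : V) ∈ S ⊓ LinearMap.ker (τ i - a • 1) := ⟨y.2, by simp [hy']⟩
      rw [h0] at this
      exact (Submodule.mem_bot ℂ).1 this
    · have : τ i x = a • x := sub_eq_zero.1 (by simpa using hx.2)
      show _ ∈ LinearMap.ker (τ i - a • 1)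
      simp [h i j x, this]
    · rcases Finset.mem_insert.1 hj with rfl | hj
      · exact ⟨a, fun x hx => sub_eq_zero.1 (by simpa using hx.2)⟩
      · obtain ⟨b, hb⟩ := hs j hj
        exact ⟨b, fun x hx => hb x hx.1⟩

/-! ### Blocks -/

section Blocks

variable {G : Type*} [Group G] {M : Subgroup G} [M.Normal] {L : Subgroup G} [L.Normal]
variable {W : Type*} [AddCommGroup W] [Module ℂ W] [FiniteDimensional ℂ W]
variable (θ : Representation ℂ M W)

/-- Endomorphisms of `W` commuting with the action of `L`. -/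
def CommL (L : Subgroup G) (S : Module.End ℂ W) : Prop :=
  ∀ l : M, (l : G) ∈ L → S * θ l = θ l * S

/-- `T` commutes with `L` and implements conjugation by `g`, up to a unit central in the
`L`-endomorphisms. -/
def Implements (L : Subgroup G) (g : G) (T : (Module.End ℂ W)ˣ) : Prop :=
  CommL θ L T ∧ ∃ c : (Module.End ℂ W)ˣ, (∀ S, CommL θ L S → S * c = c * S) ∧
    ∀ m : M, c * T * θ m = θ (MulAut.conjNormal g m) * (c * T)

variable {θ}

omit [FiniteDimensional ℂ W] in
theorem commL_one : CommL θ L 1 := fun l _ => by simp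

omit [FiniteDimensional ℂ W] in
theorem CommL.mul {S T : Module.End ℂ W} (hS : CommL θ L S) (hT : CommL θ L T) :
    CommL θ L (S * T) := fun l hl => by
  rw [mul_assoc, hT l hl, ← mul_assoc, hS l hl, mul_assoc]

omit [FiniteDimensional ℂ W] in
theorem CommL.inv {T : (Module.End ℂ W)ˣ} (hT : CommL θ L T) : CommL θ L ↑T⁻¹ := fun l hl =>
  ((show Commute (T : Module.End ℂ W) (θ l) from hT l hl).units_inv_left).eq

omit [FiniteDimensional ℂ W] in
theorem Implements.mul {g h : G} {S T : (Module.End ℂ W)ˣ} (hS : Implements θ L g S)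
    (hT : Implements θ L h T) : Implements θ L (g * h) (S * T) := by
  obtain ⟨hS1, c, hc, hS2⟩ := hS
  obtain ⟨hT1, d, hd, hT2⟩ := hT
  refine ⟨by rw [Units.val_mul]; exact hS1.mul hT1, c * d, fun R hR => ?_, fun m => ?_⟩
  · rw [Units.val_mul, ← mul_assoc, hc R hR, mul_assoc, hd R hR, mul_assoc]
  · have e : ((c * d : (Module.End ℂ W)ˣ) : Module.End ℂ W) * ((S * T : (Module.End ℂ W)ˣ) :
        Module.End ℂ W) = (c * S) * (d * T) := by
      simp only [Units.val_mul, mul_assoc]
      congr 1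
      rw [← mul_assoc, ← hd S hS1, mul_assoc]
    rw [e, mul_assoc _ _ (θ m), hT2, ← mul_assoc, hS2, mul_assoc]
    congr 2
    rw [map_mul]
    rfl

omit [FiniteDimensional ℂ W] in
theorem Implements.inv {g : G} {T : (Module.End ℂ W)ˣ} (hT : Implements θ L g T) :
    Implements θ L g⁻¹ T⁻¹ := by
  obtain ⟨hT1, c, hc, hT2⟩ := hT
  refine ⟨hT1.inv, c⁻¹, fun R hR => (Commute.units_inv_right (hc R hR : Commute R _)).eq,
    fun m => ?_⟩
  have hcT : Commute (T : Module.End ℂ W) (c : Module.End ℂ W) := hc _ hT1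
  have e : (↑c⁻¹ : Module.End ℂ W) * ↑T⁻¹ = ↑(c * T)⁻¹ := by
    rw [← Units.val_mul]
    exact congrArg Units.val (by
      rw [← mul_inv_rev]
      exact congrArg (·⁻¹) (Units.ext hcT.eq))
  rw [e]
  have h := hT2 (MulAut.conjNormal g⁻¹ m)
  rw [← MulAut.mul_apply, ← map_mul, mul_inv_cancel, map_one, MulAut.one_apply,
    ← Units.val_mul] at h
  have h' := congrArg (fun X => (↑(c * T)⁻¹ : Module.End ℂ W) * X * ↑(c * T)⁻¹) h
  simp only [Units.inv_mul_cancel_left, mul_assoc, Units.mul_inv, mul_one] at h'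
  exact h'.symm

omit [FiniteDimensional ℂ W] in
theorem implements_of_mem {l : M} (hl : (l : G) ∈ L) : Implements θ L (l : G) 1 := by
  let c : (Module.End ℂ W)ˣ := MonoidHom.toHomUnits (θ : M →* Module.End ℂ W) l
  refine ⟨commL_one, c, fun S hS => hS l hl, fun m => ?_⟩
  show θ l * 1 * θ m = θ _ * (θ l * 1)
  rw [mul_one, ← map_mul, ← map_mul]
  exact congrArg _ (Subtype.ext (by simp [mul_assoc]))

omit [FiniteDimensional ℂ W] in
theorem implements_one : Implements θ L 1 1 := by
  simpa using implements_of_mem (θ := θ) (l := 1) (by simpa using L.one_mem)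

omit [FiniteDimensional ℂ W] in
theorem Implements.pow {g : G} {T : (Module.End ℂ W)ˣ} (hT : Implements θ L g T) (n : ℕ) :
    Implements θ L (g ^ n) (T ^ n) := by
  induction n with
  | zero => simpa using implements_one
  | succ n ih => rw [pow_succ, pow_succ]; exact ih.mul hT

omit [FiniteDimensional ℂ W] in
theorem CommL.conj_mem {S : Module.End ℂ W} (hS : CommL θ L S) (m : M) :
    CommL θ L (θ m * S * θ m⁻¹) := by
  intro l hl
  have h := hS (m⁻¹ * l * m) (by simpa using Subgroup.Normal.conj_mem ‹L.Normal› _ hl (m : G)⁻¹)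
  calc θ m * S * θ m⁻¹ * θ l = θ m * (S * θ (m⁻¹ * l * m)) * θ m⁻¹ := by
        simp only [mul_assoc, ← map_mul]; congr 3; group
    _ = θ m * (θ (m⁻¹ * l * m) * S) * θ m⁻¹ := by rw [h]
    _ = θ l * (θ m * S * θ m⁻¹) := by
        rw [← mul_assoc (θ m), ← map_mul, show m * (m⁻¹ * l * m) = l * m by group, map_mul]
        simp only [mul_assoc]

variable [Finite G] [θ.IsIrreducible]
variable {Φ : Type*} [AddCommGroup Φ] [Module ℂ Φ] [FiniteDimensional ℂ Φ]
variable {φ : Representation ℂ (L.subgroupOf M) Φ} [φ.IsIrreducible]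

theorem Implements.unique {e : ℕ} (Q : W ≃ₗ[ℂ] (Fin e → Φ))
    (hQ : ∀ (n : L.subgroupOf M) (v : W) (i : Fin e), Q (θ n v) i = φ n (Q v i)) {g : G}
    {S T : (Module.End ℂ W)ˣ} (hS : Implements θ L g S) (hT : Implements θ L g T) :
    ∃ a : ℂ, a ≠ 0 ∧ (S : Module.End ℂ W) = a • (T : Module.End ℂ W) := by
  haveI := nontrivial_of_isIrreducible θ
  -- reduce to an element implementing `1`
  have h := hS.mul hT.inv
  rw [mul_inv_cancel] at h
  obtain ⟨hR, c, hc, hc'⟩ := h
  set R : (Module.End ℂ W)ˣ := S * T⁻¹ with hRdef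
  obtain ⟨a, ha⟩ := Clifford.exists_scalar_of_commute θ ((c : Module.End ℂ W) * R) fun m => by
    rw [hc' m, map_one, MulAut.one_apply]
  rw [Algebra.algebraMap_eq_smul_one] at ha
  have hRc : (R : Module.End ℂ W) = a • ↑c⁻¹ := by
    have := congrArg (fun X => (↑c⁻¹ : Module.End ℂ W) * X) ha
    simpa using this
  obtain ⟨b, hb⟩ := exists_scalar_of_central (θ.comp (L.subgroupOf M).subtype) φ Q hQ
    (z := (R : Module.End ℂ W)) (fun n v => LinearMap.congr_fun (hR n n.2) v) (fun X hX v => by
      have hX' : CommL θ L X := fun l hl => LinearMap.ext fun w => hX ⟨l, hl⟩ w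
      have h2 : X * ↑c⁻¹ = ↑c⁻¹ * X := (Commute.units_inv_right (hc X hX' : Commute X _)).eq
      have h3 : X * (R : Module.End ℂ W) = R * X := by
        rw [hRc, mul_smul_comm, h2, smul_mul_assoc]
      exact LinearMap.congr_fun h3 v)
  have hb0 : b ≠ 0 := fun h0 => by
    rw [h0, zero_smul] at hb
    exact one_ne_zero (α := Module.End ℂ W) (by rw [← Units.mul_inv R, hb, zero_mul])
  refine ⟨b, hb0, ?_⟩
  have h4 : (S : Module.End ℂ W) = (R : Module.End ℂ W) * T := by simp [hRdef]
  rw [h4, hb, smul_one_mul]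

/-- An element fixing the constituent is implemented. -/
theorem exists_implements {e : ℕ} (Q : W ≃ₗ[ℂ] (Fin e → Φ))
    (hQ : ∀ (n : L.subgroupOf M) (v : W) (i : Fin e), Q (θ n v) i = φ n (Q v i)) {g : G}
    (hθ : ∀ m : M, θ.character (MulAut.conjNormal g m) = θ.character m)
    (hφ : ∀ l l' : L.subgroupOf M, ((l' : M) : G) = g * ((l : M) : G) * g⁻¹ →
      φ.character l' = φ.character l) : ∃ T, Implements θ L g T := by
  let aL : L.subgroupOf M →* L.subgroupOf M :=
    { toFun := fun l => ⟨MulAut.conjNormal g (l : M), by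
        rw [Subgroup.mem_subgroupOf, MulAut.conjNormal_apply]
        exact Subgroup.Normal.conj_mem ‹L.Normal› _ l.2 g⟩
      map_one' := Subtype.ext (map_one _)
      map_mul' := fun x y => Subtype.ext (map_mul _ _ _) }
  obtain ⟨w⟩ := nonempty_equiv_of_character_eq θ
    (θ.comp (MulAut.conjNormal g : MulAut M).toMonoidHom)
    (funext fun m => (hθ m).symm)
  obtain ⟨u⟩ := nonempty_equiv_of_character_eq φ (φ.comp aL)
    (funext fun l => (hφ l (aL l) (by simp [aL])).symm)
  let cW : W ≃ₗ[ℂ] W := Q.trans ((LinearEquiv.piCongrRight fun _ => u.toLinearEquiv).trans Q.symm)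
  let c : (Module.End ℂ W)ˣ := ⟨cW.toLinearMap, cW.symm.toLinearMap,
    LinearMap.ext cW.apply_symm_apply, LinearMap.ext cW.symm_apply_apply⟩
  let wu : (Module.End ℂ W)ˣ := ⟨w.toLinearEquiv.toLinearMap, w.toLinearEquiv.symm.toLinearMap,
    LinearMap.ext w.toLinearEquiv.apply_symm_apply, LinearMap.ext w.toLinearEquiv.symm_apply_apply⟩
  have hw : ∀ m, (wu : Module.End ℂ W) * θ m = θ (MulAut.conjNormal g m) * wu := fun m =>
    LinearMap.ext fun x => IntertwiningMap.isIntertwining _ _ w.toIntertwiningMap m x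
  have hcQ : ∀ v i, Q ((c : Module.End ℂ W) v) i = u.toLinearEquiv (Q v i) := fun v i => by
    simp [c, cW]
  have hcl : ∀ l : M, (l : G) ∈ L →
      (c : Module.End ℂ W) * θ l = θ (MulAut.conjNormal g l) * c := by
    intro l hl
    refine LinearMap.ext fun v => ext_coord Q fun i => ?_
    show Q ((c : Module.End ℂ W) (θ l v)) i = Q (θ _ ((c : Module.End ℂ W) v)) i
    rw [hcQ, hQ ⟨l, hl⟩,
      show MulAut.conjNormal g l = ((aL ⟨l, hl⟩ : L.subgroupOf M) : M) from rfl, hQ, hcQ]
    exact IntertwiningMap.isIntertwining _ _ u.toIntertwiningMap ⟨l, hl⟩ (Q v i)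
  refine ⟨c⁻¹ * wu, fun l hl => ?_, c, fun S hS => ?_, fun m => ?_⟩
  · rw [Units.val_mul, mul_assoc, hw, ← mul_assoc (↑c⁻¹ : Module.End ℂ W), ← mul_assoc (θ l)]
    congr 1
    rw [← Units.inv_mul_cancel_left c (θ l * ↑c⁻¹), ← mul_assoc (c : Module.End ℂ W), hcl l hl,
      mul_assoc, Units.mul_inv, mul_one]
  · refine LinearMap.ext fun v => ?_
    have hR : ∀ (n : L.subgroupOf M) x, S (θ n x) = θ n (S x) := fun n x =>
      LinearMap.congr_fun (hS n n.2) x
    have hc2 : (c : Module.End ℂ W) = lift Q u.toLinearEquiv.toLinearMap :=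
      LinearMap.ext fun x => ext_coord Q fun i => by rw [lift_apply, hcQ]; rfl
    rw [hc2]
    refine end_lift_comm (A := fun n : L.subgroupOf M => θ n) (B := fun n => φ n) hQ
      (fun X hX x => ?_) hR v
    obtain ⟨a, rfl⟩ : ∃ a : ℂ, X = algebraMap ℂ _ a :=
      Clifford.exists_scalar_of_commute φ X fun n => LinearMap.ext fun y => hX n y
    simp [Module.algebraMap_end_apply]
  · rw [← Units.val_mul c (c⁻¹ * wu), mul_inv_cancel_left, hw]

theorem Implements.smul {g : G} {T : (Module.End ℂ W)ˣ} (hT : Implements θ L g T) (a : ℂˣ) :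
    Implements θ L g (Units.map (algebraMap ℂ (Module.End ℂ W)).toMonoidHom a * T) := by
  obtain ⟨h1, c, hc, h2⟩ := hT
  refine ⟨fun l hl => ?_, c, hc, fun m => ?_⟩
  · simp only [Units.val_mul, Units.coe_map, RingHom.toMonoidHom_eq_coe, MonoidHom.coe_coe,
      Algebra.algebraMap_eq_smul_one, smul_mul_assoc, one_mul, mul_smul_comm]
    rw [h1 l hl]
  · simp only [Units.val_mul, Units.coe_map, RingHom.toMonoidHom_eq_coe, MonoidHom.coe_coe,
      Algebra.algebraMap_eq_smul_one, smul_mul_assoc, one_mul, mul_smul_comm]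
    rw [h2]

end Blocks

end Cfsg.Agent.Char
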