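import Cfsg.Agent.Lib.Char.HomogeneousBlocks
import Cfsg.Agent.Lib.Char.Clifford
import Mathlib.Algebra.Algebra.Subalgebra.Basic

/-!
# Induced homogeneous characters

`sq_eq_index` : if `χ` is homogeneous on the normal subgroups `L ≤ M` and vanishes on `M \ L`, the
section is fully ramified.  `exists_indFun_ge` : see `Cfsg.Agent.Lib.Char.HomogeneousBlocks`.
-/

set_option autoImplicit false
set_option linter.style.haveILetI false
set_option linter.unusedSectionVars false

namespace Cfsg.Agent.Char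

open Representation Module

variable {G : Type*} [Group G] [Finite G]

/-- If `χ` is homogeneous on `L ≤ M` and vanishes on `M \ L`, the degree ratio squared is the
index. -/
theorem sq_eq_index {M L : Subgroup G} [Fintype M] {χ : G → ℂ}
    {θ : IrrCharacter M} {k : ℕ} (hk : k ≠ 0) (hθ : ∀ m : M, χ m = k * θ.1 m)
    (hvan : ∀ m ∈ M, m ∉ L → χ m = 0) {φ : IrrCharacter (L.subgroupOf M)} {e : ℕ}
    (hφ : ∀ l : L.subgroupOf M, θ.1 (l : M) = e * φ.1 l) : e ^ 2 = L.relIndex M := by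
  classical
  letI : Fintype (L.subgroupOf M) := Fintype.ofFinite _
  have hk' : (k : ℂ) ≠ 0 := Nat.cast_ne_zero.2 hk
  have h1 : classInner θ.1 θ.1 = 1 := classInner_irr_self θ.2
  have h2 : classInner φ.1 φ.1 = 1 := classInner_irr_self φ.2
  have hzero : ∀ m : M, m ∉ L.subgroupOf M → θ.1 m = 0 := fun m hm => by
    have := hvan m m.2 hm
    rw [hθ] at this
    exact (mul_eq_zero.1 this).resolve_left hk'
  have hsum : ∑ m : M, θ.1 m * starRingEnd ℂ (θ.1 m) =
      (e : ℂ) ^ 2 * ∑ l : L.subgroupOf M, φ.1 l * starRingEnd ℂ (φ.1 l) := by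
    rw [Finset.mul_sum]
    refine (Fintype.sum_of_injective (Subtype.val : L.subgroupOf M → M) Subtype.val_injective
      _ _ ?_ ?_).symm
    · intro m hm
      rw [hzero m fun h => hm ⟨⟨m, h⟩, rfl⟩, zero_mul]
    · intro l
      rw [hφ, map_mul, Complex.conj_natCast]
      ring
  have hne : (Nat.card M : ℂ) ≠ 0 := card_ne_zero
  have hne' : (Nat.card (L.subgroupOf M) : ℂ) ≠ 0 := card_ne_zero
  rw [classInner] at h1 h2
  rw [hsum] at h1
  field_simp at h1 h2
  rw [h2, ← (L.subgroupOf M).card_mul_index, Nat.cast_mul, mul_comm] at h1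
  have h3 : (e : ℂ) ^ 2 = ((L.subgroupOf M).index : ℂ) := mul_left_cancel₀ hne' h1
  exact_mod_cast h3

set_option maxHeartbeats 1600000 in
/-- The main step: from an inducing subgroup `K` one obtains one containing `M`. -/
theorem exists_indFun_ge [Fintype G] (χ : IrrCharacter G) (K M L : Subgroup G) [M.Normal]
    [L.Normal] (hML : M ⊓ K = L) (hgen : ∀ g : G, ∃ m ∈ M, ∃ k ∈ K, g = m * k)
    (ψ : K → ℂ) (hψ : IsCharacter K ψ) (hind : indFun K ψ = χ.1)
    (θc : IrrCharacter M) (k : ℕ) (hθ : resFun M χ.1 = (k : ℂ) • θc.1)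
    (φc : IrrCharacter L) (k' : ℕ) (hφ : resFun L χ.1 = (k' : ℂ) • φc.1)
    (U : Subgroup G) (hUn : ∀ a ∈ K, ∀ u ∈ U, a * u * a⁻¹ ∈ U)
    (hcomm : ∀ u ∈ U, ∀ v ∈ U, (v * u)⁻¹ * (u * v) ∈ L)
    (h : ℕ) (hpow : ∀ u ∈ U, u ^ h ∈ L) (hcop : h.Coprime (L.relIndex M))
    (hact : ∃ u ∈ U, ∃ m ∈ M, u * m * u⁻¹ * m⁻¹ ∉ L) :
    ∃ H : Subgroup G, M ≤ H ∧ H ≠ ⊤ ∧ ∃ ξ : H → ℂ, IsCharacter H ξ ∧ indFun H ξ = χ.1 := by
  classical
  letI : Fintype M := Fintype.ofFinite M
  letI : Fintype (L.subgroupOf M) := Fintype.ofFinite _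
  letI : Fintype U := Fintype.ofFinite U
  haveI hLK : L ≤ K := hML ▸ inf_le_right
  haveI hLM : L ≤ M := hML ▸ inf_le_left
  have hcl := IsCharacter.isClassFunction (irr_isCharacter χ)
  have hk0 : k ≠ 0 := fun h0 => IsIrrCharacter.apply_one_ne_zero χ.2 (by
    have := congrFun hθ 1
    simpa [h0] using this)
  -- the constituent on `L.subgroupOf M`
  let ι : L.subgroupOf M →* L :=
    { toFun := fun l => ⟨((l : M) : G), l.2⟩, map_one' := rfl, map_mul' := fun _ _ => rfl }
  have hι : Function.Surjective ι := fun l => ⟨⟨⟨l.1, hLM l.2⟩, l.2⟩, rfl⟩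
  let φ' : IrrCharacter (L.subgroupOf M) :=
    ⟨fun l => φc.1 (ι l), IsIrrCharacter.comp_surjective φc.2 ι hι⟩
  have hθL : ∃ e : ℕ, ∀ l : L.subgroupOf M, θc.1 (l : M) = e * φ'.1 l := by
    obtain ⟨mm, hmm, hmm'⟩ := IsCharacter.exists_decomp
      (IsCharacter.restrict (irr_isCharacter θc) (L.subgroupOf M))
    have hkl : ∀ l : L.subgroupOf M, (k : ℂ) * θc.1 (l : M) = k' * φ'.1 l := fun l => by
      have h1 := congrFun hθ (l : M)
      have h2 := congrFun hφ (ι l)
      simp only [resFun_apply, Pi.smul_apply, smul_eq_mul] at h1 h2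
      exact h1.symm.trans h2
    refine ⟨mm φ', fun l => ?_⟩
    have hz : ∀ η, η ≠ φ' → mm η = 0 := by
      intro η hη
      have h1 : classInner ((k : ℂ) • fun l : L.subgroupOf M => θc.1 (l : M)) η.1 =
          classInner ((k' : ℂ) • φ'.1) η.1 := congrArg (classInner · η.1) (funext hkl)
      rw [classInner_smul_left, classInner_smul_left, hmm',
        classInner_irr_of_ne φ'.2 η.2 (fun he => hη (Subtype.ext he.symm)), mul_zero] at h1
      exact_mod_cast (mul_eq_zero.1 h1).resolve_left (Nat.cast_ne_zero.2 hk0)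
    have := congrFun hmm l
    rw [Finset.sum_apply, Finset.sum_eq_single φ' (fun η _ hη => by simp [hz η hη]) (by simp)] at this
    simpa using this
  obtain ⟨e, he⟩ := hθL
  have hvan : ∀ m ∈ M, m ∉ L → χ.1 m = 0 := by
    intro m hm hmL
    rw [← hind]
    refine indFun_eq_zero_of_forall_notMem K ψ fun x hx => hmL ?_
    have h1 : x⁻¹ * m * x ∈ L := hML ▸ ⟨by
      simpa using Subgroup.Normal.conj_mem ‹M.Normal› m hm x⁻¹, hx⟩
    simpa [mul_assoc] using Subgroup.Normal.conj_mem ‹L.Normal› _ h1 x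
  have hen : e ^ 2 = L.relIndex M := sq_eq_index hk0
    (fun m => by simpa using congrFun hθ m) hvan he
  -- representations
  obtain ⟨d, ρ, hρ, hρχ⟩ := χ.2
  haveI := hρ
  obtain ⟨dθ, θ, hθi, hθc⟩ := θc.2
  haveI := hθi
  obtain ⟨dφ, φ, hφi, hφc⟩ := φ'.2
  haveI := hφi
  obtain ⟨P, hP⟩ := exists_coord (ρ.comp M.subtype) θ k (funext fun m => by
    show ρ.character (m : G) = _
    rw [hρχ, Pi.smul_apply, hθc]
    exact congrFun hθ m)
  obtain ⟨Q, hQ⟩ := exists_coord (θ.comp (L.subgroupOf M).subtype) φ e (funext fun l => by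
    show θ.character (l : M) = _
    rw [hθc, Pi.smul_apply, hφc]
    exact he l)
  replace hP : ∀ (m : M) v i, P (ρ (m : G) v) i = θ m (P v i) := hP
  replace hQ : ∀ (l : L.subgroupOf M) v i, Q (θ (l : M) v) i = φ l (Q v i) := hQ
  haveI := nontrivial_of_isIrreducible ρ
  haveI := nontrivial_of_isIrreducible θ
  -- the implementing units
  have hinv : ∀ g : G, ∃ T, Implements θ L g T := by
    intro g
    refine exists_implements Q hQ (fun m => ?_) (fun l l' hll => ?_)
    · have hkk : (k : ℂ) ≠ 0 := Nat.cast_ne_zero.2 hk0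
      rw [hθc]
      refine mul_left_cancel₀ hkk ?_
      have h1 := congrFun hθ (MulAut.conjNormal g m)
      have h2 := congrFun hθ m
      simp only [resFun_apply, Pi.smul_apply, smul_eq_mul, MulAut.conjNormal_apply] at h1 h2
      rw [← h1, ← h2]
      exact hcl (m : G) g
    · rw [hφc]
      have hk'0 : (k' : ℂ) ≠ 0 := fun h0 => IsIrrCharacter.apply_one_ne_zero χ.2 (by
        have := congrFun hφ 1
        simpa [h0] using this)
      refine mul_left_cancel₀ hk'0 ?_
      have h1 := congrFun hφ (ι l')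
      have h2 := congrFun hφ (ι l)
      simp only [resFun_apply, Pi.smul_apply, smul_eq_mul] at h1 h2
      show (k' : ℂ) * φc.1 (ι l') = k' * φc.1 (ι l)
      rw [← h1, ← h2]
      show χ.1 ((l' : M) : G) = χ.1 ((l : M) : G)
      rw [hll]
      exact hcl _ g
  choose T hT using hinv
  have huniq : ∀ {g : G} {S S' : (Module.End ℂ (Fin dθ → ℂ))ˣ}, Implements θ L g S →
      Implements θ L g S' → ∃ a : ℂ, a ≠ 0 ∧
      (S : Module.End ℂ (Fin dθ → ℂ)) = a • (S' : Module.End ℂ (Fin dθ → ℂ)) :=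
    fun hS hS' => Implements.unique Q hQ hS hS'
  -- the operators of `U` commute
  have hTcomm : ∀ u ∈ U, ∀ v ∈ U, ((T u : Module.End ℂ (Fin dθ → ℂ))) * T v = T v * T u := by
    intro u hu v hv
    have h1 : Implements θ L (u * v) (T u * T v) := (hT u).mul (hT v)
    have h2 : Implements θ L (u * v) (T v * T u * 1) := by
      have h3 := ((hT v).mul (hT u)).mul
        (implements_of_mem (θ := θ) (l := (⟨(v * u)⁻¹ * (u * v), hLM (hcomm u hu v hv)⟩ : M))
          (hcomm u hu v hv))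
      simpa [mul_assoc] using h3
    rw [mul_one] at h2
    obtain ⟨ζ, hζ0, hζ⟩ := huniq h1 h2
    rw [Units.val_mul, Units.val_mul] at hζ
    suffices ζ = 1 by rw [hζ, this, one_smul]
    -- `ζ ^ h = 1`
    have hp1 : Implements θ L (u ^ h) (T u ^ h) := (hT u).pow h
    have hp2 : Implements θ L (u ^ h) 1 :=
      implements_of_mem (θ := θ) (l := (⟨u ^ h, hLM (hpow u hu)⟩ : M)) (hpow u hu)
    obtain ⟨c, hc0, hc⟩ := huniq hp1 hp2
    rw [Units.val_pow_eq_pow_val, Units.val_one] at hc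
    have hpw : ∀ n : ℕ, (T u : Module.End ℂ (Fin dθ → ℂ)) ^ n * T v =
        ζ ^ n • (T v * (T u : Module.End ℂ (Fin dθ → ℂ)) ^ n) := by
      intro n
      induction n with
      | zero => simp
      | succ n ih =>
        rw [pow_succ, mul_assoc, hζ, mul_smul_comm, ← mul_assoc, ih, smul_mul_assoc, smul_smul,
          mul_assoc, ← pow_succ', ← pow_succ]
    have hh : ζ ^ h = 1 := by
      have h4 := hpw h
      rw [hc, smul_mul_assoc, one_mul, mul_smul_comm, mul_one, smul_smul] at h4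
      have h5 : (T v : Module.End ℂ (Fin dθ → ℂ)) ≠ 0 := (T v).ne_zero
      have h6 := smul_left_injective ℂ h5 h4
      exact mul_right_cancel₀ hc0 ((one_mul c).trans h6).symm
    -- `ζ ^ (e * e) = 1`, from the norm of the algebra of `L`-endomorphisms
    let A : Subalgebra ℂ (Module.End ℂ (Fin dθ → ℂ)) :=
      Subalgebra.centralizer ℂ (Set.range fun l : L.subgroupOf M => θ (l : M))
    have hA : ∀ S, CommL θ L S → S ∈ A := fun S hS =>
      Subalgebra.mem_centralizer_iff (R := ℂ) |>.2 fun x ⟨l, hl⟩ => hl ▸ (hS l l.2).symm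
    have hdim : finrank ℂ A = e ^ 2 := by
      let θL : Representation ℂ (L.subgroupOf M) (Fin dθ → ℂ) := θ.comp (L.subgroupOf M).subtype
      have hc2 : ∀ (S : A) l v, (S : Module.End ℂ (Fin dθ → ℂ)) (θL l v) = θL l (S.1 v) :=
        fun S l v => (LinearMap.congr_fun (Subalgebra.mem_centralizer_iff (R := ℂ) |>.1 S.2
          (θ (l : M)) ⟨l, rfl⟩) v).symm
      let E : A ≃ₗ[ℂ] IntertwiningMap θL θL :=
        { toFun := fun S => LinearMap.intertwiningMap_of_isIntertwiningMap θL θL S.1 (hc2 S)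
          map_add' := fun _ _ => IntertwiningMap.ext rfl
          map_smul' := fun _ _ => IntertwiningMap.ext rfl
          invFun := fun f => ⟨f.toLinearMap, hA _ fun l hl => LinearMap.ext fun v =>
            IntertwiningMap.isIntertwining θL θL f ⟨l, hl⟩ v⟩
          left_inv := fun _ => rfl
          right_inv := fun _ => IntertwiningMap.ext rfl }
      have hch : θL.character = (e : ℂ) • φ'.1 := funext fun l => by
        show θ.character (l : M) = _
        rw [hθc]
        exact he l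
      have h7 := classInner_character θL θL
      rw [hch, classInner_smul_left, classInner_smul_right, classInner_irr_self φ'.2, mul_one,
        Complex.conj_natCast, ← sq, ← E.finrank_eq] at h7
      exact_mod_cast h7.symm
    let a : Aˣ := ⟨⟨_, hA _ (hT u).1⟩, ⟨_, hA _ (hT u).inv.1⟩, Subtype.ext (T u).mul_inv,
      Subtype.ext (T u).inv_mul⟩
    let b : Aˣ := ⟨⟨_, hA _ (hT v).1⟩, ⟨_, hA _ (hT v).inv.1⟩, Subtype.ext (T v).mul_inv,
      Subtype.ext (T v).inv_mul⟩
    have hab : (a : A) * b = ζ • ((b : A) * a) := Subtype.ext hζ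
    haveI : Module.Free ℂ A := Module.Free.of_divisionRing ℂ A
    have he1 : ζ ^ (e ^ 2) = 1 := by
      have h8 := congrArg (Algebra.norm ℂ) hab
      rw [Algebra.smul_def, map_mul, map_mul, map_mul, Algebra.norm_algebraMap, hdim,
        mul_comm (Algebra.norm ℂ (b : A))] at h8
      have hnz : ∀ x : Aˣ, Algebra.norm ℂ (x : A) ≠ 0 := fun x h0 => by
        have hx := congrArg (Algebra.norm ℂ) x.mul_inv
        rw [map_mul, h0, zero_mul, map_one] at hx
        exact zero_ne_one hx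
      have h9 : Algebra.norm ℂ (a : A) * Algebra.norm ℂ (b : A) ≠ 0 := mul_ne_zero (hnz a) (hnz b)
      exact (mul_eq_right₀ h9).1 h8.symm
    have hg : h.gcd (e ^ 2) = 1 := hen ▸ hcop
    simpa [hg] using pow_gcd_eq_one.2 ⟨hh, he1⟩
  -- the subspace of `ψ`
  obtain ⟨dψ, σ, hσ⟩ := hψ
  obtain ⟨j, hj, hj0⟩ : ∃ j : (Fin dψ → ℂ) →ₗ[ℂ] (Fin d → ℂ),
      (∀ (a : K) x, j (σ a x) = ρ (a : G) (j x)) ∧ j ≠ 0 := by
    let ρK : Representation ℂ K (Fin d → ℂ) := ρ.comp K.subtype
    letI : Fintype K := Fintype.ofFinite K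
    have h1 := classInner_character σ ρK
    have h2 : classInner ρK.character σ.character = 1 := by
      rw [hσ, show ρK.character = fun a : K => χ.1 a from funext fun a => congrFun hρχ (a : G),
        ← classInner_indFun_right K ψ hcl, hind, classInner_irr_self χ.2]
    rw [h2] at h1
    have h3 : finrank ℂ (IntertwiningMap σ ρK) = 1 := by exact_mod_cast h1.symm
    haveI : Nontrivial (IntertwiningMap σ ρK) := Module.nontrivial_of_finrank_eq_succ h3
    obtain ⟨f, hf⟩ := exists_ne (0 : IntertwiningMap σ ρK)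
    exact ⟨f.toLinearMap, fun a x => IntertwiningMap.isIntertwining σ ρK f a x,
      fun h0 => hf (IntertwiningMap.ext h0)⟩
  let X0 : Submodule ℂ (Fin d → ℂ) := LinearMap.range j
  have hX0 : ∀ a ∈ K, ∀ x ∈ X0, ρ a x ∈ X0 := by
    rintro a ha _ ⟨y, rfl⟩
    exact ⟨σ ⟨a, ha⟩ y, hj ⟨a, ha⟩ y⟩
  obtain ⟨y0, hy0⟩ : ∃ y, j y ≠ 0 := by
    by_contra! h0
    exact hj0 (LinearMap.ext h0)
  let LM := L.subgroupOf M
  haveI : LM.Normal := Subgroup.Normal.subgroupOf ‹L.Normal› M
  letI : Fintype (M ⧸ LM) := Fintype.ofFinite _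
  let F : (M ⧸ LM → X0) →ₗ[ℂ] (Fin d → ℂ) :=
    ∑ c : M ⧸ LM, (ρ ((c.out : M) : G)) ∘ₗ X0.subtype ∘ₗ LinearMap.proj c
  have hF : ∀ f, F f = ∑ c : M ⧸ LM, ρ ((c.out : M) : G) (f c : Fin d → ℂ) := fun f => by simp [F]
  have houtL : ∀ m : M, ((((QuotientGroup.mk m : M ⧸ LM).out)⁻¹ * m : M) : G) ∈ L := fun m => by
    have h0 : (QuotientGroup.mk m : M ⧸ LM).out⁻¹ * m ∈ LM :=
      QuotientGroup.eq.1 (QuotientGroup.out_eq' (QuotientGroup.mk m : M ⧸ LM))
    exact h0
  have hFs : ∀ (m : M) (x : X0), F (Pi.single (QuotientGroup.mk m)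
      ⟨ρ ((((QuotientGroup.mk m : M ⧸ LM).out)⁻¹ * m : M) : G) x,
        hX0 _ (hLK (houtL m)) x x.2⟩) = ρ (m : G) x := by
    intro m x
    rw [hF, Finset.sum_eq_single (QuotientGroup.mk m : M ⧸ LM)
      (fun c _ hc => by simp [Pi.single_eq_of_ne hc]) (by simp), Pi.single_eq_same]
    simp only [← Module.End.mul_apply, ← map_mul, ← Subgroup.coe_mul, mul_inv_cancel_left]
  have hFtop : LinearMap.range F = ⊤ := by
    have hS : ∀ g : G, ∀ y ∈ LinearMap.range F, ρ g y ∈ LinearMap.range F := by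
      rintro g _ ⟨f, rfl⟩
      rw [hF, map_sum]
      refine Submodule.sum_mem _ fun c _ => ?_
      obtain ⟨m', hm', a, ha, hga⟩ := hgen (g * ((c.out : M) : G))
      refine ⟨_, (hFs ⟨m', hm'⟩ ⟨ρ a (f c), hX0 a ha _ (f c).2⟩).trans ?_⟩
      rw [← Module.End.mul_apply, ← map_mul, ← Module.End.mul_apply, ← map_mul, hga]
    let SR : Subrepresentation ρ := ⟨LinearMap.range F, fun g v hv => hS g v hv⟩
    rcases eq_bot_or_eq_top SR with h0 | h0
    · refine absurd ((Submodule.eq_bot_iff _).1 (congrArg Subrepresentation.toSubmodule h0) (j y0)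
        ⟨_, (hFs 1 ⟨j y0, y0, rfl⟩).trans (by simp)⟩) hy0
    · exact congrArg Subrepresentation.toSubmodule h0
  have hFinj : Function.Injective F := by
    have hidx : Nat.card (M ⧸ LM) = K.index := by
      let fmap : M ⧸ LM → G ⧸ K := fun c => QuotientGroup.mk ((c.out : M) : G)
      refine Nat.card_eq_of_bijective fmap ⟨fun c c' hcc => ?_, fun q => ?_⟩
      · have h1 : ((c.out : M) : G)⁻¹ * ((c'.out : M) : G) ∈ K := QuotientGroup.eq.1 hcc
        have h2 : ((c.out⁻¹ * c'.out : M) : G) ∈ L := hML ▸ ⟨(c.out⁻¹ * c'.out : M).2, h1⟩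
        rw [← Quotient.out_eq' c, ← Quotient.out_eq' c']
        exact QuotientGroup.eq.2 h2
      · induction q using QuotientGroup.induction_on with
        | _ g =>
          obtain ⟨m, hm, a, ha, rfl⟩ := hgen g
          refine ⟨QuotientGroup.mk ⟨m, hm⟩, QuotientGroup.eq.2 ?_⟩
          have h3 := hLK (houtL ⟨m, hm⟩)
          push_cast at h3
          rw [← mul_assoc]
          exact K.mul_mem h3 ha
    have hd : d = Nat.card (M ⧸ LM) * dψ := by
      have h1 : ((d : ℕ) : ℂ) = (K.index : ℂ) * dψ := by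
        have h2 := indFun_apply_one K ψ
        rw [hind, ← hρχ, Representation.char_one, ← hσ, Representation.char_one] at h2
        simpa using h2
      rw [hidx]
      exact_mod_cast h1
    have hle : finrank ℂ X0 ≤ dψ := (LinearMap.finrank_range_le j).trans (by simp)
    have hdim : finrank ℂ (M ⧸ LM → X0) ≤ d := by
      refine le_of_le_of_eq ?_ hd.symm
      rw [Module.finrank_pi_fintype, Finset.sum_const, Finset.card_univ, smul_eq_mul,
        Nat.card_eq_fintype_card]
      exact Nat.mul_le_mul_left _ hle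
    have hsur := LinearMap.range_eq_top.1 hFtop
    have hdim' : finrank ℂ (M ⧸ LM → X0) = finrank ℂ (Fin d → ℂ) := by
      refine le_antisymm (by simpa using hdim) ?_
      rw [← finrank_top ℂ (Fin d → ℂ), ← hFtop]
      exact LinearMap.finrank_range_le F
    exact (LinearMap.injective_iff_surjective_of_finrank_eq_finrank hdim').2 hsur
  let FE : (M ⧸ LM → X0) ≃ₗ[ℂ] (Fin d → ℂ) :=
    LinearEquiv.ofBijective F ⟨hFinj, LinearMap.range_eq_top.1 hFtop⟩
  let c0 : M ⧸ LM := QuotientGroup.mk 1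
  let P0 : Module.End ℂ (Fin d → ℂ) :=
    (ρ ((c0.out : M) : G)) ∘ₗ X0.subtype ∘ₗ LinearMap.proj c0 ∘ₗ FE.symm.toLinearMap
  have hP0 : ∀ (m : M), ∀ x ∈ X0,
      P0 (ρ (m : G) x) = if (m : G) ∈ L then ρ (m : G) x else 0 := by
    intro m x hx
    have h1 : FE.symm (ρ (m : G) x) = Pi.single (QuotientGroup.mk m) _ :=
      FE.symm_apply_eq.2 (hFs m ⟨x, hx⟩).symm
    show ρ ((c0.out : M) : G) ((FE.symm (ρ (m : G) x) c0 : X0) : Fin d → ℂ) = _
    rw [h1]
    by_cases hm : (m : G) ∈ L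
    · have hc : (QuotientGroup.mk m : M ⧸ LM) = c0 :=
        QuotientGroup.eq.2 (by simpa [LM, Subgroup.mem_subgroupOf] using hm)
      have hc' : ((c0.out : M) : G) = (((QuotientGroup.mk m : M ⧸ LM).out : M) : G) := by rw [hc]
      rw [if_pos hm, Pi.single_apply, if_pos hc.symm, hc']
      simp only [← Module.End.mul_apply, ← map_mul, ← Subgroup.coe_mul, mul_inv_cancel_left]
    · have hc : c0 ≠ (QuotientGroup.mk m : M ⧸ LM) := fun h0 => hm (by
        have := QuotientGroup.eq.1 h0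
        simpa [LM, Subgroup.mem_subgroupOf] using this)
      rw [if_neg hm, Pi.single_eq_of_ne hc]
      simp
  have hext : ∀ {Y : Type} [AddCommGroup Y] [Module ℂ Y] (f f' : (Fin d → ℂ) →ₗ[ℂ] Y),
      (∀ (m : M), ∀ x ∈ X0, f (ρ (m : G) x) = f' (ρ (m : G) x)) → f = f' := by
    intro Y _ _ f f' hff
    refine LinearMap.ext fun y => ?_
    obtain ⟨g, rfl⟩ := LinearMap.range_eq_top.1 hFtop y
    rw [hF, map_sum, map_sum]
    exact Finset.sum_congr rfl fun c _ => hff _ _ (g c).2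
  -- properties of `P0`
  have hP0K : ∀ a ∈ K, ∀ y, P0 (ρ a y) = ρ a (P0 y) := by
    intro a ha y
    refine LinearMap.congr_fun (hext (P0 ∘ₗ ρ a) (ρ a ∘ₗ P0) fun m x hx => ?_) y
    have hm' : a * (m : G) * a⁻¹ ∈ M := Subgroup.Normal.conj_mem ‹M.Normal› m m.2 a
    have e1 : ρ a (ρ (m : G) x) = ρ ((⟨_, hm'⟩ : M) : G) (ρ a x) := by
      simp [← Module.End.mul_apply, ← map_mul]
    show P0 (ρ a (ρ (m : G) x)) = ρ a (P0 (ρ (m : G) x))
    rw [e1, hP0 _ _ (hX0 a ha x hx), hP0 m x hx]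
    by_cases hm : (m : G) ∈ L
    · rw [if_pos hm, if_pos (Subgroup.Normal.conj_mem ‹L.Normal› _ hm a), e1]
    · rw [if_neg hm, if_neg (fun h0 => hm ?_), map_zero]
      simpa [mul_assoc] using Subgroup.Normal.conj_mem ‹L.Normal› _ h0 a⁻¹
  have hP0x : ∀ x ∈ X0, P0 x = x := fun x hx => by simpa using hP0 1 x hx
  have hP0mem : ∀ y, P0 y ∈ X0 := fun y => hX0 _ (hLK (by
    have h1 := houtL (1 : M)
    rw [mul_one] at h1
    simpa [c0] using h1)) _ (FE.symm y c0).2
  let f : Module.End ℂ (Fin dθ → ℂ) → Module.End ℂ (Fin d → ℂ) := lift P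
  have hfρ : ∀ (S : Module.End ℂ (Fin dθ → ℂ)) (m : M) v, S * θ m = θ m * S →
      f S (ρ (m : G) v) = ρ (m : G) (f S v) := fun S m v hS => ext_coord P fun i => by
    rw [lift_apply, hP, hP, lift_apply]
    exact LinearMap.congr_fun hS _
  have hsch : ∀ R : Module.End ℂ (Fin dθ → ℂ), (∀ (m : M) w, R (θ m w) = θ m (R w)) →
      ∃ a : ℂ, R = a • 1 := fun R hR => by
    obtain ⟨a, ha⟩ := Clifford.exists_scalar_of_commute θ R fun m => LinearMap.ext fun w => hR m w
    exact ⟨a, by rw [ha, Algebra.algebraMap_eq_smul_one]⟩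
  have hfEnd : ∀ (S : Module.End ℂ (Fin dθ → ℂ)) (R : Module.End ℂ (Fin d → ℂ)),
      (∀ (m : M) v, R (ρ (m : G) v) = ρ (m : G) (R v)) → ∀ v, R (f S v) = f S (R v) :=
    fun S R hR v => end_lift_comm (A := fun m : M => ρ (m : G)) (B := fun m => θ m) hP
      (fun X hX w => by obtain ⟨a, rfl⟩ := hsch X hX; simp) hR v
  -- the `M`-endomorphism extending an `L`-endomorphism on `X0`
  let τ : Module.End ℂ (Fin dθ → ℂ) → Module.End ℂ (Fin d → ℂ) := fun S =>
    (Nat.card LM : ℂ)⁻¹ • ∑ m : M, ρ (m : G) * f S * P0 * ρ ((m⁻¹ : M) : G)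
  have hτM : ∀ S (m : M) v, τ S (ρ (m : G) v) = ρ (m : G) (τ S v) := by
    intro S m v
    simp only [τ, LinearMap.smul_apply, LinearMap.sum_apply, Module.End.mul_apply, map_smul,
      map_sum]
    congr 1
    refine Fintype.sum_equiv (Equiv.mulLeft m⁻¹) _ _ fun n => ?_
    simp only [Equiv.coe_mulLeft, ← Module.End.mul_apply, ← map_mul]
    simp only [← mul_assoc, ← map_mul]
    simp only [mul_assoc, ← map_mul, ← Subgroup.coe_mul]
    group
  have hτ0 : ∀ S, CommL θ L S → ∀ x ∈ X0, τ S x = f S x := by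
    intro S hS x hx
    simp only [τ, LinearMap.smul_apply, LinearMap.sum_apply, Module.End.mul_apply]
    have hterm : ∀ m : M, ρ (m : G) (f S (P0 (ρ ((m⁻¹ : M) : G) x))) =
        if (m : G) ∈ L then f S x else 0 := by
      intro m
      rw [hP0 m⁻¹ x hx]
      by_cases hm : (m : G) ∈ L
      · rw [if_pos hm, if_pos (by simpa using hm), ← hfρ S m _ (hS m hm)]
        simp [← Module.End.mul_apply, ← map_mul]
      · rw [if_neg hm, if_neg (by simpa using hm), map_zero, map_zero]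
    have hcard : (Finset.univ.filter fun m : M => (m : G) ∈ L).card = Nat.card LM := by
      rw [Nat.card_eq_fintype_card, ← Fintype.card_subtype]
      exact Fintype.card_congr (Equiv.refl _)
    rw [Finset.sum_congr rfl fun m _ => hterm m, ← Finset.sum_filter, Finset.sum_const, hcard,
      ← Nat.cast_smul_eq_nsmul ℂ, smul_smul, inv_mul_cancel₀ card_ne_zero, one_smul]
  have hτext : ∀ (R R' : Module.End ℂ (Fin d → ℂ)),
      (∀ (m : M) v, R (ρ (m : G) v) = ρ (m : G) (R v)) →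
      (∀ (m : M) v, R' (ρ (m : G) v) = ρ (m : G) (R' v)) →
      (∀ x ∈ X0, R x = R' x) → R = R' := fun R R' hR hR' h0 =>
    hext R R' fun m x hx => by rw [hR, hR', h0 x hx]
  have hτcomm : ∀ u ∈ U, ∀ v ∈ U, ∀ y, τ (T u) (τ (T v) y) = τ (T v) (τ (T u) y) := by
    intro u hu v hv y
    refine LinearMap.congr_fun (hτext (τ (T u : Module.End ℂ (Fin dθ → ℂ)) * τ (T v : Module.End ℂ (Fin dθ → ℂ)))
      (τ (T v : Module.End ℂ (Fin dθ → ℂ)) * τ (T u : Module.End ℂ (Fin dθ → ℂ)))
      (fun m w => by simp only [Module.End.mul_apply, hτM])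
      (fun m w => by simp only [Module.End.mul_apply, hτM]) fun x hx => ?_) y
    simp only [Module.End.mul_apply]
    rw [hτ0 _ (hT v).1 x hx, hτ0 _ (hT u).1 x hx, hfEnd _ _ (hτM _), hfEnd _ _ (hτM _),
      hτ0 _ (hT v).1 x hx, hτ0 _ (hT u).1 x hx]
    show (f (T v) * f (T u)) x = (f (T u) * f (T v)) x
    simp only [f, ← lift_mul, hTcomm u hu v hv]
  have hτsmul : ∀ (a : ℂ) S, τ (a • S) = a • τ S := by
    intro a S
    simp only [τ, f, lift_smul, mul_smul_comm, smul_mul_assoc, ← Finset.smul_sum]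
    rw [smul_comm]
  -- conjugation by `K`
  have hτK : ∀ a ∈ K, ∀ u ∈ U, ∃ b : ℂ, b ≠ 0 ∧
      ∀ y, τ (T (a * u * a⁻¹)) (ρ a y) = b • ρ a (τ (T u) y) := by
    intro a ha u hu
    obtain ⟨hTa, c, hc, hca⟩ := hT a
    let T' := T a * T u * (T a)⁻¹
    have hT' : Implements θ L (a * u * a⁻¹) T' := ((hT a).mul (hT u)).mul (hT a).inv
    obtain ⟨b, hb0, hb⟩ := huniq (hT (a * u * a⁻¹)) hT'
    refine ⟨b, hb0, fun y => ?_⟩
    let Wa : (Module.End ℂ (Fin dθ → ℂ))ˣ := c * T a
    have hWT : (T' : Module.End ℂ (Fin dθ → ℂ)) * Wa = Wa * T u := by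
      have h1 : (T' : Module.End ℂ (Fin dθ → ℂ)) * c = c * T' := hc _ hT'.1
      have h2 : T' * T a = T a * T u := by simp [T']
      show (T' : Module.End ℂ (Fin dθ → ℂ)) * ((c : Module.End ℂ (Fin dθ → ℂ)) * T a) =
        (c : Module.End ℂ (Fin dθ → ℂ)) * T a * T u
      rw [← mul_assoc, h1, mul_assoc, ← Units.val_mul T', h2, Units.val_mul, mul_assoc]
    let R : Module.End ℂ (Fin d → ℂ) := ρ a⁻¹ * f Wa
    have hR : ∀ (m : M) v, R (ρ (m : G) v) = ρ (m : G) (R v) := by
      intro m v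
      have h1 : f Wa (ρ (m : G) v) = ρ ((MulAut.conjNormal a m : M) : G) (f Wa v) :=
        ext_coord P fun i => by
          rw [lift_apply, hP, hP, lift_apply]
          exact LinearMap.congr_fun (hca m) _
      show ρ a⁻¹ (f Wa (ρ (m : G) v)) = ρ (m : G) (ρ a⁻¹ (f Wa v))
      rw [h1]
      rw [← Module.End.mul_apply, ← map_mul, ← Module.End.mul_apply (ρ (m : G)), ← map_mul,
        MulAut.conjNormal_apply, show a⁻¹ * (a * (m : G) * a⁻¹) = (m : G) * a⁻¹ by group]
    have hsurR : Function.Surjective R := fun z => ⟨f ↑Wa⁻¹ (ρ a z), by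
      show ρ a⁻¹ (f Wa (f ↑Wa⁻¹ (ρ a z))) = z
      rw [← Module.End.mul_apply (f Wa)]
      simp only [f, ← lift_mul, Units.mul_inv, lift_one]
      simp [← Module.End.mul_apply, ← map_mul]⟩
    have hfT : ∀ z, f T' (ρ a z) = ρ a (f (T u) z) := by
      intro z
      obtain ⟨w, rfl⟩ := hsurR z
      have e1 : ∀ w, ρ a (R w) = f Wa w := fun w => by
        simp [R, ← mul_assoc, ← Module.End.mul_apply, ← map_mul]
      rw [← hfEnd (T u) R hR, e1, e1, ← Module.End.mul_apply, ← Module.End.mul_apply]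
      simp only [f, ← lift_mul, hWT]
    rw [hb, hτsmul, LinearMap.smul_apply]
    congr 1
    refine LinearMap.congr_fun (hext (τ T' ∘ₗ ρ a) (ρ a ∘ₗ τ (T u)) fun m x hx => ?_) y
    have hm' : a * (m : G) * a⁻¹ ∈ M := Subgroup.Normal.conj_mem ‹M.Normal› m m.2 a
    have e2 : ∀ z, ρ a (ρ (m : G) z) = ρ ((⟨_, hm'⟩ : M) : G) (ρ a z) := fun z => by
      simp [← Module.End.mul_apply, ← map_mul]
    show τ T' (ρ a (ρ (m : G) x)) = ρ a (τ (T u) (ρ (m : G) x))
    rw [e2, hτM, hτ0 _ hT'.1 _ (hX0 a ha x hx), hfT, hτM, hτ0 _ (hT u).1 x hx, e2]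
  -- common eigenspaces
  obtain ⟨w, x₁, hx₁, hwx⟩ := exists_common_eigenvector (fun u : U => τ (T (u : G)))
    fun u v y => hτcomm u u.2 v v.2 y
  let Xw : (U → ℂ) → Submodule ℂ (Fin d → ℂ) := fun w =>
    { carrier := {y | ∀ u : U, τ (T (u : G)) y = w u • y}
      add_mem' := fun {x y} hx hy u => by rw [map_add, hx u, hy u, smul_add]
      zero_mem' := fun u => by simp
      smul_mem' := fun c x hx u => by rw [map_smul, hx u, smul_comm] }
  have hperm : ∀ (g : G) (w : U → ℂ), ∃ w' : U → ℂ, ∀ y, y ∈ Xw w ↔ ρ g y ∈ Xw w' := by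
    intro g w
    obtain ⟨m, hm, a, ha, rfl⟩ := hgen g
    have hconj : ∀ u : U, a⁻¹ * (u : G) * a ∈ U := fun u => by
      simpa using hUn a⁻¹ (K.inv_mem ha) u u.2
    choose b hb0 hb using fun u : U => hτK a ha _ (hconj u)
    refine ⟨fun u => b u * w ⟨_, hconj u⟩, fun y => ?_⟩
    have key : ∀ u : U, τ (T (u : G)) (ρ (m * a) y) =
        b u • ρ (m * a) (τ (T (a⁻¹ * u * a)) y) := by
      intro u
      have h1 := hb u y
      rw [show a * (a⁻¹ * (u : G) * a) * a⁻¹ = u by group] at h1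
      rw [map_mul, Module.End.mul_apply, hτM _ ⟨m, hm⟩, h1, map_smul]
      rfl
    constructor
    · intro hy u
      rw [key, hy ⟨_, hconj u⟩, map_smul, smul_smul]
    · intro hy u
      have hau : a * (u : G) * a⁻¹ ∈ U := hUn a ha u u.2
      have h1 := hy ⟨_, hau⟩
      rw [key, mul_smul] at h1
      have h2 := smul_right_injective _ (hb0 _) h1
      simp only at h2
      have h3 : (⟨_, hconj ⟨_, hau⟩⟩ : U) = u := Subtype.ext (by group)
      rw [← map_smul, h3, show a⁻¹ * (a * (u : G) * a⁻¹) * a = u by group] at h2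
      exact (ρ.apply_bijective (m * a)).1 h2
  let H : Subgroup G :=
    { carrier := {g | ∀ y, y ∈ Xw w ↔ ρ g y ∈ Xw w}
      one_mem' := fun y => by simp
      mul_mem' := fun {g g'} hg hg' y => by
        rw [hg' y, hg (ρ g' y), map_mul, Module.End.mul_apply]
      inv_mem' := fun {g} hg y => by
        have h1 := (hg (ρ g⁻¹ y)).symm
        rwa [← Module.End.mul_apply, ← map_mul, mul_inv_cancel, map_one] at h1 }
  have hMH : M ≤ H := fun m hm y => by
    refine forall_congr' fun u => ?_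
    rw [hτM _ ⟨m, hm⟩, ← map_smul]
    exact ((ρ.apply_bijective m).1.eq_iff).symm
  have hHtop : H ≠ ⊤ := by
    intro hH
    let SR : Subrepresentation ρ := ⟨Xw w, fun g v hv => ((hH ▸ Subgroup.mem_top g : g ∈ H) v).1 hv⟩
    have htop : Xw w = ⊤ := by
      rcases eq_bot_or_eq_top SR with h0 | h0
      · exact absurd ((Submodule.eq_bot_iff _).1 (congrArg Subrepresentation.toSubmodule h0) x₁ hwx) hx₁
      · exact congrArg Subrepresentation.toSubmodule h0
    obtain ⟨u, hu, m, hm, hum⟩ := hact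
    -- `T u` is a scalar
    let S : Module.End ℂ (Fin dθ → ℂ) := T u - w ⟨u, hu⟩ • 1
    have hSL : ∀ l : M, (l : G) ∈ L → S * θ l = θ l * S := fun l hl => by
      simp only [S, sub_mul, mul_sub, (hT u).1 l hl, smul_mul_assoc, one_mul, mul_smul_comm, mul_one]
    have hS0 : ∀ x ∈ X0, f S x = 0 := fun x hx => by
      have h1 := (htop ▸ Submodule.mem_top : x ∈ Xw w) ⟨u, hu⟩
      rw [hτ0 _ (hT u).1 x hx] at h1
      simp only [S, f, lift_sub, lift_smul, lift_one, LinearMap.sub_apply, LinearMap.smul_apply,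
        Module.End.one_apply]
      exact sub_eq_zero.2 h1
    let I : Submodule ℂ (Fin dθ → ℂ) := ⨆ hh : {h : (Fin d → ℂ) →ₗ[ℂ] (Fin dθ → ℂ) //
      ∀ l : M, (l : G) ∈ L → ∀ x ∈ X0, h (ρ (l : G) x) = θ l (h x)}, X0.map hh.1
    have hIker : I ≤ LinearMap.ker S := by
      refine iSup_le ?_
      rintro ⟨h1, hh1⟩ _ ⟨x, hx, rfl⟩
      -- extend `h1` to an `M`-map
      let Hh : (Fin d → ℂ) →ₗ[ℂ] (Fin dθ → ℂ) :=
        (Nat.card LM : ℂ)⁻¹ • ∑ n : M, θ n ∘ₗ h1 ∘ₗ P0 ∘ₗ ρ ((n⁻¹ : M) : G)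
      have hHM : ∀ (n : M) v, Hh (ρ (n : G) v) = θ n (Hh v) := by
        intro n v
        simp only [Hh, LinearMap.smul_apply, LinearMap.sum_apply, LinearMap.comp_apply, map_smul,
          map_sum]
        congr 1
        refine Fintype.sum_equiv (Equiv.mulLeft n⁻¹) _ _ fun n' => ?_
        simp only [Equiv.coe_mulLeft, ← Module.End.mul_apply, ← map_mul, ← Subgroup.coe_mul]
        group
      have hH0 : ∀ z ∈ X0, Hh z = h1 z := by
        intro z hz
        simp only [Hh, LinearMap.smul_apply, LinearMap.sum_apply, LinearMap.comp_apply]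
        have hterm : ∀ n : M, θ n (h1 (P0 (ρ ((n⁻¹ : M) : G) z))) =
            if (n : G) ∈ L then h1 z else 0 := by
          intro n
          rw [hP0 n⁻¹ z hz]
          by_cases hn : (n : G) ∈ L
          · rw [if_pos hn, if_pos (by simpa using hn), hh1 n⁻¹ (by simpa using hn) z hz,
              ← Module.End.mul_apply, ← map_mul, mul_inv_cancel, map_one, Module.End.one_apply]
          · rw [if_neg hn, if_neg (by simpa using hn), map_zero, map_zero]
        have hcard : (Finset.univ.filter fun m : M => (m : G) ∈ L).card = Nat.card LM := by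
          rw [Nat.card_eq_fintype_card, ← Fintype.card_subtype]
          exact Fintype.card_congr (Equiv.refl _)
        rw [Finset.sum_congr rfl fun n _ => hterm n, ← Finset.sum_filter, Finset.sum_const, hcard,
          ← Nat.cast_smul_eq_nsmul ℂ, smul_smul, inv_mul_cancel₀ card_ne_zero, one_smul]
      have h2 := map_lift_comm (A := fun m : M => ρ (m : G)) (B := fun m => θ m) hP (S := S)
        (fun X hX z => by obtain ⟨a, rfl⟩ := hsch X hX; simp) Hh hHM x
      rw [show lift P S x = 0 from hS0 x hx, map_zero, hH0 x hx] at h2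
      exact LinearMap.mem_ker.2 h2.symm
    have hItop : I = ⊤ := by
      refine eq_top_of_stable (θ.comp LM.subtype) φ Q hQ I ?_ ?_ ?_
      · intro l v hv
        refine (iSup_le ?_ : I ≤ I.comap (θ (l : M))) hv
        rintro ⟨h1, hh1⟩ _ ⟨x, hx, rfl⟩
        show θ (l : M) (h1 x) ∈ I
        exact (le_iSup (fun hh : {h : (Fin d → ℂ) →ₗ[ℂ] (Fin dθ → ℂ) //
            ∀ l : M, (l : G) ∈ L → ∀ x ∈ X0, h (ρ (l : G) x) = θ l (h x)} => X0.map hh.1)
          ⟨h1, hh1⟩) ⟨_, hX0 _ (hLK l.2) x hx, hh1 (l : M) l.2 x hx⟩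
      · obtain ⟨i, hi⟩ : ∃ i, P (j y0) i ≠ 0 := by
          by_contra! h0
          exact hy0 (ext_coord P fun i => by simp [h0])
        intro hbot
        have h1 : P (j y0) i ∈ I := (le_iSup (fun hh : {h : (Fin d → ℂ) →ₗ[ℂ] (Fin dθ → ℂ) //
            ∀ l : M, (l : G) ∈ L → ∀ x ∈ X0, h (ρ (l : G) x) = θ l (h x)} => X0.map hh.1)
          ⟨LinearMap.proj i ∘ₗ P.toLinearMap, fun l _ x _ => hP l x i⟩) ⟨_, ⟨y0, rfl⟩, rfl⟩
        exact hi ((Submodule.mem_bot ℂ).1 (hbot ▸ h1))
      · intro R hR v hv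
        refine (iSup_le ?_ : I ≤ I.comap R) hv
        rintro ⟨h1, hh1⟩ _ ⟨x, hx, rfl⟩
        exact (le_iSup (fun hh : {h : (Fin d → ℂ) →ₗ[ℂ] (Fin dθ → ℂ) //
            ∀ l : M, (l : G) ∈ L → ∀ x ∈ X0, h (ρ (l : G) x) = θ l (h x)} => X0.map hh.1)
          ⟨R ∘ₗ h1, fun l hl z hz => (congrArg R (hh1 l hl z hz)).trans (hR ⟨l, hl⟩ _)⟩)
          ⟨x, hx, rfl⟩
    have hTu : (T u : Module.End ℂ (Fin dθ → ℂ)) = w ⟨u, hu⟩ • 1 := by
      refine sub_eq_zero.1 (LinearMap.ext fun z => ?_)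
      exact hIker (hItop ▸ Submodule.mem_top : z ∈ I)
    -- so conjugation by `u` preserves `X0`
    obtain ⟨-, c, hc, hcu⟩ := hT u
    have hw0 : w ⟨u, hu⟩ ≠ 0 := fun h0 => (T u).ne_zero (by rw [hTu, h0, zero_smul])
    have hcu' : ∀ n : M, (c : Module.End ℂ (Fin dθ → ℂ)) * θ n = θ (MulAut.conjNormal u n) * c := by
      intro n
      have h1 := hcu n
      rw [hTu] at h1
      simp only [mul_smul_comm, mul_one, smul_mul_assoc] at h1
      exact smul_right_injective _ hw0 h1
    let cc : Module.End ℂ (Fin dθ → ℂ) := (c : Module.End ℂ (Fin dθ → ℂ)) *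
      (θ ⟨m, hm⟩ * (↑c⁻¹ : Module.End ℂ (Fin dθ → ℂ)) * θ (⟨m, hm⟩⁻¹ : M))
    have hcc : cc = θ (MulAut.conjNormal u ⟨m, hm⟩ * ⟨m, hm⟩⁻¹) := by
      simp only [cc]
      rw [← mul_assoc, ← mul_assoc, hcu' ⟨m, hm⟩, mul_assoc (θ _) (c : Module.End ℂ (Fin dθ → ℂ)),
        Units.mul_inv, mul_one, ← map_mul]
    have hccc : ∀ R : Module.End ℂ (Fin dθ → ℂ), CommL θ L R → R * cc = cc * R := by
      intro R hR
      have h1 : R * c = c * R := hc R hR
      set μ : M := ⟨m, hm⟩
      have h2 := hR.conj_mem μ⁻¹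
      rw [inv_inv] at h2
      have h3 : (θ μ⁻¹ * R * θ μ) * (↑c⁻¹ : Module.End ℂ (Fin dθ → ℂ)) =
          ↑c⁻¹ * (θ μ⁻¹ * R * θ μ) := (Commute.units_inv_right (hc _ h2 : Commute _ _)).eq
      have h4 : R * θ μ = θ μ * (θ μ⁻¹ * R * θ μ) := by
        rw [← mul_assoc, ← mul_assoc, ← map_mul, mul_inv_cancel, map_one, one_mul]
      have h5 : (θ μ⁻¹ * R * θ μ) * θ μ⁻¹ = θ μ⁻¹ * R := by
        rw [mul_assoc, ← map_mul, mul_inv_cancel, map_one, mul_one]
      calc R * cc = (R * c) * (θ μ * ↑c⁻¹ * θ μ⁻¹) := by rw [mul_assoc]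
        _ = c * ((R * θ μ) * ↑c⁻¹ * θ μ⁻¹) := by rw [h1]; simp only [mul_assoc]
        _ = c * (θ μ * ↑c⁻¹ * ((θ μ⁻¹ * R * θ μ) * θ μ⁻¹)) := by
          rw [h4, mul_assoc (θ μ), h3]; simp only [mul_assoc]
        _ = cc * R := by rw [h5]; simp only [cc, mul_assoc]; rfl
    refine hum ?_
    by_contra hnot
    set m' : M := MulAut.conjNormal u ⟨m, hm⟩ * ⟨m, hm⟩⁻¹ with hm'def
    have hm'val : (m' : G) = u * m * u⁻¹ * m⁻¹ := by simp [hm'def]
    have hfc : ∀ v, f cc v = ρ (m' : G) v := fun v => ext_coord P fun i => by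
      rw [lift_apply, hcc, hP]
    have hcom := end_lift_comm (A := fun l : LM => ρ ((l : M) : G)) (B := fun l : LM => θ (l : M))
      (P := P) (fun l v i => hP (l : M) v i) (S := cc)
      (fun R hR z => LinearMap.congr_fun
        (hccc R fun l hl => LinearMap.ext fun z => hR ⟨l, hl⟩ z) z)
      (R := P0) (fun l v => hP0K _ (hLK l.2) v) (j y0)
    rw [show lift P cc (P0 (j y0)) = ρ (m' : G) (P0 (j y0)) from hfc _,
      show lift P cc (j y0) = ρ (m' : G) (j y0) from hfc _,
      hP0 m' _ ⟨y0, rfl⟩, if_neg (by rwa [hm'val]), hP0x _ ⟨y0, rfl⟩] at hcom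
    exact hy0 ((map_eq_zero_iff _ (ρ.apply_bijective (m' : G)).1).1 hcom.symm)
  -- the induced character
  let A : Subrepresentation (ρ.comp H.subtype) := ⟨Xw w, fun g v hv => (g.2 v).1 hv⟩
  refine ⟨H, hMH, hHtop, A.toRepresentation.character, isCharacter_character _, ?_⟩
  letI : Fintype H := Fintype.ofFinite H
  letI : Fintype (G ⧸ H) := Fintype.ofFinite _
  have hξ1 : A.toRepresentation.character 1 = (finrank ℂ (Xw w) : ℂ) :=
    Representation.char_one _
  choose wf hwf using fun c : G ⧸ H => hperm c.out w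
  have hwinj : Function.Injective wf := by
    intro c c' hcc
    rw [← Quotient.out_eq' c, ← Quotient.out_eq' c']
    refine QuotientGroup.eq.2 fun y => ?_
    rw [map_mul, Module.End.mul_apply, hwf c' y, ← hcc, hwf c (ρ c.out⁻¹ (ρ c'.out y))]
    simp [← Module.End.mul_apply, ← map_mul]
  have hindep : iSupIndep fun c : G ⧸ H => Xw (wf c) := by
    have h1 := Module.End.independent_iInf_maxGenEigenspace_of_forall_mapsTo
      (fun u : U => τ (T (u : G))) (fun u v φ => Module.End.mapsTo_maxGenEigenspace_of_comm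
        (LinearMap.ext fun y => hτcomm v v.2 u u.2 y) φ)
    refine (h1.comp hwinj).mono fun c => le_iInf fun u => ?_
    exact fun y hy => Module.End.eigenspace_le_maxGenEigenspace
      (Module.End.mem_eigenspace_iff.2 (hy u))
  have hfr : Fintype.card (G ⧸ H) * finrank ℂ (Xw w) ≤ d := by
    have h1 := LinearMap.finrank_le_finrank_of_injective hindep.dfinsupp_lsum_injective
    have h2 : ∀ c, finrank ℂ (Xw (wf c)) = finrank ℂ (Xw w) := fun c => by
      have h3 : (Xw w).map (ρ c.out) = Xw (wf c) := by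
        ext y
        refine ⟨?_, fun hy => ?_⟩
        · rintro ⟨x, hx, rfl⟩
          exact (hwf c x).1 hx
        · obtain ⟨x, rfl⟩ := (ρ.apply_bijective c.out).2 y
          exact ⟨x, (hwf c x).2 hy, rfl⟩
      rw [← h3]
      exact (Submodule.equivMapOfInjective _ (ρ.apply_bijective c.out).1 _).finrank_eq.symm
    rw [show finrank ℂ (Π₀ c, ↥(Xw (wf c))) = ∑ c, finrank ℂ (Xw (wf c)) from
      Module.finrank_directSum ℂ _, Finset.sum_congr rfl fun c _ => h2 c, Finset.sum_const,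
      Finset.card_univ, smul_eq_mul] at h1
    simpa using h1
  have hξc := isCharacter_character A.toRepresentation
  obtain ⟨mm, hmm, hmm'⟩ := IsCharacter.exists_decomp (isCharacter_indFun H hξc)
  have hpos : mm χ ≠ 0 := by
    intro h0
    have h1 := hmm' χ
    rw [classInner_indFun H _ hcl, h0, Nat.cast_zero] at h1
    let ρH : Representation ℂ H (Fin d → ℂ) := ρ.comp H.subtype
    have h2 : classInner ρH.character A.toRepresentation.character = 0 := by
      rw [← conj_classInner]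
      rw [show ρH.character = fun g : H => χ.1 g from funext fun g => congrFun hρχ (g : G)]
      rw [h1, map_zero]
    rw [classInner_character] at h2
    let inc : IntertwiningMap A.toRepresentation ρH :=
      LinearMap.intertwiningMap_of_isIntertwiningMap _ _ A.toSubmodule.subtype fun g v => rfl
    haveI : Nontrivial (IntertwiningMap A.toRepresentation ρH) := ⟨inc, 0, fun h3 => hx₁ (by
      have := congrArg (fun F : IntertwiningMap A.toRepresentation ρH =>
        F.toLinearMap ⟨x₁, hwx⟩) h3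
      exact this)⟩
    exact (Module.finrank_pos (R := ℂ)
      (M := IntertwiningMap A.toRepresentation ρH)).ne' (by exact_mod_cast h2)
  have hdeg : ∑ η : IrrCharacter G, mm η * degree η ≤ degree χ := by
    have h1 := congrFun hmm 1
    rw [indFun_apply_one, hξ1, Finset.sum_apply] at h1
    simp only [Pi.smul_apply, smul_eq_mul, apply_one_eq_degree] at h1
    have h2 : H.index * finrank ℂ (Xw w) = ∑ η : IrrCharacter G, mm η * degree η := by
      exact_mod_cast h1
    have h3 : d = degree χ := by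
      have h4 := apply_one_eq_degree χ
      rw [← hρχ, Representation.char_one] at h4
      simpa using h4
    rw [← h2, ← h3, Subgroup.index_eq_card, Nat.card_eq_fintype_card]
    exact hfr
  have hsingle : ∀ η, η ≠ χ → mm η = 0 := by
    intro η hη
    by_contra h0
    have h1 := Finset.sum_le_sum_of_subset (f := fun η => mm η * degree η)
      (Finset.subset_univ ({χ, η} : Finset (IrrCharacter G)))
    rw [Finset.sum_pair (Ne.symm hη)] at h1
    have := degree_pos η
    have := Nat.le_mul_of_pos_left (degree χ) (Nat.pos_of_ne_zero hpos)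
    have := Nat.mul_pos (Nat.pos_of_ne_zero h0) (degree_pos η)
    omega
  have hone : mm χ = 1 := by
    rw [Finset.sum_eq_single χ (fun η _ hη => by simp [hsingle η hη]) (by simp)] at hdeg
    nlinarith [degree_pos χ, Nat.pos_of_ne_zero hpos]
  rw [hmm, Finset.sum_eq_single χ (fun η _ hη => by simp [hsingle η hη]) (by simp), hone]
  simp

end Cfsg.Agent.Char
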