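import Cfsg.Agent.Lib.Char.RealInduction
import Cfsg.Agent.Lib.Char.CliffordCorrespondence

/-!
# The indicator of a character induced from an inertia group
-/

set_option linter.style.haveILetI false

open Matrix
open scoped Kronecker

namespace Cfsg.Agent.Char

universe u

variable {G : Type u} [Group G] [Fintype G]

/-- Two representations with orthogonal `χ` and `conj χ'` have orthogonal coefficients. -/
theorem sum_kronecker_eq_zero {a b : ℕ} (σ : Representation ℂ G (Fin a → ℂ))
    (τ : Representation ℂ G (Fin b → ℂ)) (h : ∑ g : G, σ.character g * τ.character g = 0) :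
    ∑ g : G, LinearMap.toMatrix' (σ g) ⊗ₖ LinearMap.toMatrix' (τ g) = 0 := by
  set P := (Nat.card G : ℂ)⁻¹ • ∑ g : G, LinearMap.toMatrix' (σ g) ⊗ₖ LinearMap.toMatrix' (τ g) with hP
  have hmul : ∀ x : G, (LinearMap.toMatrix' (σ x) ⊗ₖ LinearMap.toMatrix' (τ x)) * P = P := fun x => by
    rw [hP, Matrix.mul_smul, Finset.mul_sum]
    refine congrArg _ (Fintype.sum_equiv (Equiv.mulLeft x) _ _ fun g => ?_)
    rw [← Matrix.mul_kronecker_mul, ← LinearMap.toMatrix'_mul, ← LinearMap.toMatrix'_mul, ← map_mul,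
      ← map_mul]
    rfl
  have hPP : P * P = P := by
    conv_lhs => arg 1; rw [hP]
    rw [Matrix.smul_mul, Finset.sum_mul]
    simp only [hmul]
    rw [Finset.sum_const, Finset.card_univ, ← Nat.card_eq_fintype_card, ← Nat.cast_smul_eq_nsmul ℂ,
      smul_smul, inv_mul_cancel₀ card_ne_zero, one_smul]
  have h0 : P = 0 := idempotent_matrix_of_trace_zero hPP (by
    simp only [hP, Matrix.trace_smul, Matrix.trace_sum, Matrix.trace_kronecker, ← character_eq_trace]
    rw [h, smul_zero])
  exact (smul_eq_zero.1 (hP ▸ h0)).resolve_left (inv_ne_zero card_ne_zero)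

variable (N : Subgroup G) [N.Normal] [Fintype N] {I : Subgroup G} [Fintype I] (hNI : N ≤ I)
  (φ : IrrCharacter N)

/-- Twisted square sum over a coset. -/
theorem sum_twisted_sq_eq_zero {ψ : IrrCharacter I}
    (hψ : ∀ n : N, ψ.1 ⟨n, hNI n.2⟩ = φ.1 n) (hφ : ∀ n, (φ.1 n).im = 0) {g : G}
    (hg : conjFun N φ.1 g⁻¹ ≠ φ.1) :
    ∑ n : N, extendByZero I ψ.1 ((g * n) * (g * n)) = 0 := by
  classical
  by_cases hg2 : g * g ∈ I
  · obtain ⟨d, ρ, hρ, hχ⟩ := ψ.2
    set σ : Representation ℂ N (Fin d → ℂ) := ρ.comp (Subgroup.inclusion hNI)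
    set τ : Representation ℂ N (Fin d → ℂ) := σ.comp (MulAut.conjNormal g⁻¹ : MulAut N).toMonoidHom
    have hσ : σ.character = φ.1 := funext fun n => by
      rw [← hψ n, ← hχ]; rfl
    have hτ : τ.character = conjFun N φ.1 g⁻¹ := by rw [← hσ]; rfl
    have horth : ∑ n : N, τ.character n * σ.character n = 0 := by
      have h0 := classInner_irr_of_ne (isIrrCharacter_conjFun N φ.2 g⁻¹) φ.2 hg
      rw [classInner, mul_eq_zero] at h0
      rw [hσ, hτ, ← h0.resolve_left (inv_ne_zero card_ne_zero)]
      exact Finset.sum_congr rfl fun n _ => by rw [Complex.conj_eq_iff_im.2 (hφ n)]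
    have key := sum_kronecker_eq_zero τ σ horth
    set A := LinearMap.toMatrix' (ρ ⟨g * g, hg2⟩)
    calc ∑ n : N, extendByZero I ψ.1 ((g * n) * (g * n))
        = ∑ n : N, (A * (LinearMap.toMatrix' (τ n) * LinearMap.toMatrix' (σ n))).trace := by
          refine Finset.sum_congr rfl fun n _ => ?_
          rw [show (g * n) * (g * n) = ((⟨g * g, hg2⟩ : I) *
              (Subgroup.inclusion hNI (MulAut.conjNormal g⁻¹ n) * Subgroup.inclusion hNI n) : I) by
            simp [mul_assoc], extendByZero_coe, ← hχ, character_eq_trace, map_mul,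
            LinearMap.toMatrix'_mul, map_mul ρ, LinearMap.toMatrix'_mul]
          rfl
      _ = ∑ a, ∑ b, A a b * ∑ c, ∑ n : N,
            LinearMap.toMatrix' (τ n) b c * LinearMap.toMatrix' (σ n) c a := by
          simp only [Matrix.trace, Matrix.diag_apply, Matrix.mul_apply, Finset.mul_sum]
          rw [Finset.sum_comm]
          refine Finset.sum_congr rfl fun a _ => ?_
          rw [Finset.sum_comm]
          exact Finset.sum_congr rfl fun b _ => Finset.sum_comm
      _ = 0 := by
          refine Finset.sum_eq_zero fun a _ => Finset.sum_eq_zero fun b _ => ?_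
          rw [Finset.sum_eq_zero fun c _ => ?_, mul_zero]
          have := congrFun (congrFun key (b, c)) (c, a)
          simpa [Matrix.sum_apply] using this
  · refine Finset.sum_eq_zero fun n _ => extendByZero_of_notMem _ _ fun h => hg2 ?_
    have hm : g⁻¹ * n * g * n ∈ N := mul_mem (by
      simpa using Subgroup.Normal.conj_mem ‹N.Normal› _ n.2 g⁻¹) n.2
    have := I.mul_mem h (I.inv_mem (hNI hm))
    rwa [show g * ↑n * (g * ↑n) * (g⁻¹ * ↑n * g * ↑n)⁻¹ = g * g by group] at this

/-- The indicator of a real extension from the inertia group is kept by induction. -/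
theorem fsIndicator_indFun_inertia {ψ : IrrCharacter I}
    (hψ : ∀ n : N, ψ.1 ⟨n, hNI n.2⟩ = φ.1 n) (hφ : ∀ n, (φ.1 n).im = 0)
    (hI : ∀ g, conjFun N φ.1 g = φ.1 → g ∈ I) :
    fsIndicator (indFun I ψ.1) = fsIndicator ψ.1 := by
  classical
  rw [fsIndicator_indFun, fsIndicator_eq_sum]
  refine congrArg _ ?_
  set F : G → ℂ := fun g => if g ∈ I then 0 else extendByZero I ψ.1 (g * g) with hF
  have hzero : ∑ g : G, F g = 0 := by
    have h1 : ∀ n : N, ∑ g : G, F (g * n) = ∑ g : G, F g := fun n =>
      Fintype.sum_equiv (Equiv.mulRight (n : G)) _ _ fun g => rfl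
    have h2 : ∑ n : N, ∑ g : G, F (g * n) = 0 := by
      rw [Finset.sum_comm]
      refine Finset.sum_eq_zero fun g _ => ?_
      by_cases hgI : g ∈ I
      · exact Finset.sum_eq_zero fun n _ => by simp only [hF]; rw [if_pos (mul_mem hgI (hNI n.2))]
      · rw [← sum_twisted_sq_eq_zero N hNI φ hψ hφ (g := g) fun h => hgI (inv_inv g ▸
          I.inv_mem (hI _ h))]
        refine Finset.sum_congr rfl fun n _ => ?_
        simp only [hF]
        rw [if_neg fun h => hgI ((Subgroup.mul_mem_cancel_right I (hNI n.2)).1 h)]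
    rw [Finset.sum_congr rfl fun n _ => h1 n, Finset.sum_const, nsmul_eq_mul, Finset.card_univ,
      ← Nat.card_eq_fintype_card] at h2
    exact (mul_eq_zero.1 h2).resolve_left card_ne_zero
  rw [show ∑ g : G, extendByZero I ψ.1 (g * g) =
      (∑ g : G, if g ∈ I then extendByZero I ψ.1 (g * g) else 0) + ∑ g : G, F g by
    rw [← Finset.sum_add_distrib]; exact Finset.sum_congr rfl fun g _ => by simp only [hF]; split_ifs <;> simp,
    hzero, add_zero]
  refine (Fintype.sum_of_injective (Subtype.val : I → G) Subtype.val_injective _ _ ?_ ?_).symm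
  · exact fun g hg => if_neg fun h => hg ⟨⟨g, h⟩, rfl⟩
  · intro h
    rw [if_pos h.2]
    exact (extendByZero_coe I ψ.1 (h * h)).symm

omit [N.Normal] [Fintype N] [Fintype I] in
theorem sq_eq_one_of_real_linear {H : Type*} [Group H] [Fintype H] (lam : H →* ℂ)
    (h : ∀ g, (lam g).im = 0) (g : H) : lam (g * g) = 1 := by
  have h1 := (IsIrrCharacter.isCharacter (isIrrCharacter_of_monoidHom lam))
  have h2 := IsCharacter.conj_apply h1 g
  rw [Complex.conj_eq_iff_im.2 (h g)] at h2
  calc lam (g * g) = lam g * lam g⁻¹ := by rw [map_mul, ← h2]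
    _ = 1 := by rw [← map_mul, mul_inv_cancel, map_one]

end Cfsg.Agent.Char
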