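import Cfsg.Agent.Lib.Char.CentralAbove
import Cfsg.Agent.Lib.Char.Gallagher
import Cfsg.Agent.Lib.Char.Descend
import Cfsg.Agent.Lib.Clifford.Extension
import Mathlib.GroupTheory.SchurZassenhaus
import Mathlib.RingTheory.RootsOfUnity.Complex

/-!
# Invariant characters above an invariant character

`N ≤ G` normal in `Γ` with `[Γ : G]` prime to `[G : N]`, `Γ / G` or `G / N` solvable: a
`Γ`-invariant irreducible character of `N` lies under a `Γ`-invariant one of `G`. A finite
subgroup of the intertwiner group reduces this to a central subgroup.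
-/

set_option autoImplicit false
set_option linter.style.haveILetI false
set_option linter.unusedSectionVars false

namespace Cfsg.Agent.Char

open Cfsg.Agent.Glauberman (IsFix)
open Cfsg.Agent.RelGlauberman (quotAut)

universe u

variable {Γ : Type u} [Group Γ] [Fintype Γ]

/-- A complement of `G / N` in `Γ / N`, as a subgroup over `N`. -/
theorem exists_complement_over (G N : Subgroup Γ) [hG : G.Normal] [N.Normal] (hNG : N ≤ G)
    (hcop : G.index.Coprime (N.relIndex G)) :
    ∃ H : Subgroup Γ, N ≤ H ∧ (∀ x ∈ H, x ∈ G → x ∈ N) ∧ N.relIndex H = G.index ∧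
      ∀ x : Γ, ∃ g ∈ G, ∃ h ∈ H, g * h = x := by
  set q := QuotientGroup.mk' N
  have hq : Function.Surjective q := QuotientGroup.mk'_surjective N
  haveI : (G.map q).Normal := hG.map q hq
  have hidx : (G.map q).index = G.index :=
    Subgroup.index_map_eq G hq (by rwa [QuotientGroup.ker_mk'])
  have hcard : Nat.card (G.map q) = N.relIndex G := by
    refine Nat.eq_of_mul_eq_mul_right (Nat.pos_of_ne_zero (G.map q).index_ne_zero_of_finite) ?_
    rw [Subgroup.card_mul_index, hidx, ← Subgroup.index_eq_card, Subgroup.relIndex_mul_index hNG]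
  obtain ⟨H', hH'⟩ := Subgroup.exists_right_complement'_of_coprime (N := G.map q)
    (by rw [hidx, hcard]; exact hcop.symm)
  have hNH : N ≤ H'.comap q := fun x hx => by
    rw [Subgroup.mem_comap, show q x = 1 from (QuotientGroup.eq_one_iff x).2 hx]; exact H'.one_mem
  refine ⟨H'.comap q, hNH, fun x hxH hxG => ?_, ?_, fun x => ?_⟩
  · exact (QuotientGroup.eq_one_iff x).1
      (Subgroup.disjoint_def.1 hH'.disjoint (Subgroup.mem_map_of_mem q hxG) hxH)
  · refine Nat.eq_of_mul_eq_mul_right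
      (Nat.pos_of_ne_zero (H'.comap q).index_ne_zero_of_finite) ?_
    rw [Subgroup.relIndex_mul_index hNH, Subgroup.index_comap_of_surjective _ hq, ← hidx,
      hH'.symm.index_eq_card, Subgroup.card_mul_index, ← Subgroup.index_eq_card]
  · obtain ⟨⟨a, b⟩, hab⟩ := hH'.2 (q x)
    obtain ⟨g, hg, hga⟩ := Subgroup.mem_map.1 a.2
    refine ⟨g, hg, g⁻¹ * x, ?_, mul_inv_cancel_left g x⟩
    rw [Subgroup.mem_comap, map_mul, map_inv, hga, ← hab, inv_mul_cancel_left]
    exact b.2

attribute [local instance 10] Fintype.ofFinite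

/-- A finite central extension of `Γ` by roots of unity to which the invariant representation
extends. -/
theorem exists_finite_cover (N : Subgroup Γ) [hN : N.Normal] [Fintype N] {d : ℕ}
    (ρθ : Representation ℂ N (Fin d → ℂ)) [ρθ.IsIrreducible]
    (hinv : ∀ (g : Γ) (n : N), ρθ.character (MulAut.conjNormal g n) = ρθ.character n) :
    ∃ (S : Subgroup ℂˣ) (E : Type u) (_ : Group E) (_ : Finite E) (p : E →* Γ) (iN : N →* E)
      (iS : S →* E) (ρ : Representation ℂ E (Fin d → ℂ)),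
      Function.Surjective p ∧ (∀ n, p (iN n) = n) ∧ (∀ c, p (iS c) = 1) ∧
      (∀ x, p x = 1 → ∃ c, iS c = x) ∧
      (∀ x n, x * iN n * x⁻¹ = iN (MulAut.conjNormal (p x) n)) ∧
      (∀ c x, iS c * x = x * iS c) ∧ (∀ n, ρ (iN n) = ρθ n) ∧
      ∀ c : S, ρ (iS c) = ((c : ℂˣ) : ℂ) • 1 := by
  haveI : Nontrivial (Fin d → ℂ) := nontrivial_of_isIrreducible ρθ
  have hd : d ≠ 0 := by
    have h := Module.finrank_pos (R := ℂ) (M := Fin d → ℂ)
    rw [Module.finrank_fin_fun] at h
    omega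
  have hsurj := Clifford.proj_surjective ρθ hinv
  -- the finite subgroup of the intertwiner group
  let detHom : Clifford.intertwinerGroup ρθ →* ℂˣ :=
    (Units.map (LinearMap.det : Module.End ℂ (Fin d → ℂ) →* ℂ)).comp
      ((MonoidHom.snd Γ _).comp (Clifford.intertwinerGroup ρθ).subtype)
  set m := Nat.card N with hm
  have hdm : 0 < d * m := Nat.mul_pos (Nat.pos_of_ne_zero hd) Nat.card_pos
  have hdet : ∀ c : ℂˣ, detHom (Clifford.scalarHom ρθ c) = c ^ d := fun c => Units.ext (by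
    show LinearMap.det (algebraMap ℂ (Module.End ℂ (Fin d → ℂ)) (c : ℂ)) = _
    rw [Algebra.algebraMap_eq_smul_one, LinearMap.det_smul, map_one, mul_one,
      Module.finrank_fin_fun, Units.val_pow_eq_pow_val])
  let E₀ : Subgroup (Clifford.intertwinerGroup ρθ) := ((powMonoidHom m).comp detHom).ker
  have hE₀ : ∀ x, x ∈ E₀ ↔ detHom x ^ m = 1 := fun x => Iff.rfl
  let p₀ : E₀ →* Γ := (Clifford.proj ρθ).comp E₀.subtype
  let iN : N →* E₀ := (Clifford.ofN ρθ).codRestrict E₀ fun n => by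
    rw [hE₀, ← map_pow, ← map_pow, pow_card_eq_one', map_one, map_one]
  let S := rootsOfUnity (d * m) ℂ
  haveI : NeZero (d * m) := ⟨hdm.ne'⟩
  let iS : S →* E₀ := ((Clifford.scalarHom ρθ).comp S.subtype).codRestrict E₀ fun c => by
    rw [hE₀]
    change detHom (Clifford.scalarHom ρθ (c : ℂˣ)) ^ m = 1
    rw [hdet, ← pow_mul]
    exact (mem_rootsOfUnity _ _).1 c.2
  have hp₀ : Function.Surjective p₀ := fun g => by
    obtain ⟨x, hx⟩ := hsurj g
    obtain ⟨z, hz⟩ := IsAlgClosed.exists_pow_nat_eq (((detHom x ^ m)⁻¹ : ℂˣ) : ℂ) hdm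
    have hz0 : z ≠ 0 := by
      rintro rfl
      rw [zero_pow hdm.ne'] at hz
      exact Units.ne_zero _ hz.symm
    refine ⟨⟨x * Clifford.scalarHom ρθ (Units.mk0 z hz0), ?_⟩, ?_⟩
    · rw [hE₀, map_mul, hdet, mul_pow, ← pow_mul,
        show Units.mk0 z hz0 ^ (d * m) = (detHom x ^ m)⁻¹ from Units.ext (by simp [hz]),
        mul_inv_cancel]
    · show Clifford.proj ρθ (x * Clifford.scalarHom ρθ _) = g
      rw [map_mul, hx]
      exact mul_one g
  have hkerp : ∀ x : E₀, p₀ x = 1 → ∃ c : S, iS c = x := fun x hx => by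
    obtain ⟨c, hc⟩ := Clifford.exists_scalar_of_proj_eq ρθ
      (x := (1 : Clifford.intertwinerGroup ρθ)) (y := x.1) (by rw [map_one]; exact hx.symm)
    rw [one_mul] at hc
    have h1 := (hE₀ _).1 x.2
    rw [hc, hdet, ← pow_mul] at h1
    exact ⟨⟨c, (mem_rootsOfUnity _ _).2 h1⟩, Subtype.ext hc.symm⟩
  haveI : Finite p₀.ker := Finite.of_surjective
    (fun c : S => (⟨iS c, MonoidHom.mem_ker.2 rfl⟩ : p₀.ker))
    fun x => (hkerp x.1 x.2).imp fun c hc => Subtype.ext hc
  haveI : Finite (E₀ ⧸ p₀.ker) :=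
    Finite.of_injective (QuotientGroup.kerLift p₀) (QuotientGroup.kerLift_injective p₀)
  haveI : Finite E₀ := Finite.of_subgroup_quotient p₀.ker
  let ρ : Representation ℂ E₀ (Fin d → ℂ) :=
    (Units.coeHom _).comp ((MonoidHom.snd Γ _).comp
      ((Clifford.intertwinerGroup ρθ).subtype.comp E₀.subtype))
  have hρiN : ∀ n, ρ (iN n) = ρθ n := fun n => rfl
  exact ⟨S, E₀, inferInstance, inferInstance, p₀, iN, iS, ρ, hp₀, fun n => rfl, fun c => rfl, hkerp,
    fun x n => Subtype.ext (Clifford.conj_ofN ρθ x.1 n),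
    fun c x => Subtype.ext (Clifford.scalarHom_comm ρθ _ x.1), hρiN,
    fun c => show algebraMap ℂ (Module.End ℂ (Fin d → ℂ)) ((c : ℂˣ) : ℂ) = _ from
      Algebra.algebraMap_eq_smul_one _⟩

/-- An invariant character lies under an invariant one. -/
theorem exists_invariant_over (G N : Subgroup Γ) [hG : G.Normal] [hN : N.Normal] [Fintype N]
    (hNG : N ≤ G) (hcop : G.index.Coprime (N.relIndex G))
    (hsolv : Group.IsSolvable (Γ ⧸ G) ∨ Group.IsSolvable (G ⧸ N.subgroupOf G))
    (θ : IrrCharacter N) (hinv : ∀ g : Γ, conjFun N θ.1 g = θ.1) :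
    ∃ χ : IrrCharacter G, classInner (resIncl N hNG χ.1) θ.1 ≠ 0 ∧
      ∀ g : Γ, conjFun G χ.1 g = χ.1 := by
  classical
  obtain ⟨H, hNH, hHG, hHidx, hprod⟩ := exists_complement_over G N hNG hcop
  obtain ⟨d, ρθ, hρ, hθeq⟩ := θ.2
  haveI := hρ
  haveI : Nontrivial (Fin d → ℂ) := nontrivial_of_isIrreducible ρθ
  obtain ⟨S, E, _, _, p₀, iN, iS, ρ, hp₀, hpiN, hpiS, hkerp, hiN, hiS, hρiN, hρiS⟩ :=
    exists_finite_cover N ρθ fun g n => by rw [hθeq]; exact congrFun (hinv g) n
  -- the preimage of `G` modulo the copy of `N`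
  let L := G.comap p₀
  let jN : N →* L := iN.codRestrict L fun n => Subgroup.mem_comap.2 (by rw [hpiN]; exact hNG n.2)
  let jS : S →* L := iS.codRestrict L fun c => Subgroup.mem_comap.2 (by rw [hpiS]; exact G.one_mem)
  have hjN : Function.Injective jN := fun a b h => Subtype.ext (by
    rw [← hpiN a, ← hpiN b]; exact congrArg (fun y : L => p₀ (y : E)) h)
  have hconj : ∀ (x : E) (n : N),
      MulAut.conjNormal x (jN n) = jN (MulAut.conjNormal (p₀ x) n) := fun x n =>
    Subtype.ext (hiN x n)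
  let N₁ := jN.range
  have hN₁inv : ∀ x : E, ∀ y ∈ N₁, MulAut.conjNormal x y ∈ N₁ := by
    rintro x _ ⟨n, rfl⟩
    exact ⟨_, (hconj x n).symm⟩
  haveI hN₁n : N₁.Normal := ⟨fun y hy g => by
    have h := hN₁inv g y hy
    rwa [show MulAut.conjNormal (g : E) y = g * y * g⁻¹ from Subtype.ext (by simp)] at h⟩
  let χL : IrrCharacter L := ⟨fun y => ρ.character (y : E), by
    refine RelGlauberman.isIrrCharacter_of_resFun (N := N₁)
      (IsCharacter.comp (isCharacter_character ρ) L.subtype) ?_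
    let e := MonoidHom.ofInjective hjN
    have : resFun N₁ (fun y : L => ρ.character (y : E)) = fun y => θ.1 (e.symm y) := by
      funext y
      obtain ⟨n, rfl⟩ := e.surjective y
      rw [MulEquiv.symm_apply_apply, ← hθeq]
      exact congrArg (LinearMap.trace ℂ (Fin d → ℂ)) (hρiN n)
    rw [this]
    exact IsIrrCharacter.comp_mulEquiv θ.2 e.symm⟩
  have hχres : IsIrrCharacter N₁ (resFun N₁ χL.1) := by
    let e := MonoidHom.ofInjective hjN
    have : resFun N₁ χL.1 = fun y => θ.1 (e.symm y) := by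
      funext y
      obtain ⟨n, rfl⟩ := e.surjective y
      rw [MulEquiv.symm_apply_apply, ← hθeq]
      exact congrArg (LinearMap.trace ℂ (Fin d → ℂ)) (hρiN n)
    rw [this]
    exact IsIrrCharacter.comp_mulEquiv θ.2 e.symm
  let ζ : S →* L ⧸ N₁ := (QuotientGroup.mk' N₁).comp jS
  have hζ : Function.Injective ζ := (injective_iff_map_eq_one _).2 fun c hc => by
    obtain ⟨n, hn⟩ := (QuotientGroup.eq_one_iff (jS c)).1 hc
    have h0 : iN n = iS c := congrArg Subtype.val hn
    have h1 : n = 1 := Subtype.ext (by rw [← hpiN n, h0, hpiS, Subgroup.coe_one])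
    rw [h1, map_one] at h0
    have h2 := hρiS c
    rw [← h0, map_one] at h2
    obtain ⟨v, hv⟩ := exists_ne (0 : Fin d → ℂ)
    have h3 : ((1 : ℂ) - ((c : ℂˣ) : ℂ)) • v = 0 := by
      rw [sub_smul, one_smul, sub_eq_zero]
      exact LinearMap.congr_fun h2 v
    exact Subtype.ext (Units.ext (sub_eq_zero.1 ((smul_eq_zero.1 h3).resolve_right hv)).symm)
  let Z := ζ.range
  have hZc : Z ≤ Subgroup.center (L ⧸ N₁) := by
    rintro _ ⟨c, rfl⟩
    refine Subgroup.mem_center_iff.2 fun y => ?_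
    obtain ⟨y, rfl⟩ := QuotientGroup.mk_surjective y
    exact congrArg (QuotientGroup.mk' N₁) (show y * jS c = jS c * y from
      Subtype.ext (hiS c (y : E)).symm)
  haveI hZn : Z.Normal := ⟨fun n hn g => by
    rwa [(Subgroup.mem_center_iff.1 (hZc hn) g : _), mul_inv_cancel_right]⟩
  have hmemZ : ∀ y : L, p₀ y ∈ N → (y : L ⧸ N₁) ∈ Z := fun y hy => by
    obtain ⟨c, hc⟩ := hkerp ((iN ⟨_, hy⟩)⁻¹ * y) (by
      rw [map_mul, map_inv, hpiN]
      exact inv_mul_cancel _)
    refine ⟨c, QuotientGroup.eq_iff_div_mem.2 ?_⟩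
    rw [show jS c = (jN ⟨_, hy⟩)⁻¹ * y from Subtype.ext hc, mul_div_assoc, div_self', mul_one]
    exact N₁.inv_mem ⟨_, rfl⟩
  -- the quotient by the scalars is `G / N`
  haveI : (N.subgroupOf G).Normal := hN.comap G.subtype
  let f₁ : L →* G ⧸ N.subgroupOf G :=
    (QuotientGroup.mk' (N.subgroupOf G)).comp ((p₀.comp L.subtype).codRestrict G fun y => y.2)
  have hf₁ : N₁ ≤ f₁.ker := by
    rintro _ ⟨n, rfl⟩
    refine (QuotientGroup.eq_one_iff _).2 (Subgroup.mem_subgroupOf.2 ?_)
    show p₀ (iN n) ∈ N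
    rw [hpiN]; exact n.2
  let f₂ := QuotientGroup.lift N₁ f₁ hf₁
  have hf₂ : Z ≤ f₂.ker := by
    rintro _ ⟨c, rfl⟩
    refine (QuotientGroup.eq_one_iff _).2 (Subgroup.mem_subgroupOf.2 ?_)
    show p₀ (iS c) ∈ N
    rw [hpiS]; exact N.one_mem
  let f₃ := QuotientGroup.lift Z f₂ hf₂
  have hf₃ : Function.Injective f₃ := (injective_iff_map_eq_one _).2 fun q hq => by
    obtain ⟨q, rfl⟩ := QuotientGroup.mk_surjective q
    obtain ⟨y, rfl⟩ := QuotientGroup.mk_surjective q
    exact (QuotientGroup.eq_one_iff _).2 (hmemZ y ((QuotientGroup.eq_one_iff _).1 hq :))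
  have hidx : Z.index ∣ N.relIndex G := by
    rw [Subgroup.index_eq_card, Subgroup.relIndex, Subgroup.index_eq_card]
    exact Subgroup.card_dvd_of_injective f₃ hf₃
  -- the operators
  let Ht := H.comap p₀
  let ψ : Ht →* MulAut (L ⧸ N₁) :=
    quotAut (((MulAut.conjNormal : E →* MulAut L)).comp Ht.subtype) N₁
      fun t y hy => hN₁inv t y hy
  have hψmk : ∀ (t : Ht) (y : L),
      ψ t (y : L ⧸ N₁) = ((MulAut.conjNormal (t : E) y : L) : L ⧸ N₁) := fun t y => rfl
  have hker : (N.comap p₀).subgroupOf Ht ≤ ψ.ker := fun t ht => MulEquiv.ext fun q => by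
    obtain ⟨y, rfl⟩ := QuotientGroup.mk_surjective q
    let tL : L := ⟨(t : E), hNG ht⟩
    rw [hψmk, show MulAut.conjNormal (t : E) y = tL * y * tL⁻¹ from Subtype.ext (by simp [tL]),
      QuotientGroup.mk_mul, QuotientGroup.mk_mul, QuotientGroup.mk_inv,
      ← (Subgroup.mem_center_iff.1 (hZc (hmemZ tL ht)) (y : L ⧸ N₁) : _), mul_inv_cancel_right]
    rfl
  have hT : Nat.card ψ.range ∣ G.index := by
    rw [← Subgroup.index_ker ψ, ← hHidx,
      show N.relIndex H = (N.comap p₀).relIndex Ht by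
        rw [Subgroup.relIndex_comap, Subgroup.map_comap_eq_self_of_surjective hp₀]]
    exact Subgroup.index_dvd_of_le hker
  have hfix : ∀ e ∈ ψ.range, ∀ z ∈ Z, e z = z := by
    rintro _ ⟨t, rfl⟩ _ ⟨c, rfl⟩
    exact congrArg (QuotientGroup.mk' N₁) (show MulAut.conjNormal (t : E) (jS c) = jS c from
      Subtype.ext (by
        show (t : E) * iS c * (t : E)⁻¹ = iS c
        rw [← hiS, mul_inv_cancel_right]))
  have hs : Group.IsSolvable ψ.range ∨ Group.IsSolvable ((L ⧸ N₁) ⧸ Z) := by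
    rcases hsolv with h | h
    · left
      let a : Ht →* Γ ⧸ G := (QuotientGroup.mk' G).comp (p₀.comp Ht.subtype)
      have ha : a.ker ≤ ψ.rangeRestrict.ker := fun t ht => by
        rw [MonoidHom.ker_rangeRestrict]
        exact hker (hHG _ t.2 ((QuotientGroup.eq_one_iff _).1 ht))
      haveI : Group.IsSolvable (Ht ⧸ a.ker) :=
        Group.isSolvable_of_isSolvable_injective (f := QuotientGroup.kerLift a)
          (QuotientGroup.kerLift_injective a)
      exact Group.isSolvable_of_surjective (f := QuotientGroup.lift a.ker ψ.rangeRestrict ha)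
        (QuotientGroup.lift_surjective_of_surjective _ _ ψ.rangeRestrict_surjective _)
    · right
      exact Group.isSolvable_of_isSolvable_injective (f := f₃) hf₃
  let e := MonoidHom.ofInjective hζ
  let l : Z →* ℂ := (Units.coeHom ℂ).comp
    (((invMonoidHom : ℂˣ →* ℂˣ).comp S.subtype).comp e.symm.toMonoidHom)
  obtain ⟨β, hβ, hβl⟩ := exists_fix_over_central Z hZc ψ.range hfix
    ((hcop.coprime_dvd_left hT).coprime_dvd_right hidx) hs l
  set k := classInner (resFun Z β.1) (linIrr l).1 with hk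
  have hβres : resFun Z β.1 = k • (linIrr l).1 :=
    resFun_eq_smul_of_invariant Z β (linIrr l) (fun g => funext fun z => congrArg l (Subtype.ext (by
      show g * (z : L ⧸ N₁) * g⁻¹ = z
      rw [(Subgroup.mem_center_iff.1 (hZc z.2) g : _), mul_inv_cancel_right]))) hβl
  -- the character of `L`, trivial on the scalars
  set F := mulQuotient N₁ χL.1 β.1 with hF
  have hFirr : IsIrrCharacter L F := isIrrCharacter_mulQuotient N₁ χL hχres β
  have hβ1 : β.1 1 = k := by
    have h := congrFun hβres 1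
    simpa using h
  have hFscalar : ∀ c : S, F (jS c) = F 1 := by
    intro c
    have h1 : β.1 ((jS c : L) : L ⧸ N₁) = k * (((c : ℂˣ)⁻¹ : ℂˣ) : ℂ) := by
      refine (congrFun hβres ⟨ζ c, c, rfl⟩).trans ?_
      show k * (((e.symm (e c) : S) : ℂˣ)⁻¹ : ℂˣ) = k * (((c : ℂˣ)⁻¹ : ℂˣ) : ℂ)
      rw [e.symm_apply_apply]
    have h2 : χL.1 (jS c) = ((c : ℂˣ) : ℂ) * χL.1 1 := by
      show LinearMap.trace ℂ _ (ρ (iS c)) = _ * LinearMap.trace ℂ _ (ρ 1)
      rw [hρiS, map_one, map_smul, smul_eq_mul]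
    rw [hF, mulQuotient_apply, mulQuotient_apply, h1, h2, QuotientGroup.mk_one, hβ1,
      Units.val_inv_eq_inv_val]
    field_simp
  let pL : L →* G := (p₀.comp L.subtype).codRestrict G fun y => y.2
  have hpL : Function.Surjective pL := fun g => by
    obtain ⟨x, hx⟩ := hp₀ g
    exact ⟨⟨x, show p₀ x ∈ G from hx ▸ g.2⟩, Subtype.ext hx⟩
  obtain ⟨ψ₀, hψ₀⟩ := exists_descend pL.ker ⟨F, hFirr⟩ fun y hy => by
    obtain ⟨c, hc⟩ := hkerp (y : E) (congrArg Subtype.val hy)
    rw [show y = jS c from Subtype.ext hc.symm]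
    exact hFscalar c
  let eG := QuotientGroup.quotientKerEquivOfSurjective pL hpL
  let χ : IrrCharacter G := ⟨fun g => ψ₀.1 (eG.symm g), IsIrrCharacter.comp_mulEquiv ψ₀.2 eG.symm⟩
  have hχ : ∀ y : L, χ.1 (pL y) = F y := fun y => by
    show ψ₀.1 (eG.symm (pL y)) = F y
    rw [show eG.symm (pL y) = (y : L ⧸ pL.ker) from eG.symm_apply_eq.2 rfl]
    exact hψ₀ y
  refine ⟨χ, ?_, fun γ => ?_⟩
  · have hres : resIncl N hNG χ.1 = k • θ.1 := by
      funext n
      rw [resIncl_apply, show Subgroup.inclusion hNG n = pL (jN n) from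
        Subtype.ext (hpiN n).symm, hχ, hF,
        mulQuotient_apply, (QuotientGroup.eq_one_iff (N := N₁) (jN n)).2 ⟨n, rfl⟩, hβ1, Pi.smul_apply,
        smul_eq_mul, mul_comm, ← hθeq]
      exact congrArg (k * ·) (congrArg (LinearMap.trace ℂ _) (hρiN n))
    rw [hres, classInner_smul_left, classInner_irr_self θ.2, mul_one]
    exact hβl
  · obtain ⟨g, hg, h, hh, rfl⟩ := hprod γ
    have hfixH : conjFun G χ.1 h = χ.1 := by
      funext y
      obtain ⟨x, hx⟩ := hp₀ h
      obtain ⟨y, rfl⟩ := hpL y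
      let t : Ht := ⟨x, show p₀ x ∈ H from hx ▸ hh⟩
      have hy : MulAut.conjNormal h (pL y) = pL (MulAut.conjNormal x y) := by
        refine Subtype.ext ?_
        show h * p₀ y * h⁻¹ = p₀ (x * y * x⁻¹)
        rw [map_mul, map_mul, map_inv, hx]
      show χ.1 (MulAut.conjNormal h (pL y)) = χ.1 (pL y)
      rw [hy, hχ, hχ, hF, mulQuotient_apply, mulQuotient_apply,
        show χL.1 (MulAut.conjNormal x y) = χL.1 y from ρ.char_conj (y : E) x]
      congr 1
      exact hβ ⟨ψ t, t, rfl⟩ (y : L ⧸ N₁)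
    have hfixG : conjFun G χ.1 g = χ.1 :=
      congrArg Subtype.val (conjChar_of_mem G χ hg)
    rw [conjFun_mul, hfixG, hfixH]

end Cfsg.Agent.Char
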