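import Cfsg.Agent.Lib.Char.RealChar

/-!
# Invariant bilinear forms and the Frobenius–Schur indicator

An irreducible representation with real character has an invariant bilinear form, and every such
form is symmetric or antisymmetric according to the indicator.
-/

set_option autoImplicit false
set_option linter.unusedSectionVars false

open Matrix
open scoped Kronecker

namespace Cfsg.Agent.Char

variable {G : Type*} [Group G] [Fintype G] {n : ℕ} (ρ : Representation ℂ G (Fin n → ℂ))

theorem sqAverage_mul_kronecker (h : G) :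
    sqAverage ρ * (LinearMap.toMatrix' (ρ h) ⊗ₖ LinearMap.toMatrix' (ρ h)) = sqAverage ρ := by
  unfold sqAverage
  rw [Matrix.smul_mul, Finset.sum_mul]
  congr 1
  refine Fintype.sum_equiv (Equiv.mulRight h) _ _ fun g => ?_
  rw [← Matrix.mul_kronecker_mul, ← LinearMap.toMatrix'_mul, ← map_mul]
  rfl

theorem vecMul_kronecker (M A : Matrix (Fin n) (Fin n) ℂ) (c d : Fin n) :
    ((fun p : Fin n × Fin n => M p.1 p.2) ᵥ* (A ⊗ₖ A)) (c, d) = (Aᵀ * M * A) c d := by
  simp only [Matrix.vecMul, dotProduct, Matrix.kroneckerMap_apply, Matrix.mul_apply,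
    Matrix.transpose_apply, Fintype.sum_prod_type, Finset.sum_mul]
  rw [Finset.sum_comm]
  exact Finset.sum_congr rfl fun a _ => Finset.sum_congr rfl fun b _ => by ring

theorem invariant_forms (havg : (Nat.card G : ℂ)⁻¹ * ∑ g : G, ρ.character g * ρ.character g = 1) :
    (∃ M : Matrix (Fin n) (Fin n) ℂ, M ≠ 0 ∧
      ∀ g : G, (LinearMap.toMatrix' (ρ g))ᵀ * M * LinearMap.toMatrix' (ρ g) = M) ∧
    ∀ M : Matrix (Fin n) (Fin n) ℂ,
      (∀ g : G, (LinearMap.toMatrix' (ρ g))ᵀ * M * LinearMap.toMatrix' (ρ g) = M) →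
        Mᵀ = fsIndicator ρ.character • M := by
  obtain ⟨v, w, hvw, h1⟩ := idempotent_matrix_of_trace_one (sqAverage_mul_self ρ)
    (by rw [trace_sqAverage, havg])
  have hsym : ∀ a b, v a.swap * w b.swap = v a * w b := fun a b => by
    rw [← hvw, ← hvw, sqAverage_swap]
  have hswap : ∀ c, w c.swap = fsIndicator ρ.character * w c := by
    intro c
    have h2 : ∑ b : Fin n × Fin n, v b.swap * w b.swap = 1 := by
      rw [← h1, dotProduct]
      exact Fintype.sum_equiv (Equiv.prodComm _ _) _ _ fun b => mul_comm _ _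
    calc w c.swap = w c.swap * ∑ b : Fin n × Fin n, v b.swap * w b.swap := by rw [h2, mul_one]
      _ = ∑ b : Fin n × Fin n, (v b * w c) * w b.swap := by
          rw [Finset.mul_sum]
          exact Finset.sum_congr rfl fun b _ => by rw [← hsym b c]; ring
      _ = fsIndicator ρ.character * w c := by
          rw [fsIndicator_eq_swapTrace, Finset.sum_mul]
          exact Finset.sum_congr rfl fun b _ => by rw [hvw]; ring
  refine ⟨⟨Matrix.of fun a b => w (a, b), fun h0 => ?_, fun g => ?_⟩, fun M hM => ?_⟩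
  · have h2 : w = 0 := funext fun p => congrFun (congrFun h0 p.1) p.2
    rw [h2, zero_dotProduct] at h1
    exact zero_ne_one h1
  · obtain ⟨a, -, ha⟩ := Finset.exists_ne_zero_of_sum_ne_zero
      (show ∑ a, w a * v a ≠ 0 by rw [show ∑ a, w a * v a = 1 from h1]; exact one_ne_zero)
    ext c d
    rw [← vecMul_kronecker]
    refine mul_left_cancel₀ (right_ne_zero_of_mul ha) ?_
    have h2 := congrFun (congrFun (sqAverage_mul_kronecker ρ g) a) (c, d)
    rw [Matrix.mul_apply] at h2
    simp only [hvw, mul_assoc, ← Finset.mul_sum] at h2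
    simpa [Matrix.vecMul, dotProduct] using h2
  · have hfix : ∀ p : Fin n × Fin n,
        ((fun q : Fin n × Fin n => M q.1 q.2) ᵥ* sqAverage ρ) p = M p.1 p.2 := by
      intro p
      rw [sqAverage, Matrix.vecMul_smul, Matrix.vecMul_sum, Pi.smul_apply, Finset.sum_apply]
      rw [Finset.sum_congr rfl fun g _ => (vecMul_kronecker M _ p.1 p.2).trans
        (by rw [hM g]), Finset.sum_const, Finset.card_univ, nsmul_eq_mul, smul_eq_mul,
        ← Nat.card_eq_fintype_card,
        inv_mul_cancel_left₀ (Nat.cast_ne_zero.2 Nat.card_pos.ne')]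
    have hc : ∀ p : Fin n × Fin n, M p.1 p.2 = (∑ q, M q.1 q.2 * v q) * w p := fun p => by
      rw [← hfix p, Finset.sum_mul]
      simp [Matrix.vecMul, dotProduct, hvw, mul_assoc]
    ext i j
    rw [Matrix.transpose_apply, Matrix.smul_apply, smul_eq_mul, hc (j, i), hc (i, j),
      show (j, i) = ((i, j) : Fin n × Fin n).swap from rfl, hswap]
    ring

theorem avg_sq_eq_one (hirr : ρ.IsIrreducible) (hreal : ∀ g : G, (ρ.character g).im = 0) :
    (Nat.card G : ℂ)⁻¹ * ∑ g : G, ρ.character g * ρ.character g = 1 := by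
  let χ : IrrCharacter G := ⟨_, isIrrCharacter_character ρ hirr⟩
  show (Nat.card G : ℂ)⁻¹ * ∑ g : G, χ.1 g * χ.1 g = 1
  rw [avg_sq_eq_classInner, (conjIrr_eq_self_iff χ).2 hreal]
  exact classInner_irr_self χ.2

end Cfsg.Agent.Char
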