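import Cfsg.Agent.Lib.Char.Blichfeldt
import Cfsg.Agent.Lib.Char.Monomial
import Cfsg.Agent.Lib.CharInt.Galois
import Cfsg.Agent.Lib.CharInt.Basic
import Cfsg.Agent.Lib.Transfer.Hall

/-!
# Blichfeldt: abelian Hall subgroups for the primes above `n + 1`

For a group with a faithful representation of degree `n`:
* `commute_of_normalizes`: a `p`-element (`n < p`) normalising an abelian subgroup centralises it;
* `exists_commute_orderOf`: distinct prime divisors `p, q > n + 1` of the order are joined by a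
  commuting pair;
* `exists_abelian_hall`: there is an abelian Hall subgroup for the primes above `n + 1`.
-/

set_option autoImplicit false
set_option linter.style.haveILetI false

namespace Cfsg.Agent.Char.LargePrimes

open scoped ComplexConjugate

universe u

variable {G : Type u} [Group G]

/-- A faithful character value `n` forces the identity. -/
theorem eq_one_of_character_eq [Finite G] {n : ℕ} (ρ : Representation ℂ G (Fin n → ℂ))
    (hρ : Function.Injective ρ) {c : G} (h : ρ.character c = ρ.character 1) : c = 1 := by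
  refine hρ (((CharInt.character_eq_finrank_iff ρ c).1 ?_).trans (map_one ρ).symm)
  rw [h, ρ.char_one]

/-- An element in the kernel of every constituent is trivial. -/
theorem eq_one_of_constituents [Finite G] {n : ℕ} (ρ : Representation ℂ G (Fin n → ℂ))
    (hρ : Function.Injective ρ) (m : IrrCharacter G → ℕ)
    (hm : haveI := Fintype.ofFinite G; ρ.character = ∑ ψ, (m ψ : ℂ) • ψ.1)
    {c : G} (h : ∀ ψ : IrrCharacter G, m ψ ≠ 0 → ψ.1 c = ψ.1 1) : c = 1 := by
  haveI := Fintype.ofFinite G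
  refine eq_one_of_character_eq ρ hρ ?_
  rw [hm, Finset.sum_apply, Finset.sum_apply]
  refine Finset.sum_congr rfl fun ψ _ => ?_
  rcases eq_or_ne (m ψ) 0 with h0 | h0
  · simp [h0]
  · simp [h ψ h0]

/-- The degrees of the constituents, with multiplicity, add up to `n`. -/
theorem sum_degree_eq [Fintype G] {n : ℕ} (ρ : Representation ℂ G (Fin n → ℂ))
    (m : IrrCharacter G → ℕ) (hm : ρ.character = ∑ ψ, (m ψ : ℂ) • ψ.1) :
    ∑ ψ, m ψ * degree ψ = n := by
  have := congrFun hm 1
  rw [ρ.char_one, Module.finrank_fin_fun, Finset.sum_apply] at this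
  simp only [Pi.smul_apply, apply_one_eq_degree, smul_eq_mul] at this
  exact_mod_cast this.symm

theorem degree_le [Fintype G] {n : ℕ} (ρ : Representation ℂ G (Fin n → ℂ))
    (m : IrrCharacter G → ℕ) (hm : ρ.character = ∑ ψ, (m ψ : ℂ) • ψ.1) (ψ : IrrCharacter G)
    (h : m ψ ≠ 0) : degree ψ ≤ n :=
  (Nat.le_mul_of_pos_left _ (Nat.pos_of_ne_zero h)).trans
    (sum_degree_eq ρ m hm ▸ Finset.single_le_sum (f := fun φ : IrrCharacter G => m φ * degree φ)
      (fun _ _ => Nat.zero_le _) (Finset.mem_univ ψ))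

/-- A `p`-element normalising an abelian subgroup centralises it, if `n < p`. -/
theorem commute_of_normalizes [Finite G] {p : ℕ} (hp : p.Prime) {n : ℕ} (hn : n < p)
    (ρ : Representation ℂ G (Fin n → ℂ)) (hρ : Function.Injective ρ) {Q : Subgroup G}
    (hQ : ∀ a ∈ Q, ∀ b ∈ Q, a * b = b * a) {g : G} {k : ℕ} (hg : g ^ p ^ k = 1)
    (hgQ : g ∈ Subgroup.normalizer (Q : Set G)) {a : G} (ha : a ∈ Q) : Commute g a := by
  classical
  haveI := Fintype.ofFinite Q
  let σ : Representation ℂ Q (Fin n → ℂ) := ρ.comp Q.subtype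
  have hσ : Function.Injective σ := hρ.comp Q.subtype_injective
  obtain ⟨m, hm, hm'⟩ := IsCharacter.exists_decomp (χ := σ.character) ⟨n, σ, rfl⟩
  let e : MulAut Q := Q.normalizerMonoidHom ⟨g, hgQ⟩
  have he : ∀ b : Q, ((e b : Q) : G) = g * b * g⁻¹ := fun b => rfl
  have hepow : e ^ p ^ k = 1 := by
    show (Q.normalizerMonoidHom ⟨g, hgQ⟩) ^ p ^ k = 1
    rw [← map_pow, show (⟨g, hgQ⟩ : Subgroup.normalizer (Q : Set G)) ^ p ^ k = 1 from
      Subtype.ext hg, map_one]
  let act : IrrCharacter Q → IrrCharacter Q := fun ψ =>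
    ⟨fun b => ψ.1 (e b), IsIrrCharacter.comp_mulEquiv ψ.2 e⟩
  have hmact : ∀ ψ, m (act ψ) = m ψ := fun ψ => by
    have hinv : (fun b : Q => σ.character (e b)) = σ.character := by
      funext b
      show ρ.character ((e b : Q) : G) = ρ.character (b : G)
      rw [he]
      exact CharInt.char_conj_apply ⟨n, ρ, rfl⟩ _ _
    have h1 := classInner_comp_mulEquiv (G := Q) (H := Q) e σ.character ψ.1
    rw [hinv] at h1
    have h2 : classInner σ.character (act ψ).1 = classInner σ.character ψ.1 := h1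
    rw [hm', hm'] at h2
    exact_mod_cast h2
  let Λ : Finset (IrrCharacter Q) := Finset.univ.filter fun ψ => m ψ ≠ 0
  have hΛ : ∀ ψ, ψ ∈ Λ ↔ m ψ ≠ 0 := fun ψ => by simp [Λ]
  have hcard : Fintype.card Λ ≤ n := by
    rw [Fintype.card_coe, Finset.card_eq_sum_ones]
    calc ∑ ψ ∈ Λ, 1 ≤ ∑ ψ ∈ Λ, m ψ * degree ψ := Finset.sum_le_sum fun ψ hψ =>
          Nat.mul_pos (Nat.pos_of_ne_zero ((hΛ ψ).1 hψ)) (degree_pos ψ)
      _ ≤ ∑ ψ, m ψ * degree ψ := Finset.sum_le_univ_sum_of_nonneg fun _ => Nat.zero_le _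
      _ = n := sum_degree_eq σ m hm
  have hinj : Function.Injective act := fun ψ φ h => Subtype.ext (funext fun b => by
    have := congrFun (congrArg Subtype.val h) (e.symm b)
    simpa [act] using this)
  let f : Λ → Λ := fun ψ => ⟨act ψ.1, (hΛ _).2 (by rw [hmact]; exact (hΛ _).1 ψ.2)⟩
  have hfinj : Function.Injective f := fun ψ φ h =>
    Subtype.ext (hinj (congrArg Subtype.val h))
  let π : Equiv.Perm Λ := Equiv.ofBijective f (Finite.injective_iff_bijective.1 hfinj)
  have hπ : ∀ (j : ℕ) (ψ : Λ) (b : Q), ((π ^ j) ψ).1.1 b = ψ.1.1 ((e ^ j) b) := by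
    intro j
    induction j with
    | zero => intro ψ b; simp
    | succ j ih =>
      intro ψ b
      rw [pow_succ', Equiv.Perm.mul_apply]
      show ((π ^ j) ψ).1.1 (e b) = _
      rw [ih, pow_succ, MulAut.mul_apply]
  have hπk : π ^ p ^ k = 1 := Equiv.ext fun ψ => Subtype.ext (Subtype.ext (funext fun b => by
    rw [hπ, hepow, MulAut.one_apply, Equiv.Perm.one_apply]))
  have hπ1 : π = 1 := by
    rw [← orderOf_eq_one_iff]
    refine Nat.eq_one_of_dvd_coprimes ?_ (orderOf_dvd_of_pow_eq_one hπk) orderOf_dvd_card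
    refine Nat.Coprime.pow_left k (hp.coprime_iff_not_dvd.2 fun hd => ?_)
    rw [Fintype.card_perm, hp.dvd_factorial] at hd
    omega
  have hfix : ∀ ψ : IrrCharacter Q, m ψ ≠ 0 → ∀ b, ψ.1 (e b) = ψ.1 b := by
    intro ψ hψ b
    have h1 := hπ 1 ⟨ψ, (hΛ ψ).2 hψ⟩ b
    rw [pow_one, pow_one, hπ1, Equiv.Perm.one_apply] at h1
    exact h1.symm
  have key : e ⟨a, ha⟩ * (⟨a, ha⟩ : Q)⁻¹ = 1 := by
    refine eq_one_of_constituents σ hσ m (by convert hm) fun ψ hψ => ?_
    have hcomm : ∀ x y : Q, x * y = y * x := fun x y => Subtype.ext (hQ x x.2 y y.2)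
    obtain ⟨lam, hlam⟩ := IsCharacter.exists_monoidHom (irr_isCharacter ψ)
      (apply_one_of_comm hcomm ψ)
    rw [← hlam, map_mul, map_one, show lam (e ⟨a, ha⟩) = lam ⟨a, ha⟩ by
      have := hfix ψ hψ ⟨a, ha⟩; rwa [← hlam] at this, ← map_mul, mul_inv_cancel, map_one]
  have h2 : g * a * g⁻¹ = a := congrArg Subtype.val (mul_inv_eq_one.1 key)
  exact mul_inv_eq_iff_eq_mul.1 h2

/-- An element of order `p` is in the kernel of a `p`-rational character of degree below
`p - 1`. -/
theorem eq_degree_of_fixed [Finite G] {ψ : G → ℂ} (h : IsCharacter G ψ) {p m : ℕ} (hp : p.Prime)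
    (hm : ψ 1 = m) (hmp : m + 1 < p) {x : G} (hx : orderOf x = p)
    (hfix : ∀ k : ℕ, k.Coprime p → ψ (x ^ k) = ψ x) : ψ x = ψ 1 := by
  classical
  obtain ⟨d, μ, hd, hμ, hval⟩ := CharInt.exists_roots h x
  have hdm : d = m := by
    have : (d : ℂ) = (m : ℂ) := hd ▸ hm
    exact_mod_cast this
  subst hdm
  obtain ⟨p', rfl⟩ : ∃ p', p = p' + 1 := ⟨p - 1, by omega⟩
  let s : Finset (Fin d) := Finset.univ.filter fun i => μ i = 1
  have hinner : ∀ i, ∑ k ∈ Finset.range (p' + 1), μ i ^ k =
      if μ i = 1 then ((p' + 1 : ℕ) : ℂ) else 0 := by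
    intro i
    split_ifs with h1
    · simp [h1]
    · have := geom_sum_mul (μ i) (p' + 1)
      rw [← hx, hμ i, sub_self, hx] at this
      exact (mul_eq_zero.1 this).resolve_right (sub_ne_zero.2 h1)
  have hsum : (p' : ℂ) * ψ x + (d : ℂ) = ((p' + 1 : ℕ) : ℂ) * (s.card : ℂ) := by
    have h1 : ∑ k ∈ Finset.range (p' + 1), ψ (x ^ k) = (p' : ℂ) * ψ x + (d : ℂ) := by
      rw [Finset.sum_range_succ', pow_zero, hm]
      congr 1
      rw [Finset.sum_congr rfl fun k hk => hfix (k + 1) ?_, Finset.sum_const, Finset.card_range,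
        nsmul_eq_mul]
      refine (hp.coprime_iff_not_dvd.2 fun hdvd => ?_).symm
      have := Nat.le_of_dvd (by omega) hdvd
      have := Finset.mem_range.1 hk
      omega
    rw [← h1, Finset.sum_congr rfl fun k _ => hval k, Finset.sum_comm,
      Finset.sum_congr rfl fun i _ => hinner i, ← Finset.sum_filter, Finset.sum_const,
      nsmul_eq_mul, mul_comm]
  have hint : ((p' : ℤ) : ℂ) * ψ x = ((((p' + 1 : ℕ) : ℤ) * s.card - d : ℤ) : ℂ) := by
    push_cast at hsum ⊢
    linear_combination hsum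
  obtain ⟨z, hz⟩ := exists_int_of_isIntegral_mul (CharInt.isIntegral_char h x)
    (by have := hp.two_le; omega) hint
  rw [hz] at hint
  have hzeq : (p' : ℤ) * z = ((p' + 1 : ℕ) : ℤ) * s.card - d := by exact_mod_cast hint
  have hcle : s.card ≤ d := (Finset.card_le_univ _).trans (Fintype.card_fin d).le
  have hdvd : (p' : ℤ) ∣ (d : ℤ) - s.card := ⟨(s.card : ℤ) - z, by push_cast at hzeq; linarith⟩
  have h0 : (d : ℤ) - s.card = 0 := Int.eq_zero_of_dvd_of_nonneg_of_lt (by omega) (by omega) hdvd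
  have hall : ∀ i, μ i = 1 := fun i => by
    have hs : s = Finset.univ := Finset.eq_univ_of_card _ (by rw [Fintype.card_fin]; omega)
    have := hs ▸ Finset.mem_univ i
    exact (Finset.mem_filter.1 this).2
  have h1 := hval 1
  rw [pow_one] at h1
  rw [h1, hd]
  simp [hall]

/-- If no element has order divisible by `p` and `q`, every irreducible character is fixed by the
`p`-twist `k` or by the `q`-twist `l`. -/
theorem fixed_or_fixed [Finite G] (χ : IrrCharacter G) {p q k l : ℕ}
    (hno : ∀ g : G, p ∣ orderOf g → q ∣ orderOf g → False)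
    (hk : k.Coprime (Nat.card G)) (hl : l.Coprime (Nat.card G))
    (hkg : ∀ g : G, ¬ p ∣ orderOf g → g ^ k = g) (hlg : ∀ g : G, ¬ q ∣ orderOf g → g ^ l = g) :
    (∀ g, χ.1 (g ^ k) = χ.1 g) ∨ ∀ g, χ.1 (g ^ l) = χ.1 g := by
  haveI := Fintype.ofFinite G
  set a : G → ℂ := fun g => χ.1 (g ^ k)
  set b : G → ℂ := fun g => χ.1 (g ^ l)
  have ha : IsIrrCharacter G a := CharInt.isIrrCharacter_pow χ.2 hk
  have hb : IsIrrCharacter G b := CharInt.isIrrCharacter_pow χ.2 hl
  have hzero : ∀ g, (a g - χ.1 g) * conj (b g - χ.1 g) = 0 := by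
    intro g
    by_cases h1 : p ∣ orderOf g
    · have : b g = χ.1 g := congrArg χ.1 (hlg g (hno g h1))
      rw [this, sub_self, map_zero, mul_zero]
    · have : a g = χ.1 g := congrArg χ.1 (hkg g h1)
      rw [this, sub_self, zero_mul]
  by_contra hcon
  push Not at hcon
  obtain ⟨⟨g₁, hg₁⟩, g₂, hg₂⟩ := hcon
  have hz : classInner a b - classInner a χ.1 - classInner χ.1 b + classInner χ.1 χ.1 = 0 := by
    simp only [classInner, ← mul_sub, ← mul_add, ← Finset.sum_sub_distrib, ← Finset.sum_add_distrib]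
    refine mul_eq_zero_of_right _ (Finset.sum_eq_zero fun g _ => ?_)
    have := hzero g
    rw [map_sub] at this
    linear_combination this
  have hne1 : a ≠ χ.1 := fun h => hg₁ (congrFun h g₁)
  have hne2 : χ.1 ≠ b := fun h => hg₂ (congrFun h g₂).symm
  rw [classInner_irr_of_ne ha χ.2 hne1, classInner_irr_of_ne χ.2 hb hne2,
    classInner_irr_self χ.2, sub_zero, sub_zero] at hz
  rcases eq_or_ne a b with h | h
  · rw [h, classInner_irr_self hb] at hz; norm_num at hz
  · rw [classInner_irr_of_ne ha hb h, zero_add] at hz; norm_num at hz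

/-- Twists supported on the `p`-part. -/
theorem exists_twist [Finite G] {p : ℕ} (hp : p.Prime) (hpG : p ∣ Nat.card G) {k₀ : ℕ}
    (hk₀ : k₀.Coprime p) :
    ∃ k : ℕ, k.Coprime (Nat.card G) ∧ (∀ g : G, ¬ p ∣ orderOf g → g ^ k = g) ∧
      ∀ g : G, orderOf g = p → g ^ k = g ^ k₀ := by
  obtain ⟨e, m, hm, hG⟩ := Nat.exists_eq_pow_mul_and_not_dvd (Nat.card_pos (α := G)).ne' p hp.ne_one
  have he : e ≠ 0 := by rintro rfl; rw [pow_zero, one_mul] at hG; exact hm (hG ▸ hpG)
  have hco : (p ^ e).Coprime m := (hp.coprime_iff_not_dvd.2 hm).pow_left e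
  obtain ⟨k, hk1, hk2⟩ := Nat.chineseRemainder hco k₀ 1
  refine ⟨k, ?_, fun g hg => ?_, fun g hg => ?_⟩
  · rw [hG]
    refine Nat.Coprime.mul_right ?_ ?_
    · refine Nat.Coprime.pow_right e ?_
      have h1 := (hk1.of_dvd (dvd_pow_self p he)).gcd_eq
      exact h1.trans hk₀
    · have h1 := hk2.gcd_eq
      rw [Nat.gcd_one_left] at h1
      exact h1
  · have hd : orderOf g ∣ m := by
      refine Nat.Coprime.dvd_of_dvd_mul_left ?_ (hG ▸ orderOf_dvd_natCard g)
      exact ((hp.coprime_iff_not_dvd.2 hg).pow_left e).symm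
    conv_rhs => rw [← pow_one g]
    exact pow_eq_pow_iff_modEq.2 (hk2.of_dvd hd)
  · exact pow_eq_pow_iff_modEq.2 (hg ▸ hk1.of_dvd (dvd_pow_self p he))

/-- Two distinct large prime divisors are joined by a commuting pair. -/
theorem exists_commute_orderOf [Finite G] {n : ℕ} (ρ : Representation ℂ G (Fin n → ℂ))
    (hρ : Function.Injective ρ) {p q : ℕ} (hp : p.Prime) (hq : q.Prime) (hpq : p ≠ q)
    (hnp : n + 1 < p) (hnq : n + 1 < q) (hpG : p ∣ Nat.card G) (hqG : q ∣ Nat.card G) :
    ∃ x y : G, orderOf x = p ∧ orderOf y = q ∧ Commute x y := by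
  classical
  haveI := Fintype.ofFinite G
  haveI := Fact.mk hp
  haveI := Fact.mk hq
  by_contra hcon
  push Not at hcon
  have hno : ∀ g : G, p ∣ orderOf g → q ∣ orderOf g → False := fun g h1 h2 =>
    hcon _ _ (orderOf_pow_orderOf_div (orderOf_pos g).ne' h1)
      (orderOf_pow_orderOf_div (orderOf_pos g).ne' h2) ((Commute.refl g).pow_pow _ _)
  obtain ⟨x, hx⟩ := exists_prime_orderOf_dvd_card' p hpG
  obtain ⟨y, hy⟩ := exists_prime_orderOf_dvd_card' q hqG
  obtain ⟨m, hm, -⟩ := IsCharacter.exists_decomp (χ := ρ.character) ⟨n, ρ, rfl⟩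
  refine hcon x y hx hy ?_
  have hc : x * y * x⁻¹ * y⁻¹ = 1 := by
    refine eq_one_of_constituents ρ hρ m (by convert hm) fun ψ hψ => ?_
    have hdeg := degree_le ρ m hm ψ hψ
    have hψc := irr_isCharacter ψ
    haveI := CharInt.charKernel_normal hψc
    have hker : x ∈ CharInt.charKernel hψc ∨ y ∈ CharInt.charKernel hψc := by
      by_cases hfix : ∀ k₀ : ℕ, k₀.Coprime p → ψ.1 (x ^ k₀) = ψ.1 x
      · exact Or.inl (eq_degree_of_fixed hψc hp (apply_one_eq_degree ψ) (by omega) hx hfix)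
      · right
        push Not at hfix
        obtain ⟨k₀, hk₀, hne⟩ := hfix
        obtain ⟨k, hk, hkg, hkp⟩ := exists_twist hp hpG hk₀
        refine eq_degree_of_fixed hψc hq (apply_one_eq_degree ψ) (by omega) hy fun l₀ hl₀ => ?_
        obtain ⟨l, hl, hlg, hlq⟩ := exists_twist hq hqG hl₀
        rcases fixed_or_fixed ψ hno hk hl hkg hlg with h | h
        · exact absurd (hkp x hx ▸ h x) hne
        · exact hlq y hy ▸ h y
    show x * y * x⁻¹ * y⁻¹ ∈ CharInt.charKernel hψc
    rcases hker with h | h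
    · rw [show x * y * x⁻¹ * y⁻¹ = x * (y * x⁻¹ * y⁻¹) by group]
      exact mul_mem h (Subgroup.Normal.conj_mem inferInstance _ (inv_mem h) y)
    · exact mul_mem (Subgroup.Normal.conj_mem inferInstance _ h x) (inv_mem h)
  rw [mul_inv_eq_one, mul_inv_eq_iff_eq_mul] at hc
  exact hc

/-- An abelian Hall subgroup for the primes above `n + 1`. -/
structure IsLargeHall (n : ℕ) (A : Subgroup G) : Prop where
  comm : ∀ a ∈ A, ∀ b ∈ A, a * b = b * a
  large : ∀ q : ℕ, q.Prime → q ∣ Nat.card A → n + 1 < q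
  index : ∀ q : ℕ, q.Prime → n + 1 < q → ¬ q ∣ A.index

/-- A `p`-element is conjugate into every subgroup of index prime to `p`. -/
theorem exists_conj_mem [Finite G] {p : ℕ} [Fact p.Prime] (A : Subgroup G) (hA : ¬ p ∣ A.index)
    {z : G} (hz : IsPGroup p (Subgroup.zpowers z)) : ∃ c : G, c * z * c⁻¹ ∈ A := by
  obtain ⟨S⟩ := (inferInstance : Nonempty (Sylow p A))
  have hidx : ¬ p ∣ ((S : Subgroup A).map A.subtype).index := by
    rw [Subgroup.index_map_subtype]
    intro hd
    rcases (Fact.out : p.Prime).dvd_mul.mp hd with hd | hd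
    · exact S.not_dvd_index hd
    · exact hA hd
  let T : Sylow p G := (S.2.map A.subtype).toSylow hidx
  obtain ⟨R, hR⟩ := hz.exists_le_sylow
  obtain ⟨c, hc⟩ := MulAction.exists_smul_eq G R T
  refine ⟨c, ?_⟩
  have h1 : c * z * c⁻¹ ∈ ((c • R : Sylow p G) : Subgroup G) :=
    ⟨z, hR (Subgroup.mem_zpowers z), rfl⟩
  rw [hc] at h1
  exact Subgroup.map_subtype_le _ h1

theorem index_centralizer_dvd [Finite G] {A : Subgroup G} (hA : ∀ a ∈ A, ∀ b ∈ A, a * b = b * a)
    {z c : G} (hc : c * z * c⁻¹ ∈ A) : (Subgroup.centralizer ({z} : Set G)).index ∣ A.index := by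
  rw [← Subgroup.index_map_equiv A (MulAut.conj c⁻¹)]
  refine Subgroup.index_dvd_of_le ?_
  rintro _ ⟨a, ha, rfl⟩
  rw [Subgroup.mem_centralizer_singleton_iff]
  show c⁻¹ * a * c⁻¹⁻¹ * z = z * (c⁻¹ * a * c⁻¹⁻¹)
  have h := hA a ha _ hc
  calc c⁻¹ * a * c⁻¹⁻¹ * z = c⁻¹ * (a * (c * z * c⁻¹)) * c := by group
    _ = c⁻¹ * (c * z * c⁻¹ * a) * c := by rw [h]
    _ = z * (c⁻¹ * a * c⁻¹⁻¹) := by group

theorem isPGroup_zpowers [Finite G] {p : ℕ} {z : G} (hz : orderOf z = p) :
    IsPGroup p (Subgroup.zpowers z) :=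
  IsPGroup.of_card (n := 1) (by rw [Nat.card_zpowers, hz, pow_one])

/-- A central element of large prime order lies outside a proper normal subgroup of
`p`-power index. -/
theorem exists_normal_of_central [Finite G] {p : ℕ} [hp : Fact p.Prime] (P : Sylow p G)
    (hP : IsMulCommutative (P : Subgroup G)) {x : G} (hxP : x ∈ (P : Subgroup G))
    (hx : orderOf x = p) (hxZ : x ∈ Subgroup.center G) :
    ∃ K : Subgroup G, K.Normal ∧ K ≠ ⊤ ∧ ∃ e : ℕ, K.index = p ^ e := by
  have hx1 : x ∉ commutator G := fun h => by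
    have := (Subgroup.eq_bot_iff_forall _).1
      (Transfer.inf_centralizer_normalizer_inf_commutator_eq_bot P hP) x
      ⟨⟨hxP, fun w _ => Subgroup.mem_center_iff.1 hxZ w⟩, h⟩
    rw [this, orderOf_one] at hx
    exact hp.out.one_lt.ne hx
  obtain ⟨e, m, hm, hA⟩ := Nat.exists_eq_pow_mul_and_not_dvd
    (Nat.card_pos (α := Abelianization G)).ne' p hp.out.ne_one
  let v : G →* Abelianization G := (powMonoidHom m).comp Abelianization.of
  have hv : ∀ g, v g = Abelianization.of g ^ m := fun g => rfl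
  have hxv : v x ≠ 1 := by
    intro h
    rw [hv, ← map_pow] at h
    have h2 : x ^ m ∈ commutator G := (QuotientGroup.eq_one_iff _).1 h
    refine hx1 ?_
    have hco : (orderOf x).Coprime m := hx ▸ hp.out.coprime_iff_not_dvd.2 hm
    obtain ⟨j, hj⟩ := exists_pow_eq_self_of_coprime hco.symm
    rw [← hj]
    exact Subgroup.pow_mem _ h2 j
  refine ⟨v.ker, inferInstance, fun h => hxv ?_, ?_⟩
  · exact MonoidHom.mem_ker.1 (h ▸ Subgroup.mem_top x)
  · have hr : IsPGroup p v.range := by
      rintro ⟨_, g, rfl⟩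
      exact ⟨e, Subtype.ext (by
        show v g ^ p ^ e = 1
        rw [hv, ← pow_mul, mul_comm, ← hA, pow_card_eq_one'])⟩
    obtain ⟨i, hi⟩ := hr.exists_card_eq
    exact ⟨i, by rw [Subgroup.index_ker, hi]⟩

private theorem exists_hall_aux : ∀ (N n : ℕ) (G : Type u) [Group G] [Finite G], Nat.card G = N →
    ∀ ρ : Representation ℂ G (Fin n → ℂ), Function.Injective ρ →
      ∃ A : Subgroup G, IsLargeHall n A := by
  intro N n
  induction N using Nat.strong_induction_on with
  | _ N IH =>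
  intro G _ _ hN ρ hρ
  classical
  -- the statement for proper subgroups
  have sub : ∀ H : Subgroup G, H ≠ ⊤ → ∃ A : Subgroup G, A ≤ H ∧
      (∀ a ∈ A, ∀ b ∈ A, a * b = b * a) ∧ (∀ q : ℕ, q.Prime → q ∣ Nat.card A → n + 1 < q) ∧
      ∀ q : ℕ, q.Prime → n + 1 < q → ¬ q ∣ A.relIndex H := by
    intro H hH
    obtain ⟨A, hA⟩ := IH (Nat.card H) (hN ▸ lt_of_le_of_ne (Subgroup.card_le_card_group H)
      fun h => hH (H.eq_top_of_card_eq h)) H rfl (ρ.comp H.subtype) (hρ.comp H.subtype_injective)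
    refine ⟨A.map H.subtype, Subgroup.map_subtype_le A, ?_, ?_, fun q hq hqn => ?_⟩
    · rintro _ ⟨a, ha, rfl⟩ _ ⟨b, hb, rfl⟩
      exact congrArg Subtype.val (hA.comm a ha b hb)
    · intro q hq hd
      rw [Subgroup.card_map_of_injective H.subtype_injective] at hd
      exact hA.large q hq hd
    · rw [Subgroup.relIndex, Subgroup.subgroupOf,
        Subgroup.comap_map_eq_self_of_injective H.subtype_injective]
      exact hA.index q hq hqn
  have habP : ∀ (p : ℕ) [Fact p.Prime], n < p → ∀ (P : Sylow p G),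
      ∀ a ∈ (P : Subgroup G), ∀ b ∈ (P : Subgroup G), a * b = b * a := fun p _ hnp P a ha b hb =>
    (Blichfeldt.commute_of_pgroup hnp ρ hρ P.2 ha hb).eq
  by_cases hcentral : ∃ p x, Nat.Prime p ∧ n + 1 < p ∧ orderOf x = p ∧ x ∈ Subgroup.center G
  · obtain ⟨p, x, hp, hnp, hx, hxZ⟩ := hcentral
    haveI := Fact.mk hp
    obtain ⟨R, hR⟩ := (isPGroup_zpowers hx).exists_le_sylow
    obtain ⟨K, hKn, hK, e, he⟩ := exists_normal_of_central R
      ⟨⟨fun a b => Subtype.ext (habP p (by omega) R a a.2 b b.2)⟩⟩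
      (hR (Subgroup.mem_zpowers x)) hx hxZ
    obtain ⟨A, hAK, hAc, hAl, hAi⟩ := sub K hK
    have hAnil : Group.IsNilpotent A := by
      let inst : CommGroup A :=
        { (inferInstance : Group A) with mul_comm := fun a b => Subtype.ext (hAc a a.2 b b.2) }
      exact CommGroup.isNilpotent
    set Nz := Subgroup.normalizer (A : Set G)
    have hsurj : ∀ g : G, ∃ k ∈ K, k⁻¹ * g ∈ Nz := by
      intro g
      let A' := A.map (MulAut.conj g).toMonoidHom
      have hA'K : A' ≤ K := by
        rintro _ ⟨a, ha, rfl⟩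
        exact hKn.conj_mem a (hAK ha) g
      haveI := hAnil
      have hA'nil : Group.IsNilpotent A' :=
        Group.nilpotent_of_surjective _ ((MulAut.conj g).toMonoidHom.subgroupMap_surjective A)
      have hc : Nat.card A' = Nat.card A :=
        Subgroup.card_map_of_injective (MulAut.conj g).injective
      obtain ⟨k, hk⟩ := Transfer.exists_conj_eq_of_nilpotent_hall (G := K)
        (A.subgroupOf K) (A'.subgroupOf K)
        ((Group.isNilpotent_congr (Subgroup.subgroupOfEquivOfLe hAK)).mpr hAnil)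
        ((Group.isNilpotent_congr (Subgroup.subgroupOfEquivOfLe hA'K)).mpr hA'nil)
        (by
          rw [Nat.card_congr (Subgroup.subgroupOfEquivOfLe hAK).toEquiv]
          exact Nat.coprime_of_dvd fun q hq h1 h2 => hAi q hq (hAl q hq h1) h2)
        (by rw [Nat.card_congr (Subgroup.subgroupOfEquivOfLe hAK).toEquiv,
          Nat.card_congr (Subgroup.subgroupOfEquivOfLe hA'K).toEquiv, hc])
      refine ⟨k, k.2, Transfer.mem_normalizer_of_conj_mem ?_⟩
      intro a ha
      have hmem : (⟨g * a * g⁻¹, hA'K ⟨a, ha, rfl⟩⟩ : K) ∈ A'.subgroupOf K := ⟨a, ha, rfl⟩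
      rw [← hk] at hmem
      obtain ⟨b, hb, hbe⟩ := hmem
      have hb' : (b : G) ∈ A := hb
      have e1 : (k : G) * b * (k : G)⁻¹ = g * a * g⁻¹ := congrArg Subtype.val hbe
      show (k : G)⁻¹ * g * a * ((k : G)⁻¹ * g)⁻¹ ∈ A
      rw [show (k : G)⁻¹ * g * a * ((k : G)⁻¹ * g)⁻¹ = (k : G)⁻¹ * (g * a * g⁻¹) * k by group, ← e1,
        show (k : G)⁻¹ * ((k : G) * b * (k : G)⁻¹) * k = b by group]
      exact hb'
    have hNidx : Nz.index = Nz.relIndex K := by
      rw [Subgroup.relIndex, Subgroup.index_eq_card, Subgroup.index_eq_card]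
      refine (Nat.card_congr (Equiv.ofBijective
        (Quotient.map' (fun k : K => (k : G)) fun a b hab => ?_) ⟨?_, ?_⟩)).symm
      · rw [QuotientGroup.leftRel_apply] at hab ⊢
        exact hab
      · intro a b
        induction a using QuotientGroup.induction_on with | _ a =>
        induction b using QuotientGroup.induction_on with | _ b =>
        intro hab
        exact QuotientGroup.eq.2 (show ((a⁻¹ * b : K) : G) ∈ Nz from QuotientGroup.eq.1 hab)
      · intro y
        obtain ⟨g, rfl⟩ := QuotientGroup.mk_surjective y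
        obtain ⟨k, hk, hkg⟩ := hsurj g
        exact ⟨QuotientGroup.mk (⟨k, hk⟩ : K), QuotientGroup.eq.2 hkg⟩
    have hAN : A ≤ Nz := Subgroup.le_normalizer
    obtain ⟨S⟩ := (inferInstance : Nonempty (Sylow p Nz))
    have hSidx : ¬ p ∣ ((S : Subgroup Nz).map Nz.subtype).index := by
      rw [Subgroup.index_map_subtype]
      intro hd
      rcases hp.dvd_mul.mp hd with hd | hd
      · exact S.not_dvd_index hd
      · exact hAi p hp hnp (hd.trans (hNidx ▸ Subgroup.relIndex_dvd_of_le_left K hAN))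
    let P : Sylow p G := (S.2.map Nz.subtype).toSylow hSidx
    have hPA : ∀ (b : (P : Subgroup G)) (a : A), Commute (b : G) (a : G) := by
      intro b a
      obtain ⟨j, hj⟩ := P.2 b
      exact commute_of_normalizes hp (by omega) ρ hρ hAc (congrArg Subtype.val hj)
        (Subgroup.map_subtype_le _ b.2) a.2
    let f : ↥(P : Subgroup G) × A →* G :=
      MonoidHom.noncommCoprod (P : Subgroup G).subtype A.subtype hPA
    have hf : f.range = (P : Subgroup G) ⊔ A := by
      refine (MonoidHom.noncommCoprod_range _ _ _).trans ?_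
      rw [Subgroup.range_subtype, Subgroup.range_subtype]
    refine ⟨(P : Subgroup G) ⊔ A, ?_, ?_, ?_⟩
    · rw [← hf]
      rintro _ ⟨u, rfl⟩ _ ⟨w, rfl⟩
      rw [← map_mul, ← map_mul]
      congr 1
      exact Prod.ext (Subtype.ext (habP p (by omega) P _ u.1.2 _ w.1.2))
        (Subtype.ext (hAc _ u.2.2 _ w.2.2))
    · intro q hq hd
      rw [← hf] at hd
      have := hd.trans (Subgroup.card_range_dvd f)
      rw [Nat.card_prod] at this
      rcases hq.dvd_mul.1 this with h | h
      · obtain ⟨i, hi⟩ := P.2.exists_card_eq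
        rw [hi] at h
        rw [(Nat.prime_dvd_prime_iff_eq hq hp).1 (hq.dvd_of_dvd_pow h)]
        exact hnp
      · exact hAl q hq h
    · intro q hq hqn hd
      by_cases hqp : q = p
      · subst hqp
        exact P.not_dvd_index (hd.trans (Subgroup.index_dvd_of_le le_sup_left))
      · have h1 := hd.trans (Subgroup.index_dvd_of_le
          (le_sup_right : A ≤ (P : Subgroup G) ⊔ A))
        rw [← Subgroup.relIndex_mul_index hAK, he] at h1
        rcases hq.dvd_mul.1 h1 with h | h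
        · exact hAi q hq hqn h
        · exact hqp ((Nat.prime_dvd_prime_iff_eq hq hp).1 (hq.dvd_of_dvd_pow h))
  -- no central element of large prime order
  push Not at hcentral
  have hC : ∀ (p : ℕ) (x : G), p.Prime → n + 1 < p → orderOf x = p →
      Subgroup.centralizer ({x} : Set G) ≠ ⊤ := fun p x hp hnp hx h =>
    hcentral p x hp hnp hx (Subgroup.mem_center_iff.2 fun g =>
      Subgroup.mem_centralizer_singleton_iff.1 (h ▸ Subgroup.mem_top g))
  have hown : ∀ (p : ℕ) (x : G), p.Prime → n + 1 < p → orderOf x = p →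
      ¬ p ∣ (Subgroup.centralizer ({x} : Set G)).index := by
    intro p x hp hnp hx hd
    haveI := Fact.mk hp
    obtain ⟨R, hR⟩ := (isPGroup_zpowers hx).exists_le_sylow
    refine R.not_dvd_index (hd.trans (Subgroup.index_dvd_of_le fun r hr => ?_))
    exact Subgroup.mem_centralizer_singleton_iff.2
      (habP p (by omega) R r hr x (hR (Subgroup.mem_zpowers x)))
  -- Hall subgroups of centralisers, in `G`
  have hcHall : ∀ (p q : ℕ) (y z : G), p.Prime → q.Prime → n + 1 < p → n + 1 < q →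
      orderOf y = q → orderOf z = p → Commute z y →
      ¬ q ∣ (Subgroup.centralizer ({z} : Set G)).index := by
    intro p q y z hp hq hnp hnq hy hz hzy
    haveI := Fact.mk hp
    obtain ⟨A, hAC, hAc, hAl, hAi⟩ := sub _ (hC q y hq hnq hy)
    obtain ⟨c, hc⟩ := exists_conj_mem (G := Subgroup.centralizer ({y} : Set G))
      (A.subgroupOf _) (hAi p hp hnp)
      (z := ⟨z, Subgroup.mem_centralizer_singleton_iff.2 hzy.eq⟩)
      (isPGroup_zpowers (by rw [Subgroup.orderOf_mk, hz]))
    intro hd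
    have h1 := hd.trans (index_centralizer_dvd hAc (c := (c : G)) hc)
    rw [← Subgroup.relIndex_mul_index hAC] at h1
    rcases hq.dvd_mul.1 h1 with h | h
    · exact hAi q hq hnq h
    · exact hown q y hq hnq hy h
  have hall : ∀ (p q : ℕ) (x : G), p.Prime → q.Prime → n + 1 < p → n + 1 < q → orderOf x = p →
      ¬ q ∣ (Subgroup.centralizer ({x} : Set G)).index := by
    intro p q x hp hq hnp hnq hx
    haveI := Fact.mk hp
    by_cases hpq : q = p
    · subst hpq; exact hown q x hq hnq hx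
    by_cases hqG : q ∣ Nat.card G
    swap
    · exact fun hd => hqG (hd.trans (Subgroup.index_dvd_card _))
    obtain ⟨z, y, hz, hy, hzy⟩ := exists_commute_orderOf ρ hρ hp hq (Ne.symm hpq) hnp hnq
      (hx ▸ orderOf_dvd_natCard x) hqG
    obtain ⟨A, hAC, hAc, -, hAi⟩ := sub _ (hC q y hq hnq hy)
    have hidx : ∀ r, r.Prime → n + 1 < r → ¬ r ∣ (Subgroup.centralizer ({y} : Set G)).index →
        ¬ r ∣ A.index := by
      intro r hr hnr hC' hd
      rw [← Subgroup.relIndex_mul_index hAC] at hd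
      exact (hr.dvd_mul.1 hd).elim (hAi r hr hnr) hC'
    obtain ⟨c, hc⟩ := exists_conj_mem A
      (hidx p hp hnp (hcHall q p z y hq hp hnq hnp hz hy hzy.symm)) (isPGroup_zpowers hx)
    exact fun hd => hidx q hq hnq (hown q y hq hnq hy) (hd.trans (index_centralizer_dvd hAc hc))
  by_cases hex : ∃ p, Nat.Prime p ∧ n + 1 < p ∧ p ∣ Nat.card G
  · obtain ⟨p, hp, hnp, hpG⟩ := hex
    haveI := Fact.mk hp
    obtain ⟨x, hx⟩ := exists_prime_orderOf_dvd_card' p hpG
    obtain ⟨A, hAC, hAc, hAl, hAi⟩ := sub _ (hC p x hp hnp hx)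
    refine ⟨A, hAc, hAl, fun q hq hnq hd => ?_⟩
    rw [← Subgroup.relIndex_mul_index hAC] at hd
    exact (hq.dvd_mul.1 hd).elim (hAi q hq hnq) (hall p q x hp hq hnp hnq hx)
  · refine ⟨⊥, fun a ha b hb => ?_, fun q hq hd => ?_, fun q hq hnq hd => hex ⟨q, hq, hnq, ?_⟩⟩
    · rw [Subgroup.mem_bot] at ha hb; rw [ha, hb]
    · rw [Subgroup.card_bot] at hd; exact absurd (Nat.dvd_one.1 hd) hq.ne_one
    · rwa [Subgroup.index_bot] at hd

/-- **Blichfeldt**: a finite linear group of degree `n` has an abelian Hall subgroup for the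
primes above `n + 1`. -/
theorem exists_abelian_hall [Finite G] {n : ℕ} (ρ : Representation ℂ G (Fin n → ℂ))
    (hρ : Function.Injective ρ) : ∃ A : Subgroup G, IsLargeHall n A :=
  exists_hall_aux _ n G rfl ρ hρ

end Cfsg.Agent.Char.LargePrimes
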