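import Cfsg.Agent.Lib.Char.Gallagher
import Cfsg.Agent.Lib.Char.KernelSum
import Cfsg.Agent.Lib.CharInt.Basic
import Mathlib.GroupTheory.Sylow
import Mathlib.Order.Atoms

/-!
# Characters of larger degree with smaller kernel

For a maximal subgroup `M` not containing the kernel `K` of `χ`, either some character of larger
degree has kernel properly inside `K`, or `χ` vanishes on `M` outside the core of `M`.
-/

set_option autoImplicit false
set_option linter.style.haveILetI false
set_option linter.unusedSectionVars false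

namespace Cfsg.Agent.Char

open Cfsg
open scoped ComplexConjugate

universe u

variable {G : Type u} [Group G]

theorem le_of_isPGroup_of_not_dvd_relIndex [Finite G] {p : ℕ} [hp : Fact p.Prime]
    {Q N H : Subgroup G} [N.Normal] (hQ : IsPGroup p Q) (hQH : Q ≤ H)
    (h : ¬ p ∣ N.relIndex H) : Q ≤ N := by
  rw [← Subgroup.relIndex_eq_one]
  obtain ⟨k, hk⟩ := hQ.index (N.subgroupOf Q)
  have hk' : N.relIndex Q = p ^ k := hk
  rcases Nat.eq_zero_or_pos k with rfl | hpos
  · rw [hk', pow_zero]
  · have h2 : N.relIndex Q ∣ N.relIndex H := by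
      rw [← Subgroup.relIndex_subgroupOf hQH (H := N)]
      exact Subgroup.relIndex_dvd_index_of_normal _ _
    exact absurd ((dvd_pow_self p hpos.ne').trans (hk' ▸ h2)) h

/-- The Frattini argument for a subgroup of Sylow type. -/
theorem normalizer_sup_of_not_dvd_relIndex [Finite G] {p : ℕ} [Fact p.Prime] {P N : Subgroup G}
    [N.Normal] (hP : IsPGroup p P) (hPN : P ≤ N) (h : ¬ p ∣ P.relIndex N) :
    Subgroup.normalizer (P : Set G) ⊔ N = ⊤ := by
  let S : Sylow p N := (hP.comap_subtype (K := N)).toSylow h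
  have := Sylow.normalizer_sup_eq_top S
  have e : ((S : Subgroup N).map N.subtype) = P := by
    show (P.subgroupOf N).map N.subtype = P
    rw [Subgroup.subgroupOf_map_subtype, inf_eq_left]
    exact hPN
  rwa [e] at this

variable [Fintype G]

theorem isIrrCharacter_restrict_of_sup {χ : G → ℂ} (hχ : IsIrrCharacter G χ) {L M : Subgroup G}
    (hL : ∀ l ∈ L, χ l = χ 1) (hLM : L ⊔ M = ⊤) : IsIrrCharacter M (resFun M χ) := by
  obtain ⟨n, ρ, hρ, rfl⟩ := hχ
  haveI := hρ
  have hker : ∀ l ∈ L, ρ l = 1 := fun l hl =>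
    (CharInt.character_eq_finrank_iff ρ l).1 (by rw [hL l hl, Representation.char_one])
  refine ⟨n, ρ.comp M.subtype, ?_, rfl⟩
  refine { exists_pair_ne := ⟨⊥, ⊤, fun h => ?_⟩, eq_bot_or_eq_top := fun S => ?_ }
  · haveI := nontrivial_of_isIrreducible ρ
    exact bot_ne_top (α := Submodule ℂ (Fin n → ℂ)) (congrArg Subrepresentation.toSubmodule h)
  · have hall : ∀ g : G, ∀ v ∈ S.toSubmodule, ρ g v ∈ S.toSubmodule := by
      intro g
      have hg : g ∈ L ⊔ M := hLM ▸ Subgroup.mem_top g
      rw [Subgroup.sup_eq_closure] at hg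
      induction hg using Subgroup.closure_induction'' with
      | mem x hx =>
        intro v hv
        rcases hx with hx | hx
        · rw [hker x hx]; exact hv
        · exact S.apply_mem_toSubmodule ⟨x, hx⟩ hv
      | inv_mem x hx =>
        intro v hv
        rcases hx with hx | hx
        · rw [hker _ (L.inv_mem hx)]; exact hv
        · exact S.apply_mem_toSubmodule ⟨x⁻¹, M.inv_mem hx⟩ hv
      | one => intro v hv; rw [map_one]; exact hv
      | mul x y _ _ h1 h2 =>
        intro v hv
        rw [map_mul]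
        exact h1 _ (h2 v hv)
    let S' : Subrepresentation ρ := ⟨S.toSubmodule, fun g v hv => hall g v hv⟩
    rcases eq_bot_or_eq_top S' with h | h
    · exact Or.inl (Subrepresentation.toSubmodule_injective
        (congrArg (fun T : Subrepresentation ρ => T.toSubmodule) h :))
    · exact Or.inr (Subrepresentation.toSubmodule_injective
        (congrArg (fun T : Subrepresentation ρ => T.toSubmodule) h :))

theorem apply_eq_of_constituent {ψ : G → ℂ} (hψ : IsCharacter G ψ) (η : IrrCharacter G)
    (h : classInner ψ η.1 ≠ 0) {l : G} (hl : ψ l = ψ 1) : η.1 l = η.1 1 := by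
  obtain ⟨m, hm, hm'⟩ := IsCharacter.exists_decomp hψ
  have h1 : ∑ θ : IrrCharacter G, (m θ : ℝ) * (θ.1 l).re = ∑ θ : IrrCharacter G, (m θ : ℝ) * degree θ := by
    have e1 := congrArg Complex.re hl
    rw [hm] at e1
    simpa [apply_one_eq_degree, Finset.sum_apply] using e1
  have hle : ∀ θ : IrrCharacter G, (θ.1 l).re ≤ (degree θ : ℝ) := fun θ => by
    have := CharInt.norm_char_le (irr_isCharacter θ) l
    rw [apply_one_eq_degree, Complex.norm_natCast] at this
    exact (Complex.re_le_norm _).trans this
  have heq := (Finset.sum_eq_sum_iff_of_le fun θ _ =>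
    mul_le_mul_of_nonneg_left (hle θ) (Nat.cast_nonneg (m θ))).1 h1 η (Finset.mem_univ η)
  have hm0 : (m η : ℝ) ≠ 0 := by
    intro h0
    exact h (by rw [hm', Nat.cast_eq_zero.1 h0, Nat.cast_zero])
  have hre := mul_left_cancel₀ hm0 heq
  have hn := CharInt.norm_char_le (irr_isCharacter η) l
  rw [apply_one_eq_degree, Complex.norm_natCast] at hn
  have him : (η.1 l).im = 0 := by
    have h2 : (η.1 l).re ^ 2 + (η.1 l).im ^ 2 = ‖η.1 l‖ ^ 2 := by
      rw [← Complex.normSq_eq_norm_sq, Complex.normSq_apply]; ring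
    nlinarith [norm_nonneg (η.1 l), hre]
  rw [apply_one_eq_degree]
  exact Complex.ext (by simpa using hre) (by simpa using him)

theorem exists_larger_or_vanish (χ : IrrCharacter G) (K : Subgroup G)
    (hK : ∀ g : G, g ∈ K ↔ χ.1 g = χ.1 1) {M : Subgroup G} (hM : IsCoatom M) (hKM : ¬ K ≤ M) :
    (∃ ψ : IrrCharacter G, charDegree χ.1 < charDegree ψ.1 ∧
      ∃ L : Subgroup G, (∀ g : G, g ∈ L ↔ ψ.1 g = ψ.1 1) ∧ L < K) ∨
    ∀ m ∈ M, χ.1 m ≠ 0 → m ∈ M.normalCore := by
  classical
  haveI : Fintype M := Fintype.ofFinite M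
  have hKMtop : K ⊔ M = ⊤ := hM.2 _ (lt_of_le_of_ne le_sup_right fun h => hKM (le_sup_left.trans h.ge))
  let η : IrrCharacter M :=
    ⟨resFun M χ.1, isIrrCharacter_restrict_of_sup χ.2 (fun l hl => (hK l).1 hl) hKMtop⟩
  by_cases hex : ∃ ψ : IrrCharacter G,
      classInner (resFun M ψ.1) η.1 ≠ 0 ∧ degree χ < degree ψ
  · left
    obtain ⟨ψ, hψ, hdeg⟩ := hex
    refine ⟨ψ, by rwa [charDegree_eq_degree, charDegree_eq_degree],
      CharInt.charKernel (irr_isCharacter ψ), fun g => Iff.rfl, ?_⟩
    set L := CharInt.charKernel (irr_isCharacter ψ)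
    have hLM : L ≤ M := by
      by_contra hLM
      have htop : L ⊔ M = ⊤ :=
        hM.2 _ (lt_of_le_of_ne le_sup_right fun h => hLM (le_sup_left.trans h.ge))
      have hirr := isIrrCharacter_restrict_of_sup ψ.2 (fun l hl => hl) htop
      by_cases he : resFun M ψ.1 = η.1
      · have h1 : ψ.1 1 = χ.1 1 := congrFun he 1
        rw [apply_one_eq_degree, apply_one_eq_degree, Nat.cast_inj] at h1
        omega
      · exact hψ (classInner_irr_of_ne hirr η.2 he)
    refine lt_of_le_of_ne (fun l hl => (hK l).2 ?_) fun h => hKM (h ▸ hLM)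
    exact apply_eq_of_constituent (IsCharacter.restrict (irr_isCharacter ψ) M) η hψ
      (l := ⟨l, hLM hl⟩) hl
  · right
    push Not at hex
    have hres : ∀ ψ : IrrCharacter G, classInner (resFun M ψ.1) η.1 ≠ 0 →
        ∀ m : M, ψ.1 m = χ.1 m := by
      intro ψ hψ
      obtain ⟨c, hc, hc'⟩ := IsCharacter.exists_decomp (IsCharacter.restrict (irr_isCharacter ψ) M)
      have h1 : (degree ψ : ℂ) = ∑ θ : IrrCharacter M, (c θ : ℂ) * degree θ := by
        have := congrFun hc 1
        simpa [Finset.sum_apply, apply_one_eq_degree] using this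
      have h1' : degree ψ = ∑ θ : IrrCharacter M, c θ * degree θ := by exact_mod_cast h1
      have hη : degree η = degree χ := by
        have := apply_one_eq_degree η
        rw [show η.1 1 = χ.1 1 from rfl, apply_one_eq_degree] at this
        exact_mod_cast this.symm
      rw [← Finset.add_sum_erase _ _ (Finset.mem_univ η), hη] at h1'
      have hle := hex ψ hψ
      have hc0 : 1 ≤ c η := Nat.one_le_iff_ne_zero.2 fun h0 => hψ <| by
        show classInner (fun m : M => ψ.1 m) η.1 = 0
        rw [hc', h0, Nat.cast_zero]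
      have hcd : degree χ ≤ c η * degree χ := Nat.le_mul_of_pos_left _ hc0
      have hrest : ∀ θ : IrrCharacter M, θ ≠ η → c θ = 0 := fun θ hθ => by
        have := Finset.sum_eq_zero_iff.1
          (show ∑ θ ∈ Finset.univ.erase η, c θ * degree θ = 0 by omega) θ
          (Finset.mem_erase.2 ⟨hθ, Finset.mem_univ θ⟩)
        exact (Nat.mul_eq_zero.1 this).resolve_right (degree_pos θ).ne'
      have hc1 : c η = 1 := by
        have h2 : c η * degree χ ≤ 1 * degree χ := by omega
        have := Nat.le_of_mul_le_mul_right h2 (degree_pos χ)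
        omega
      intro m
      have h2 := congrFun hc m
      rw [Finset.sum_apply, Finset.sum_eq_single η (fun θ _ hθ => by simp [hrest θ hθ])
        (fun h => absurd (Finset.mem_univ η) h), Pi.smul_apply, hc1, Nat.cast_one, one_smul] at h2
      exact h2
    intro m hm hχm
    set Φ := indFun M η.1
    have hΦ : Φ = ∑ ψ : IrrCharacter G, classInner Φ ψ.1 • ψ.1 :=
      eq_sum_classInner_smul (isClassFunction_indFun M _)
    have hcoef : ∀ ψ : IrrCharacter G, ∀ z : M,
        classInner Φ ψ.1 * ψ.1 z = classInner Φ ψ.1 * χ.1 z := fun ψ z => by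
      by_cases h0 : classInner (resFun M ψ.1) η.1 = 0
      · rw [show classInner Φ ψ.1 = 0 by
          rw [← conj_classInner]
          show conj (classInner ψ.1 (indFun M η.1)) = 0
          rw [classInner_indFun_right M _ (IsCharacter.isClassFunction (irr_isCharacter ψ))]
          exact (congrArg conj h0).trans (map_zero _)]
        simp
      · rw [hres ψ h0 z]
    have hval : ∀ z : M, Φ z = (∑ ψ : IrrCharacter G, classInner Φ ψ.1) * χ.1 z := fun z => by
      have h1 := congrFun hΦ (z : G)
      simp only [Finset.sum_apply, Pi.smul_apply, smul_eq_mul] at h1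
      rw [h1, Finset.sum_mul]
      exact Finset.sum_congr rfl fun ψ _ => hcoef ψ z
    have hext : ∀ z : G, extendByZero M η.1 z = if z ∈ M then χ.1 z else 0 := fun z => by
      split_ifs with hz
      · exact Subtype.val_injective.extend_apply η.1 0 ⟨z, hz⟩
      · exact Function.extend_apply' _ _ _ fun ⟨a, ha⟩ => hz (ha ▸ a.2)
    have hcount : ∀ z : G, Φ z = (Nat.card M : ℂ)⁻¹ *
        ((Finset.univ.filter fun x : G => x⁻¹ * z * x ∈ M).card : ℂ) * χ.1 z := fun z => by
      show (Nat.card M : ℂ)⁻¹ * ∑ x : G, extendByZero M η.1 (x⁻¹ * z * x) = _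
      simp only [hext]
      rw [← Finset.sum_filter, mul_assoc]
      congr 1
      rw [Finset.sum_congr rfl fun x _ => show χ.1 (x⁻¹ * z * x) = χ.1 z by
        simpa using IsCharacter.isClassFunction (irr_isCharacter χ) z x⁻¹,
        Finset.sum_const, nsmul_eq_mul]
    have h0 := (hcount (1 : M)).symm.trans (hval 1)
    have hm' := (hcount m).symm.trans (hval ⟨m, hm⟩)
    rw [Subgroup.coe_one] at h0
    have e0 := mul_right_cancel₀ (IsIrrCharacter.apply_one_ne_zero χ.2) h0
    have em := mul_right_cancel₀ hχm hm'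
    have hcardeq : (Finset.univ.filter fun x : G => x⁻¹ * m * x ∈ M).card = Fintype.card G := by
      have h := em.trans e0.symm
      have hfilter : (Finset.univ.filter fun x : G => x⁻¹ * 1 * x ∈ M) = Finset.univ := by
        ext x; simp [M.one_mem]
      rw [hfilter, Finset.card_univ] at h
      exact_mod_cast mul_left_cancel₀ (inv_ne_zero (card_ne_zero (G := M))) h
    intro x
    have := (Finset.eq_univ_of_card _ hcardeq).symm ▸ Finset.mem_univ x⁻¹
    simpa using (Finset.mem_filter.1 this).2

end Cfsg.Agent.Char
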