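import Cfsg.Agent.Lib.Char.InducedEq
import Cfsg.Agent.Lib.Char.Gallagher
import Cfsg.Agent.Lib.Char.Descend
import Cfsg.Agent.Lib.Char.Congruence
import Cfsg.Agent.Lib.Char.DegreesOneP
import Cfsg.Agent.S0887

/-!
# Subgroups carrying a character of the largest degree of the group

* `exists_restrict_eq`, `conj_mem_of_ne_zero`: such a character extends and vanishes outside the
  core of the subgroup.
* `two_mul_degree_le`: a normal subgroup with nonabelian quotient has degrees at most half.
* `index_le_sq`, `prime_dvd_degree_of_vanish`: consequences of vanishing outside a normal subgroup.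
-/

set_option autoImplicit false
set_option linter.style.haveILetI false

open scoped ComplexConjugate commutatorElement

namespace Cfsg.Agent.Char.MaxDegree

open Cfsg Cfsg.Agent

universe u

variable {G : Type u} [Group G] [Fintype G]

theorem classInner_ne_zero_symm {φ ψ : G → ℂ} (h : classInner φ ψ ≠ 0) : classInner ψ φ ≠ 0 := by
  rw [← conj_classInner]; simpa using h

/-- The degree of a character is at least that of a constituent of its restriction. -/
theorem degree_le_of_over (H : Subgroup G) [Fintype H] (χ : IrrCharacter G) (ψ : IrrCharacter H)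
    (h : classInner ψ.1 (fun x : H => χ.1 x) ≠ 0) : degree ψ ≤ degree χ := by
  rw [← charDegree_eq_degree]
  exact le_of_constituent (IsCharacter.restrict (irr_isCharacter χ) H) ψ
    (classInner_ne_zero_symm h) (by rw [OneMemClass.coe_one]; exact apply_one_eq_degree χ)

theorem exists_over (H : Subgroup G) [Fintype H] (ψ : IrrCharacter H) :
    ∃ χ : IrrCharacter G, classInner ψ.1 (fun x : H => χ.1 x) ≠ 0 := by
  by_contra! h
  have h0 := eq_zero_of_classInner_irr (isClassFunction_indFun H ψ.1)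
    (fun χ => by rw [classInner_indFun H ψ.1 (IsCharacter.isClassFunction (irr_isCharacter χ))]; exact h χ)
  have := congrFun h0 1
  rw [indFun_apply_one, Pi.zero_apply, mul_eq_zero] at this
  exact this.elim (Nat.cast_ne_zero.2 Subgroup.index_ne_zero_of_finite)
    (IsIrrCharacter.apply_one_ne_zero ψ.2)

theorem degree_le {b : ℕ} (hb : ∀ χ : IrrCharacter G, degree χ ≤ b) (H : Subgroup G) [Fintype H]
    (ψ : IrrCharacter H) : degree ψ ≤ b := by
  obtain ⟨χ, hχ⟩ := exists_over H ψ
  exact (degree_le_of_over H χ ψ hχ).trans (hb χ)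

/-- A character of the largest degree of a subgroup extends, by every character over it. -/
theorem restrict_eq_of_over {b : ℕ} (hb : ∀ χ : IrrCharacter G, degree χ ≤ b) (H : Subgroup G)
    [Fintype H] (ψ : IrrCharacter H) (hψ : b ≤ degree ψ) (χ : IrrCharacter G)
    (h : classInner ψ.1 (fun x : H => χ.1 x) ≠ 0) : (fun x : H => χ.1 x) = ψ.1 :=
  eq_of_constituent_degree (IsCharacter.restrict (irr_isCharacter χ) H) ψ
    (classInner_ne_zero_symm h) (by
      have h1 := degree_le_of_over H χ ψ h
      have h2 := hb χ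
      rw [OneMemClass.coe_one, apply_one_eq_degree χ, apply_one_eq_degree ψ,
        show degree χ = degree ψ by omega])

theorem exists_restrict_eq {b : ℕ} (hb : ∀ χ : IrrCharacter G, degree χ ≤ b) (H : Subgroup G)
    [Fintype H] (ψ : IrrCharacter H) (hψ : b ≤ degree ψ) :
    ∃ χ : IrrCharacter G, ∀ x : H, χ.1 x = ψ.1 x := by
  obtain ⟨χ, hχ⟩ := exists_over H ψ
  exact ⟨χ, congrFun (restrict_eq_of_over hb H ψ hψ χ hχ)⟩

/-- A character of the largest degree of a subgroup vanishes outside the core. -/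
theorem conj_mem_of_ne_zero {b : ℕ} (hb : ∀ χ : IrrCharacter G, degree χ ≤ b) (H : Subgroup G)
    [Fintype H] (ψ : IrrCharacter H) (hψ : b ≤ degree ψ) (y : H) (hy : ψ.1 y ≠ 0) (g : G) :
    g⁻¹ * y * g ∈ H := by
  classical
  obtain ⟨m, hm, hm'⟩ := IsCharacter.exists_decomp (isCharacter_indFun H (irr_isCharacter ψ))
  have hind : ∀ h : H, indFun H ψ.1 h = (∑ χ, (m χ : ℂ)) * ψ.1 h := by
    intro h
    rw [hm, Finset.sum_apply, Finset.sum_mul]
    refine Finset.sum_congr rfl fun χ _ => ?_
    by_cases h0 : m χ = 0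
    · simp [h0]
    · have hne : classInner ψ.1 (fun x : H => χ.1 x) ≠ 0 := by
        rw [← classInner_indFun H ψ.1 (IsCharacter.isClassFunction (irr_isCharacter χ)), hm']
        exact Nat.cast_ne_zero.2 h0
      rw [Pi.smul_apply, smul_eq_mul, ← congrFun (restrict_eq_of_over hb H ψ hψ χ hne) h]
  have hsum : (∑ χ, (m χ : ℂ)) = (H.index : ℂ) := by
    have := hind 1
    rw [OneMemClass.coe_one, indFun_apply_one] at this
    exact (mul_right_cancel₀ (IsIrrCharacter.apply_one_ne_zero ψ.2) this).symm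
  obtain ⟨χ, hχ⟩ := exists_restrict_eq hb H ψ hψ
  set S := Finset.univ.filter fun x : G => x⁻¹ * y * x ∈ H with hS
  have hval : ∀ x : G, extendByZero H ψ.1 (x⁻¹ * y * x) = if x ∈ S then ψ.1 y else 0 := by
    intro x
    split_ifs with hx
    · have hx' : x⁻¹ * y * x ∈ H := (Finset.mem_filter.1 hx).2
      rw [extendByZero_of_mem H ψ.1 hx', ← hχ, ← hχ]
      have := IsCharacter.isClassFunction (irr_isCharacter χ) (y : G) x⁻¹
      simpa using this
    · exact extendByZero_of_notMem H ψ.1 fun h => hx (Finset.mem_filter.2 ⟨Finset.mem_univ _, h⟩)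
  have h1 := hind y
  rw [hsum, indFun, Finset.sum_congr rfl fun x _ => hval x, Finset.sum_ite_mem, Finset.univ_inter,
    Finset.sum_const, nsmul_eq_mul, ← mul_assoc] at h1
  have h2 := mul_right_cancel₀ hy h1
  have hH : (Nat.card H : ℂ) ≠ 0 := card_ne_zero
  rw [inv_mul_eq_iff_eq_mul₀ hH, ← Nat.cast_mul, Nat.cast_inj, Subgroup.card_mul_index,
    Nat.card_eq_fintype_card, ← Finset.card_univ] at h2
  have h3 : S = Finset.univ := Finset.eq_univ_of_card S h2
  exact (Finset.mem_filter.1 (h3 ▸ Finset.mem_univ g : g ∈ S)).2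

/-- If `G / K` is nonabelian, the degrees of `K` are at most half those of `G`. -/
theorem two_mul_degree_le {b : ℕ} (hb : ∀ χ : IrrCharacter G, degree χ ≤ b) (K : Subgroup G)
    [K.Normal] [Fintype K] (hK : ¬ commutator G ≤ K) (θ : IrrCharacter K) : 2 * degree θ ≤ b := by
  obtain ⟨β, hβ⟩ : ∃ β : IrrCharacter (G ⧸ K), β.1 1 ≠ 1 := by
    by_contra hcon
    push Not at hcon
    refine hK ?_
    rw [commutator_def, Subgroup.commutator_le]
    intro a _ c _
    rw [← QuotientGroup.eq_one_iff]
    show QuotientGroup.mk' K ⁅a, c⁆ = 1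
    rw [map_commutatorElement, commutatorElement_eq_one_iff_mul_comm]
    exact forall_apply_one_iff_comm.1 hcon _ _
  have hβ2 : 2 ≤ degree β := by
    have h0 := degree_pos β
    have : degree β ≠ 1 := fun h => hβ (by rw [apply_one_eq_degree, h, Nat.cast_one])
    omega
  obtain ⟨χ, hχ⟩ := exists_over K θ
  have hθχ : classInner (resFun K χ.1) θ.1 ≠ 0 := classInner_ne_zero_symm hχ
  obtain ⟨hdvd, -⟩ := S0887.result K χ.1 χ.2 θ.1 θ.2 hθχ _ _ (charDegree_cast χ).symm
    (charDegree_cast θ).symm
  rw [charDegree_eq_degree, charDegree_eq_degree] at hdvd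
  obtain ⟨r, hr⟩ := hdvd
  have := hb χ
  rcases Nat.lt_or_ge r 2 with hr2 | hr2
  · have hr1 : r = 1 := by
      have := degree_pos χ
      rcases Nat.eq_zero_or_pos r with h | h
      · rw [h, mul_zero] at hr; omega
      · omega
    rw [hr1, mul_one] at hr
    have hres : IsIrrCharacter K (resFun K χ.1) := by
      have : resFun K χ.1 = θ.1 :=
        eq_of_constituent_degree (IsCharacter.restrict (irr_isCharacter χ) K) θ hθχ (by
          show χ.1 ((1 : K) : G) = θ.1 1
          rw [OneMemClass.coe_one, apply_one_eq_degree χ, apply_one_eq_degree θ, hr])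
      rw [this]; exact θ.2
    have h1 := hb ⟨_, isIrrCharacter_mulQuotient K χ hres β⟩
    have h2 : degree ⟨_, isIrrCharacter_mulQuotient K χ hres β⟩ = degree χ * degree β := by
      refine degree_eq_of_apply_one ?_
      show χ.1 1 * β.1 ((1 : G) : G ⧸ K) = _
      rw [QuotientGroup.mk_one, apply_one_eq_degree χ, apply_one_eq_degree β, Nat.cast_mul]
    rw [h2, hr] at h1
    calc 2 * degree θ = degree θ * 2 := mul_comm _ _
      _ ≤ degree θ * degree β := Nat.mul_le_mul_left _ hβ2
      _ ≤ b := h1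
  · calc 2 * degree θ = degree θ * 2 := mul_comm _ _
      _ ≤ degree θ * r := Nat.mul_le_mul_left _ hr2
      _ ≤ b := hr ▸ this

theorem sum_normSq (χ : IrrCharacter G) :
    ∑ g : G, Complex.normSq (χ.1 g) = (Nat.card G : ℝ) := by
  have h := classInner_irr_self χ.2
  rw [classInner, inv_mul_eq_one₀ card_ne_zero] at h
  have h2 : ((∑ g : G, Complex.normSq (χ.1 g) : ℝ) : ℂ) = ((Nat.card G : ℝ) : ℂ) := by
    push_cast
    rw [h]
    exact Finset.sum_congr rfl fun g _ => (Complex.mul_conj _).symm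
  exact_mod_cast h2

theorem normSq_apply_le {χ : G → ℂ} (hχ : IsCharacter G χ) {d : ℕ} (hd : χ 1 = d) (g : G) :
    Complex.normSq (χ g) ≤ (d : ℝ) ^ 2 := by
  have h := CharInt.norm_char_le hχ g
  rw [hd, Complex.norm_natCast] at h
  rw [← Complex.sq_norm]
  exact pow_le_pow_left₀ (norm_nonneg _) h 2

/-- Vanishing outside a normal subgroup bounds its index. -/
theorem index_le_sq (χ : IrrCharacter G) (K : Subgroup G) (h : ∀ y, y ∉ K → χ.1 y = 0) :
    K.index ≤ degree χ ^ 2 := by
  classical
  have h1 := sum_normSq χ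
  rw [← Finset.sum_filter_add_sum_filter_not Finset.univ (fun g => g ∈ K),
    Finset.sum_eq_zero (s := Finset.univ.filter fun g => ¬ g ∈ K) (fun g hg => by
      rw [h g (Finset.mem_filter.1 hg).2, map_zero]), add_zero] at h1
  have h2 : (Nat.card G : ℝ) ≤ (Nat.card K : ℝ) * (degree χ : ℝ) ^ 2 := by
    rw [← h1]
    refine (Finset.sum_le_sum fun g _ => normSq_apply_le (irr_isCharacter χ) (apply_one_eq_degree χ) g).trans
      (le_of_eq ?_)
    rw [Finset.sum_const, nsmul_eq_mul, Nat.card_eq_fintype_card, Fintype.card_subtype]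
  have h3 : Nat.card K * K.index ≤ Nat.card K * degree χ ^ 2 := by
    rw [K.card_mul_index]; exact_mod_cast h2
  exact Nat.le_of_mul_le_mul_left h3 Nat.card_pos

/-- Vanishing outside a normal subgroup: the primes of the index divide the degree. -/
theorem prime_dvd_degree_of_vanish (χ : IrrCharacter G) (K : Subgroup G)
    (h : ∀ y, y ∉ K → χ.1 y = 0) {r : ℕ} (hr : r.Prime) (hdvd : r ∣ K.index) : r ∣ degree χ := by
  haveI := Fact.mk hr
  obtain ⟨S⟩ := (inferInstance : Nonempty (Sylow r G))
  obtain ⟨y, hy, hyK⟩ : ∃ y ∈ (S : Subgroup G), y ∉ K := by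
    by_contra! hle
    have h1 : Nat.card (S : Subgroup G) ∣ Nat.card K := Subgroup.card_dvd_of_le hle
    rw [S.card_eq_multiplicity] at h1
    refine Nat.Prime.not_dvd_one hr ?_
    have h2 : r ^ ((Nat.card G).factorization r + 1) ∣ Nat.card G := by
      rw [pow_succ]
      exact (Nat.mul_dvd_mul h1 hdvd).trans (K.card_mul_index ▸ dvd_rfl)
    have := (hr.pow_dvd_iff_le_factorization Nat.card_pos.ne').1 h2
    omega
  obtain ⟨k, hk⟩ := IsPGroup.iff_orderOf.1 S.isPGroup' ⟨y, hy⟩
  rw [Subgroup.orderOf_mk] at hk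
  obtain ⟨γ, hγ⟩ := exists_char_pow_sub hr (irr_isCharacter χ) y k
  rw [h y hyK, zero_pow (pow_ne_zero _ hr.ne_zero), ← hk, pow_orderOf_eq_one, zero_sub,
    apply_one_eq_degree] at hγ
  have hint : IsIntegral ℤ ((degree χ : ℂ) / (r : ℂ)) := by
    have : (degree χ : ℂ) / (r : ℂ) = -(γ : ℂ) := by
      rw [div_eq_iff (Nat.cast_ne_zero.2 hr.ne_zero)]
      linear_combination -hγ
    rw [this]
    exact IsIntegral.neg γ.2
  have hq : IsIntegral ℤ ((degree χ : ℚ) / r) := by
    refine (isIntegral_algHom_iff (Algebra.ofId ℚ ℂ |>.restrictScalars ℤ)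
      (algebraMap ℚ ℂ).injective).1 ?_
    simpa [Algebra.ofId_apply] using hint
  obtain ⟨z, hz⟩ := IsIntegrallyClosed.isIntegral_iff.1 hq
  have hr0 : (r : ℚ) ≠ 0 := Nat.cast_ne_zero.2 hr.ne_zero
  rw [algebraMap_int_eq, eq_intCast, eq_div_iff hr0] at hz
  refine Int.natCast_dvd_natCast.1 ⟨z, ?_⟩
  rw [mul_comm]
  exact_mod_cast hz.symm

end Cfsg.Agent.Char.MaxDegree
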