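import Mathlib
import Cfsg.Agent.Lib.Char.Orthogonality

/-!
# Small characters have no fixed vectors on an overgroup of a TI Sylow normaliser

Reduce an invariant lattice modulo a valuation ring over `p`: the sum over a free `p`-group orbit
vanishes in dimension less than the order of the group.
-/

set_option autoImplicit false
set_option linter.style.haveILetI false

namespace Cfsg.Agent.Char.ModularTrace

open Matrix
open scoped Pointwise

universe u

/-- The trace of a `p`-group vanishes on a module of dimension less than its order. -/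
theorem sum_mulVec_eq_zero {k : Type*} [Field k] {p : ℕ} [Fact p.Prime] [CharP k p] {P : Type u}
    [Group P] [Fintype P] (hP : IsPGroup p P) {n : ℕ} (hn : n < Nat.card P)
    (π : P →* Matrix (Fin n) (Fin n) k) (u : Fin n → k) : ∑ q : P, π q *ᵥ u = 0 := by
  classical
  let L : (P → k) →ₗ[k] (Fin n → k) :=
    { toFun := fun r => ∑ q : P, r q • (π q *ᵥ u)
      map_add' := fun r s => by simp [add_smul, Finset.sum_add_distrib]
      map_smul' := fun c r => by simp [smul_smul, Finset.smul_sum] }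
  have hker : LinearMap.ker L ≠ ⊥ := fun h => by
    have h1 := LinearMap.finrank_le_finrank_of_injective (LinearMap.ker_eq_bot.1 h)
    rw [Module.finrank_fintype_fun_eq_card, Module.finrank_fin_fun,
      ← Nat.card_eq_fintype_card] at h1
    omega
  obtain ⟨z, hz, hz0⟩ := Submodule.exists_mem_ne_zero_of_ne_bot hker
  let sh : P → (P → k) → P → k := fun q f x => f (q⁻¹ * x)
  have hsh : ∀ q, ∀ f, L f = 0 → L (sh q f) = 0 := fun q f hf => by
    show ∑ x : P, f (q⁻¹ * x) • (π x *ᵥ u) = 0
    rw [Fintype.sum_equiv (Equiv.mulLeft q⁻¹) (fun x => f (q⁻¹ * x) • (π x *ᵥ u))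
      (fun y => f y • (π (q * y) *ᵥ u)) (fun x => by simp)]
    have h2 : π q *ᵥ L f = 0 := by rw [hf, Matrix.mulVec_zero]
    rw [← h2]
    show _ = π q *ᵥ ∑ y : P, f y • (π y *ᵥ u)
    rw [Matrix.mulVec_sum]
    exact Finset.sum_congr rfl fun y _ => by
      rw [Matrix.mulVec_smul, Matrix.mulVec_mulVec, map_mul]
  let θ : (P → ZMod p) →+ (P → k) :=
    { toFun := fun a x => ∑ q : P, ZMod.castHom (dvd_refl p) k (a q) * z (q⁻¹ * x)
      map_zero' := by funext x; simp
      map_add' := fun a b => by funext x; simp [add_mul, Finset.sum_add_distrib] }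
  set S := θ.range with hS
  have hzS : z ∈ S := ⟨Pi.single 1 1, funext fun x => by
    show ∑ q : P, _ = z x
    rw [Finset.sum_eq_single (1 : P) (fun q _ hq => by simp [hq]) (by simp)]
    simp⟩
  have hinv : ∀ q, ∀ f ∈ S, sh q f ∈ S := by
    rintro q _ ⟨a, rfl⟩
    refine ⟨fun y => a (q⁻¹ * y), funext fun x => ?_⟩
    refine Fintype.sum_equiv (Equiv.mulLeft q⁻¹) _ _ fun y => ?_
    simp [mul_assoc]
  have hSker : ∀ f ∈ S, L f = 0 := by
    rintro _ ⟨a, rfl⟩
    have : θ a = ∑ q : P, ZMod.castHom (dvd_refl p) k (a q) • sh q z := by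
      funext x; simp [θ, sh, Finset.sum_apply]
    rw [this, map_sum]
    exact Finset.sum_eq_zero fun q _ => by
      rw [map_smul, hsh q z (LinearMap.mem_ker.1 hz), smul_zero]
  letI : MulAction P S :=
    { smul := fun q f => ⟨sh q f, hinv q f f.2⟩
      one_smul := fun f => Subtype.ext (funext fun x => by
        show f.1 (1⁻¹ * x) = f.1 x
        simp)
      mul_smul := fun q r f => Subtype.ext (funext fun x => by
        show f.1 ((q * r)⁻¹ * x) = f.1 (r⁻¹ * (q⁻¹ * x))
        simp [mul_assoc]) }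
  haveI : Finite S := Finite.of_surjective θ.rangeRestrict θ.rangeRestrict_surjective
  have hdvd : p ∣ Nat.card S := by
    have h1 : Nat.card S ∣ Nat.card (P → ZMod p) := AddSubgroup.card_range_dvd θ
    rw [Nat.card_fun, Nat.card_zmod] at h1
    obtain ⟨j, -, hj⟩ := (Nat.dvd_prime_pow Fact.out).1 h1
    rcases Nat.eq_zero_or_pos j with rfl | hj0
    · exfalso
      rw [pow_zero] at hj
      have := (Nat.card_eq_one_iff_unique.1 hj).1.elim ⟨z, hzS⟩ 0
      exact hz0 (congrArg Subtype.val this)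
    · rw [hj]; exact dvd_pow_self p hj0.ne'
  obtain ⟨b, hb, hb0⟩ := hP.exists_fixed_point_of_prime_dvd_card_of_fixed_point (α := S) hdvd
    (a := (0 : S)) (fun q => rfl)
  have hconst : ∀ x, b.1 x = b.1 1 := fun x => by
    have := congrFun (congrArg Subtype.val (hb x)) x
    show b.1 x = b.1 1
    rw [← this]
    show b.1 (x⁻¹ * x) = _
    rw [inv_mul_cancel]
  have h1 : L b.1 = 0 := hSker _ b.2
  have h2 : L b.1 = b.1 1 • ∑ q : P, π q *ᵥ u := by
    rw [Finset.smul_sum]
    exact Finset.sum_congr rfl fun q _ => by rw [hconst q]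
  rw [h2, smul_eq_zero] at h1
  refine h1.resolve_left fun h => hb0 (Subtype.ext (funext fun x => ?_))
  show (0 : k) = b.1 x
  rw [hconst x, h]

variable {G : Type u} [Group G] [Fintype G] {n : ℕ}

/-- An invariant lattice over a valuation ring. -/
theorem exists_integral_basis (A : ValuationSubring ℂ) (M : G →* Matrix (Fin n) (Fin n) ℂ) :
    ∃ B : Matrix (Fin n) (Fin n) ℂ, IsUnit B.det ∧ ∀ g i j, (B⁻¹ * M g * B) i j ∈ A := by
  classical
  let B : (Fin n → G × Fin n) → Matrix (Fin n) (Fin n) ℂ :=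
    fun σ => Matrix.of fun r j => M (σ j).1 r (σ j).2
  obtain ⟨σ, -, hσ⟩ := Finset.exists_max_image Finset.univ
    (fun σ => A.valuation (B σ).det) ⟨fun j => (1, j), Finset.mem_univ _⟩
  have h1 : (1 : _) ≤ A.valuation (B σ).det := by
    refine le_trans ?_ (hσ (fun j => (1, j)) (Finset.mem_univ _))
    rw [show B (fun j => ((1 : G), j)) = 1 by ext r j; simp [B, Matrix.one_apply], Matrix.det_one,
      map_one]
  have hdet : (B σ).det ≠ 0 := fun h => by
    rw [h, map_zero] at h1
    exact not_lt.2 h1 zero_lt_one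
  refine ⟨B σ, isUnit_iff_ne_zero.2 hdet, fun g i j => ?_⟩
  have hcol : (fun r => (M g * B σ) r j) = fun r => M (g * (σ j).1) r (σ j).2 := by
    funext r
    rw [map_mul, Matrix.mul_apply, Matrix.mul_apply]
    rfl
  have hup : (B σ).updateCol i (fun r => (M g * B σ) r j) =
      B (Function.update σ i (g * (σ j).1, (σ j).2)) := by
    rw [hcol]
    ext r c
    by_cases hc : c = i
    · subst hc; simp [B]
    · simp [B, hc]
  have he : (B σ)⁻¹ * M g * B σ = (B σ).det⁻¹ • ((B σ).adjugate * (M g * B σ)) := by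
    rw [mul_assoc, Matrix.inv_def, Ring.inverse_eq_inv', Matrix.smul_mul]
  have hentry : ((B σ)⁻¹ * M g * B σ) i j =
      (B σ).det⁻¹ * (B (Function.update σ i (g * (σ j).1, (σ j).2))).det := by
    rw [he, Matrix.smul_apply, smul_eq_mul, ← hup, ← Matrix.cramer_apply,
      Matrix.cramer_eq_adjugate_mulVec]
    rfl
  rw [hentry, ← A.valuation_le_one_iff, map_mul, map_inv₀, inv_mul_le_iff₀
    (zero_lt_one.trans_le h1), mul_one]
  exact hσ _ (Finset.mem_univ _)

/-- A representation without fixed vectors, of dimension less than the order of a TI Sylow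
subgroup, has no fixed vectors of an overgroup of its normaliser. -/
theorem eq_zero_of_fixed {p : ℕ} [Fact p.Prime] (P : Sylow p G)
    (hTI : ∀ g : G, g ∉ Subgroup.normalizer ((P : Subgroup G) : Set G) →
      (P : Subgroup G) ⊓ (MulAut.conj g • (P : Subgroup G)) = ⊥)
    (H : Subgroup G) (hH : Subgroup.normalizer ((P : Subgroup G) : Set G) ≤ H)
    (M : G →* Matrix (Fin n) (Fin n) ℂ) (hn : n < Nat.card (P : Subgroup G))
    (hsum : ∑ g : G, M g = 0) (v : Fin n → ℂ) (hv : ∀ h ∈ H, M h *ᵥ v = v) : v = 0 := by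
  classical
  haveI : Fintype H := Fintype.ofFinite _
  by_contra hv0
  have hp : p.Prime := Fact.out
  have hPH : (P : Subgroup G) ≤ H := Subgroup.le_normalizer.trans hH
  -- the valuation ring
  let A₀ : Subring ℂ := (Int.castRingHom ℂ).range
  have hI : Ideal.span {((p : ℕ) : A₀)} ≠ ⊤ := by
    rw [Ne, Ideal.span_singleton_eq_top, isUnit_iff_exists_inv]
    rintro ⟨⟨_, m, rfl⟩, hm⟩
    have h1 : ((p : ℂ)) * (m : ℂ) = 1 := congrArg Subtype.val hm
    have h2 : ((p : ℤ) * m : ℤ) = 1 := by exact_mod_cast h1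
    have h3 := Int.eq_one_of_mul_eq_one_right (by positivity) h2
    exact hp.one_lt.ne' (by exact_mod_cast h3)
  obtain ⟨A, -, hA⟩ := Ideal.image_subset_nonunits_valuationSubring _ hI
  have hpA : ((p : ℕ) : A) ∈ IsLocalRing.maximalIdeal A := by
    have := hA ⟨((p : ℕ) : A₀), Ideal.mem_span_singleton_self _, rfl⟩
    rw [SetLike.mem_coe, ValuationSubring.mem_nonunits_iff_exists_mem_maximalIdeal] at this
    obtain ⟨_, h⟩ := this
    convert h using 1
    exact Subtype.ext (by simp)
  let k := IsLocalRing.ResidueField A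
  haveI : CharP k p := by
    refine CharP.charP_iff_prime_eq_zero hp |>.2 ?_
    rw [← map_natCast (IsLocalRing.residue A)]
    exact (IsLocalRing.residue_eq_zero_iff _).2 hpA
  -- integral form
  obtain ⟨B, hB, hint⟩ := exists_integral_basis A M
  let R : G →* Matrix (Fin n) (Fin n) A :=
    { toFun := fun g => Matrix.of fun i j => ⟨(B⁻¹ * M g * B) i j, hint g i j⟩
      map_one' := by
        ext i j
        simp [Matrix.nonsing_inv_mul B hB, Matrix.one_apply]
        split_ifs <;> simp
      map_mul' := fun g h => by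
        refine Matrix.map_injective (f := A.subtype) Subtype.val_injective ?_
        simp only
        rw [Matrix.map_mul]
        show B⁻¹ * M (g * h) * B = (B⁻¹ * M g * B) * (B⁻¹ * M h * B)
        rw [map_mul]
        simp [mul_assoc, Matrix.mul_nonsing_inv_cancel_left B _ hB] }
  have hR : ∀ g, (R g).map A.subtype = B⁻¹ * M g * B := fun g => rfl
  -- a primitive fixed vector
  set v' := B⁻¹ *ᵥ v with hv'
  have hv'fix : ∀ h ∈ H, (B⁻¹ * M h * B) *ᵥ v' = v' := fun h hh => by
    rw [hv', Matrix.mulVec_mulVec, mul_assoc, Matrix.mul_nonsing_inv B hB, mul_one,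
      ← Matrix.mulVec_mulVec, hv h hh]
  have hv'0 : v' ≠ 0 := fun h => hv0 (by
    have := congrArg (B *ᵥ ·) h
    simpa [hv', Matrix.mulVec_mulVec, Matrix.mul_nonsing_inv B hB] using this)
  obtain ⟨i₁, hi₁⟩ := Function.ne_iff.1 hv'0
  obtain ⟨i₀, -, hi₀⟩ := Finset.exists_max_image Finset.univ (fun i => A.valuation (v' i))
    ⟨i₁, Finset.mem_univ _⟩
  have hi₀0 : 0 < A.valuation (v' i₀) :=
    lt_of_lt_of_le (zero_lt_iff.2 ((map_ne_zero A.valuation).2 hi₁)) (hi₀ i₁ (Finset.mem_univ _))
  let w : Fin n → A := fun i => ⟨(v' i₀)⁻¹ * v' i, by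
    rw [← A.valuation_le_one_iff, map_mul, map_inv₀, inv_mul_le_iff₀ hi₀0, mul_one]
    exact hi₀ i (Finset.mem_univ _)⟩
  have hwv : (fun i => A.subtype (w i)) = (v' i₀)⁻¹ • v' := rfl
  have hw : ∀ h ∈ H, R h *ᵥ w = w := fun h hh => by
    funext i
    refine Subtype.val_injective ?_
    have h1 := RingHom.map_mulVec A.subtype (R h) w i
    rw [hR, show (A.subtype ∘ w) = (v' i₀)⁻¹ • v' from hwv, Matrix.mulVec_smul, hv'fix h hh] at h1
    exact h1
  have hsumR : ∑ g : G, R g *ᵥ w = 0 := by
    funext i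
    refine Subtype.val_injective ?_
    rw [Finset.sum_apply]
    have h2 : ∀ g, A.subtype ((R g *ᵥ w) i) = ((B⁻¹ * M g * B) *ᵥ ((v' i₀)⁻¹ • v')) i := fun g => by
      rw [RingHom.map_mulVec]; rfl
    show A.subtype _ = A.subtype 0
    rw [map_sum, map_zero, Finset.sum_congr rfl fun g _ => h2 g, ← Finset.sum_apply,
      ← Matrix.sum_mulVec, ← Finset.sum_mul, ← Finset.mul_sum, hsum]
    simp
  -- cosets
  let F : G ⧸ H → Fin n → A := fun c => R c.out *ᵥ w
  have hF : ∀ g : G, F (g : G ⧸ H) = R g *ᵥ w := fun g => by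
    obtain ⟨h, hh⟩ := QuotientGroup.mk_out_eq_mul H g
    show R _ *ᵥ w = _
    rw [hh, map_mul, ← Matrix.mulVec_mulVec, hw h h.2]
  have hFsum : ∑ c : G ⧸ H, F c = 0 := by
    have h1 : ∑ g : G, R g *ᵥ w = Fintype.card H • ∑ c : G ⧸ H, F c := by
      rw [Finset.smul_sum, ← Finset.sum_fiberwise Finset.univ (fun g : G => (g : G ⧸ H))]
      refine Finset.sum_congr rfl fun c _ => ?_
      rw [Finset.sum_congr rfl (g := fun _ => F c) fun g hg => by
        rw [← (Finset.mem_filter.1 hg).2, hF], Finset.sum_const]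
      congr 1
      obtain ⟨x, rfl⟩ := QuotientGroup.mk_surjective c
      rw [← Fintype.card_subtype]
      refine Fintype.card_congr
        { toFun := fun g => ⟨x⁻¹ * g.1, QuotientGroup.eq.1 g.2.symm⟩
          invFun := fun h => ⟨x * h, (QuotientGroup.eq.2 (by simp)).symm⟩
          left_inv := fun g => Subtype.ext (by simp)
          right_inv := fun h => Subtype.ext (by simp) }
    rw [hsumR] at h1
    funext i
    refine Subtype.val_injective ?_
    have h2 := congrArg Subtype.val (congrFun h1.symm i)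
    rw [Pi.smul_apply, AddSubmonoidClass.coe_nsmul, nsmul_eq_mul] at h2
    exact (mul_eq_zero.1 h2).resolve_left (Nat.cast_ne_zero.2 Fintype.card_ne_zero)
  -- reduce
  let res := IsLocalRing.residue A
  let π : G →* Matrix (Fin n) (Fin n) k := (res.mapMatrix.toMonoidHom).comp R
  let Fb : G ⧸ H → Fin n → k := fun c => res ∘ F c
  have hFb : ∀ g : G, Fb (g : G ⧸ H) = π g *ᵥ (res ∘ w) := fun g => by
    funext i
    show res (F _ i) = _
    rw [hF, RingHom.map_mulVec]
    rfl
  have hFb_smul : ∀ (q : P) (c : G ⧸ H), Fb (q • c) = π q *ᵥ Fb c := fun q c => by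
    obtain ⟨g, rfl⟩ := QuotientGroup.mk_surjective c
    show Fb (((q : G) * g : G) : G ⧸ H) = _
    rw [hFb, hFb, map_mul, Matrix.mulVec_mulVec]
  have hfree : ∀ (q : P) (c : G ⧸ H), c ≠ ((1 : G) : G ⧸ H) → q • c = c → q = 1 := by
    intro q c hc hqc
    obtain ⟨x, rfl⟩ := QuotientGroup.mk_surjective c
    by_contra hq
    have hmem : x⁻¹ * (q : G) * x ∈ H := by
      have h1 : (((q : G) * x : G) : G ⧸ H) = (x : G ⧸ H) := hqc
      have := QuotientGroup.eq.1 h1.symm
      simpa [mul_assoc] using this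
    set y : H := ⟨_, hmem⟩
    have hy : IsPGroup p (Subgroup.zpowers y) := by
      obtain ⟨j, hj⟩ := P.2 q
      have hq' : (q : G) ^ p ^ j = 1 := congrArg Subtype.val hj
      have : y ^ p ^ j = 1 := by
        refine Subtype.ext ?_
        show (x⁻¹ * (q : G) * x) ^ p ^ j = 1
        rw [show x⁻¹ * (q : G) * x = x⁻¹ * (q : G) * (x⁻¹)⁻¹ by rw [inv_inv], conj_pow, hq',
          mul_one, mul_inv_cancel]
      rintro ⟨z, m, rfl⟩
      refine ⟨j, Subtype.ext ?_⟩
      show (y ^ m) ^ p ^ j = 1
      rw [← _root_.zpow_natCast, ← _root_.zpow_mul, mul_comm, _root_.zpow_mul, _root_.zpow_natCast,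
        this, _root_.one_zpow]
    obtain ⟨S, hS⟩ := hy.exists_le_sylow
    obtain ⟨h, hh⟩ := MulAction.exists_smul_eq H (P.subtype hPH) S
    have hyP : ((h : G)⁻¹ * (y : G) * h) ∈ (P : Subgroup G) := by
      have h1 : y ∈ (S : Subgroup H) := hS (Subgroup.mem_zpowers y)
      rw [← hh] at h1
      change y ∈ MulAut.conj h • ((P.subtype hPH : Sylow p H) : Subgroup H) at h1
      rw [Subgroup.mem_pointwise_smul_iff_inv_smul_mem,
        ← map_inv] at h1
      have h2 : (h⁻¹ * y * h : H) ∈ ((P.subtype hPH : Sylow p H) : Subgroup H) := by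
        simpa [MulAut.smul_def] using h1
      simpa [Sylow.coe_subtype, Subgroup.mem_subgroupOf] using h2
    have hN : x * h ∈ Subgroup.normalizer ((P : Subgroup G) : Set G) := by
      by_contra hnot
      refine hq (Subtype.ext ((Subgroup.eq_bot_iff_forall _).1 (hTI _ hnot) q ⟨q.2, ?_⟩))
      show (q : G) ∈ MulAut.conj (x * h) • (P : Subgroup G)
      rw [Subgroup.mem_pointwise_smul_iff_inv_smul_mem, ← map_inv,
        MulAut.smul_def, MulAut.conj_apply, inv_inv]
      simpa [y, mul_assoc] using hyP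
    have hxH : x ∈ H := by simpa using H.mul_mem (hH hN) (H.inv_mem h.2)
    exact hc (QuotientGroup.eq.2 (by simpa using hxH))
  set b₀ : G ⧸ H := ((1 : G) : G ⧸ H) with hb₀
  have hbase : ∀ q : P, q • b₀ = b₀ := fun q => by
    show (((q : G) * 1 : G) : G ⧸ H) = _
    rw [mul_one]
    exact QuotientGroup.eq.2 (by simpa using hPH q.2)
  have hrest : ∑ c ∈ Finset.univ.erase b₀, Fb c = 0 := by
    rw [← Finset.sum_fiberwise (Finset.univ.erase b₀)
      (Quotient.mk (MulAction.orbitRel P (G ⧸ H)))]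
    refine Finset.sum_eq_zero fun o _ => ?_
    by_cases he : ((Finset.univ.erase b₀).filter
        (fun c => Quotient.mk (MulAction.orbitRel P (G ⧸ H)) c = o)).Nonempty
    · obtain ⟨c₀, hc₀⟩ := he
      obtain ⟨hc₀b, hc₀o⟩ := Finset.mem_filter.1 hc₀
      have hc₀1 : c₀ ≠ b₀ := Finset.ne_of_mem_erase hc₀b
      have himg : (Finset.univ.erase b₀).filter
          (fun c => Quotient.mk (MulAction.orbitRel P (G ⧸ H)) c = o) =
          Finset.univ.image (fun q : P => q • c₀) := by
        ext c
        simp only [Finset.mem_filter, Finset.mem_erase, Finset.mem_univ, and_true,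
          Finset.mem_image, true_and]
        constructor
        · rintro ⟨-, hco⟩
          exact Quotient.exact (hco.trans hc₀o.symm)
        · rintro ⟨q, rfl⟩
          refine ⟨fun h => hc₀1 ?_, (Quotient.sound (MulAction.mem_orbit c₀ q)).trans hc₀o⟩
          have := congrArg (fun c => q⁻¹ • c) h
          simpa [hbase] using this
      rw [himg, Finset.sum_image fun q _ r _ hqr => ?_]
      · rw [Finset.sum_congr rfl fun q _ => hFb_smul q c₀]
        exact sum_mulVec_eq_zero P.2 hn (π.comp (P : Subgroup G).subtype) _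
      · have : (r⁻¹ * q) • c₀ = c₀ := by rw [mul_smul]; simp [hqr]
        exact (inv_mul_eq_one.1 (hfree _ c₀ hc₀1 this)).symm
    · rw [Finset.not_nonempty_iff_eq_empty.1 he, Finset.sum_empty]
  have htot : ∑ c : G ⧸ H, Fb c = 0 := by
    funext i
    rw [Finset.sum_apply]
    show ∑ c, res (F c i) = 0
    rw [← map_sum, ← Finset.sum_apply, hFsum]
    simp
  rw [← Finset.add_sum_erase _ _ (Finset.mem_univ b₀), hrest, add_zero, hb₀, hFb, map_one,
    Matrix.one_mulVec] at htot
  have hw1 : res (w i₀) = 1 := by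
    have : w i₀ = 1 := Subtype.ext (inv_mul_cancel₀ fun h => by
      rw [h, map_zero] at hi₀0
      exact lt_irrefl _ hi₀0)
    rw [this, map_one]
  have := congrFun htot i₀
  rw [Function.comp_apply, hw1] at this
  exact one_ne_zero this

end Cfsg.Agent.Char.ModularTrace
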