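import Cfsg.Agent.Lib.Char.Clifford
import Cfsg.Agent.Lib.Char.Induction
import Cfsg.Agent.Lib.Char.Orthogonality

/-!
Inner products of characters induced from a normal subgroup.
-/

namespace Cfsg.Agent.Char

open scoped ComplexConjugate

variable {G : Type*} [Group G] [Fintype G]

/-- `|N| ⟪η^G, θ^G⟫` counts the elements conjugating `θ` to `η`. -/
theorem card_mul_classInner_indFun_normal (N : Subgroup G) [N.Normal] {η θ : N → ℂ}
    (hη : IsIrrCharacter N η) (hθ : IsIrrCharacter N θ) :
    (Nat.card N : ℂ) * classInner (indFun N η) (indFun N θ) =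
      (Nat.card {g : G // conjFun N θ g = η} : ℂ) := by
  classical
  letI : Fintype N := Fintype.ofFinite N
  rw [classInner_indFun N η (isClassFunction_indFun N θ)]
  show (Nat.card N : ℂ) * classInner η (resFun N (indFun N θ)) = _
  rw [resFun_indFun, classInner_smul_right, classInner_sum_right, map_inv₀, map_natCast, ← mul_assoc,
    mul_inv_cancel₀ (Nat.cast_ne_zero.2 Nat.card_pos.ne'), one_mul]
  have hval : ∀ g : G, classInner η (conjFun N θ g) = if conjFun N θ g = η then 1 else 0 := by
    intro g
    split_ifs with h
    · rw [h]; exact classInner_irr_self hη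
    · exact classInner_irr_of_ne hη (isIrrCharacter_conjFun N hθ g) (Ne.symm h)
  rw [Finset.sum_congr rfl fun g _ => hval g, Finset.sum_boole, Nat.card_eq_fintype_card,
    Fintype.card_subtype]

theorem conj_indFun (H : Subgroup G) (θ : H → ℂ) :
    (fun g => conj (indFun H θ g)) = indFun H (fun h => conj (θ h)) := by
  funext g
  simp only [indFun, map_mul, map_inv₀, map_natCast, map_sum]
  congr 1
  refine Finset.sum_congr rfl fun x _ => ?_
  by_cases hx : x⁻¹ * g * x ∈ H
  · rw [extendByZero_of_mem _ _ hx, extendByZero_of_mem _ _ hx]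
  · rw [extendByZero_of_notMem _ _ hx, extendByZero_of_notMem _ _ hx, map_zero]

end Cfsg.Agent.Char
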