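import Cfsg.Agent.Lib.Char.InvariantForm
import Cfsg.Agent.Lib.Char.KernelSum
import Mathlib.LinearAlgebra.Matrix.NonsingularInverse
import Mathlib.LinearAlgebra.Matrix.ToLinearEquiv

/-!
# Symplectic characters have even degree
-/

set_option autoImplicit false

namespace Cfsg.Agent.Char

open Matrix

universe u

variable {G : Type u} [Group G] [Fintype G]

/-- An irreducible character of odd degree is not of symplectic type. -/
theorem fsIndicator_ne_neg_one_of_odd (χ : IrrCharacter G) (hodd : Odd (charDegree χ.1)) :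
    fsIndicator χ.1 ≠ -1 := by
  classical
  intro hν
  have hreal := (fsIndicator_ne_zero_iff χ).1 (by rw [hν]; norm_num)
  obtain ⟨n, ρ, hirr, hχ⟩ := χ.2
  have hn : charDegree χ.1 = n := by
    have h1 : (charDegree χ.1 : ℂ) = n := by
      rw [charDegree_cast, ← hχ, ρ.char_one, Module.finrank_fin_fun]
    exact_mod_cast h1
  obtain ⟨⟨M, hM0, hinv⟩, hsym⟩ :=
    invariant_forms ρ (avg_sq_eq_one ρ hirr (by rw [hχ]; exact hreal))
  have hMT : Mᵀ = -M := by rw [hsym M hinv, hχ, hν, neg_one_smul]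
  have hdet : M.det = 0 := by
    have h := congrArg Matrix.det hMT
    rw [Matrix.det_transpose, Matrix.det_neg, Fintype.card_fin, (show Odd n from hn ▸ hodd).neg_one_pow,
      neg_one_mul] at h
    linear_combination h / 2
  obtain ⟨v, hv0, hv⟩ := Matrix.exists_mulVec_eq_zero_iff.2 hdet
  let K : Subrepresentation ρ := ⟨LinearMap.ker (Matrix.toLin' M), fun g w hw => by
    have hu : IsUnit (LinearMap.toMatrix' (ρ g))ᵀ.det := by
      rw [Matrix.det_transpose]
      refine IsUnit.of_mul_eq_one (LinearMap.toMatrix' (ρ g⁻¹)).det ?_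
      rw [← Matrix.det_mul, ← LinearMap.toMatrix'_mul, ← map_mul, mul_inv_cancel, map_one,
        LinearMap.toMatrix'_one, Matrix.det_one]
    have h1 : ρ g w = LinearMap.toMatrix' (ρ g) *ᵥ w := by
      rw [← Matrix.toLin'_apply, Matrix.toLin'_toMatrix']
    simp only [LinearMap.mem_ker, Matrix.toLin'_apply] at hw ⊢
    have h2 : (LinearMap.toMatrix' (ρ g))ᵀ *ᵥ (M *ᵥ ρ g w) = 0 := by
      rw [h1, Matrix.mulVec_mulVec, Matrix.mulVec_mulVec, hinv g, hw]
    exact Matrix.eq_zero_of_mulVec_eq_zero hu.ne_zero h2⟩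
  haveI : IsSimpleOrder (Subrepresentation ρ) := hirr
  rcases eq_bot_or_eq_top K with h | h
  · have h1 : LinearMap.ker (Matrix.toLin' M) = ⊥ :=
      congrArg (fun T : Subrepresentation ρ => T.toSubmodule) h
    exact hv0 ((Submodule.eq_bot_iff _).1 h1 v
      (by rw [LinearMap.mem_ker, Matrix.toLin'_apply]; exact hv))
  · have h1 : LinearMap.ker (Matrix.toLin' M) = ⊤ :=
      congrArg (fun T : Subrepresentation ρ => T.toSubmodule) h
    exact hM0 (Matrix.toLin'.map_eq_zero_iff.1 (LinearMap.ker_eq_top.1 h1))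

end Cfsg.Agent.Char
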