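import Cfsg.Agent.Lib.Char.FrobeniusSchur
import Cfsg.Agent.Lib.Char.Orthogonality

/-!
# A real character with an odd-dimensional space of fixed points has indicator one

`fsIndicator_eq_one_of_odd_fixed`: if the trivial character occurs with odd multiplicity in the
restriction of a real irreducible character to a subgroup, the indicator is `1`.
-/

set_option autoImplicit false

open scoped Classical ComplexConjugate

namespace Cfsg.Agent.Char

universe u

variable {G : Type u} [Group G] [Fintype G]

/-- An alternating form is degenerate on an odd-dimensional image of a compatible projection. -/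
theorem false_of_odd_projection {n m : ℕ} {B E : Matrix (Fin n) (Fin n) ℂ}
    (hB : B.transpose = -B) (hinj : Function.Injective B.mulVec) (hE : E * E = E)
    (hc : E * B = B * E.transpose) (hm : E.trace = m) (hodd : Odd m) : False := by
  set f := Matrix.toLin' E.transpose with hf
  have hid : f ∘ₗ f = f := by rw [hf, ← Matrix.toLin'_mul, ← Matrix.transpose_mul, hE]
  have hproj : LinearMap.IsProj (LinearMap.range f) f := by
    refine ⟨fun x => LinearMap.mem_range_self f x, ?_⟩
    rintro x ⟨y, rfl⟩
    exact congrArg (fun φ => φ y) hid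
  have h1 := hproj.trace
  rw [hf, Matrix.trace_toLin'_eq, Matrix.trace_transpose, hm] at h1
  have hrank : Module.finrank ℂ (LinearMap.range f) = m := by exact_mod_cast h1.symm
  let b := Module.finBasisOfFinrankEq ℂ (LinearMap.range f) hrank
  let U : Matrix (Fin n) (Fin m) ℂ := Matrix.of fun i j => (b j).1 i
  have hU : ∀ y : Fin m → ℂ, U.mulVec y = (b.equivFun.symm y).1 := fun y => by
    funext i
    simp [U, Matrix.mulVec, dotProduct, Module.Basis.equivFun_symm_apply, mul_comm]
  have hanti : (U.transpose * B * U).transpose = -(U.transpose * B * U) := by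
    rw [Matrix.transpose_mul, Matrix.transpose_mul, Matrix.transpose_transpose, hB, Matrix.neg_mul,
      Matrix.mul_neg, ← Matrix.mul_assoc]
  have hdet : (U.transpose * B * U).det = 0 := by
    have h2 := congrArg Matrix.det hanti
    rw [Matrix.det_transpose, Matrix.det_neg, Fintype.card_fin, hodd.neg_one_pow] at h2
    linear_combination h2 / 2
  obtain ⟨y, hy0, hy⟩ := Matrix.exists_mulVec_eq_zero_iff.2 hdet
  rw [← Matrix.mulVec_mulVec, ← Matrix.mulVec_mulVec] at hy
  set x := U.mulVec y with hxdef
  have hfix : ∀ z ∈ LinearMap.range f, E.transpose.mulVec z = z := fun z hz => by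
    have := hproj.map_id z hz
    rwa [hf, Matrix.toLin'_apply] at this
  have hxr : x ∈ LinearMap.range f := by rw [hxdef, hU]; exact Submodule.coe_mem _
  have horth : ∀ z : Fin n → ℂ, dotProduct z (E.mulVec (B.mulVec x)) = 0 := fun z => by
    rw [Matrix.dotProduct_mulVec, ← Matrix.mulVec_transpose]
    have hz : E.transpose.mulVec z ∈ LinearMap.range f :=
      ⟨z, Matrix.toLin'_apply E.transpose z⟩
    obtain ⟨w, hw⟩ : ∃ w, U.mulVec w = E.transpose.mulVec z := ⟨b.equivFun ⟨_, hz⟩, by rw [hU]; simp⟩
    rw [← hw, ← Matrix.vecMul_transpose, ← Matrix.dotProduct_mulVec, hy, dotProduct_zero]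
  have h0 : E.mulVec (B.mulVec x) = 0 := dotProduct_eq_zero _ fun z => by
    rw [dotProduct_comm]; exact horth z
  rw [Matrix.mulVec_mulVec, hc, ← Matrix.mulVec_mulVec, hfix x hxr] at h0
  have hx : x = 0 := hinj (h0.trans (Matrix.mulVec_zero B).symm)
  refine hy0 (b.equivFun.symm.injective (Subtype.ext ?_))
  rw [← hU, ← hxdef, hx, map_zero]
  rfl

/-- A real irreducible character whose restriction to some subgroup contains the trivial
character with odd multiplicity has indicator one. -/
theorem fsIndicator_eq_one_of_odd_fixed {χ : G → ℂ} (hχ : Cfsg.IsIrrCharacter G χ)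
    (hreal : ∀ g, (χ g).im = 0) (P : Subgroup G) [Fintype P] {m : ℕ}
    (hm : Cfsg.classInner (fun x : P => χ x) (fun _ => 1) = m) (hodd : Odd m) :
    fsIndicator χ = 1 := by
  have hchar := IsIrrCharacter.isCharacter hχ
  have hsq : (Nat.card G : ℂ)⁻¹ * ∑ g : G, χ g * χ g = 1 := by
    have h1 := classInner_irr_self hχ
    rw [Cfsg.classInner] at h1
    simp only [fun g => Complex.conj_eq_iff_im.2 (hreal g)] at h1
    exact h1
  obtain h | h := fsIndicator_eq_one_or_neg_one hchar hsq
  · exact h
  exfalso
  obtain ⟨n, ρ, hρ, rfl⟩ := hχ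
  obtain ⟨v, w, hvw, h1⟩ := idempotent_matrix_of_trace_one (sqAverage_mul_self ρ)
    (by rw [trace_sqAverage, hsq])
  have hT : ∑ b, v b * w b.swap = -1 := by
    rw [← h, fsIndicator_eq_swapTrace]
    simp [hvw]
  -- the invariant form
  set B : Matrix (Fin n) (Fin n) ℂ := Matrix.of fun i j => v (i, j) with hB
  have hanti : B.transpose = -B := by
    ext i j
    have hsum := Finset.sum_congr rfl (fun b (_ : b ∈ (Finset.univ : Finset (Fin n × Fin n))) =>
      congrArg (· * v b) (show v (i, j).swap * w b.swap = v (i, j) * w b by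
        rw [← hvw, ← hvw, sqAverage_swap]))
    have hl : ∑ b, v (i, j).swap * w b.swap * v b = v (j, i) * -1 := by
      rw [← hT, Finset.mul_sum]
      exact Finset.sum_congr rfl fun b _ => by rw [Prod.swap_prod_mk]; ring
    have hr : ∑ b, v (i, j) * w b * v b = v (i, j) * 1 := by
      rw [← h1, dotProduct, Finset.mul_sum]
      exact Finset.sum_congr rfl fun b _ => by ring
    rw [hl, hr] at hsum
    simp only [hB, Matrix.transpose_apply, Matrix.of_apply, Matrix.neg_apply]
    linear_combination -hsum
  have hinv : ∀ g, LinearMap.toMatrix' (ρ g) * B * (LinearMap.toMatrix' (ρ g)).transpose = B := by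
    intro g
    ext i j
    obtain ⟨b₀, -, hb₀⟩ := Finset.exists_ne_zero_of_sum_ne_zero
      (show ∑ a, w a * v a ≠ 0 by rw [show ∑ a, w a * v a = 1 from h1]; exact one_ne_zero)
    have hwb : w b₀ ≠ 0 := (mul_ne_zero_iff.1 hb₀).1
    have hk := congrFun (congrFun (kronecker_mul_sqAverage ρ g) (i, j)) b₀
    rw [Matrix.mul_apply] at hk
    simp only [hvw, Fintype.sum_prod_type, Matrix.kroneckerMap_apply, ← mul_assoc,
      ← Finset.sum_mul] at hk
    have := mul_right_cancel₀ hwb hk
    simp only [hB, Matrix.mul_apply, Matrix.transpose_apply, Matrix.of_apply, Finset.sum_mul]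
    rw [Finset.sum_comm]
    refine Eq.trans ?_ this
    exact Finset.sum_congr rfl fun k _ => Finset.sum_congr rfl fun l _ => by ring
  have hBA : ∀ g, LinearMap.toMatrix' (ρ g) * B = B * (LinearMap.toMatrix' (ρ g⁻¹)).transpose := by
    intro g
    have hAA : (LinearMap.toMatrix' (ρ g)).transpose * (LinearMap.toMatrix' (ρ g⁻¹)).transpose =
        1 := by
      rw [← Matrix.transpose_mul, ← LinearMap.toMatrix'_mul, ← map_mul, inv_mul_cancel, map_one,
        LinearMap.toMatrix'_one, Matrix.transpose_one]
    conv_rhs => rw [← hinv g, Matrix.mul_assoc, hAA, Matrix.mul_one]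
  let S : Subrepresentation ρ := ⟨LinearMap.range (Matrix.toLin' B), fun g x hx => by
    obtain ⟨y, rfl⟩ := hx
    refine ⟨(LinearMap.toMatrix' (ρ g⁻¹)).transpose.mulVec y, ?_⟩
    rw [Matrix.toLin'_apply, Matrix.toLin'_apply, Matrix.mulVec_mulVec, ← hBA,
      ← Matrix.mulVec_mulVec, LinearMap.toMatrix'_mulVec]⟩
  haveI := hρ
  rcases eq_bot_or_eq_top S with hS | hS
  · have h0 : Matrix.toLin' B = 0 := LinearMap.range_eq_bot.1
      (congrArg (fun T : Subrepresentation ρ => T.toSubmodule) hS)
    have hB0 : B = 0 := by simpa using h0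
    have hv0 : ∀ b, v b = 0 := fun b => congrFun (congrFun hB0 b.1) b.2
    exact one_ne_zero (h1.symm.trans (by simp [dotProduct, hv0]))
  · have hsurj : Function.Surjective (Matrix.toLin' B) := LinearMap.range_eq_top.1
      (congrArg (fun T : Subrepresentation ρ => T.toSubmodule) hS)
    have hinj : Function.Injective B.mulVec := LinearMap.injective_iff_surjective.2 hsurj
    -- the projection on the fixed points of `P`
    set A : P → Matrix (Fin n) (Fin n) ℂ := fun x => LinearMap.toMatrix' (ρ x) with hA
    have hAmul : ∀ x y : P, A x * A y = A (x * y) := fun x y => by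
      simp only [hA, Subgroup.coe_mul, map_mul]
      exact (LinearMap.toMatrix'_comp _ _).symm
    refine false_of_odd_projection (E := (Nat.card P : ℂ)⁻¹ • ∑ x : P, A x) hanti hinj ?_ ?_ ?_ hodd
    · rw [Matrix.smul_mul, Matrix.mul_smul, smul_smul, Finset.sum_mul]
      have hx : ∀ x : P, A x * ∑ y : P, A y = ∑ y : P, A y := fun x => by
        rw [Finset.mul_sum]
        exact Fintype.sum_equiv (Equiv.mulLeft x) _ _ fun y => hAmul x y
      rw [Finset.sum_congr rfl fun x _ => hx x, Finset.sum_const, Finset.card_univ,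
        ← Nat.card_eq_fintype_card, ← Nat.cast_smul_eq_nsmul ℂ, smul_smul]
      congr 1
      have := card_ne_zero (G := P)
      field_simp
    · rw [Matrix.transpose_smul, Matrix.transpose_sum, Matrix.smul_mul, Matrix.mul_smul,
        Finset.sum_mul, Finset.mul_sum]
      refine congrArg _ (Fintype.sum_equiv (Equiv.inv P) _ _ fun x => ?_)
      exact hBA x
    · rw [← hm, Cfsg.classInner, Matrix.trace_smul, Matrix.trace_sum, smul_eq_mul]
      simp [hA, character_eq_trace]

end Cfsg.Agent.Char
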