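import Cfsg.Agent.Lib.Char.RealOrbits

/-!
# Real characters over a normal subgroup of odd index

For a normal subgroup `K` of odd index of a finite group `G` the real irreducible characters of `G`
correspond to the `G`-orbits of real irreducible characters of `K`: each real `θ` lies under exactly
one real `χ`, and the restriction of `χ` to `K` is the sum over the orbit of `θ`.
-/

set_option autoImplicit false
set_option linter.style.haveILetI false

namespace Cfsg.Agent.Char.OddIndexReal

open Cfsg Cfsg.Agent.Char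
open scoped ComplexConjugate

universe u

variable {G : Type u} [Group G] [Fintype G] (K : Subgroup G) [hKn : K.Normal] [Fintype K]

/-- If `g` sends a point to its partner and `K` acts trivially, the point is its own partner. -/
theorem sep (hodd : Odd K.index) {Z : Type*} [MulAction G Z] (T : Z → Z) (hT : Function.Involutive T)
    (hc : ∀ (g : G) z, T (g • z) = g • T z) (hK : ∀ k ∈ K, ∀ z : Z, k • z = z) (g : G) (z : Z)
    (hg : g • z = T z) : T z = z := by
  obtain ⟨j, hj⟩ := hodd
  have hpow : ∀ k : ℕ, g ^ (2 * k + 1) • z = T z := by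
    intro k
    induction k with
    | zero => simpa using hg
    | succ k ih =>
      rw [show 2 * (k + 1) + 1 = 2 * k + 1 + 1 + 1 by ring, pow_succ', pow_succ', mul_smul,
        mul_smul, ih, ← hc, hg, hT, hg]
  rw [← hpow j, hK (g ^ (2 * j + 1)) (by
    rw [← hj, ← QuotientGroup.eq_one_iff, QuotientGroup.mk_pow, Subgroup.index_eq_card]
    exact pow_card_eq_one')]

/-- The real irreducible characters of `G`. -/
abbrev RealIrr (G : Type u) [Group G] := {χ : IrrCharacter G // ∀ g, (χ.1 g).im = 0}

/-- The orbit of a character of `K`. -/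
noncomputable def orb (θ : IrrCharacter K) : Set (IrrCharacter K) :=
  letI := irrConjAction K
  MulAction.orbit G θ

theorem mem_orb {θ η : IrrCharacter K} : η ∈ orb K θ ↔ ∃ g : G, η = conjChar K θ g := by
  constructor
  · rintro ⟨g, rfl⟩
    exact ⟨g⁻¹, rfl⟩
  · rintro ⟨g, rfl⟩
    exact ⟨g⁻¹, by show conjChar K θ g⁻¹⁻¹ = conjChar K θ g; rw [inv_inv]⟩

theorem orb_self (θ : IrrCharacter K) : θ ∈ orb K θ :=
  letI := irrConjAction K
  MulAction.mem_orbit_self θ

theorem orb_eq {θ η : IrrCharacter K} (h : η ∈ orb K θ) : orb K η = orb K θ :=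
  letI := irrConjAction K
  MulAction.orbit_eq_iff.2 h

theorem card_orb (θ : IrrCharacter K) : Nat.card (orb K θ) = (orbitFinset K θ).card := by
  rw [Nat.card_coe_set_eq, ← Set.ncard_coe_finset]
  congr 1
  ext η
  rw [mem_orb, Finset.mem_coe, mem_orbitFinset]

variable {K}

/-- Constituents of a class function form orbits. -/
theorem over_of_mem_orb {χ : IrrCharacter G} {θ η : IrrCharacter K}
    (h : classInner (resFun K χ.1) θ.1 ≠ 0) (hη : η ∈ orb K θ) :
    classInner (resFun K χ.1) η.1 ≠ 0 := by
  obtain ⟨g, rfl⟩ := (mem_orb K).1 hη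
  rwa [conjChar_coe, classInner_resFun_conjFun K (IsCharacter.isClassFunction (irr_isCharacter χ))]

/-- Two constituents lie in one orbit. -/
theorem mem_orb_of_over {χ : IrrCharacter G} {θ η : IrrCharacter K}
    (h : classInner (resFun K χ.1) θ.1 ≠ 0) (hη : classInner (resFun K χ.1) η.1 ≠ 0) :
    η ∈ orb K θ :=
  (mem_orb K).2 (exists_conjChar_of_constituents K χ θ η h hη)

/-- Every constituent of a real character is real. -/
theorem real_of_over (hodd : Odd K.index) {χ : IrrCharacter G} (hχ : ∀ g, (χ.1 g).im = 0)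
    {θ : IrrCharacter K} (h : classInner (resFun K χ.1) θ.1 ≠ 0) : conjIrr θ = θ := by
  have hc : classInner (resFun K χ.1) (conjIrr θ).1 ≠ 0 := by
    have e : classInner (resFun K χ.1) (conjIrr θ).1 = conj (classInner (resFun K χ.1) θ.1) := by
      simp only [classInner, map_mul, map_inv₀, map_natCast, map_sum, resFun_apply, conjIrr_apply,
        Complex.conj_eq_iff_im.2 (hχ _)]
    rw [e]
    exact fun h0 => h ((map_eq_zero (starRingEnd ℂ)).1 h0)
  obtain ⟨g, hg⟩ := exists_conjChar_of_constituents K χ θ (conjIrr θ) h hc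
  letI := irrConjAction K
  refine sep K hodd (conjIrr (G := K)) conjIrr_conjIrr (fun a z => Subtype.ext (funext fun n => rfl))
    (fun k hk z => ?_) g⁻¹ θ ?_
  · rw [irrConjAction_smul, conjChar_of_mem K z (K.inv_mem hk)]
  · rw [irrConjAction_smul, inv_inv, hg]

/-- As many real irreducible characters as orbits of real irreducible characters of `K`. -/
theorem card_realIrr (hodd : Odd K.index) :
    Nat.card {O : Set (IrrCharacter K) // ∃ θ, conjIrr θ = θ ∧ O = orb K θ} =
      Nat.card (RealIrr G) := by
  classical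
  haveI : Finite (ConjClasses K) := Finite.of_surjective _ ConjClasses.mk_surjective
  haveI : Finite (ConjClasses G) := Finite.of_surjective _ ConjClasses.mk_surjective
  letI := irrConjAction K
  letI := classConjAction K
  have hcχ : ∀ (g : G) (χ : IrrCharacter K), conjIrr (g • χ) = g • conjIrr χ := fun g χ =>
    Subtype.ext (funext fun n => rfl)
  have hcc : ∀ (g : G) (c : ConjClasses K), classInvPerm (g • c) = g • classInvPerm c := by
    intro g c
    obtain ⟨k, rfl⟩ := ConjClasses.mk_surjective c
    rw [classConjAction_smul_mk, classInvPerm_mk, classInvPerm_mk, classConjAction_smul_mk, map_inv]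
  have hinvC : Function.Involutive (classInvPerm (G := K)) := fun c => by
    obtain ⟨k, rfl⟩ := ConjClasses.mk_surjective c
    rw [classInvPerm_mk, classInvPerm_mk, inv_inv]
  have hsI : ∀ (g : G) θ, g • θ = conjIrr θ → conjIrr θ = θ :=
    sep K hodd (conjIrr (G := K)) conjIrr_conjIrr hcχ fun g hg θ => by
      rw [irrConjAction_smul, conjChar_of_mem K θ (K.inv_mem hg)]
  have hsC : ∀ (g : G) c, g • c = classInvPerm c → classInvPerm c = c :=
    sep K hodd (classInvPerm (G := K)) hinvC hcc fun g hg c => classConj_of_mem K c hg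
  -- invariant subtypes
  let RI := {θ : IrrCharacter K // conjIrr θ = θ}
  let RC := {c : ConjClasses K // classInvPerm c = c}
  letI : MulAction G RI :=
    { smul := fun g θ => ⟨g • θ.1, by rw [hcχ, θ.2]⟩
      one_smul := fun θ => Subtype.ext (one_smul G θ.1)
      mul_smul := fun g h θ => Subtype.ext (mul_smul g h θ.1) }
  letI : MulAction G RC :=
    { smul := fun g c => ⟨g • c.1, by rw [hcc, c.2]⟩
      one_smul := fun c => Subtype.ext (one_smul G c.1)
      mul_smul := fun g h c => Subtype.ext (mul_smul g h c.1) }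
  have horbits : Nat.card (Quotient (MulAction.orbitRel G RI)) =
      Nat.card (Quotient (MulAction.orbitRel G RC)) := by
    refine card_orbits_eq_of_fixed fun g => ?_
    let σ : Equiv.Perm (IrrCharacter K) := (MulAction.toPerm g).trans conjPerm
    let τ : Equiv.Perm (ConjClasses K) := (MulAction.toPerm g).trans classInvPerm
    have h := card_fixed_irr_eq_card_fixed_classes σ τ fun χ c => by
      show classValue (conjPerm (g • χ)) (classInvPerm (g • c)) = _
      rw [classValue_conjPerm]
      exact classValue_conj_smul K g χ c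
    have e1 : Nat.card (MulAction.fixedBy RI g) = Nat.card {θ // σ θ = θ} :=
      Nat.card_congr
        { toFun := fun θ => ⟨θ.1.1, by
            show conjIrr (g • θ.1.1) = θ.1.1
            rw [show g • θ.1.1 = θ.1.1 from congrArg Subtype.val θ.2, θ.1.2]⟩
          invFun := fun θ =>
            have h1 : g • θ.1 = conjIrr θ.1 := by
              conv_rhs => rw [← show conjIrr (g • θ.1) = θ.1 from θ.2, conjIrr_conjIrr]
            ⟨⟨θ.1, hsI g θ.1 h1⟩, Subtype.ext (h1.trans (hsI g θ.1 h1))⟩
          left_inv := fun θ => rfl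
          right_inv := fun θ => rfl }
    have e2 : Nat.card (MulAction.fixedBy RC g) = Nat.card {c // τ c = c} :=
      Nat.card_congr
        { toFun := fun c => ⟨c.1.1, by
            show classInvPerm (g • c.1.1) = c.1.1
            rw [show g • c.1.1 = c.1.1 from congrArg Subtype.val c.2, c.1.2]⟩
          invFun := fun c =>
            have h1 : g • c.1 = classInvPerm c.1 := by
              conv_rhs => rw [← show classInvPerm (g • c.1) = c.1 from c.2, hinvC]
            ⟨⟨c.1, hsC g c.1 h1⟩, Subtype.ext (h1.trans (hsC g c.1 h1))⟩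
          left_inv := fun c => rfl
          right_inv := fun c => rfl }
    rw [e1, e2]
    exact h
  have hreal : Nat.card (RealIrr G) = Nat.card {c : ConjClasses G // classInvPerm c = c} := by
    rw [← card_fixed_irr_eq_card_fixed_classes (conjPerm (G := G)) classInvPerm classValue_conjPerm]
    exact Nat.card_congr (Equiv.subtypeEquivRight fun χ => (conjIrr_eq_self_iff χ).symm)
  -- orbits of real classes of `K` are the real classes of `G`
  have hclasses : Nat.card (Quotient (MulAction.orbitRel G RC)) =
      Nat.card {c : ConjClasses G // classInvPerm c = c} := by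
    let f : RC → {c : ConjClasses G // classInvPerm c = c} := fun c =>
      ⟨ConjClasses.map K.subtype c.1, by
        obtain ⟨k, hk⟩ := ConjClasses.mk_surjective c.1
        have h2 := c.2
        rw [← hk, classInvPerm_mk] at h2
        rw [← hk]
        show classInvPerm (ConjClasses.mk (k : G)) = ConjClasses.mk (k : G)
        rw [classInvPerm_mk]
        exact congrArg (ConjClasses.map K.subtype) h2⟩
    have hf : ∀ a b : RC, MulAction.orbitRel G RC a b ↔ f a = f b := by
      intro a b
      obtain ⟨k, hk⟩ := ConjClasses.mk_surjective a.1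
      obtain ⟨l, hl⟩ := ConjClasses.mk_surjective b.1
      rw [MulAction.orbitRel_apply, MulAction.mem_orbit_iff, Subtype.ext_iff (a1 := f a)]
      show _ ↔ ConjClasses.map K.subtype a.1 = ConjClasses.map K.subtype b.1
      rw [← hk, ← hl]
      show _ ↔ ConjClasses.mk (k : G) = ConjClasses.mk (l : G)
      constructor
      · rintro ⟨g, hg⟩
        have h1 : g • b.1 = a.1 := congrArg Subtype.val hg
        rw [← hk, ← hl, classConjAction_smul_mk] at h1
        have h2 : ConjClasses.mk (g * l * g⁻¹) = ConjClasses.mk (k : G) :=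
          congrArg (ConjClasses.map K.subtype) h1
        rw [← h2, ConjClasses.mk_eq_mk_iff_isConj]
        exact (isConj_iff.2 ⟨g, rfl⟩).symm
      · intro h
        obtain ⟨g, hg⟩ := isConj_iff.1 (ConjClasses.mk_eq_mk_iff_isConj.1 h.symm)
        refine ⟨g, Subtype.ext ?_⟩
        show g • b.1 = a.1
        rw [← hk, ← hl, classConjAction_smul_mk]
        exact congrArg ConjClasses.mk (Subtype.ext (by simpa using hg))
    refine Nat.card_congr (Equiv.ofBijective (Quotient.lift f fun a b h => (hf a b).1 h) ⟨?_, ?_⟩)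
    · rintro ⟨a⟩ ⟨b⟩ h
      exact Quotient.sound ((hf a b).2 h)
    · intro c
      obtain ⟨x, hx⟩ := ConjClasses.mk_surjective c.1
      have hx' := c.2
      rw [← hx, classInvPerm_mk, ConjClasses.mk_eq_mk_iff_isConj] at hx'
      have hxK : x ∈ K := mem_of_conj_inv_of_odd_index K hodd K.one_mem (by
        rw [one_mul]; exact hx'.symm)
      obtain ⟨g, hg⟩ := isConj_iff.1 hx'.symm
      have hrc : classInvPerm (ConjClasses.mk (⟨x, hxK⟩ : K)) = ConjClasses.mk ⟨x, hxK⟩ := by
        refine hsC g _ ?_
        rw [classConjAction_smul_mk, classInvPerm_mk]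
        exact congrArg ConjClasses.mk (Subtype.ext (by simpa using hg))
      exact ⟨Quotient.mk'' ⟨_, hrc⟩, Subtype.ext hx⟩
  rw [hreal, ← hclasses, ← horbits]
  -- orbits of the subtype as sets
  have hf : ∀ a b : RI, MulAction.orbitRel G RI a b ↔ orb K a.1 = orb K b.1 := by
    intro a b
    constructor
    · rintro ⟨g, hg⟩
      exact orb_eq K ⟨g, congrArg Subtype.val hg⟩
    · intro h
      obtain ⟨g, hg⟩ : a.1 ∈ orb K b.1 := h ▸ orb_self K a.1
      exact ⟨g, Subtype.ext hg⟩
  refine (Nat.card_congr (Equiv.ofBijective (Quotient.lift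
    (fun a : RI => (⟨orb K a.1, a.1, a.2, rfl⟩ :
      {O : Set (IrrCharacter K) // ∃ θ, conjIrr θ = θ ∧ O = orb K θ}))
    fun a b h => Subtype.ext ((hf a b).1 h)) ⟨?_, ?_⟩)).symm
  · rintro ⟨a⟩ ⟨b⟩ h
    exact Quotient.sound ((hf a b).2 (congrArg Subtype.val h))
  · rintro ⟨O, θ, hθ, rfl⟩
    exact ⟨Quotient.mk'' ⟨θ, hθ⟩, rfl⟩

/-- A real character of `K` lies below exactly one real character of `G`. -/
theorem real_unique (hodd : Odd K.index) {χ χ' : IrrCharacter G} (hχ : ∀ g, (χ.1 g).im = 0)
    (hχ' : ∀ g, (χ'.1 g).im = 0) {θ : IrrCharacter K} (h : classInner (resFun K χ.1) θ.1 ≠ 0)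
    (h' : classInner (resFun K χ'.1) θ.1 ≠ 0) : χ = χ' := by
  classical
  obtain ⟨F, hF⟩ : ∃ F : RealIrr G → {O : Set (IrrCharacter K) // ∃ θ, conjIrr θ = θ ∧ O = orb K θ},
      ∀ (χ : RealIrr G) θ, classInner (resFun K χ.1.1) θ.1 ≠ 0 → (F χ).1 = orb K θ := by
    choose c hc using fun χ : RealIrr G => exists_constituent K χ.1
    exact ⟨fun χ => ⟨orb K (c χ), c χ, real_of_over hodd χ.2 (hc χ), rfl⟩,
      fun χ θ hθ => orb_eq K (mem_orb_of_over hθ (hc χ))⟩
  have hsur : Function.Surjective F := by
    rintro ⟨O, θ, hθ, rfl⟩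
    obtain ⟨χ, hr, hc⟩ := exists_real_irr_over_of_odd_index K hodd θ ((conjIrr_eq_self_iff θ).1 hθ)
    exact ⟨⟨χ, hr⟩, Subtype.ext (hF ⟨χ, hr⟩ θ hc)⟩
  have hinj := ((Nat.bijective_iff_surjective_and_card F).2 ⟨hsur, (card_realIrr hodd).symm⟩).1
  have e1 := hF (⟨χ, hχ⟩ : RealIrr G) θ h
  have e2 := hF (⟨χ', hχ'⟩ : RealIrr G) θ h'
  have e3 : (⟨χ, hχ⟩ : RealIrr G) = ⟨χ', hχ'⟩ := hinj (Subtype.ext (e1.trans e2.symm))
  exact congrArg (fun x : RealIrr G => x.1) e3

/-- The multiplicity is one. -/
theorem mult_eq_one (hodd : Odd K.index) {χ : IrrCharacter G} (hχ : ∀ g, (χ.1 g).im = 0)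
    {θ : IrrCharacter K} (h : classInner (resFun K χ.1) θ.1 ≠ 0) :
    classInner (resFun K χ.1) θ.1 = 1 := by
  classical
  have hθ : ∀ k, (θ.1 k).im = 0 := (conjIrr_eq_self_iff θ).1 (real_of_over hodd hχ h)
  have h1 : fsIndicator (indFun K θ.1) = fsIndicator θ.1 := by
    rw [fsIndicator_indFun, fsIndicator_eq_sum]
    refine congrArg _ (Fintype.sum_of_injective (Subtype.val : K → G) Subtype.val_injective _ _
      (fun g hg => ?_) fun k => ?_).symm
    · exact extendByZero_of_notMem K θ.1 fun hm =>
        hg ⟨⟨g, mem_of_sq_mem_of_odd_index K hodd hm⟩, rfl⟩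
    · exact (extendByZero_coe K θ.1 (k * k)).symm
  rw [fsIndicator_indFun_eq_sum] at h1
  have hsum : classInner (indFun K θ.1) χ.1 * fsIndicator χ.1 = fsIndicator θ.1 := by
    rw [← h1]
    symm
    refine Finset.sum_eq_single χ (fun η _ hη => ?_) fun h' => absurd (Finset.mem_univ χ) h' 
    by_cases hr : ∀ g, (η.1 g).im = 0
    · rw [classInner_indFun K θ.1 (IsCharacter.isClassFunction (irr_isCharacter η))]
      by_cases h0 : classInner (resFun K η.1) θ.1 = 0
      · rw [← conj_classInner, show classInner (fun k : K => η.1 k) θ.1 = 0 from h0, map_zero,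
          zero_mul]
      · exact absurd (real_unique hodd hr hχ h0 h) hη
    · rw [fsIndicator_of_not_real η hr, mul_zero]
  obtain ⟨m, hm⟩ := IsCharacter.exists_nat_classInner
    (IsCharacter.restrict (irr_isCharacter χ) K) (irr_isCharacter θ)
  have hm' : classInner (resFun K χ.1) θ.1 = (m : ℂ) := hm
  rw [classInner_indFun K θ.1 (IsCharacter.isClassFunction (irr_isCharacter χ)), ← conj_classInner,
    show classInner (fun k : K => χ.1 k) θ.1 = (m : ℂ) from hm', map_natCast] at hsum
  rw [hm']
  rcases fsIndicator_of_real χ hχ with e | e <;> rcases fsIndicator_of_real θ hθ with e' | e' <;>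
    rw [e, e'] at hsum
  · simpa using hsum
  · exfalso
    have h3 : ((m + 1 : ℕ) : ℂ) = 0 := by push_cast; linear_combination hsum
    exact Nat.succ_ne_zero m (Nat.cast_eq_zero.1 h3)
  · exfalso
    have h3 : ((m + 1 : ℕ) : ℂ) = 0 := by push_cast; linear_combination -hsum
    exact Nat.succ_ne_zero m (Nat.cast_eq_zero.1 h3)
  · linear_combination -hsum

/-- The degree is that of the orbit. -/
theorem degree_eq (hodd : Odd K.index) {χ : IrrCharacter G} (hχ : ∀ g, (χ.1 g).im = 0)
    {θ : IrrCharacter K} (h : classInner (resFun K χ.1) θ.1 ≠ 0) :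
    charDegree χ.1 = Nat.card (orb K θ) * charDegree θ.1 := by
  have h1 := apply_one_eq_mul_card_orbit K χ θ h
  rw [mult_eq_one hodd hχ h, one_mul, ← charDegree_cast, ← charDegree_cast, ← card_orb] at h1
  exact_mod_cast h1

end Cfsg.Agent.Char.OddIndexReal
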