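import Cfsg.Agent.Lib.CharInt.Galois
import Cfsg.Agent.Lib.Char.Monomial
import Cfsg.Agent.Lib.Char.Clifford
import Cfsg.Agent.Lib.Char.Induction
import Cfsg.Agent.Lib.Char.Descend
import Cfsg.Agent.Lib.Char.KernelSum
import Cfsg.Agent.Lib.CharInt.Basic
import Mathlib.GroupTheory.Nilpotent

/-!
# The order of a `p`-group and the field of a faithful irreducible character

If a faithful irreducible character of degree `f` of a group of order `p ^ a` has a field of values
of degree `(p - 1) p ^ t`, then `(p - 1) a ≤ (f - 1) + (p - 1)(t + 1) f`.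
-/

set_option linter.style.haveILetI false
set_option linter.unusedSectionVars false

namespace Cfsg.Agent.Char.PField

open Cfsg Cfsg.Agent
open scoped ComplexConjugate Classical

universe u v

variable {P : Type u} [Group P] {p : ℕ}

/-- The twist by a power map. -/
def twist (χ : P → ℂ) (k : ℕ) : P → ℂ := fun g => χ (g ^ k)

/-- The Galois orbit of a character of a `p`-group. -/
def galOrb (p : ℕ) (χ : P → ℂ) : Set (P → ℂ) :=
  Set.range fun k : {k : ℕ // ¬ p ∣ k} => twist χ k.1

theorem mem_galOrb {χ F : P → ℂ} : F ∈ galOrb p χ ↔ ∃ k, ¬ p ∣ k ∧ twist χ k = F :=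
  ⟨fun ⟨⟨k, hk⟩, h⟩ => ⟨k, hk, h⟩, fun ⟨k, hk, h⟩ => ⟨⟨k, hk⟩, h⟩⟩

theorem coprime_card [Finite P] [hp : Fact p.Prime] {a : ℕ} (hP : Nat.card P = p ^ a) {k : ℕ}
    (hk : ¬ p ∣ k) : k.Coprime (Nat.card P) :=
  hP ▸ Nat.Coprime.pow_right a ((hp.out.coprime_iff_not_dvd).2 hk).symm

/-- Twists by exponents prime to `p` can be undone. -/
theorem exists_inverse [Finite P] [hp : Fact p.Prime] {a : ℕ} (hP : Nat.card P = p ^ a) {k : ℕ}
    (hk : ¬ p ∣ k) : ∃ k', ¬ p ∣ k' ∧ ∀ g : P, g ^ (k * k') = g := by
  refine ⟨k ^ (Nat.totient (Nat.card P) - 1), fun h => hk (hp.out.dvd_of_dvd_pow h), fun g => ?_⟩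
  rw [← pow_succ', Nat.sub_add_cancel (Nat.totient_pos.2 Nat.card_pos)]
  conv_rhs => rw [← pow_one g]
  exact pow_eq_pow_iff_modEq.2
    ((Nat.ModEq.pow_totient (coprime_card hP hk)).of_dvd (orderOf_dvd_natCard g))

theorem finite_galOrb [Finite P] [hp : Fact p.Prime] (χ : P → ℂ) : (galOrb p χ).Finite := by
  refine (Set.finite_range fun i : Fin (Nat.card P) => twist χ i).subset ?_
  rintro _ ⟨k, rfl⟩
  exact ⟨⟨k.1 % Nat.card P, Nat.mod_lt _ Nat.card_pos⟩, funext fun g => by
    simp [twist, pow_mod_natCard]⟩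

/-- The degree of the field of values is the length of the Galois orbit. -/
theorem finrank_eq [Finite P] [hp : Fact p.Prime] {a : ℕ} (hP : Nat.card P = p ^ a) {χ : P → ℂ}
    (hχ : IsCharacter P χ) :
    Module.finrank ℚ (IntermediateField.adjoin ℚ (Set.range χ)) = (galOrb p χ).ncard := by
  haveI := Fintype.ofFinite P
  set L := IntermediateField.adjoin ℚ (Set.range χ) with hL
  haveI : FiniteDimensional ℚ L := IntermediateField.finiteDimensional_adjoin (by
    rintro _ ⟨g, rfl⟩
    exact (CharInt.isIntegral_char hχ g).tower_top)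
  have hmem : ∀ g, χ g ∈ L := fun g => IntermediateField.subset_adjoin ℚ _ ⟨g, rfl⟩
  let Ψ : (L →ₐ[ℚ] ℂ) → (P → ℂ) := fun τ g => τ ⟨χ g, hmem g⟩
  have hinj : Function.Injective Ψ := by
    intro τ τ' h
    refine IntermediateField.algHom_ext_of_eq_adjoin _ hL ?_
    rintro x ⟨g, hg⟩
    subst hg
    exact congrFun h g
  have hrange : Set.range Ψ = galOrb p χ := by
    ext F
    rw [mem_galOrb]
    constructor
    · rintro ⟨τ, rfl⟩
      let N := p ^ (a + 1)
      have hN : N ≠ 0 := pow_ne_zero _ hp.out.ne_zero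
      haveI : NeZero N := ⟨hN⟩
      have hζ := Complex.isPrimitiveRoot_exp N hN
      have hLA : L ≤ algebraicClosure ℚ ℂ := IntermediateField.adjoin_le_iff.2 (by
        rintro _ ⟨g, rfl⟩
        exact mem_algebraicClosure_iff.2 (CharInt.isIntegral_char hχ g).tower_top.isAlgebraic)
      obtain ⟨F, hF⟩ := CharInt.exists_ringHom_extend (S := algebraicClosure ℚ ℂ) (M := ℂ)
        (IntermediateField.inclusion hLA).toRingHom
        (IntermediateField.inclusion hLA).injective τ.toRingHom τ.injective (fun s => by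
          have h : IsAlgebraic ℚ s :=
            (isAlgebraic_algHom_iff (algebraicClosure ℚ ℂ).val Subtype.val_injective).1
              (mem_algebraicClosure_iff.1 s.2)
          obtain ⟨q, hq, hqs⟩ := h
          refine ⟨q.map (algebraMap ℚ L), (Polynomial.map_ne_zero_iff (algebraMap ℚ L).injective).2 hq, ?_⟩
          rw [Polynomial.eval₂_map, show (IntermediateField.inclusion hLA).toRingHom.comp
            (algebraMap ℚ L) = algebraMap ℚ (algebraicClosure ℚ ℂ) from Subsingleton.elim _ _]
          exact hqs)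
      have hζA : Complex.exp (2 * Real.pi * Complex.I / N) ∈ algebraicClosure ℚ ℂ :=
        mem_algebraicClosure_iff.2 (hζ.isIntegral (NeZero.pos N)).tower_top.isAlgebraic
      set z : algebraicClosure ℚ ℂ := ⟨_, hζA⟩ with hz
      have hzp : IsPrimitiveRoot z N :=
        IsPrimitiveRoot.of_map_of_injective (f := (algebraicClosure ℚ ℂ).val) hζ
          (algebraicClosure ℚ ℂ).val.injective
      obtain ⟨k, -, hkN, hk⟩ := hζ.isPrimitiveRoot_iff.1 (hzp.map_of_injective F.injective)
      refine ⟨k, ?_, funext fun g => ?_⟩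
      · intro hd
        exact hp.out.ne_one (Nat.eq_one_of_dvd_coprimes hkN hd (dvd_pow_self p (Nat.succ_ne_zero a)))
      · obtain ⟨n, μ, -, hμ, hval⟩ := CharInt.exists_roots hχ g
        have hpw : ∀ i, μ i ^ N = 1 := fun i => by
          obtain ⟨d, hd⟩ := (orderOf_dvd_natCard g).trans
            (hP ▸ pow_dvd_pow p (Nat.le_succ a) : Nat.card P ∣ N)
          rw [hd, pow_mul, hμ i, one_pow]
        choose e he he' using fun i => hζ.eq_pow_of_pow_eq_one (hpw i)
        have h1 := hval 1
        simp only [pow_one] at h1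
        have hxv : (IntermediateField.inclusion hLA).toRingHom ⟨χ g, hmem g⟩ = ∑ i, z ^ e i := by
          refine Subtype.ext ?_
          show χ g = (algebraicClosure ℚ ℂ).val (∑ i, z ^ e i)
          rw [h1, map_sum]
          exact Finset.sum_congr rfl fun i _ => by rw [map_pow, ← he' i]; rfl
        show χ (g ^ k) = τ ⟨χ g, hmem g⟩
        rw [hval k, show τ ⟨χ g, hmem g⟩ = F (∑ i, z ^ e i) by rw [← hxv, hF]; rfl, map_sum]
        refine Finset.sum_congr rfl fun i _ => ?_
        rw [map_pow, ← hk, ← he' i, ← pow_mul, ← pow_mul, Nat.mul_comm]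
    · rintro ⟨k, hk, rfl⟩
      obtain ⟨f, hf⟩ := CharInt.exists_ringHom_pow Nat.card_pos.ne' (coprime_card hP hk)
      exact ⟨f.toRatAlgHom.comp L.val, funext fun g => CharInt.map_char_eq_pow hχ hf g⟩
  rw [← AlgHom.card ℚ L ℂ, ← hrange, Set.ncard_range_of_injective hinj, Nat.card_eq_fintype_card]

/-- A bound for linear characters. -/
theorem linear_case [Finite P] [hp : Fact p.Prime] {a : ℕ} (hP : Nat.card P = p ^ a)
    (χ : IrrCharacter P) (hf : χ.1 1 = 1) (hfaith : ∀ g : P, χ.1 g = χ.1 1 → g = 1) {t : ℕ}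
    (hD : (galOrb p χ.1).ncard = (p - 1) * p ^ t) : (p - 1) * a ≤ (p - 1) * (t + 1) := by
  haveI := Fintype.ofFinite P
  rcases Nat.eq_zero_or_pos a with rfl | ha
  · simp
  obtain ⟨lam, hlam⟩ := Char.IsCharacter.exists_monoidHom (Char.irr_isCharacter χ) hf
  have hinj : Function.Injective lam := by
    intro x y h
    have hu : lam y * lam y⁻¹ = 1 := by rw [← map_mul, mul_inv_cancel, map_one]
    have h2 : χ.1 (x * y⁻¹) = χ.1 1 := by rw [hf, ← hlam, map_mul, h, hu]
    exact mul_inv_eq_one.1 (hfaith _ h2)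
  haveI : IsCyclic P := isCyclic_of_subgroup_isDomain lam hinj
  obtain ⟨g₀, hg₀⟩ := IsCyclic.exists_generator (α := P)
  have hord : orderOf g₀ = p ^ a := by rw [orderOf_eq_card_of_forall_mem_zpowers hg₀, hP]
  have hq : p ^ a ≠ 0 := pow_ne_zero _ hp.out.ne_zero
  have hcop : ∀ k : ℕ, k.Coprime (p ^ a) ↔ ¬ p ∣ k := fun k => by
    rw [Nat.coprime_pow_right_iff ha, Nat.coprime_comm, hp.out.coprime_iff_not_dvd]
  have horb : galOrb p χ.1 = (fun i : ℕ => twist χ.1 i) ''
      ↑((Finset.range (p ^ a)).filter fun i => (p ^ a).Coprime i) := by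
    ext F
    rw [mem_galOrb]
    constructor
    · rintro ⟨k, hk, rfl⟩
      refine ⟨k % p ^ a, Finset.mem_filter.2 ⟨Finset.mem_range.2 (Nat.mod_lt _ (Nat.pos_of_ne_zero hq)),
        ?_⟩, funext fun g => by show χ.1 _ = χ.1 _; rw [← hP, pow_mod_natCard]⟩
      rw [Nat.coprime_comm, Nat.Coprime, ← Nat.gcd_rec, Nat.gcd_comm]
      exact (hcop k).2 hk
    · rintro ⟨i, hi, rfl⟩
      exact ⟨i, (hcop i).1 (Finset.mem_filter.1 hi).2.symm, rfl⟩
  have hcard : (galOrb p χ.1).ncard = Nat.totient (p ^ a) := by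
    rw [horb, Set.ncard_image_of_injOn, Set.ncard_coe_finset, Nat.totient_eq_card_coprime]
    intro i hi j hj hij
    have h := congrFun hij g₀
    simp only [twist, ← hlam] at h
    have h' := hinj h
    rw [pow_eq_pow_iff_modEq, hord] at h'
    rwa [Nat.ModEq, Nat.mod_eq_of_lt (Finset.mem_range.1 (Finset.mem_filter.1 hi).1),
      Nat.mod_eq_of_lt (Finset.mem_range.1 (Finset.mem_filter.1 hj).1)] at h'
  obtain ⟨b, rfl⟩ : ∃ b, a = b + 1 := ⟨a - 1, by omega⟩
  rw [hcard, Nat.totient_prime_pow_succ hp.out, Nat.mul_comm (p ^ b)] at hD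
  have := Nat.pow_right_injective hp.out.two_le
    (Nat.eq_of_mul_eq_mul_left (Nat.sub_pos_of_lt hp.out.one_lt) hD)
  rw [this]

/-- A faithful irreducible nonlinear character and a maximal subgroup it is induced from. -/
theorem exists_split [Fintype P] [hp : Fact p.Prime] {a : ℕ} (hP : Nat.card P = p ^ a)
    (χ : IrrCharacter P) (hf : χ.1 1 ≠ 1) :
    ∃ (M : Subgroup P) (_ : M.Normal) (η : IrrCharacter M), M.index = p ∧
      (∀ g, g ∉ M → χ.1 g = 0) ∧ (Char.orbitFinset M η).card = p ∧
      ∀ m : M, χ.1 m = ∑ η' ∈ Char.orbitFinset M η, η'.1 m := by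
  haveI : Group.IsNilpotent P := (IsPGroup.of_card hP).isNilpotent
  obtain ⟨S, lam, hS⟩ := Char.isMonomialChar_of_isNilpotent χ.2
  have hStop : S ≠ ⊤ := fun h => hf (by
    rw [hS, Char.indFun_apply_one, Subgroup.index_eq_one.2 h, Nat.cast_one, one_mul]
    exact map_one lam)
  obtain ⟨M, hM, hSM⟩ := (eq_top_or_exists_le_coatom S).resolve_left hStop
  haveI hMn : M.Normal :=
    Subgroup.NormalizerCondition.normal_of_coatom M Group.normalizerCondition_of_isNilpotent hM
  have hidx : M.index = p := by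
    have hq : IsPGroup p (P ⧸ M) := (IsPGroup.of_card hP).to_quotient M
    obtain ⟨b, hb⟩ := IsPGroup.iff_card.1 hq
    have hb0 : b ≠ 0 := by
      rintro rfl
      refine hM.1 (Subgroup.index_eq_one.1 ?_)
      rw [Subgroup.index_eq_card, hb, pow_zero]
    obtain ⟨x, hx⟩ := exists_prime_orderOf_dvd_card' (G := P ⧸ M) p (hb ▸ dvd_pow_self p hb0)
    have hlt : M < (Subgroup.zpowers x).comap (QuotientGroup.mk' M) := by
      refine lt_of_le_of_ne (fun m hm => ?_) fun he => ?_
      · rw [Subgroup.mem_comap, QuotientGroup.mk'_apply, (QuotientGroup.eq_one_iff m).2 hm]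
        exact one_mem _
      · obtain ⟨y, rfl⟩ := QuotientGroup.mk'_surjective M x
        have : y ∈ M := by rw [he]; exact Subgroup.mem_zpowers _
        rw [QuotientGroup.mk'_apply, (QuotientGroup.eq_one_iff y).2 this, orderOf_one] at hx
        exact hp.out.ne_one hx.symm
    have h1 : Subgroup.zpowers x = ⊤ := by
      rw [← Subgroup.map_comap_eq_self_of_surjective (QuotientGroup.mk'_surjective M)
        (Subgroup.zpowers x), hM.2 _ hlt, Subgroup.map_top_of_surjective _
          (QuotientGroup.mk'_surjective M)]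
    rw [Subgroup.index_eq_card, ← Subgroup.card_top, ← h1, Nat.card_zpowers, hx]
  have hvan : ∀ g, g ∉ M → χ.1 g = 0 := fun g hg => by
    rw [hS]
    refine Char.indFun_eq_zero_of_forall_notMem S _ fun x hx => hg ?_
    have := hMn.conj_mem _ (hSM hx) x
    simpa [mul_assoc] using this
  obtain ⟨η, hη⟩ := Char.exists_constituent M χ
  refine ⟨M, hMn, η, hidx, hvan, ?_⟩
  set e := classInner (Char.resFun M χ.1) η.1 with he
  obtain ⟨n, hn⟩ := Char.IsCharacter.exists_nat_classInner
    (Char.IsCharacter.restrict (Char.irr_isCharacter χ) M) (Char.irr_isCharacter η)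
  have hen : e = n := hn
  have hres := Char.resFun_eq_smul_orbitSum M χ η hη
  have hnorm : classInner (Char.resFun M χ.1) (Char.resFun M χ.1) = (p : ℂ) := by
    have h1 := Char.classInner_irr_self χ.2
    simp only [classInner, Char.resFun_apply] at h1 ⊢
    rw [← Finset.sum_filter_add_sum_filter_not Finset.univ (fun g : P => g ∈ M),
      Finset.sum_eq_zero (s := Finset.univ.filter fun g : P => ¬ g ∈ M) (fun g hg => by
        rw [hvan g (Finset.mem_filter.1 hg).2, zero_mul]), add_zero,
      Finset.sum_subtype (Finset.univ.filter fun g : P => g ∈ M) (p := fun g => g ∈ M)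
        (fun g => by simp)] at h1
    rw [← M.card_mul_index, hidx, Nat.cast_mul, mul_inv, mul_comm (Nat.card M : ℂ)⁻¹, mul_assoc,
      inv_mul_eq_iff_eq_mul₀ (Nat.cast_ne_zero.2 hp.out.ne_zero), mul_one] at h1
    exact h1
  have hnorm2 : classInner (Char.resFun M χ.1) (Char.resFun M χ.1) =
      (((Char.orbitFinset M η).card * (n * n) : ℕ) : ℂ) := by
    have hres2 : ∀ m : M, conj (Char.resFun M χ.1 m) =
        (n : ℂ) * ∑ η' ∈ Char.orbitFinset M η, conj (η'.1 m) := fun m => by
      rw [congrFun hres m, ← he, hen, Pi.smul_apply, smul_eq_mul, map_mul, map_natCast,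
        Char.orbitSum, Finset.sum_apply, map_sum]
    have hin : ∀ η' ∈ Char.orbitFinset M η, classInner (Char.resFun M χ.1) η'.1 = n := by
      intro η' hη'
      obtain ⟨g, rfl⟩ := (Char.mem_orbitFinset M).1 hη'
      rw [Char.conjChar_coe, Char.classInner_resFun_conjFun M
        (Char.IsCharacter.isClassFunction (Char.irr_isCharacter χ))]
      exact hen
    calc classInner (Char.resFun M χ.1) (Char.resFun M χ.1)
        = ∑ η' ∈ Char.orbitFinset M η, (n : ℂ) * classInner (Char.resFun M χ.1) η'.1 := by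
          simp only [classInner, hres2, Finset.mul_sum]
          rw [Finset.sum_comm]
          exact Finset.sum_congr rfl fun η' _ => Finset.sum_congr rfl fun m _ => by ring
      _ = _ := by
          rw [Finset.sum_congr rfl fun η' hη' => by rw [hin η' hη'], Finset.sum_const, nsmul_eq_mul]
          push_cast
          ring
  have hmul : (Char.orbitFinset M η).card * (n * n) = p := by
    have := hnorm2.symm.trans hnorm
    exact_mod_cast this
  have hn1 : n = 1 := by
    rcases (Nat.dvd_prime hp.out).1 (hmul ▸ (dvd_mul_left n n).trans (dvd_mul_left _ _) : n ∣ p)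
      with h | h
    · exact h
    · subst h
      rcases Nat.eq_zero_or_pos (Char.orbitFinset M η).card with h0 | h0
      · rw [h0, zero_mul] at hmul; exact absurd hmul.symm hp.out.ne_zero
      · have h2 := hp.out.two_le
        nlinarith [Nat.le_mul_of_pos_left (n * n) h0]
  rw [hn1, mul_one, mul_one] at hmul
  refine ⟨hmul, fun m => ?_⟩
  have := congrFun hres m
  rw [← he, hen, hn1, Nat.cast_one, one_smul, Char.resFun_apply, Char.orbitSum,
    Finset.sum_apply] at this
  exact this

/-- The conjugates of `η` by the powers of `g₀`. -/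
noncomputable def conjPow (M : Subgroup P) [M.Normal] (g₀ : P) (i : ℕ) (F : M → ℂ) : M → ℂ :=
  Char.conjFun M F (g₀ ^ i)

theorem conjPow_twist (M : Subgroup P) [M.Normal] (g₀ : P) (i k : ℕ) (F : M → ℂ) :
    conjPow M g₀ i (twist F k) = twist (conjPow M g₀ i F) k := by
  funext m
  simp only [conjPow, Char.conjFun, twist, map_pow]

theorem orbit_eq [Fintype P] [hp : Fact p.Prime] (M : Subgroup P) [M.Normal] (hidx : M.index = p)
    (η : IrrCharacter M) (hcard : (Char.orbitFinset M η).card = p) {g₀ : P} (hg₀ : g₀ ∉ M) :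
    Char.orbitFinset M η = (Finset.range p).image (fun i => Char.conjChar M η (g₀ ^ i)) ∧
      Set.InjOn (fun i => Char.conjChar M η (g₀ ^ i)) (Finset.range p : Set ℕ) := by
  have hsub : Char.orbitFinset M η ⊆
      (Finset.range p).image (fun i => Char.conjChar M η (g₀ ^ i)) := by
    intro η' hη'
    obtain ⟨x, rfl⟩ := (Char.mem_orbitFinset M).1 hη'
    haveI : Fact (Nat.card (P ⧸ M)).Prime := ⟨by rw [← Subgroup.index_eq_card, hidx]; exact hp.out⟩
    have hne : (g₀ : P ⧸ M) ≠ 1 := fun h => hg₀ ((QuotientGroup.eq_one_iff g₀).1 h)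
    obtain ⟨i, hi, hix⟩ : ∃ i < p, (g₀ : P ⧸ M) ^ i = (x : P ⧸ M) := by
      obtain ⟨j, hj⟩ := mem_powers_of_prime_card (G := P ⧸ M) (p := p)
        (by rw [← Subgroup.index_eq_card, hidx]) hne (g' := (x : P ⧸ M))
      refine ⟨j % p, Nat.mod_lt _ hp.out.pos, ?_⟩
      rw [← hj, ← hidx, Subgroup.index_eq_card, pow_mod_natCard]
    refine Finset.mem_image.2 ⟨i, Finset.mem_range.2 hi, Subtype.ext ?_⟩
    rw [← QuotientGroup.mk_pow, QuotientGroup.eq] at hix
    have hm := Char.le_inertiaGroup M
      (Char.IsCharacter.isClassFunction (Char.irr_isCharacter η))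
    have hx : x = x * (g₀ ^ i)⁻¹ * g₀ ^ i := by group
    have hmem : x * (g₀ ^ i)⁻¹ ∈ M := by
      have := Subgroup.Normal.conj_mem inferInstance _ hix (g₀ ^ i)
      rwa [show g₀ ^ i * ((g₀ ^ i)⁻¹ * x) * (g₀ ^ i)⁻¹ = x * (g₀ ^ i)⁻¹ by group] at this
    rw [Char.conjChar_coe, Char.conjChar_coe, hx, Char.conjFun_mul,
      Char.mem_inertiaGroup.1 (hm hmem)]
  have hle : ((Finset.range p).image (fun i => Char.conjChar M η (g₀ ^ i))).card ≤
      (Char.orbitFinset M η).card := by
    rw [hcard]; exact Finset.card_image_le.trans (Finset.card_range p).le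
  refine ⟨Finset.eq_of_subset_of_card_le hsub hle, Finset.injOn_of_card_image_eq ?_⟩
  rw [← Finset.eq_of_subset_of_card_le hsub hle, hcard, Finset.card_range]

/-- The inequality, by induction. -/
theorem bound [hp : Fact p.Prime] : ∀ (n : ℕ) {P : Type u} [Group P] [Finite P] {a : ℕ},
    Nat.card P = p ^ a → a ≤ n → ∀ χ : IrrCharacter P, (∀ g : P, χ.1 g = χ.1 1 → g = 1) →
    ∀ f t : ℕ, χ.1 1 = f → (galOrb p χ.1).ncard = (p - 1) * p ^ t →
    (p - 1) * a ≤ (f - 1) + (p - 1) * (t + 1) * f := by
  intro n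
  induction n with
  | zero => intro P _ _ a _ ha; simp [Nat.le_zero.1 ha]
  | succ n ih =>
  intro P _ _ a hP ha χ hfaith f t hf hD
  haveI := Fintype.ofFinite P
  by_cases hlin : χ.1 1 = 1
  · have : f = 1 := by exact_mod_cast hf.symm.trans hlin
    subst this
    simpa using linear_case hP χ hlin hfaith hD
  obtain ⟨M, hMn, η, hidx, hvan, hcard, hres⟩ := exists_split hP χ hlin
  haveI := hMn
  obtain ⟨b, rfl⟩ : ∃ b, a = b + 1 := by
    refine ⟨a - 1, (Nat.sub_add_cancel (Nat.one_le_iff_ne_zero.2 fun h => ?_)).symm⟩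
    have := hidx ▸ M.index_dvd_card
    rw [hP, h, pow_zero, Nat.dvd_one] at this
    exact hp.out.ne_one this
  have hMcard : Nat.card M = p ^ b := by
    have := M.card_mul_index
    rw [hP, hidx, pow_succ] at this
    exact Nat.eq_of_mul_eq_mul_right hp.out.pos this
  haveI := Fintype.ofFinite M
  obtain ⟨g₀, hg₀, hgal'⟩ : ∃ g₀, g₀ ∉ M ∧ ((∃ x, x ∉ M ∧ Char.conjFun M η.1 x ∈ galOrb p η.1) →
      Char.conjFun M η.1 g₀ ∈ galOrb p η.1) := by
    by_cases h : ∃ x, x ∉ M ∧ Char.conjFun M η.1 x ∈ galOrb p η.1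
    · exact ⟨h.choose, h.choose_spec.1, fun _ => h.choose_spec.2⟩
    · by_contra! hall
      refine hp.out.ne_one (hidx ▸ Subgroup.index_eq_one.2 ((Subgroup.eq_top_iff' M).2 fun x => ?_))
      by_contra hx
      exact h (hall x hx).1
  obtain ⟨horb, hinjOn⟩ := orbit_eq M hidx η hcard hg₀
  have hres' : ∀ m : M, χ.1 m = ∑ i ∈ Finset.range p, conjPow M g₀ i η.1 m := fun m => by
    rw [hres, horb]
    refine Eq.trans ?_ ((Finset.sum_image (f := fun η' : IrrCharacter M => η'.1 m) hinjOn).trans rfl)
    exact Finset.sum_congr (by congr!) fun _ _ => rfl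
  obtain ⟨f', hf'⟩ : ∃ f' : ℕ, η.1 1 = f' := ⟨_, Char.apply_one_eq_degree η⟩
  have hff : f = p * f' := by
    have := hres' 1
    simp only [conjPow, Char.conjFun_apply_one] at this
    rw [OneMemClass.coe_one, hf, Finset.sum_const, Finset.card_range, hf',
      nsmul_eq_mul] at this
    exact_mod_cast this
  have hf'pos : 0 < f' := by
    rcases Nat.eq_zero_or_pos f' with h | h
    · exact absurd (by rw [hf', h, Nat.cast_zero]) (Char.IsIrrCharacter.apply_one_ne_zero η.2)
    · exact h
  -- the restriction map on twists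
  let ψ : (M → ℂ) → P → ℂ := fun F g =>
    if hg : g ∈ M then ∑ i ∈ Finset.range p, conjPow M g₀ i F ⟨g, hg⟩ else 0
  have hψ : ∀ k, ¬ p ∣ k → ψ (twist η.1 k) = twist χ.1 k := by
    intro k hk
    funext g
    by_cases hg : g ∈ M
    · simp only [ψ, dif_pos hg, conjPow_twist, twist]
      exact (hres' (⟨g, hg⟩ ^ k)).symm
    · simp only [ψ, dif_neg hg, twist]
      refine (hvan _ fun hmem => hg ?_).symm
      obtain ⟨k', -, hk'⟩ := exists_inverse hP hk
      rw [← hk' g, pow_mul]
      exact pow_mem hmem _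
  -- equal twists of `χ` come from conjugate twists of `η`
  have hsep : ∀ k l, ¬ p ∣ k → ¬ p ∣ l → twist χ.1 k = twist χ.1 l →
      ∃ i < p, conjPow M g₀ i (twist η.1 k) = twist η.1 l := by
    intro k l hk hl hkl
    by_contra! hno
    have htw : ∀ j, ¬ p ∣ j → IsIrrCharacter M (twist η.1 j) :=
      fun j hj => CharInt.isIrrCharacter_pow η.2 (coprime_card hMcard hj)
    have hirr : ∀ (i k : ℕ), ¬ p ∣ k → IsIrrCharacter M (conjPow M g₀ i (twist η.1 k)) :=
      fun i k hk => Char.isIrrCharacter_conjFun M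
        (CharInt.isIrrCharacter_pow η.2 (coprime_card hMcard hk)) _
    have hsum : ∀ k, ¬ p ∣ k → (fun m : M => twist χ.1 k m) =
        ∑ i ∈ Finset.range p, conjPow M g₀ i (twist η.1 k) := by
      intro k _
      funext m
      rw [Finset.sum_apply]
      simp only [conjPow_twist, twist]
      exact hres' (m ^ k)
    have h1 := congrArg (classInner · (twist η.1 l))
      ((hsum k hk).symm.trans ((congrArg (fun F : P → ℂ => fun m : M => F m) hkl).trans (hsum l hl)))
    simp only [Char.classInner_sum_left] at h1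
    rw [Finset.sum_eq_zero fun i hi => Char.classInner_irr_of_ne (hirr i k hk)
        (htw l hl)
        (hno i (Finset.mem_range.1 hi)),
      Finset.sum_eq_single 0] at h1
    · rw [show conjPow M g₀ 0 (twist η.1 l) = twist η.1 l by
        simp only [conjPow, pow_zero, Char.conjFun_one],
        Char.classInner_irr_self (htw l hl)] at h1
      exact zero_ne_one h1
    · intro i hi hi0
      refine Char.classInner_irr_of_ne (hirr i l hl)
        (htw l hl) fun he => hi0 ?_
      obtain ⟨l', -, hl'⟩ := exists_inverse hMcard hl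
      refine hinjOn hi (Finset.mem_coe.2 (Finset.mem_range.2 hp.out.pos)) (Subtype.ext (funext fun m => ?_))
      have h2 := congrFun he (m ^ l')
      rw [conjPow_twist, twist, twist, ← pow_mul, Nat.mul_comm, hl'] at h2
      rw [Char.conjChar_coe, Char.conjChar_coe, pow_zero, Char.conjFun_one]
      exact h2
    · exact fun h => absurd (Finset.mem_range.2 hp.out.pos) h
  by_cases hG : ∃ x, x ∉ M ∧ Char.conjFun M η.1 x ∈ galOrb p η.1
  · -- the conjugates are Galois conjugate
    have hgal := hgal' hG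
    have hpowgal : ∀ i, conjPow M g₀ i η.1 ∈ galOrb p η.1 := by
      intro i
      induction i with
      | zero =>
        exact mem_galOrb.2 ⟨1, hp.out.not_dvd_one, funext fun m => by
          simp [twist, conjPow, Char.conjFun_one]⟩
      | succ i hi =>
        obtain ⟨k, hk, hkk⟩ := mem_galOrb.1 hgal
        obtain ⟨l, hl, hll⟩ := mem_galOrb.1 hi
        refine mem_galOrb.2 ⟨k * l, fun h => (hp.out.dvd_mul.1 h).elim hk hl, funext fun m => ?_⟩
        rw [conjPow, pow_succ, Char.conjFun_mul]
        show η.1 (m ^ (k * l)) = _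
        have h1 : ∀ m', Char.conjFun M η.1 (g₀ ^ i) m' = η.1 (m' ^ l) :=
          fun m' => (congrFun hll m').symm
        have h2 : ∀ m', Char.conjFun M η.1 g₀ m' = η.1 (m' ^ k) :=
          fun m' => (congrFun hkk m').symm
        simp only [Char.conjFun] at h1 h2 ⊢
        first
          | rw [h1, ← map_pow, h2, ← pow_mul, Nat.mul_comm]
          | rw [h2, ← map_pow, h1, ← pow_mul]
    have hfaithη : ∀ m : M, η.1 m = η.1 1 → m = 1 := by
      intro m hm
      refine Subtype.ext (hfaith m ?_)
      have hm' : ∀ i, conjPow M g₀ i η.1 m = η.1 1 := by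
        intro i
        obtain ⟨l, -, hll⟩ := mem_galOrb.1 (hpowgal i)
        rw [← hll]
        exact (pow_mem (show m ∈ CharInt.charKernel (Char.irr_isCharacter η) from hm) l :)
      rw [show χ.1 1 = χ.1 ((1 : M) : P) from rfl, hres', hres',
        Finset.sum_congr rfl fun i _ => hm' i]
      exact Finset.sum_congr rfl fun i _ => (Char.conjFun_apply_one M η.1 (g₀ ^ i)).symm
    have hDη : (galOrb p η.1).ncard = (p - 1) * p ^ (t + 1) := by
      set A := (finite_galOrb (p := p) η.1).toFinset with hA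
      set B := (finite_galOrb (p := p) χ.1).toFinset with hB
      have hmap : Set.MapsTo ψ ↑A ↑B := fun F hF => by
        obtain ⟨k, hk, rfl⟩ := mem_galOrb.1 ((Set.Finite.mem_toFinset _).1 (Finset.mem_coe.1 hF))
        exact Finset.mem_coe.2 ((Set.Finite.mem_toFinset _).2 (mem_galOrb.2 ⟨k, hk, (hψ k hk).symm⟩))
      have hfib : ∀ F' ∈ B, (A.filter fun F => ψ F = F').card = p := by
        intro F' hF'
        obtain ⟨k, hk, rfl⟩ := mem_galOrb.1 ((Set.Finite.mem_toFinset _).1 hF')
        conv_rhs => rw [← Finset.card_range p]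
        symm
        have hA' : ∀ i, ∃ l, ¬ p ∣ l ∧ twist η.1 l = conjPow M g₀ i (twist η.1 k) := by
          intro i
          obtain ⟨l, hl, hll⟩ := mem_galOrb.1 (hpowgal i)
          refine ⟨k * l, fun h => (hp.out.dvd_mul.1 h).elim hk hl, ?_⟩
          rw [conjPow_twist, ← hll]
          funext m
          simp only [twist, pow_mul]
        refine Finset.card_bij (fun i _ => conjPow M g₀ i (twist η.1 k)) (fun i hi => ?_)
          (fun i hi j hj hij => ?_) fun F hF => ?_
        · obtain ⟨l, hl, hll⟩ := hA' i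
          rw [Finset.mem_filter, ← hll]
          refine ⟨(Set.Finite.mem_toFinset _).2 (mem_galOrb.2 ⟨l, hl, rfl⟩), ?_⟩
          rw [hψ l hl]
          obtain ⟨w, hw, hww⟩ := mem_galOrb.1 (hpowgal i)
          funext g
          by_cases hg : g ∈ M
          · have e1 : χ.1 (g ^ l) = χ.1 (g₀ ^ i * g ^ k * (g₀ ^ i)⁻¹) := by
              rw [show g₀ ^ i * g ^ k * (g₀ ^ i)⁻¹ =
                ((MulAut.conjNormal (g₀ ^ i) ((⟨g, hg⟩ : M) ^ k) : M) : P) from
                  (by rw [MulAut.conjNormal_apply]; rfl),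
                show g ^ l = (((⟨g, hg⟩ : M) ^ l : M) : P) by simp, hres', hres']
              have hpt : ∀ m : M, η.1 (m ^ l) = η.1 (MulAut.conjNormal (g₀ ^ i) (m ^ k)) := fun m => by
                have := congrFun hll m
                simpa [twist, conjPow, Char.conjFun] using this
              refine Finset.sum_congr rfl fun j _ => ?_
              simp only [conjPow, Char.conjFun, map_pow, hpt]
              rw [← MulAut.mul_apply, ← MulAut.mul_apply, ← pow_add, ← pow_add, add_comm]
            show χ.1 (g ^ l) = χ.1 (g ^ k)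
            rw [e1]
            exact Char.IsCharacter.isClassFunction (Char.irr_isCharacter χ) _ _
          · show χ.1 (g ^ l) = χ.1 (g ^ k)
            have hn : ∀ j, ¬ p ∣ j → g ^ j ∉ M := fun j hj hmem => hg (by
              obtain ⟨j', -, hj'⟩ := exists_inverse hP hj
              rw [← hj' g, pow_mul]; exact pow_mem hmem _)
            rw [hvan _ (hn l hl), hvan _ (hn k hk)]
        · obtain ⟨k', -, hk'⟩ := exists_inverse hMcard hk
          refine hinjOn hi hj (Subtype.ext (funext fun m => ?_))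
          have h2 := congrFun hij (m ^ k')
          rw [conjPow_twist, conjPow_twist, twist, twist, ← pow_mul, Nat.mul_comm, hk'] at h2
          exact h2
        · obtain ⟨hF1, hF2⟩ := Finset.mem_filter.1 hF
          obtain ⟨l, hl, rfl⟩ := mem_galOrb.1 ((Set.Finite.mem_toFinset _).1 hF1)
          rw [hψ l hl] at hF2
          obtain ⟨i, hi, hii⟩ := hsep k l hk hl hF2.symm
          exact ⟨i, Finset.mem_range.2 hi, hii⟩
      rw [Set.ncard_eq_toFinset_card _ (finite_galOrb (p := p) η.1), ← hA,
        Finset.card_eq_sum_card_fiberwise hmap, Finset.sum_congr rfl hfib, Finset.sum_const,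
        smul_eq_mul, hB, ← Set.ncard_eq_toFinset_card _ (finite_galOrb (p := p) χ.1), hD]
      ring
    have h1 := ih (P := M) hMcard (by omega) η hfaithη f' (t + 1) hf' hDη
    subst hff
    have h2 : 2 ≤ p := hp.out.two_le
    have h3 : (1 : ℕ) ≤ p * f' := Nat.mul_pos hp.out.pos hf'pos
    zify [hf'pos, h3, show 1 ≤ p by omega] at h1 ⊢
    nlinarith [mul_le_mul_of_nonneg_left (show (1 : ℤ) ≤ f' by exact_mod_cast hf'pos)
      (mul_self_nonneg ((p : ℤ) - 1)),
      mul_nonneg (mul_nonneg (show (0 : ℤ) ≤ f' by positivity) (show (0 : ℤ) ≤ t by positivity))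
      (mul_self_nonneg ((p : ℤ) - 1))]
  · -- the conjugates are not Galois conjugate
    push Not at hG
    have hno : ∀ i, i < p → ∀ k l, ¬ p ∣ k → ¬ p ∣ l →
        conjPow M g₀ i (twist η.1 k) = twist η.1 l → i = 0 := by
      intro i hi k l hk hl he
      by_contra hi0
      refine hG (g₀ ^ i) (fun hmem => ?_) ?_
      · have h1 : ((g₀ : P ⧸ M)) ^ i = 1 := (QuotientGroup.eq_one_iff _).2 hmem
        have h2 : orderOf (g₀ : P ⧸ M) = p := by
          refine orderOf_eq_prime (by rw [← hidx, Subgroup.index_eq_card, pow_card_eq_one']) ?_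
          exact fun h => hg₀ ((QuotientGroup.eq_one_iff g₀).1 h)
        exact hi0 (Nat.eq_zero_of_dvd_of_lt (h2 ▸ orderOf_dvd_of_pow_eq_one h1) hi)
      · obtain ⟨k', hk', hkk⟩ := exists_inverse hMcard hk
        refine mem_galOrb.2 ⟨l * k', fun h => (hp.out.dvd_mul.1 h).elim hl hk', funext fun m => ?_⟩
        have h2 := congrFun he (m ^ k')
        rw [conjPow_twist, twist, twist, ← pow_mul, ← pow_mul, Nat.mul_comm k' k, hkk] at h2
        rw [twist, Nat.mul_comm l k', ← h2]
        rfl
    have hDη : (galOrb p η.1).ncard = (galOrb p χ.1).ncard := by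
      rw [show galOrb p χ.1 = ψ '' galOrb p η.1 by
        ext F
        simp only [Set.mem_image, mem_galOrb]
        exact ⟨fun ⟨k, hk, hF⟩ => ⟨_, ⟨k, hk, rfl⟩, (hψ k hk).trans hF⟩,
          fun ⟨_, ⟨k, hk, rfl⟩, hF⟩ => ⟨k, hk, (hψ k hk).symm.trans hF⟩⟩,
        Set.ncard_image_of_injOn]
      rintro _ ⟨⟨k, hk⟩, rfl⟩ _ ⟨⟨l, hl⟩, rfl⟩ hkl
      rw [hψ k hk, hψ l hl] at hkl
      obtain ⟨i, hi, hii⟩ := hsep k l hk hl hkl
      rw [hno i hi k l hk hl hii] at hii
      simpa [conjPow, Char.conjFun_one] using hii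
    -- each kernel quotient
    let K : Fin p → Subgroup M := fun i =>
      CharInt.charKernel (Char.irr_isCharacter (Char.conjChar M η (g₀ ^ (i : ℕ))))
    haveI hKn : ∀ i, (K i).Normal := fun i => CharInt.charKernel_normal _
    have hquot : ∀ i : Fin p, ∃ c, Nat.card (M ⧸ K i) = p ^ c ∧
        (p - 1) * c ≤ (f' - 1) + (p - 1) * (t + 1) * f' := by
      intro i
      obtain ⟨c, hc⟩ := IsPGroup.iff_card.1 ((IsPGroup.of_card hMcard).to_quotient (K i))
      refine ⟨c, hc, ?_⟩
      obtain ⟨ψ', hψ'⟩ := Char.exists_descend (K i) (Char.conjChar M η (g₀ ^ (i : ℕ))) fun m hm => hm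
      have hcb : c ≤ n := by
        have h1 := Subgroup.card_quotient_dvd_card (K i)
        rw [hc, hMcard] at h1
        have := (Nat.pow_dvd_pow_iff_le_right hp.out.one_lt).1 h1
        omega
      refine ih (P := M ⧸ K i) hc hcb ψ' (fun q hq => ?_) f' t ?_ ?_
      · obtain ⟨m, rfl⟩ := QuotientGroup.mk_surjective q
        rw [← QuotientGroup.mk_one, hψ', hψ'] at hq
        exact (QuotientGroup.eq_one_iff m).2 hq
      · rw [← QuotientGroup.mk_one, hψ']
        exact (Char.conjFun_apply_one M η.1 _).trans hf'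
      · rw [← hD, ← hDη]
        let Λ : ((M ⧸ K i) → ℂ) → M → ℂ := fun F m => F (m : M ⧸ K i)
        have hΛ : Function.Injective Λ := fun F F' h => funext fun q => by
          obtain ⟨m, rfl⟩ := QuotientGroup.mk_surjective q
          exact congrFun h m
        let C : (M → ℂ) → M → ℂ := conjPow M g₀ i
        have hC : Function.Injective C := fun F F' h => funext fun m => by
          have := congrFun h ((MulAut.conjNormal (g₀ ^ (i : ℕ))).symm m)
          simpa [C, conjPow, Char.conjFun] using this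
        rw [← Set.ncard_image_of_injective _ hΛ, ← Set.ncard_image_of_injective (galOrb p η.1) hC]
        congr 1
        simp only [galOrb, ← Set.range_comp]
        refine congrArg Set.range (funext fun k => funext fun m => ?_)
        show ψ'.1 ((m : M ⧸ K i) ^ k.1) = conjPow M g₀ i (twist η.1 k.1) m
        rw [← QuotientGroup.mk_pow, hψ', conjPow_twist]
        rfl
    choose c hc hcle using hquot
    have hdiag : Function.Injective (fun m : M => fun i : Fin p => (m : M ⧸ K i)) := by
      intro m m' h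
      refine inv_mul_eq_one.1 (Subtype.ext (hfaith _ ?_))
      rw [show χ.1 1 = χ.1 ((1 : M) : P) from rfl, hres', hres']
      refine Finset.sum_congr rfl fun i hi => ?_
      exact QuotientGroup.eq.1 (congrFun h ⟨i, Finset.mem_range.1 hi⟩)
    have hsum : b ≤ ∑ i, c i := by
      have h1 := Nat.card_le_card_of_injective _ hdiag
      rw [hMcard, Nat.card_pi, Finset.prod_congr rfl fun i _ => hc i, Finset.prod_pow_eq_pow_sum]
        at h1
      exact (Nat.pow_le_pow_iff_right hp.out.one_lt).1 h1
    have h1 : (p - 1) * ∑ i, c i ≤ p * ((f' - 1) + (p - 1) * (t + 1) * f') := by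
      rw [Finset.mul_sum]
      refine (Finset.sum_le_card_nsmul _ _ _ fun i _ => hcle i).trans ?_
      rw [Finset.card_univ, Fintype.card_fin, smul_eq_mul]
    have h2 := (Nat.mul_le_mul_left (p - 1) hsum).trans h1
    subst hff
    have h4 : 2 ≤ p := hp.out.two_le
    have h3 : (1 : ℕ) ≤ p * f' := Nat.mul_pos hp.out.pos hf'pos
    zify [hf'pos, h3, show 1 ≤ p by omega] at h2 ⊢
    linarith

end Cfsg.Agent.Char.PField
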