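import Cfsg.Agent.Lib.Char.BrauerPermChar
import Cfsg.Agent.Lib.Blocks.ModReduction
import Cfsg.Agent.Lib.CharInt.Basic
import Cfsg.Agent.Lib.CharInt.Kazarin

/-!
# Orbits of size prime to `p` on characters and classes of a `p'`-group

Two compatible actions on the irreducible characters and on the classes of a group of order prime
to `p` have the same number of orbits of size prime to `p`: the orbit table is invertible modulo a
prime above `p` and intertwines the two diagonal matrices of orbit sizes.
-/

set_option autoImplicit false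
set_option linter.style.haveILetI false

namespace Cfsg.Agent.Char

open Cfsg Matrix
open scoped ComplexConjugate

universe u v

variable {K : Type u} [Group K]

open Classical in
theorem pPrime_orbits_le_aux {R : Type*} [CommRing R] (hR : IsField R) {a b : Type*} [Fintype a] [Fintype b]
    (V : Matrix b a R) (S : Matrix a b R) (wa : a → R) (wb : b → R)
    (h : Matrix.diagonal wb = V * Matrix.diagonal wa * S) :
    Fintype.card {j // wb j ≠ 0} ≤ Fintype.card {i // wa i ≠ 0} := by
  letI := hR.toField
  rw [← Matrix.rank_diagonal, ← Matrix.rank_diagonal, h]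
  exact (Matrix.rank_mul_le_left _ _).trans (Matrix.rank_mul_le_right _ _)

open Classical in
/-- Equal numbers of orbits of size prime to `p`. -/
theorem card_pPrime_orbits_eq [Fintype K] {p : ℕ} [hp : Fact p.Prime] (hK : ¬ p ∣ Nat.card K)
    {B : Type v} [Group B] [Finite B] [MulAction B (IrrCharacter K)] [MulAction B (ConjClasses K)]
    (h : ∀ (b : B) (χ : IrrCharacter K) (c : ConjClasses K),
      classValue (b • χ) (b • c) = classValue χ c) :
    Nat.card {i : MulAction.orbitRel.Quotient B (IrrCharacter K) //
        ¬ p ∣ Nat.card {x : IrrCharacter K // Quotient.mk'' x = i}} =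
      Nat.card {j : MulAction.orbitRel.Quotient B (ConjClasses K) //
        ¬ p ∣ Nat.card {c : ConjClasses K // Quotient.mk'' c = j}} := by
  haveI : Finite (ConjClasses K) := Finite.of_surjective _ ConjClasses.mk_surjective
  haveI := Fintype.ofFinite (ConjClasses K)
  haveI := Fintype.ofFinite (MulAction.orbitRel.Quotient B (IrrCharacter K))
  haveI := Fintype.ofFinite (MulAction.orbitRel.Quotient B (ConjClasses K))
  obtain ⟨M, hM⟩ := CharInt.exists_isPModular_of_prime (q := p) hp.out
  haveI := hM.2.1
  have hpM : (p : AlgInt) ∈ M := hM.2.2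
  set X : Matrix (ConjClasses K) (IrrCharacter K) ℂ :=
    Matrix.of fun c χ => classValue χ c with hX
  set Y : Matrix (IrrCharacter K) (ConjClasses K) ℂ := Matrix.of fun χ c =>
    (Nat.card (Subgroup.centralizer ({Quotient.out c} : Set K)) : ℂ)⁻¹ *
      conj (classValue χ c) with hY
  have hXY : X * Y = 1 := by
    ext c d
    rw [Matrix.mul_apply, Matrix.one_apply]
    simp only [hX, hY, Matrix.of_apply, mul_left_comm (classValue _ c), ← Finset.mul_sum]
    simp only [classValue]
    rw [sum_irr_mul_conj]
    by_cases hcd : c = d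
    · subst hcd
      rw [if_pos (IsConj.refl _), if_pos rfl,
        inv_mul_cancel₀ (Nat.cast_ne_zero.2 Nat.card_pos.ne')]
    · rw [if_neg hcd, if_neg, mul_zero]
      intro hc
      refine hcd ?_
      have := ConjClasses.mk_eq_mk_iff_isConj.2 hc
      rw [← Quotient.out_eq c, ← Quotient.out_eq d]
      exact this
  have hYX : Y * X = 1 := by
    refine (Matrix.mul_eq_one_comm_of_equiv ?_).1 hXY
    refine Fintype.equivOfCardEq ?_
    rw [← Nat.card_eq_fintype_card, ← Nat.card_eq_fintype_card, card_irr]
  have hcen : ∀ (b : B) (c : ConjClasses K), Nat.card (Subgroup.centralizer ({Quotient.out (b • c)} : Set K)) =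
      Nat.card (Subgroup.centralizer ({Quotient.out c} : Set K)) := by
    intro b c
    have h1 := sum_irr_mul_conj (Quotient.out (b • c)) (Quotient.out (b • c))
    have h2 := sum_irr_mul_conj (Quotient.out c) (Quotient.out c)
    rw [if_pos (IsConj.refl _)] at h1 h2
    rw [← Equiv.sum_comp (MulAction.toPerm b)] at h1
    have h3 : ∀ χ : IrrCharacter K,
        (MulAction.toPerm b χ : IrrCharacter K).1 (Quotient.out (b • c)) = χ.1 (Quotient.out c) :=
      fun χ => h b χ c
    simp only [h3] at h1
    exact_mod_cast h1.symm.trans h2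
  have hYinv : ∀ (b : B) (χ : IrrCharacter K) (c : ConjClasses K), Y (b • χ) (b • c) = Y χ c := fun b χ c => by
    simp only [hY, Matrix.of_apply, hcen, h]
  have hint : ∀ (χ : IrrCharacter K) (c : ConjClasses K), MemLocalRing M (classValue χ c) := fun χ c =>
    Blocks.memLocalRing_of_isIntegral (CharInt.isIntegral_char (irr_isCharacter χ) _)
  have hYint : ∀ χ c, MemLocalRing M (Y χ c) := fun χ c => by
    refine Blocks.MemLocalRing.mul (Blocks.memLocalRing_inv_natCast hpM fun hd => hK
      (hd.trans (Subgroup.card_subgroup_dvd_card _))) (Blocks.memLocalRing_of_isIntegral ?_)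
    exact IsIntegral.map (starRingEnd ℂ).toIntAlgHom (CharInt.isIntegral_char (irr_isCharacter χ) _)
  -- orbit data
  let ox : IrrCharacter K → MulAction.orbitRel.Quotient B (IrrCharacter K) := Quotient.mk''
  let oc : ConjClasses K → MulAction.orbitRel.Quotient B (ConjClasses K) := Quotient.mk''
  have hox : ∀ (b : B) (χ : IrrCharacter K), ox (b • χ) = ox χ := fun b χ =>
    Quotient.sound' (MulAction.orbitRel_apply.2 ⟨b, rfl⟩)
  have hoc : ∀ (b : B) (c : ConjClasses K), oc (b • c) = oc c := fun b c =>
    Quotient.sound' (MulAction.orbitRel_apply.2 ⟨b, rfl⟩)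
  have hsame : ∀ χ : IrrCharacter K, ∃ b : B, b • (ox χ).out = χ := fun χ =>
    MulAction.orbitRel_apply.1 (Quotient.exact' (Quotient.out_eq' (ox χ)).symm)
  have hsamec : ∀ c : ConjClasses K, ∃ b : B, b • (oc c).out = c := fun c =>
    MulAction.orbitRel_apply.1 (Quotient.exact' (Quotient.out_eq' (oc c)).symm)
  -- sums
  have hA : ∀ i (b : B) (c : ConjClasses K), ∑ χ ∈ Finset.univ.filter (ox · = i), classValue χ (b • c) =
      ∑ χ ∈ Finset.univ.filter (ox · = i), classValue χ c := fun i b c => by
    refine (Finset.sum_equiv (MulAction.toPerm b) (fun χ => by simp [hox]) fun χ _ => ?_).symm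
    exact (h b χ c).symm
  have hB : ∀ j (b : B) (χ : IrrCharacter K), ∑ c ∈ Finset.univ.filter (oc · = j), classValue (b • χ) c =
      ∑ c ∈ Finset.univ.filter (oc · = j), classValue χ c := fun j b χ => by
    refine (Finset.sum_equiv (MulAction.toPerm b) (fun c => by simp [hoc]) fun c _ => ?_).symm
    exact (h b χ c).symm
  have hC : ∀ j (b : B) (χ : IrrCharacter K), ∑ c ∈ Finset.univ.filter (oc · = j), Y (b • χ) c =
      ∑ c ∈ Finset.univ.filter (oc · = j), Y χ c := fun j b χ => by
    refine (Finset.sum_equiv (MulAction.toPerm b) (fun c => by simp [hoc]) fun c _ => ?_).symm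
    exact (hYinv b χ c).symm
  have hD : ∀ i (b : B) (c : ConjClasses K), ∑ χ ∈ Finset.univ.filter (ox · = i), Y χ (b • c) =
      ∑ χ ∈ Finset.univ.filter (ox · = i), Y χ c := fun i b c => by
    refine (Finset.sum_equiv (MulAction.toPerm b) (fun χ => by simp [hox]) fun χ _ => ?_).symm
    exact (hYinv b χ c).symm
  let U : Matrix (MulAction.orbitRel.Quotient B (IrrCharacter K))
      (MulAction.orbitRel.Quotient B (ConjClasses K)) ℂ :=
    Matrix.of fun i j => ∑ χ ∈ Finset.univ.filter (ox · = i), classValue χ j.out
  let V : Matrix (MulAction.orbitRel.Quotient B (ConjClasses K))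
      (MulAction.orbitRel.Quotient B (IrrCharacter K)) ℂ :=
    Matrix.of fun j i => ∑ c ∈ Finset.univ.filter (oc · = j), Y i.out c
  let S : Matrix (MulAction.orbitRel.Quotient B (IrrCharacter K))
      (MulAction.orbitRel.Quotient B (ConjClasses K)) ℂ :=
    Matrix.of fun i j => ∑ c ∈ Finset.univ.filter (oc · = j), classValue i.out c
  let S' : Matrix (MulAction.orbitRel.Quotient B (ConjClasses K))
      (MulAction.orbitRel.Quotient B (IrrCharacter K)) ℂ :=
    Matrix.of fun j i => ∑ χ ∈ Finset.univ.filter (ox · = i), Y χ j.out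
  have hUV : U * V = 1 := by
    ext i i'
    rw [Matrix.mul_apply, Matrix.one_apply]
    have e : ∀ j, U i j * V j i' = ∑ c ∈ Finset.univ.filter (oc · = j),
        (∑ χ ∈ Finset.univ.filter (ox · = i), classValue χ c) * Y i'.out c := by
      intro j
      simp only [U, V, Matrix.of_apply, Finset.mul_sum]
      refine Finset.sum_congr rfl fun c hc => ?_
      obtain ⟨b, hb⟩ := hsamec c
      rw [(Finset.mem_filter.1 hc).2] at hb
      rw [← hA i b, hb]
    rw [Finset.sum_congr rfl fun j _ => e j, Finset.sum_fiberwise]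
    simp only [Finset.sum_mul]
    rw [Finset.sum_comm]
    have e2 : ∀ χ, ∑ c, classValue χ c * Y i'.out c = if i'.out = χ then (1 : ℂ) else 0 := fun χ => by
      have := congrFun (congrFun hYX i'.out) χ
      rw [Matrix.mul_apply, Matrix.one_apply] at this
      rw [← this]
      exact Finset.sum_congr rfl fun c _ => by simp only [hX, Matrix.of_apply]; ring
    simp only [e2, Finset.sum_ite_eq, Finset.mem_filter, Finset.mem_univ, true_and]
    simp only [ox, Quotient.out_eq', eq_comm]
  have hcardq : Fintype.card (MulAction.orbitRel.Quotient B (IrrCharacter K)) =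
      Fintype.card (MulAction.orbitRel.Quotient B (ConjClasses K)) := by
    rw [← Nat.card_eq_fintype_card, ← Nat.card_eq_fintype_card]
    exact card_orbits_irr_eq_classes h
  have hVU : V * U = 1 :=
    (Matrix.mul_eq_one_comm_of_equiv (Fintype.equivOfCardEq hcardq)).1 hUV
  let wx : MulAction.orbitRel.Quotient B (IrrCharacter K) → ℂ :=
    fun i => ((Finset.univ.filter (ox · = i)).card : ℂ)
  let wc : MulAction.orbitRel.Quotient B (ConjClasses K) → ℂ :=
    fun j => ((Finset.univ.filter (oc · = j)).card : ℂ)
  have hUD : U * Matrix.diagonal wc = Matrix.diagonal wx * S := by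
    ext i j
    rw [Matrix.mul_diagonal, Matrix.diagonal_mul]
    simp only [U, S, wx, wc, Matrix.of_apply]
    rw [mul_comm, ← nsmul_eq_mul, ← nsmul_eq_mul, ← Finset.sum_const, ← Finset.sum_const]
    calc ∑ _c ∈ Finset.univ.filter (oc · = j), ∑ χ ∈ Finset.univ.filter (ox · = i), classValue χ j.out
        = ∑ c ∈ Finset.univ.filter (oc · = j), ∑ χ ∈ Finset.univ.filter (ox · = i), classValue χ c := by
          refine Finset.sum_congr rfl fun c hc => ?_
          obtain ⟨b, hb⟩ := hsamec c
          rw [(Finset.mem_filter.1 hc).2] at hb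
          rw [← hb, hA]
      _ = _ := by
        rw [Finset.sum_comm]
        refine Finset.sum_congr rfl fun χ hχ => ?_
        obtain ⟨b, hb⟩ := hsame χ
        rw [(Finset.mem_filter.1 hχ).2] at hb
        rw [← hb, hB]
  have hVD : V * Matrix.diagonal wx = Matrix.diagonal wc * S' := by
    ext j i
    rw [Matrix.mul_diagonal, Matrix.diagonal_mul]
    simp only [V, S', wx, wc, Matrix.of_apply]
    rw [mul_comm, ← nsmul_eq_mul, ← nsmul_eq_mul, ← Finset.sum_const, ← Finset.sum_const]
    calc ∑ _χ ∈ Finset.univ.filter (ox · = i), ∑ c ∈ Finset.univ.filter (oc · = j), Y i.out c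
        = ∑ χ ∈ Finset.univ.filter (ox · = i), ∑ c ∈ Finset.univ.filter (oc · = j), Y χ c := by
          refine Finset.sum_congr rfl fun χ hχ => ?_
          obtain ⟨b, hb⟩ := hsame χ
          rw [(Finset.mem_filter.1 hχ).2] at hb
          rw [← hb, hC]
      _ = _ := by
        refine Finset.sum_comm.trans (Finset.sum_congr rfl fun c hc => ?_)
        obtain ⟨b, hb⟩ := hsamec c
        rw [(Finset.mem_filter.1 hc).2] at hb
        rw [← hb, hD]
  -- integral versions
  let U' : Matrix _ _ (Blocks.localInt M) := Matrix.of fun i j =>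
    ⟨U i j, Blocks.MemLocalRing.sum _ fun χ _ => hint χ _⟩
  let V' : Matrix _ _ (Blocks.localInt M) := Matrix.of fun j i =>
    ⟨V j i, Blocks.MemLocalRing.sum _ fun c _ => hYint _ c⟩
  let S₁ : Matrix _ _ (Blocks.localInt M) := Matrix.of fun i j =>
    ⟨S i j, Blocks.MemLocalRing.sum _ fun c _ => hint _ c⟩
  let S₂ : Matrix _ _ (Blocks.localInt M) := Matrix.of fun j i =>
    ⟨S' j i, Blocks.MemLocalRing.sum _ fun χ _ => hYint χ _⟩
  let wx' : MulAction.orbitRel.Quotient B (IrrCharacter K) → Blocks.localInt M :=
    fun i => ((Finset.univ.filter (ox · = i)).card : ℕ)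
  let wc' : MulAction.orbitRel.Quotient B (ConjClasses K) → Blocks.localInt M :=
    fun j => ((Finset.univ.filter (oc · = j)).card : ℕ)
  set ι := (Blocks.localInt M).subtype
  have hU : U'.map ι = U := by ext i j; rfl
  have hV : V'.map ι = V := by ext i j; rfl
  have hS : S₁.map ι = S := by ext i j; rfl
  have hS' : S₂.map ι = S' := by ext i j; rfl
  have hdx : (Matrix.diagonal wx').map ι = Matrix.diagonal wx := by
    rw [Matrix.diagonal_map (map_zero ι)]; simp [wx', wx, Function.comp_def]
  have hdc : (Matrix.diagonal wc').map ι = Matrix.diagonal wc := by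
    rw [Matrix.diagonal_map (map_zero ι)]; simp [wc', wc, Function.comp_def]
  have e1 : Matrix.diagonal wc' = V' * Matrix.diagonal wx' * S₁ := by
    refine Matrix.map_injective (f := ι) Subtype.val_injective ?_
    show (Matrix.diagonal wc').map ι = (V' * Matrix.diagonal wx' * S₁).map ι
    rw [Matrix.map_mul, Matrix.map_mul, hdc, hdx, hV, hS, Matrix.mul_assoc, ← hUD,
      ← Matrix.mul_assoc, hVU, Matrix.one_mul]
  have e2 : Matrix.diagonal wx' = U' * Matrix.diagonal wc' * S₂ := by
    refine Matrix.map_injective (f := ι) Subtype.val_injective ?_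
    show (Matrix.diagonal wx').map ι = (U' * Matrix.diagonal wc' * S₂).map ι
    rw [Matrix.map_mul, Matrix.map_mul, hdc, hdx, hU, hS', Matrix.mul_assoc, ← hVD,
      ← Matrix.mul_assoc, hUV, Matrix.one_mul]
  set φ := Blocks.redHom M
  have r1 := congrArg (fun N => N.map φ) e1
  have r2 := congrArg (fun N => N.map φ) e2
  simp only [Matrix.map_mul, Matrix.diagonal_map (map_zero φ)] at r1 r2
  haveI := Blocks.charP_residue (p := p) hpM
  have hF : IsField (AlgInt ⧸ M) := (Ideal.Quotient.maximal_ideal_iff_isField_quotient M).1 inferInstance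
  have l1 := pPrime_orbits_le_aux hF (V'.map φ) (S₁.map φ) (fun m => φ (wx' m))
    (fun m => φ (wc' m)) (by convert r1)
  have l2 := pPrime_orbits_le_aux hF (U'.map φ) (S₂.map φ) (fun m => φ (wc' m))
    (fun m => φ (wx' m)) (by convert r2)
  have key := le_antisymm l2 l1
  simp only [wx', wc', Function.comp_apply, map_natCast, ne_eq,
    CharP.cast_eq_zero_iff (AlgInt ⧸ M) p] at key
  simp only [Nat.card_eq_fintype_card, Fintype.card_subtype] at key ⊢
  exact key

end Cfsg.Agent.Char
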