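import Cfsg.Agent.Lib.Char.PRegular
import Cfsg.Agent.Lib.Blocks.Core

/-!
# `p^k χ°` inside the span of a block
-/

namespace Cfsg.Agent.Char

open scoped ComplexConjugate

set_option linter.style.haveILetI false

universe u

variable {G : Type u} [Group G] [Fintype G] {p : ℕ} {M : Ideal AlgInt}

theorem classInner_regFun_of_not_sameBlock [M.IsMaximal] (hpM : (p : AlgInt) ∈ M) (hp : p.Prime)
    {χ ψ : IrrCharacter G} (h : ¬ SameBlock M χ.1 ψ.1) : classInner (regFun p χ.1) ψ.1 = 0 := by
  classical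
  haveI := Fact.mk hp
  rw [classInner]
  have := Blocks.regular_orthogonality hpM h
  rw [Finset.sum_filter] at this
  rw [show ∑ g, regFun p χ.1 g * conj (ψ.1 g) =
      ∑ g, if IsPRegular p g then χ.1 g * conj (ψ.1 g) else 0 from
    Finset.sum_congr rfl fun g _ => by
      by_cases hg : p ∣ orderOf g
      · rw [regFun, if_pos hg, if_neg (show ¬ IsPRegular p g from fun h' => h' hg), zero_mul]
      · rw [regFun, if_neg hg, if_pos (show IsPRegular p g from hg)],
    this, mul_zero]

/-- `p^k χ°` is an integer combination of the block of `χ` whenever `a - b ≤ k`. -/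
theorem exists_block_coeff [M.IsMaximal] (hpM : (p : AlgInt) ∈ M) (hp : p.Prime)
    {B : Set (IrrCharacter G)} (hB : IsPBlock M B) {χ : IrrCharacter G} (hχ : χ ∈ B) {k : ℕ}
    (hk : (Nat.card G).factorization p - (degree χ).factorization p ≤ k) :
    ∃ c : IrrCharacter G → ℤ, (∀ ψ, ψ ∉ B → c ψ = 0) ∧
      ∀ x, ((p ^ k : ℕ) : ℂ) * regFun p χ.1 x = ∑ ψ, (c ψ : ℂ) * ψ.1 x := by
  classical
  have hgen : IsGeneralizedCharacter G (((p ^ k : ℕ) : ℂ) • regFun p χ.1) := by
    have h := IsGeneralizedCharacter.intCast_smul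
      (isGeneralizedCharacter_pPow_sub_smul_regFun hp χ)
      ((p ^ (k - ((Nat.card G).factorization p - (degree χ).factorization p)) : ℕ) : ℤ)
    rw [Int.cast_natCast, smul_smul, ← Nat.cast_mul, ← pow_add, Nat.sub_add_cancel hk] at h
    exact h
  obtain ⟨c, hc, hc'⟩ := IsGeneralizedCharacter.exists_decomp hgen
  refine ⟨c, fun ψ hψ => ?_, fun x => by simpa using congrFun hc x⟩
  have h := hc' ψ
  rw [classInner_smul_left,
    classInner_regFun_of_not_sameBlock hpM hp (Blocks.not_sameBlock_of_mem hB hχ hψ), mul_zero] at h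
  exact_mod_cast h.symm

end Cfsg.Agent.Char
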