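import Cfsg.Agent.Lib.Char.PermChar
import Cfsg.Agent.Lib.Char.Multiplicity
import Cfsg.Prelude.Def_Perm
import Mathlib.LinearAlgebra.Eigenspace.Zero
import Mathlib.LinearAlgebra.Matrix.Charpoly.Eigs

/-!
# Constituents of permutation characters and their commutants

* `comm_iff_mult_free`: the commutant of a representation is commutative iff its character is
  multiplicity-free;
* `dvd_finrank`: invariant subspaces without fixed vectors when all non-principal constituents
  have degree `f`;
* `relOp`: the operator on functions attached to a relation, with its traces;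
* `card_orbits_stabilizer`: rank as the number of orbits on pairs.
-/

set_option autoImplicit false
set_option linter.style.haveILetI false
set_option linter.unusedSectionVars false

namespace Cfsg.Agent.Char.PermConstituent

open Representation Module

variable {G : Type*} [Group G] [Fintype G]
variable {V : Type*} [AddCommGroup V] [Module ℂ V] [FiniteDimensional ℂ V]

/-- An invariant subspace has an invariant complement. -/
theorem exists_isCompl (ρ : Representation ℂ G V) (A : Subrepresentation ρ) :
    ∃ B : Subrepresentation ρ, IsCompl A.toSubmodule B.toSubmodule := by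
  haveI : NeZero (Nat.card G : ℂ) := ⟨Nat.cast_ne_zero.2 Nat.card_pos.ne'⟩
  haveI : ρ.IsSemisimpleRepresentation := inferInstance
  obtain ⟨B, hB⟩ := ComplementedLattice.exists_isCompl A
  refine ⟨B, ?_, ?_⟩
  · rw [disjoint_iff, ← Subrepresentation.toSubmodule_inf, hB.inf_eq_bot]; rfl
  · rw [codisjoint_iff, ← Subrepresentation.toSubmodule_sup, hB.sup_eq_top]; rfl

/-- Natural multiplicities. -/
theorem exists_mult (ρ : Representation ℂ G V) {χ : G → ℂ} (hχ : IsIrrCharacter G χ) :
    ∃ n : ℕ, classInner ρ.character χ = n :=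
  IsCharacter.exists_nat_classInner (isCharacter_character ρ) (IsIrrCharacter.isCharacter hχ)

/-- The multiplicity in a subrepresentation is at most that in the representation. -/
theorem exists_mult_le (ρ : Representation ℂ G V) (A : Subrepresentation ρ) {χ : G → ℂ}
    (hχ : IsIrrCharacter G χ) :
    ∃ n m : ℕ, classInner A.toRepresentation.character χ = n ∧
      classInner ρ.character χ = (n + m : ℕ) := by
  obtain ⟨B, hB⟩ := exists_isCompl ρ A
  obtain ⟨n, hn⟩ := exists_mult A.toRepresentation hχ
  obtain ⟨m, hm⟩ := exists_mult B.toRepresentation hχ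
  refine ⟨n, m, hn, ?_⟩
  rw [character_eq_add_of_isCompl ρ A B hB, classInner_add_left, hn, hm, Nat.cast_add]

/-- An intertwining map between disjoint representations is zero. -/
theorem eq_zero_of_disjoint {A : Type*} [AddCommGroup A] [Module ℂ A] [FiniteDimensional ℂ A]
    {B : Type*} [AddCommGroup B] [Module ℂ B] [FiniteDimensional ℂ B]
    (α : Representation ℂ G A) (β : Representation ℂ G B)
    (h : classInner β.character α.character = 0) (f : A →ₗ[ℂ] B)
    (hf : ∀ g x, f (α g x) = β g (f x)) : f = 0 := by
  have h0 : finrank ℂ (IntertwiningMap α β) = 0 := by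
    have h1 := classInner_character α β
    rw [h] at h1
    exact_mod_cast h1.symm
  haveI : Subsingleton (IntertwiningMap α β) := Module.finrank_zero_iff.1 h0
  have h2 := congrArg IntertwiningMap.toLinearMap (Subsingleton.elim
    (LinearMap.intertwiningMap_of_isIntertwiningMap α β f hf) (0 : IntertwiningMap α β))
  exact LinearMap.ext fun x => LinearMap.congr_fun h2 x

/-- A nonzero intertwining map exists as soon as the characters meet. -/
theorem exists_ne_zero_of_meet {A : Type*} [AddCommGroup A] [Module ℂ A] [FiniteDimensional ℂ A]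
    {B : Type*} [AddCommGroup B] [Module ℂ B] [FiniteDimensional ℂ B]
    (α : Representation ℂ G A) (β : Representation ℂ G B)
    (h : classInner β.character α.character ≠ 0) :
    ∃ f : A →ₗ[ℂ] B, f ≠ 0 ∧ ∀ g x, f (α g x) = β g (f x) := by
  have h0 : finrank ℂ (IntertwiningMap α β) ≠ 0 := by
    intro h1
    rw [classInner_character α β, h1, Nat.cast_zero] at h
    exact h rfl
  haveI : Nontrivial (IntertwiningMap α β) :=
    Module.nontrivial_of_finrank_pos (R := ℂ) (Nat.pos_of_ne_zero h0)
  obtain ⟨f, hf⟩ := exists_ne (0 : IntertwiningMap α β)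
  refine ⟨f.toLinearMap, fun h1 => hf ?_, fun g x => IntertwiningMap.isIntertwining α β f g x⟩
  exact IntertwiningMap.toLinearMap_injective α β (by simpa using h1)

/-- Two subrepresentations with the same complementary decomposition have disjoint characters
when the whole is multiplicity-free. -/
theorem classInner_compl_eq_zero (ρ : Representation ℂ G V)
    (hmf : ∀ χ : G → ℂ, IsIrrCharacter G χ →
      classInner ρ.character χ = 0 ∨ classInner ρ.character χ = 1)
    (A B : Subrepresentation ρ) (hAB : IsCompl A.toSubmodule B.toSubmodule) :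
    classInner B.toRepresentation.character A.toRepresentation.character = 0 := by
  rw [classInner_eq_sum (IsCharacter.isClassFunction (isCharacter_character _))]
  refine Finset.sum_eq_zero fun χ _ => ?_
  obtain ⟨a, ha⟩ := exists_mult A.toRepresentation χ.2
  obtain ⟨b, hb⟩ := exists_mult B.toRepresentation χ.2
  have hab : classInner ρ.character χ.1 = (a + b : ℕ) := by
    rw [character_eq_add_of_isCompl ρ A B hAB, classInner_add_left, ha, hb, Nat.cast_add]
  have : a = 0 ∨ b = 0 := by
    rcases hmf χ.1 χ.2 with h | h <;> rw [hab] at h <;> norm_cast at h <;> omega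
  rcases this with h | h
  · have h2 : classInner χ.1 A.toRepresentation.character = 0 := by
      rw [← conj_classInner, ha, h]
      simp
    rw [h2, mul_zero]
  · rw [hb, h]
    simp

/-- In a multiplicity-free representation every invariant subspace is stable under the
commutant. -/
theorem stable_of_mult_free (ρ : Representation ℂ G V)
    (hmf : ∀ χ : G → ℂ, IsIrrCharacter G χ →
      classInner ρ.character χ = 0 ∨ classInner ρ.character χ = 1)
    (A : Subrepresentation ρ) (T : V →ₗ[ℂ] V) (hT : ∀ g x, T (ρ g x) = ρ g (T x))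
    {x : V} (hx : x ∈ A.toSubmodule) : T x ∈ A.toSubmodule := by
  obtain ⟨B, hAB⟩ := exists_isCompl ρ A
  let e := prodEquivOfIsCompl ρ A B hAB
  let p : V →ₗ[ℂ] B.toSubmodule :=
    Submodule.projectionOnto B.toSubmodule A.toSubmodule hAB.symm
  have hp : ∀ g v, p (ρ g v) = B.toRepresentation g (p v) := by
    intro g v
    have hv : ∃ a ∈ A.toSubmodule, ∃ b ∈ B.toSubmodule, v = a + b := by
      obtain ⟨a, ha, b, hb, h⟩ := Submodule.mem_sup.1
        (show v ∈ A.toSubmodule ⊔ B.toSubmodule by rw [hAB.sup_eq_top]; trivial)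
      exact ⟨a, ha, b, hb, h.symm⟩
    obtain ⟨a, ha, b, hb, rfl⟩ := hv
    rw [map_add (ρ g)]
    simp only [p, map_add]
    rw [Submodule.projectionOnto_apply_right _ ⟨ρ g a, A.apply_mem_toSubmodule g ha⟩,
      Submodule.projectionOnto_apply_right _ ⟨a, ha⟩,
      Submodule.projectionOnto_apply_left _ ⟨ρ g b, B.apply_mem_toSubmodule g hb⟩,
      Submodule.projectionOnto_apply_left _ ⟨b, hb⟩]
    simp only [map_zero, zero_add]
    rfl
  have hz := eq_zero_of_disjoint A.toRepresentation B.toRepresentation
    (classInner_compl_eq_zero ρ hmf A B hAB)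
    (p ∘ₗ T ∘ₗ A.toSubmodule.subtype) (fun g y => by
      show p (T (ρ g y)) = B.toRepresentation g (p (T y))
      rw [hT, hp])
  have h1 : p (T x) = 0 := LinearMap.congr_fun hz ⟨x, hx⟩
  exact (Submodule.projectionOnto_apply_eq_zero_iff hAB.symm).1 h1

/-- On an irreducible stable subspace an operator of the commutant is a scalar. -/
theorem exists_scalar (ρ : Representation ℂ G V)
    (hmf : ∀ χ : G → ℂ, IsIrrCharacter G χ →
      classInner ρ.character χ = 0 ∨ classInner ρ.character χ = 1)
    (A : Subrepresentation ρ) [A.toRepresentation.IsIrreducible] (T : V →ₗ[ℂ] V)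
    (hT : ∀ g x, T (ρ g x) = ρ g (T x)) : ∃ a : ℂ, ∀ x ∈ A.toSubmodule, T x = a • x := by
  let f : IntertwiningMap A.toRepresentation A.toRepresentation :=
    LinearMap.intertwiningMap_of_isIntertwiningMap A.toRepresentation A.toRepresentation
      (T.restrict fun x hx => stable_of_mult_free ρ hmf A T hT hx)
      (fun g x => Subtype.ext (hT g x.1))
  obtain ⟨a, ha⟩ :=
    (IsIrreducible.algebraMap_intertwiningMap_bijective_of_isAlgClosed
      (ρ := A.toRepresentation)).2 f
  refine ⟨a, fun x hx => ?_⟩
  have h1 : f ⟨x, hx⟩ = a • (⟨x, hx⟩ : A.toSubmodule) := by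
    rw [← ha, Algebra.algebraMap_eq_smul_one]
    rfl
  exact congrArg Subtype.val h1

/-- A multiplicity-free representation has commutative commutant. -/
theorem comm_of_mult_free (ρ : Representation ℂ G V)
    (hmf : ∀ χ : G → ℂ, IsIrrCharacter G χ →
      classInner ρ.character χ = 0 ∨ classInner ρ.character χ = 1)
    {S T : V →ₗ[ℂ] V} (hS : ∀ g x, S (ρ g x) = ρ g (S x)) (hT : ∀ g x, T (ρ g x) = ρ g (T x)) :
    S ∘ₗ T = T ∘ₗ S := by
  suffices H : ∀ (n : ℕ) (A : Subrepresentation ρ), finrank ℂ A.toSubmodule = n →
      ∀ x ∈ A.toSubmodule, S (T x) = T (S x) by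
    refine LinearMap.ext fun x => H _ ⊤ rfl x ?_
    exact Submodule.mem_top
  intro n
  induction n using Nat.strong_induction_on with
  | _ n ih =>
    intro A hA x hx
    rcases subsingleton_or_irreducible_or_split A.toRepresentation with h | h | ⟨C, D, hc, hC, hD⟩
    · have : x = 0 := congrArg Subtype.val (Subsingleton.elim (⟨x, hx⟩ : A.toSubmodule) 0)
      simp [this]
    · haveI := h
      obtain ⟨a, ha⟩ := exists_scalar ρ hmf A S hS
      obtain ⟨b, hb⟩ := exists_scalar ρ hmf A T hT
      rw [hb x hx, map_smul, ha x hx, map_smul, hb x hx, smul_comm]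
    · have key : ∀ E : Subrepresentation A.toRepresentation, finrank ℂ E.toSubmodule < n →
          ∀ y ∈ E.toSubmodule, S (T (y : V)) = T (S (y : V)) := by
        intro E hE y hy
        let E' : Subrepresentation ρ := ⟨E.toSubmodule.map A.toSubmodule.subtype, fun g v hv => by
          obtain ⟨u, hu, rfl⟩ := hv
          exact ⟨A.toRepresentation g u, E.apply_mem_toSubmodule g hu, rfl⟩⟩
        refine ih _ hE E' ?_ y ⟨y, hy, rfl⟩
        exact (Submodule.equivMapOfInjective _ A.toSubmodule.injective_subtype
          E.toSubmodule).finrank_eq.symm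
      rw [hA] at hC hD
      obtain ⟨c, hc', d, hd', hcd⟩ := Submodule.mem_sup.1
        (show (⟨x, hx⟩ : A.toSubmodule) ∈ C.toSubmodule ⊔ D.toSubmodule by
          rw [hc.sup_eq_top]; trivial)
      have hxe : x = (c : V) + (d : V) := (congrArg Subtype.val hcd).symm
      rw [hxe, map_add, map_add, key C hC c hc', key D hD d hd', map_add, map_add]

/-- An irreducible constituent is carried by a subrepresentation. -/
theorem exists_sub (ρ : Representation ℂ G V) {χ : G → ℂ} (hχ : IsIrrCharacter G χ)
    (h : classInner ρ.character χ ≠ 0) :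
    ∃ A : Subrepresentation ρ, A.toRepresentation.IsIrreducible ∧
      A.toRepresentation.character = χ := by
  obtain ⟨n, σ, hσ, rfl⟩ := hχ
  haveI := hσ
  obtain ⟨f, hf0, hf⟩ := exists_ne_zero_of_meet σ ρ h
  let A : Subrepresentation ρ := ⟨LinearMap.range f, fun g v hv => by
    obtain ⟨u, rfl⟩ := hv
    exact ⟨σ g u, hf g u⟩⟩
  have hinj : Function.Injective f := by
    rw [← LinearMap.ker_eq_bot]
    let K : Subrepresentation σ := ⟨LinearMap.ker f, fun g u hu => by
      rw [LinearMap.mem_ker] at hu ⊢
      rw [hf, hu, map_zero]⟩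
    rcases eq_bot_or_eq_top K with h1 | h1
    · exact congrArg Subrepresentation.toSubmodule h1
    · refine absurd (LinearMap.ext fun u => ?_) hf0
      have h2 : K.toSubmodule = ⊤ := congrArg Subrepresentation.toSubmodule h1
      exact LinearMap.mem_ker.1 (h2 ▸ Submodule.mem_top : u ∈ K.toSubmodule)
  let e : (Fin n → ℂ) ≃ₗ[ℂ] A.toSubmodule := LinearEquiv.ofInjective f hinj
  have hAe : A.toRepresentation = conjRep σ e := by
    refine MonoidHom.ext fun g => LinearMap.ext fun v => Subtype.ext ?_
    obtain ⟨u, hu⟩ := e.surjective v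
    subst hu
    show ρ g (f u) = _
    rw [conjRep_apply, LinearEquiv.symm_apply_apply]
    exact (hf g u).symm
  refine ⟨A, ?_, ?_⟩
  · rw [hAe]
    exact (isIrreducible_conjRep_iff σ e).2 hσ
  · rw [hAe]
    exact character_conjRep σ e

/-- Commutativity of the commutant forces multiplicity-freeness. -/
theorem mult_free_of_comm (ρ : Representation ℂ G V)
    (hcomm : ∀ S T : V →ₗ[ℂ] V, (∀ g x, S (ρ g x) = ρ g (S x)) → (∀ g x, T (ρ g x) = ρ g (T x)) →
      S ∘ₗ T = T ∘ₗ S)
    (χ : G → ℂ) (hχ : IsIrrCharacter G χ) :
    classInner ρ.character χ = 0 ∨ classInner ρ.character χ = 1 := by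
  by_cases h0 : classInner ρ.character χ = 0
  · exact Or.inl h0
  obtain ⟨A, hA, hAχ⟩ := exists_sub ρ hχ h0
  obtain ⟨B, hAB⟩ := exists_isCompl ρ A
  have hB : classInner B.toRepresentation.character χ = 0 := by
    by_contra hne
    obtain ⟨f, hf0, hf⟩ := exists_ne_zero_of_meet A.toRepresentation B.toRepresentation
      (by rwa [hAχ])
    let pA : V →ₗ[ℂ] A.toSubmodule :=
      Submodule.projectionOnto A.toSubmodule B.toSubmodule hAB
    have hp : ∀ g v, pA (ρ g v) = A.toRepresentation g (pA v) := by
      intro g v
      obtain ⟨a, ha, b, hb, rfl⟩ := Submodule.mem_sup.1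
        (show v ∈ A.toSubmodule ⊔ B.toSubmodule by rw [hAB.sup_eq_top]; trivial)
      rw [map_add (ρ g)]
      simp only [pA, map_add]
      rw [Submodule.projectionOnto_apply_left _ ⟨ρ g a, A.apply_mem_toSubmodule g ha⟩,
        Submodule.projectionOnto_apply_left _ ⟨a, ha⟩,
        Submodule.projectionOnto_apply_right _ ⟨ρ g b, B.apply_mem_toSubmodule g hb⟩,
        Submodule.projectionOnto_apply_right _ ⟨b, hb⟩]
      simp only [map_zero, add_zero]
      rfl
    let S : V →ₗ[ℂ] V := B.toSubmodule.subtype ∘ₗ f ∘ₗ pA
    let T : V →ₗ[ℂ] V := A.toSubmodule.subtype ∘ₗ pA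
    have hS : ∀ g x, S (ρ g x) = ρ g (S x) := fun g x => by
      show (f (pA (ρ g x)) : V) = ρ g (f (pA x))
      rw [hp, hf]
      rfl
    have hT : ∀ g x, T (ρ g x) = ρ g (T x) := fun g x => by
      show (pA (ρ g x) : V) = ρ g (pA x)
      rw [hp]
      rfl
    refine hf0 (LinearMap.ext fun a => Subtype.ext ?_)
    have h1 := LinearMap.congr_fun (hcomm S T hS hT) (a : V)
    simp only [S, T, pA, LinearMap.comp_apply, Submodule.subtype_apply,
      Submodule.projectionOnto_apply_left] at h1
    rw [Submodule.projectionOnto_apply_right] at h1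
    rw [h1]
    rfl
  right
  rw [character_eq_add_of_isCompl ρ A B hAB, classInner_add_left, hAχ,
    classInner_irr_self hχ, hB, add_zero]

/-- An invariant subspace without fixed vectors has dimension divisible by the common degree of
the non-principal constituents. -/
theorem dvd_finrank (ρ : Representation ℂ G V) (f : ℕ)
    (hdeg : ∀ χ : G → ℂ, IsIrrCharacter G χ → χ ≠ (fun _ => 1) →
      classInner ρ.character χ ≠ 0 → χ 1 = f)
    (A : Subrepresentation ρ)
    (hfix : ∀ x ∈ A.toSubmodule, (∀ g, ρ g x = x) → x = 0) :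
    f ∣ finrank ℂ A.toSubmodule := by
  choose n m hn hm using fun χ : IrrCharacter G => exists_mult_le ρ A χ.2
  have hzero : n (trivialChar G) = 0 := by
    by_contra hne
    obtain ⟨φ, hφ0, hφ⟩ := exists_ne_zero_of_meet (linearRep (1 : G →* ℂ)) A.toRepresentation (by
      rw [character_linearRep]
      rw [show ((1 : G →* ℂ) : G → ℂ) = (trivialChar G).1 from rfl, hn]
      exact Nat.cast_ne_zero.2 hne)
    refine hφ0 (LinearMap.ext_ring (Subtype.ext ?_))
    refine hfix _ (φ 1).2 fun g => ?_
    have h1 := congrArg Subtype.val (hφ g 1)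
    have h2 : linearRep (1 : G →* ℂ) g 1 = 1 := by simp [linearRep]
    rw [h2] at h1
    exact h1.symm
  have h1 := eq_sum_classInner_smul
    (IsCharacter.isClassFunction (isCharacter_character A.toRepresentation))
  have h2 := congrFun h1 1
  simp only [Representation.char_one, Finset.sum_apply, Pi.smul_apply, smul_eq_mul, hn,
    apply_one_eq_degree, ← Nat.cast_mul, ← Nat.cast_sum, Nat.cast_inj] at h2
  rw [h2]
  refine Finset.dvd_sum fun χ _ => ?_
  by_cases h0 : n χ = 0
  · simp [h0]
  have hne : classInner ρ.character χ.1 ≠ 0 := by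
    rw [hm]
    exact Nat.cast_ne_zero.2 (by omega)
  have hd := hdeg χ.1 χ.2 (fun h => h0 (by
    rw [show χ = trivialChar G from Subtype.ext h, hzero])) hne
  rw [apply_one_eq_degree, Nat.cast_inj] at hd
  exact ⟨n χ, by rw [hd, mul_comm]⟩

end Cfsg.Agent.Char.PermConstituent
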