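import Cfsg.Agent.Lib.Char.PermConstituent
import Mathlib.RingTheory.Polynomial.RationalRoot
import Mathlib.RingTheory.Int.Basic

/-!
# Operators of relations in transitive permutation representations

* `relOp R`: the adjacency operator of a relation on `Ω`, its traces, integrality of its
  eigenvalues;
* multiplicities in a transitive permutation character: `mult_one`, `card_eq`, `rank_eq`;
* `dvd_of_same_degree`: every non-trivial valency is divisible by the common degree of the
  non-principal constituents.
-/

set_option autoImplicit false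
set_option linter.style.haveILetI false
set_option linter.unusedSectionVars false

namespace Cfsg.Agent.Char.PermConstituent

open Representation Module

variable {G : Type*} [Group G] {Ω : Type*} [Fintype Ω] [MulAction G Ω]

open scoped Classical in
/-- The matrix of a relation. -/
noncomputable def relMatrix (R : Ω → Ω → Prop) : Matrix Ω Ω ℤ :=
  Matrix.of fun x y => if R x y then 1 else 0

open scoped Classical in
/-- The adjacency operator of a relation. -/
noncomputable def relOp (R : Ω → Ω → Prop) : Module.End ℂ (Ω → ℂ) where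
  toFun f x := ∑ y ∈ Finset.univ.filter (R x), f y
  map_add' f h := by funext x; simp [Finset.sum_add_distrib]
  map_smul' c f := by funext x; simp [Finset.mul_sum]

open scoped Classical in
theorem relOp_apply (R : Ω → Ω → Prop) (f : Ω → ℂ) (x : Ω) :
    relOp R f x = ∑ y ∈ Finset.univ.filter (R x), f y := rfl

theorem relOp_comm {R : Ω → Ω → Prop} (hR : ∀ (g : G) x y, R x y → R (g • x) (g • y)) (g : G)
    (f : Ω → ℂ) : relOp R (permRep ℂ G Ω g f) = permRep ℂ G Ω g (relOp R f) := by
  classical
  funext x
  show ∑ y ∈ Finset.univ.filter (R x), f (g⁻¹ • y) =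
    ∑ y ∈ Finset.univ.filter (R (g⁻¹ • x)), f y
  refine Finset.sum_equiv (MulAction.toPerm g⁻¹) (fun y => ?_) (fun y _ => rfl)
  simp only [Finset.mem_filter, Finset.mem_univ, true_and, MulAction.toPerm_apply]
  exact ⟨hR g⁻¹ x y, fun h => by simpa using hR g _ _ h⟩

theorem relOp_const {R : Ω → Ω → Prop} {k : ℕ} (hk : ∀ x, Nat.card {y // R x y} = k) (c : ℂ) :
    relOp R (fun _ => c) = (k : ℂ) • fun _ => c := by
  classical
  funext x
  rw [relOp_apply, Finset.sum_const, nsmul_eq_mul, Pi.smul_apply, smul_eq_mul, ← hk x,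
    Nat.card_eq_fintype_card, Fintype.card_subtype]

theorem toMatrix_relOp [DecidableEq Ω] (R : Ω → Ω → Prop) :
    LinearMap.toMatrix' (relOp R) = (relMatrix R).map (Int.castRingHom ℂ) := by
  classical
  ext x y
  rw [LinearMap.toMatrix'_apply, relOp_apply, Matrix.map_apply, relMatrix, Matrix.of_apply]
  simp [Pi.single_apply, apply_ite]

theorem trace_relOp {R : Ω → Ω → Prop} (hR : ∀ x, ¬ R x x) :
    LinearMap.trace ℂ _ (relOp R) = 0 := by
  classical
  rw [LinearMap.trace_eq_matrix_trace ℂ (Pi.basisFun ℂ Ω), LinearMap.toMatrix_eq_toMatrix',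
    toMatrix_relOp, Matrix.trace]
  exact Finset.sum_eq_zero fun x _ => by simp [relMatrix, hR x]

theorem trace_relOp_sq {R : Ω → Ω → Prop} {k : ℕ} (hk : ∀ x, Nat.card {y // R x y} = k)
    (hsymm : ∀ x y, R x y → R y x) :
    LinearMap.trace ℂ _ (relOp R * relOp R) = (Fintype.card Ω : ℂ) * k := by
  classical
  rw [LinearMap.trace_eq_matrix_trace ℂ (Pi.basisFun ℂ Ω), LinearMap.toMatrix_eq_toMatrix',
    LinearMap.toMatrix'_mul, toMatrix_relOp, Matrix.trace]
  have h : ∀ x : Ω, Matrix.diag ((relMatrix R).map (Int.castRingHom ℂ) *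
      (relMatrix R).map (Int.castRingHom ℂ)) x = (k : ℂ) := by
    intro x
    rw [Matrix.diag_apply, Matrix.mul_apply, ← hk x, Nat.card_eq_fintype_card,
      Fintype.card_subtype, ← Finset.sum_boole]
    refine Finset.sum_congr rfl fun y _ => ?_
    by_cases h : R x y
    · simp [relMatrix, h, hsymm x y h]
    · simp [relMatrix, h]
  rw [Finset.sum_congr rfl fun x _ => h x, Finset.sum_const, Finset.card_univ, nsmul_eq_mul]

/-- The eigenvalues of an adjacency operator are algebraic integers. -/
theorem isIntegral_root {R : Ω → Ω → Prop} {z : ℂ}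
    (hz : z ∈ (relOp R).charpoly.roots) : IsIntegral ℤ z := by
  classical
  have hc : (relOp R).charpoly = (relMatrix R).charpoly.map (Int.castRingHom ℂ) := by
    rw [← Matrix.charpoly_map, ← toMatrix_relOp, ← LinearMap.toMatrix_eq_toMatrix',
      LinearMap.charpoly_toMatrix]
  rw [hc] at hz
  refine ⟨(relMatrix R).charpoly, Matrix.charpoly_monic _, ?_⟩
  have := (Polynomial.mem_roots'.1 hz).2
  rwa [Polynomial.IsRoot.def, Polynomial.eval_map] at this

/-- A fixed vector of a transitive permutation representation is constant. -/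
theorem eq_const_of_fixed [MulAction.IsPretransitive G Ω] (a : Ω) {v : Ω → ℂ}
    (hv : ∀ g : G, permRep ℂ G Ω g v = v) : v = fun _ => v a := by
  funext x
  obtain ⟨g, hg⟩ := MulAction.exists_smul_eq G x a
  have h := congrFun (hv g) a
  have h' : v (g⁻¹ • a) = v a := h
  rwa [← hg, inv_smul_smul, hg] at h'

variable [Fintype G]

theorem character_permRep :
    (permRep ℂ G Ω).character = fun g : G => (Nat.card (MulAction.fixedBy Ω g) : ℂ) :=
  funext fun g => character_permFun Ω g

theorem card_orbits_eq_one [MulAction.IsPretransitive G Ω] (a : Ω) :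
    Nat.card (Quotient (MulAction.orbitRel G Ω)) = 1 := by
  rw [Nat.card_eq_one_iff_unique]
  refine ⟨⟨fun p q => ?_⟩, ⟨Quotient.mk _ a⟩⟩
  induction p using Quotient.inductionOn with
  | _ x =>
    induction q using Quotient.inductionOn with
    | _ y => exact Quotient.sound (MulAction.exists_smul_eq G y x)

/-- The principal character occurs exactly once. -/
theorem mult_one [MulAction.IsPretransitive G Ω] (a : Ω) :
    classInner (permRep ℂ G Ω).character (fun _ => 1) = 1 := by
  rw [character_permRep, classInner_fixedBy_one, card_orbits_eq_one a, Nat.cast_one]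

/-- Orbits of a point stabiliser correspond to orbits on pairs. -/
theorem card_orbits_stabilizer [MulAction.IsPretransitive G Ω] (a : Ω) :
    Nat.card (MulAction.orbitRel.Quotient (MulAction.stabilizer G a) Ω) =
      Nat.card (Quotient (MulAction.orbitRel G (Ω × Ω))) := by
  refine Nat.card_eq_of_bijective (Quotient.map (fun y => (a, y)) ?_) ⟨?_, ?_⟩
  · rintro x y ⟨g, hg⟩
    exact ⟨(g : G), Prod.ext g.2 hg⟩
  · intro p q
    induction p using Quotient.inductionOn with
    | _ x =>
      induction q using Quotient.inductionOn with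
      | _ y =>
        intro h
        simp only [Quotient.map_mk] at h
        obtain ⟨g, hg⟩ := Quotient.exact h
        exact Quotient.sound ⟨⟨g, congrArg Prod.fst hg⟩, congrArg Prod.snd hg⟩
  · intro p
    induction p using Quotient.inductionOn with
    | _ z =>
      obtain ⟨g, hg⟩ := MulAction.exists_smul_eq G z.1 a
      refine ⟨Quotient.mk _ (g • z.2), ?_⟩
      rw [Quotient.map_mk]
      exact Quotient.sound ⟨g, Prod.ext hg rfl⟩

/-- The degree, the principal multiplicity and the rank in terms of the multiplicities. -/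
theorem exists_mult_spec [MulAction.IsPretransitive G Ω] (a : Ω) :
    ∃ m : IrrCharacter G → ℕ,
      (∀ χ, classInner (permRep ℂ G Ω).character χ.1 = m χ) ∧ m (trivialChar G) = 1 ∧
      Fintype.card Ω = ∑ χ, m χ * degree χ ∧
      Nat.card (MulAction.orbitRel.Quotient (MulAction.stabilizer G a) Ω) = ∑ χ, m χ * m χ := by
  obtain ⟨m, hm, hm'⟩ := IsCharacter.exists_decomp (isCharacter_character (permRep ℂ G Ω))
  refine ⟨m, hm', ?_, ?_, ?_⟩
  · have := (hm' (trivialChar G)).symm.trans (mult_one a)
    exact_mod_cast this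
  · have h1 := congrFun hm 1
    simp only [Representation.char_one, Finset.sum_apply, Pi.smul_apply, smul_eq_mul,
      apply_one_eq_degree, Module.finrank_fintype_fun_eq_card, ← Nat.cast_mul, ← Nat.cast_sum,
      Nat.cast_inj] at h1
    exact h1
  · have h1 := classInner_fixedBy_self (G := G) Ω
    rw [← character_permRep, ← card_orbits_stabilizer a,
      classInner_eq_sum (IsCharacter.isClassFunction (isCharacter_character _))] at h1
    have h2 : ∀ χ : IrrCharacter G, classInner χ.1 (permRep ℂ G Ω).character = (m χ : ℂ) :=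
      fun χ => by rw [← conj_classInner, hm', map_natCast]
    simp only [hm', h2, ← Nat.cast_mul, ← Nat.cast_sum, Nat.cast_inj] at h1
    exact h1.symm

/-- Every valency of a loopless invariant relation is divisible by the common degree of the
non-principal constituents. -/
theorem dvd_of_same_degree [MulAction.IsPretransitive G Ω] (a : Ω) {f : ℕ} (hf : 0 < f)
    (hdeg : ∀ χ : G → ℂ, IsIrrCharacter G χ → χ ≠ (fun _ => 1) →
      classInner (permRep ℂ G Ω).character χ ≠ 0 → χ 1 = f)
    {R : Ω → Ω → Prop} {k : ℕ} (hR : ∀ (g : G) x y, R x y → R (g • x) (g • y))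
    (hirr : ∀ x, ¬ R x x) (hk : ∀ x, Nat.card {y // R x y} = k) : f ∣ k := by
  classical
  -- the degree is one modulo `f`
  have hn : ∃ M, Fintype.card Ω = 1 + f * M := by
    obtain ⟨m, hm, hm1, hn, -⟩ := exists_mult_spec (G := G) a
    refine ⟨∑ χ ∈ Finset.univ.erase (trivialChar G), m χ, ?_⟩
    rw [hn, ← Finset.add_sum_erase _ _ (Finset.mem_univ (trivialChar G)), hm1, Finset.mul_sum]
    have ht : degree (trivialChar G) = 1 := by
      have := (apply_one_eq_degree (trivialChar G)).symm
      rw [trivialChar_apply] at this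
      exact_mod_cast this
    rw [ht, one_mul]
    congr 1
    refine Finset.sum_congr rfl fun χ hχ => ?_
    by_cases h0 : m χ = 0
    · simp [h0]
    have h1 := hdeg χ.1 χ.2 (fun h => (Finset.mem_erase.1 hχ).1 (Subtype.ext h))
      (by rw [hm]; exact Nat.cast_ne_zero.2 h0)
    rw [apply_one_eq_degree, Nat.cast_inj] at h1
    rw [h1, mul_comm]
  set T := relOp R with hT
  set s := T.charpoly.roots with hs
  have hcard : Multiset.card s = Fintype.card Ω := by
    rw [hs, IsAlgClosed.card_roots_eq_natDegree, LinearMap.charpoly_natDegree,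
      Module.finrank_fintype_fun_eq_card]
  have hmult : ∀ z : ℂ, z ≠ (k : ℂ) → f ∣ s.count z := by
    intro z hz
    rw [hs, Polynomial.count_roots, ← LinearMap.finrank_maxGenEigenspace_eq]
    refine dvd_finrank (permRep ℂ G Ω) f hdeg
      ⟨T.maxGenEigenspace z, fun g x hx => ?_⟩ fun x hx hfix => ?_
    · exact Module.End.mapsTo_maxGenEigenspace_of_comm
        (show Commute T (permRep ℂ G Ω g) from LinearMap.ext fun y => relOp_comm hR g y) z hx
    · have hx' : x ∈ T.maxGenEigenspace (k : ℂ) := by
        refine Module.End.eigenspace_le_maxGenEigenspace ?_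
        rw [Module.End.mem_eigenspace_iff, eq_const_of_fixed a hfix]
        exact relOp_const hk _
      exact (Submodule.disjoint_def.1
        (Module.End.disjoint_genEigenspace T hz ⊤ ⊤)) x hx hx'
  choose! q hq using hmult
  have htr : s.sum = 0 := by
    rw [hs, ← trace_relOp hirr, LinearMap.trace_eq_matrix_trace ℂ (Pi.basisFun ℂ Ω),
      Matrix.trace_eq_sum_roots_charpoly, LinearMap.charpoly_toMatrix]
  have hsplit : ∀ (F : ℂ → ℂ), (s.map F).sum =
      (s.count (k : ℂ) : ℂ) * F k +
        (f : ℂ) * ∑ z ∈ s.toFinset.erase (k : ℂ), (q z : ℂ) * F z := by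
    intro F
    rw [Finset.sum_multiset_map_count, Finset.mul_sum]
    by_cases hks : (k : ℂ) ∈ s.toFinset
    · rw [← Finset.add_sum_erase _ _ hks, nsmul_eq_mul]
      congr 1
      refine Finset.sum_congr rfl fun z hz => ?_
      rw [nsmul_eq_mul, hq z (Finset.mem_erase.1 hz).1, Nat.cast_mul, mul_assoc]
    · rw [Finset.erase_eq_of_notMem hks,
        Multiset.count_eq_zero.2 (fun h => hks (Multiset.mem_toFinset.2 h)), Nat.cast_zero,
        zero_mul, zero_add]
      refine Finset.sum_congr rfl fun z hz => ?_
      rw [nsmul_eq_mul, hq z (fun h => hks (h ▸ hz)), Nat.cast_mul, mul_assoc]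
  have h0 := hsplit id
  rw [Multiset.map_id, htr, id_eq] at h0
  have h1 := hsplit fun _ => 1
  rw [Multiset.map_const', Multiset.sum_replicate, nsmul_eq_mul, mul_one, mul_one, hcard] at h1
  obtain ⟨M, hM⟩ := hn
  rw [hM] at h1
  push_cast at h1
  set S := ∑ z ∈ s.toFinset.erase (k : ℂ), (q z : ℂ) * id z with hS
  set Q := ∑ z ∈ s.toFinset.erase (k : ℂ), (q z : ℂ) * (1 : ℂ) with hQ
  have hfne : (f : ℂ) ≠ 0 := Nat.cast_ne_zero.2 hf.ne'
  have hw : ((k : ℚ) / f : ℚ) = (-((M - Q) * k + S) : ℂ) := by
    push_cast
    rw [div_eq_iff hfne]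
    linear_combination -h0 + (k : ℂ) * h1
  have hint : IsIntegral ℤ (-((M - Q) * k + S) : ℂ) := by
    have hnat : ∀ j : ℕ, IsIntegral ℤ (j : ℂ) := fun j => by
      simpa using isIntegral_algebraMap (R := ℤ) (A := ℂ) (x := (j : ℤ))
    refine ((((hnat M).sub ?_).mul (hnat k)).add ?_).neg
    · exact IsIntegral.sum _ fun z _ => (hnat _).mul isIntegral_one
    · exact IsIntegral.sum _ fun z hz => (hnat _).mul
        (isIntegral_root (Multiset.mem_toFinset.1 (Finset.mem_of_mem_erase hz)))
  rw [← hw] at hint
  have hq' : IsIntegral ℤ ((k : ℚ) / f) :=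
    (isIntegral_algebraMap_iff (R := ℤ) (algebraMap ℚ ℂ).injective).1
      (by simpa using hint)
  obtain ⟨w, hw'⟩ := (IsIntegrallyClosed.isIntegral_iff (R := ℤ) (K := ℚ)).1 hq'
  have hw'' : (k : ℤ) = f * w := by
    have h2 : (w : ℚ) = (k : ℚ) / f := by simpa using hw'
    rw [eq_div_iff (Nat.cast_ne_zero.2 hf.ne')] at h2
    have : (k : ℚ) = (f : ℚ) * w := by rw [← h2, mul_comm]
    exact_mod_cast this
  exact Int.natCast_dvd_natCast.1 ⟨w, hw''⟩

end Cfsg.Agent.Char.PermConstituent
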