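import Cfsg.Agent.Lib.Char.RealChar
import Cfsg.Agent.Lib.Char.Clifford
import Cfsg.Agent.Lib.Char.Linear
import Cfsg.Agent.Lib.Char.CliffordCorrespondence
import Cfsg.Agent.Lib.PrimeParts.Basic
import Mathlib.GroupTheory.SemidirectProduct
import Mathlib.Algebra.CharP.Two

/-!
# Real irreducible characters over a linear character inverted in the group

`exists_real_irr_over`: the linear character extends to `N S`, an element normalising `S` sends it
to its conjugate, and the index of `N S` in the stabiliser is odd.  Counting pairs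
`(constituent over N, constituent over N S)` modulo `2` gives a real character above it.
-/

set_option linter.style.haveILetI false

namespace Cfsg.Agent.Char

open scoped ComplexConjugate

universe u

variable {G : Type u} [Group G]

theorem sum_conj_eq [Fintype G] [DecidableEq G] (n h : G) :
    (∑ x : G, if x * n * x⁻¹ = h then (1 : ℂ) else 0) =
      ∑ χ : IrrCharacter G, χ.1 h * conj (χ.1 n) := by
  classical
  rw [sum_irr_mul_conj, Finset.sum_boole]
  by_cases hc : IsConj h n
  · obtain ⟨c, hc'⟩ := isConj_iff.1 hc.symm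
    rw [if_pos hc, ← Fintype.card_subtype, ← Nat.card_eq_fintype_card]
    congr 1
    refine Nat.card_congr ((Equiv.mulLeft c⁻¹).subtypeEquiv fun x => ?_)
    rw [Equiv.coe_mulLeft, Subgroup.mem_centralizer_singleton_iff, ← mul_inv_eq_iff_eq_mul, ← hc',
      mul_inv_rev, inv_inv]
    constructor
    · intro hx
      calc c⁻¹ * x * n * (x⁻¹ * c) = c⁻¹ * (x * n * x⁻¹) * c := by group
        _ = n := by rw [hx]; group
    · intro hx
      calc x * n * x⁻¹ = c * (c⁻¹ * x * n * (x⁻¹ * c)) * c⁻¹ := by group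
        _ = c * n * c⁻¹ := by rw [hx]
  · rw [if_neg hc, Nat.cast_eq_zero, Finset.card_eq_zero, Finset.filter_eq_empty_iff]
    exact fun x _ hx => hc (isConj_iff.2 ⟨x, hx⟩).symm

/-- A real irreducible character above a linear character of a normal subgroup. -/
theorem exists_real_irr_over [Fintype G] (N : Subgroup G) [N.Normal] [Fintype N] (lam : N →* ℂ)
    (S T : Subgroup G)
    (hT : ∀ x : G, x ∈ T ↔
      ∀ n : N, lam ⟨x * (n : G) * x⁻¹, ‹N.Normal›.conj_mem n.1 n.2 x⟩ = lam n)
    (hST : S ≤ T) (hker : ∀ n : N, (n : G) ∈ S → lam n = 1) {g : G}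
    (hg : g ∈ Subgroup.normalizer (S : Set G))
    (hinv : ∀ n : N, lam ⟨g * (n : G) * g⁻¹, ‹N.Normal›.conj_mem n.1 n.2 g⟩ = conj (lam n))
    {k : ℕ} (hk : Nat.card T * Nat.card ↥(N ⊓ S : Subgroup G) = k * (Nat.card N * Nat.card S))
    (hodd : Odd k) :
    ∃ χ : IrrCharacter G, (∀ x, (χ.1 x).im = 0) ∧
      classInner (resFun N χ.1) (lam : N → ℂ) ≠ 0 := by
  classical
  haveI := Fintype.ofFinite S
  haveI := Fintype.ofFinite T
  let act : S →* MulAut N := (MulAut.conjNormal (G := G) (H := N)).comp S.subtype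
  haveI : Fintype (N ⋊[act] S) := Fintype.ofEquiv _ SemidirectProduct.equivProd.symm
  let emb : N ⋊[act] S →* G := SemidirectProduct.lift N.subtype S.subtype fun s => by
    refine MonoidHom.ext fun n => ?_
    simp [act, MulAut.conjNormal_apply]
  let Lam : N ⋊[act] S →* ℂ :=
    { toFun := fun e => lam e.left
      map_one' := map_one lam
      map_mul' := fun e e' => by
        rw [SemidirectProduct.mul_left, map_mul]
        congr 1
        have h1 := (hT e.right).1 (hST e.right.2) e'.left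
        convert h1 using 2
        exact Subtype.ext (by simp [act, MulAut.conjNormal_apply]) }
  -- the two multiplicities
  set v : IrrCharacter G → ℂ := fun χ => classInner (resFun N χ.1) (lam : N → ℂ) with hv
  set a : IrrCharacter G → ℂ := fun χ => classInner (fun e => χ.1 (emb e)) (Lam : N ⋊[act] S → ℂ)
    with ha
  have hvn : ∀ χ, ∃ m : ℕ, v χ = m := fun χ => by
    obtain ⟨m, hm⟩ := IsCharacter.exists_nat_classInner (IsCharacter.restrict (irr_isCharacter χ) N)
      (IsIrrCharacter.isCharacter (isIrrCharacter_of_monoidHom lam))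
    exact ⟨m, hm⟩
  have han : ∀ χ, ∃ m : ℕ, a χ = m := fun χ =>
    IsCharacter.exists_nat_classInner (IsCharacter.comp (irr_isCharacter χ) emb)
      (IsIrrCharacter.isCharacter (isIrrCharacter_of_monoidHom Lam))
  choose vn hvn using hvn
  choose an han using han
  have hNg : ∀ n : N, g * (n : G) * g⁻¹ ∈ N := fun n => ‹N.Normal›.conj_mem n.1 n.2 g
  have hSg : ∀ s : S, g * (s : G) * g⁻¹ ∈ S := fun s => (Subgroup.mem_normalizer_iff.1 hg _).1 s.2
  let eN : N ≃ N := Equiv.ofBijective (fun n => ⟨g * (n : G) * g⁻¹, hNg n⟩)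
    (Finite.injective_iff_bijective.1 fun a b h => Subtype.ext (by simpa using congrArg Subtype.val h))
  let eS : S ≃ S := Equiv.ofBijective (fun s => ⟨g * (s : G) * g⁻¹, hSg s⟩)
    (Finite.injective_iff_bijective.1 fun a b h => Subtype.ext (by simpa using congrArg Subtype.val h))
  have hclass : ∀ χ : IrrCharacter G, ∀ x, χ.1 (g * x * g⁻¹) = χ.1 x := fun χ x =>
    IsCharacter.isClassFunction (irr_isCharacter χ) x g
  have hvc : ∀ χ, v (conjIrr χ) = v χ := by
    intro χ
    have h : v (conjIrr χ) = conj (v χ) := by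
      simp only [hv, classInner, map_mul, map_inv₀, map_natCast, map_sum, Complex.conj_conj]
      congr 1
      refine Fintype.sum_equiv eN.symm _ _ fun n => ?_
      obtain ⟨n, rfl⟩ := eN.surjective n
      rw [Equiv.symm_apply_apply]
      show conj (χ.1 (g * (n : G) * g⁻¹)) * conj (lam ⟨g * (n : G) * g⁻¹, hNg n⟩) = _
      rw [hclass, hinv n, Complex.conj_conj]
      rfl
    rw [h, hvn, map_natCast]
  have hac : ∀ χ, a (conjIrr χ) = a χ := by
    intro χ
    have h : a (conjIrr χ) = conj (a χ) := by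
      simp only [ha, classInner, map_mul, map_inv₀, map_natCast, map_sum, Complex.conj_conj]
      congr 1
      let eE : (N ⋊[act] S) ≃ (N ⋊[act] S) := SemidirectProduct.equivProd.trans
        ((eN.prodCongr eS).trans SemidirectProduct.equivProd.symm)
      refine Fintype.sum_equiv eE.symm _ _ fun e => ?_
      obtain ⟨e, rfl⟩ := eE.surjective e
      rw [Equiv.symm_apply_apply]
      show conj (χ.1 ((g * (e.left : G) * g⁻¹) * (g * (e.right : G) * g⁻¹))) *
        conj (lam ⟨g * (e.left : G) * g⁻¹, hNg _⟩) = _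
      rw [hinv e.left, Complex.conj_conj,
        show (g * (e.left : G) * g⁻¹) * (g * (e.right : G) * g⁻¹) =
          g * ((e.left : G) * e.right) * g⁻¹ by group, hclass]
      rfl
    rw [h, han, map_natCast]
  -- the count
  have hlin : ∀ x : G, ∑ n : N, lam n *
      conj (lam ⟨x * (n : G) * x⁻¹, ‹N.Normal›.conj_mem n.1 n.2 x⟩) =
        if x ∈ T then (Nat.card N : ℂ) else 0 := by
    intro x
    let mu : N →* ℂ := lam.comp (MulAut.conjNormal x : MulAut N).toMonoidHom
    have hmu : ∀ n : N, mu n = lam ⟨x * (n : G) * x⁻¹, ‹N.Normal›.conj_mem n.1 n.2 x⟩ := fun n =>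
      congrArg lam (Subtype.ext (MulAut.conjNormal_apply x n))
    have h := classInner_irr (linIrr lam) (linIrr mu)
    rw [classInner, inv_mul_eq_iff_eq_mul₀ card_ne_zero] at h
    simp only [linIrr_apply, hmu] at h
    rw [h]
    by_cases hx : x ∈ T
    · rw [if_pos hx, if_pos, mul_one]
      exact congrArg linIrr (MonoidHom.ext fun n => ((hmu n).trans ((hT x).1 hx n)).symm)
    · rw [if_neg hx, if_neg, mul_zero]
      intro heq
      exact hx ((hT x).2 fun n => by rw [← hmu, linIrr_injective heq])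
  have hcount : ∀ y : N, (∑ e : N ⋊[act] S, if (y : G) = emb e then conj (Lam e) else 0) =
      (Nat.card ↥(N ⊓ S : Subgroup G) : ℂ) * conj (lam y) := by
    intro y
    have hval : ∀ e : N ⋊[act] S, (y : G) = emb e → Lam e = lam y := by
      intro e he
      have hmul : (y : G) = (e.left : G) * e.right := he.trans rfl
      have hs : (e.right : G) ∈ N := by
        have : (e.right : G) = (e.left : G)⁻¹ * y := by rw [hmul]; group
        rw [this]; exact N.mul_mem (N.inv_mem e.left.2) y.2
      show lam e.left = _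
      rw [← mul_one (lam e.left), ← hker ⟨e.right, hs⟩ e.right.2, ← map_mul]
      exact congrArg lam (Subtype.ext hmul.symm)
    rw [Finset.sum_congr rfl (g := fun e => if (y : G) = emb e then conj (lam y) else 0)
        fun e _ => by split_ifs with he <;> [rw [hval e he]; rfl],
      ← Finset.sum_filter, Finset.sum_const, nsmul_eq_mul]
    congr 2
    rw [← Fintype.card_subtype, ← Nat.card_eq_fintype_card]
    have hmul : ∀ e : {e : N ⋊[act] S // (y : G) = emb e}, (y : G) = (e.1.left : G) * e.1.right :=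
      fun e => e.2.trans rfl
    have hsN : ∀ e : {e : N ⋊[act] S // (y : G) = emb e}, (e.1.right : G) ∈ N := fun e => by
      have : (e.1.right : G) = (e.1.left : G)⁻¹ * y := (inv_mul_eq_iff_eq_mul.2 (hmul e)).symm
      rw [this]; exact N.mul_mem (N.inv_mem e.1.left.2) y.2
    exact Nat.card_congr
      { toFun := fun e => ⟨(e.1.right : G), Subgroup.mem_inf.2 ⟨hsN e, e.1.right.2⟩⟩
        invFun := fun w => ⟨⟨⟨(y : G) * (w : G)⁻¹, N.mul_mem y.2 (N.inv_mem w.2.1)⟩, ⟨w, w.2.2⟩⟩,
          by simp [emb]⟩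
        left_inv := fun e => Subtype.ext (SemidirectProduct.ext (Subtype.ext (by
          show (y : G) * (e.1.right : G)⁻¹ = (e.1.left : G)
          exact mul_inv_eq_iff_eq_mul.2 (hmul e))) rfl)
        right_inv := fun w => rfl }
  have hsum : ∑ χ, a χ * v χ = (k : ℂ) := by
    have hvv : ∀ χ, v χ = (Nat.card N : ℂ)⁻¹ * ∑ n : N, conj (χ.1 n) * lam n := by
      intro χ
      rw [← Complex.conj_conj (v χ), hvn, map_natCast, ← hvn, hv]
      simp only [classInner, resFun_apply, map_mul, map_inv₀, map_natCast, map_sum,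
        Complex.conj_conj]
    have e1 : ∀ χ, a χ * v χ = (Nat.card (N ⋊[act] S) : ℂ)⁻¹ * (Nat.card N : ℂ)⁻¹ *
        ∑ n : N, ∑ e : N ⋊[act] S, lam n * conj (Lam e) * (χ.1 (emb e) * conj (χ.1 n)) := by
      intro χ
      rw [hvv, ha]
      simp only [classInner]
      rw [mul_mul_mul_comm, Finset.sum_mul_sum, Finset.sum_comm]
      congr 1
      exact Finset.sum_congr rfl fun n _ => Finset.sum_congr rfl fun e _ => by ring
    simp only [e1, ← Finset.mul_sum]
    rw [Finset.sum_comm]
    have e2 : ∀ n : N, ∑ χ : IrrCharacter G, ∑ e : N ⋊[act] S,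
        lam n * conj (Lam e) * (χ.1 (emb e) * conj (χ.1 n)) =
        ∑ x : G, (Nat.card ↥(N ⊓ S : Subgroup G) : ℂ) *
          (lam n * conj (lam ⟨x * (n : G) * x⁻¹, ‹N.Normal›.conj_mem n.1 n.2 x⟩)) := by
      intro n
      rw [Finset.sum_comm]
      simp only [← Finset.mul_sum, ← sum_conj_eq]
      simp only [Finset.mul_sum]
      rw [Finset.sum_comm]
      refine Finset.sum_congr rfl fun x _ => ?_
      rw [mul_left_comm, ← hcount ⟨x * (n : G) * x⁻¹, ‹N.Normal›.conj_mem n.1 n.2 x⟩, Finset.mul_sum]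
      exact Finset.sum_congr rfl fun e _ => by split_ifs <;> simp
    rw [Finset.sum_congr rfl fun n _ => e2 n, Finset.sum_comm]
    simp only [← Finset.mul_sum, hlin]
    rw [← Finset.sum_filter, Finset.sum_const, nsmul_eq_mul, ← Fintype.card_subtype,
      ← Nat.card_eq_fintype_card, Nat.card_congr SemidirectProduct.equivProd, Nat.card_prod]
    have hk' : (Nat.card T : ℂ) * Nat.card ↥(N ⊓ S : Subgroup G) =
        k * (Nat.card N * Nat.card S) := by exact_mod_cast hk
    have h1 : (Nat.card N : ℂ) ≠ 0 := card_ne_zero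
    have h2 : (Nat.card S : ℂ) ≠ 0 := card_ne_zero
    show _ * (_ * ((Nat.card T : ℂ) * _)) = _
    push_cast
    field_simp
    linear_combination hk'
  -- parity
  by_contra hno
  push Not at hno
  have hev : ((∑ χ, an χ * vn χ : ℕ) : ZMod 2) = 0 := by
    rw [Nat.cast_sum]
    refine Finset.sum_involution (fun χ _ => conjIrr χ) (fun χ _ => ?_) (fun χ _ hχ heq => ?_)
      (fun χ _ => Finset.mem_univ _) (fun χ _ => conjIrr_conjIrr χ)
    · have e1 : an (conjIrr χ) = an χ := by exact_mod_cast (han _).symm.trans ((hac χ).trans (han χ))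
      have e2 : vn (conjIrr χ) = vn χ := by exact_mod_cast (hvn _).symm.trans ((hvc χ).trans (hvn χ))
      rw [e1, e2]
      exact CharTwo.add_self_eq_zero _
    · have h0 := hno χ ((conjIrr_eq_self_iff χ).1 heq)
      rw [show classInner (resFun N χ.1) (lam : N → ℂ) = v χ from rfl, hvn, Nat.cast_eq_zero] at h0
      simp [h0] at hχ
  have hkk : (∑ χ, an χ * vn χ : ℕ) = k := by
    have : ((∑ χ, an χ * vn χ : ℕ) : ℂ) = (k : ℂ) := by
      push_cast
      rw [← hsum]
      exact Finset.sum_congr rfl fun χ _ => by rw [han, hvn]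
    exact_mod_cast this
  rw [hkk] at hev
  exact Nat.not_even_iff_odd.2 hodd (ZMod.natCast_eq_zero_iff_even.1 hev)

/-- A real irreducible character above an odd-order linear character of a normal subgroup that is
inverted by a 2-element. -/
theorem exists_real_irr_over_of_odd [Fintype G] (N : Subgroup G) [N.Normal] [Fintype N]
    (lam : N →* ℂ) {m : ℕ} (hm : Odd m) (hlam : ∀ n : N, lam n ^ m = 1) {g : G}
    (hg : ∃ j : ℕ, orderOf g = 2 ^ j)
    (hinv : ∀ n : N, lam ⟨g * (n : G) * g⁻¹, ‹N.Normal›.conj_mem n.1 n.2 g⟩ = conj (lam n)) :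
    ∃ χ : IrrCharacter G, (∀ x, (χ.1 x).im = 0) ∧
      classInner (resFun N χ.1) (lam : N → ℂ) ≠ 0 := by
  classical
  haveI : Fact (Nat.Prime 2) := ⟨Nat.prime_two⟩
  set T := inertia N (lam : N → ℂ) with hTdef
  have hT : ∀ x : G, x ∈ T ↔
      ∀ n : N, lam ⟨x * (n : G) * x⁻¹, ‹N.Normal›.conj_mem n.1 n.2 x⟩ = lam n := by
    intro x
    rw [hTdef, mem_inertia, funext_iff]
    refine forall_congr' fun n => ?_
    rw [show conjFun N (lam : N → ℂ) x n = lam (MulAut.conjNormal x n) from rfl,
      show MulAut.conjNormal x n = (⟨x * (n : G) * x⁻¹, ‹N.Normal›.conj_mem n.1 n.2 x⟩ : N) from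
        Subtype.ext (MulAut.conjNormal_apply x n)]
  have hgT : ∀ x ∈ T, g * x * g⁻¹ ∈ T := by
    intro x hx
    rw [hT]
    intro n
    have h1 := hinv ⟨g⁻¹ * (n : G) * g, by simpa using ‹N.Normal›.conj_mem n.1 n.2 g⁻¹⟩
    have h3 := hinv ⟨x * (g⁻¹ * (n : G) * g) * x⁻¹, ‹N.Normal›.conj_mem _
      (by simpa using ‹N.Normal›.conj_mem n.1 n.2 g⁻¹) x⟩
    have h2 := (hT x).1 hx ⟨g⁻¹ * (n : G) * g, by simpa using ‹N.Normal›.conj_mem n.1 n.2 g⁻¹⟩
    rw [h2, ← h1] at h3
    convert h3 using 2 <;> exact Subtype.ext (by group)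
  have hgN : g ∈ Subgroup.normalizer (T : Set G) := Subgroup.mem_normalizer_fintype fun x hx => hgT x hx
  set U := T ⊔ Subgroup.zpowers g with hU
  have hUN : U ≤ Subgroup.normalizer (T : Set G) :=
    sup_le Subgroup.le_normalizer (Subgroup.zpowers_le.2 hgN)
  haveI hTn : (T.subgroupOf U).Normal := Subgroup.normal_subgroupOf_of_le_normalizer hUN
  obtain ⟨P, hP⟩ := (show IsPGroup 2 (Subgroup.zpowers
      (⟨g, Subgroup.mem_sup_right (Subgroup.mem_zpowers g)⟩ : U)) from by
    obtain ⟨j, hj⟩ := hg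
    exact IsPGroup.of_card (n := j) (by rw [Nat.card_zpowers, Subgroup.orderOf_mk, hj])).exists_le_sylow
  set S := (P : Subgroup U).map U.subtype ⊓ T with hS
  have hgS : g ∈ Subgroup.normalizer (S : Set G) := by
    refine Subgroup.mem_normalizer_fintype fun x hx => ?_
    obtain ⟨⟨y, hy, rfl⟩, hxT⟩ := hx
    exact ⟨⟨_, (P : Subgroup U).mul_mem ((P : Subgroup U).mul_mem
      (hP (Subgroup.mem_zpowers _)) hy) ((P : Subgroup U).inv_mem (hP (Subgroup.mem_zpowers _))),
      rfl⟩, hgT _ hxT⟩
  have hS2 : ∀ x ∈ S, ∃ j : ℕ, orderOf x = 2 ^ j := by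
    rintro x ⟨⟨y, hy, rfl⟩, -⟩
    obtain ⟨j, hj⟩ := IsPGroup.iff_orderOf.1 P.isPGroup' ⟨y, hy⟩
    exact ⟨j, by rw [← hj, ← Subgroup.orderOf_coe ⟨y, hy⟩, U.subtype_apply, Subgroup.orderOf_coe]⟩
  have hodd : Odd (S.relIndex T) := by
    have h1 : S.relIndex T = (P : Subgroup U).relIndex (T.subgroupOf U) := by
      rw [hS, Subgroup.inf_relIndex_right]
      conv_lhs => rw [show T = (T.subgroupOf U).map U.subtype from by
        rw [Subgroup.map_subgroupOf_eq_of_le le_sup_left]]
      exact Subgroup.relIndex_map_map_of_injective _ _ U.subtype_injective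
    rw [← Nat.not_even_iff_odd, h1, even_iff_two_dvd]
    exact fun h => P.not_dvd_index (h.trans (PrimeParts.relIndex_dvd_index_of_normal' _ _))
  have hST : S ≤ T := inf_le_right
  have hker : ∀ n : N, (n : G) ∈ S → lam n = 1 := by
    intro n hn
    obtain ⟨j, hj⟩ := hS2 _ hn
    rw [Subgroup.orderOf_coe] at hj
    have h1 : lam n ^ 2 ^ j = 1 := by rw [← map_pow, ← hj, pow_orderOf_eq_one, map_one]
    exact orderOf_eq_one_iff.1 (Nat.eq_one_of_dvd_coprimes
      ((Nat.coprime_two_left.2 hm).pow_left j) (orderOf_dvd_of_pow_eq_one h1)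
      (orderOf_dvd_of_pow_eq_one (hlam n)))
  have hNT : N ≤ T := by
    intro x hx
    rw [hT]
    intro n
    rw [show (⟨x * (n : G) * x⁻¹, ‹N.Normal›.conj_mem n.1 n.2 x⟩ : N) = ⟨x, hx⟩ * n * ⟨x, hx⟩⁻¹ from
      Subtype.ext rfl, map_mul, map_mul, mul_comm (lam ⟨x, hx⟩), mul_assoc, ← map_mul,
      mul_inv_cancel, map_one, mul_one]
  have hcard : Nat.card N * Nat.card S = Nat.card ↥(N ⊔ S) * Nat.card ↥(N ⊓ S : Subgroup G) := by
    have h1 : S.relIndex (N ⊔ S) * Nat.card S = Nat.card ↥(N ⊔ S) := by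
      rw [mul_comm]
      have := Subgroup.card_mul_index (S.subgroupOf (N ⊔ S))
      rwa [Nat.card_congr (Subgroup.subgroupOfEquivOfLe (le_sup_right : S ≤ N ⊔ S)).toEquiv] at this
    have h2 : N.relIndex (N ⊔ S) * Nat.card N = Nat.card ↥(N ⊔ S) := by
      rw [mul_comm]
      have := Subgroup.card_mul_index (N.subgroupOf (N ⊔ S))
      rwa [Nat.card_congr (Subgroup.subgroupOfEquivOfLe (le_sup_left : N ≤ N ⊔ S)).toEquiv] at this
    have h3 : N.relIndex S * Nat.card ↥(N ⊓ S : Subgroup G) = Nat.card S := by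
      rw [mul_comm, ← Subgroup.inf_relIndex_right]
      have := Subgroup.card_mul_index ((N ⊓ S).subgroupOf S)
      rwa [Nat.card_congr (Subgroup.subgroupOfEquivOfLe (inf_le_right : N ⊓ S ≤ S)).toEquiv] at this
    rw [Subgroup.relIndex_sup_left] at h2
    calc Nat.card N * Nat.card S = Nat.card N * (N.relIndex S * Nat.card ↥(N ⊓ S : Subgroup G)) := by
          rw [h3]
      _ = _ := by rw [← h2]; ring
  refine exists_real_irr_over N lam S T hT hST hker hgS hinv (k := (N ⊔ S).relIndex T) ?_ ?_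
  · rw [hcard, ← mul_assoc]
    congr 1
    have := Subgroup.card_mul_index ((N ⊔ S).subgroupOf T)
    rw [Nat.card_congr (Subgroup.subgroupOfEquivOfLe (sup_le hNT hST)).toEquiv] at this
    rw [← this, mul_comm]
    rfl
  · exact hodd.of_dvd_nat (Subgroup.relIndex_dvd_of_le_left _ le_sup_right)

end Cfsg.Agent.Char
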