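import Cfsg.Agent.Lib.Char.Clifford
import Cfsg.Agent.Lib.Char.RealChar

/-!
# Frobenius–Schur indicators of induced functions
-/

set_option linter.style.haveILetI false

namespace Cfsg.Agent.Char

universe u

variable {G : Type u} [Group G] [Fintype G]

/-- The indicator of an induced function is a sum over the square roots in `G` of elements of
`H`. -/
theorem fsIndicator_indFun (H : Subgroup G) (θ : H → ℂ) :
    fsIndicator (indFun H θ) = (Nat.card H : ℂ)⁻¹ * ∑ g : G, extendByZero H θ (g * g) := by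
  have : ∀ x : G, ∑ g : G, extendByZero H θ (x⁻¹ * (g * g) * x) =
      ∑ g : G, extendByZero H θ (g * g) := fun x => by
    refine Fintype.sum_equiv (MulAut.conj x⁻¹).toEquiv _ _ fun g => congrArg _ ?_
    simp [mul_assoc]
  simp only [fsIndicator_eq_sum, indFun, ← Finset.mul_sum]
  rw [Finset.sum_comm, Finset.sum_congr rfl fun x _ => this x, Finset.sum_const, Finset.card_univ,
    nsmul_eq_mul, ← Nat.card_eq_fintype_card, mul_left_comm,
    ← mul_assoc (Nat.card G : ℂ)⁻¹, inv_mul_cancel₀ card_ne_zero, one_mul]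

theorem fsIndicator_sum {ι : Type*} (s : Finset ι) (c : ι → ℂ) (f : ι → G → ℂ) :
    fsIndicator (∑ i ∈ s, c i • f i) = ∑ i ∈ s, c i * fsIndicator (f i) := by
  simp only [fsIndicator_eq_sum, Finset.sum_apply, Pi.smul_apply, smul_eq_mul, Finset.mul_sum]
  rw [Finset.sum_comm]
  exact Finset.sum_congr rfl fun i _ => Finset.sum_congr rfl fun g _ => by ring

theorem fsIndicator_indFun_eq_sum (H : Subgroup G) {θ : H → ℂ} :
    fsIndicator (indFun H θ) =
      ∑ χ : IrrCharacter G, classInner (indFun H θ) χ.1 * fsIndicator χ.1 := by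
  conv_lhs => rw [eq_sum_classInner_smul (isClassFunction_indFun H θ)]
  exact fsIndicator_sum _ _ _

/-- An element of a group of odd order which squares into a normal subgroup lies in it. -/
theorem mem_of_sq_mem_of_odd_index (N : Subgroup G) [N.Normal] (hodd : Odd N.index) {g : G}
    (h : g * g ∈ N) : g ∈ N := by
  rw [← QuotientGroup.eq_one_iff (N := N)] at h ⊢
  rw [QuotientGroup.mk_mul, ← pow_two] at h
  have h1 : orderOf (g : G ⧸ N) ∣ 2 := orderOf_dvd_of_pow_eq_one h
  have h2 : orderOf (g : G ⧸ N) ∣ N.index := by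
    rw [Subgroup.index_eq_card]; exact orderOf_dvd_natCard _
  have := Nat.dvd_gcd h1 h2
  rw [(Nat.coprime_two_left.2 hodd : Nat.gcd 2 N.index = 1)] at this
  exact orderOf_eq_one_iff.1 (Nat.eq_one_of_dvd_one this)

/-- In a group of odd order a real class is trivial. -/
theorem mem_of_conj_inv_of_odd_index (N : Subgroup G) [N.Normal] (hodd : Odd N.index) {n g : G}
    (hn : n ∈ N) (h : IsConj (n * g) g⁻¹) : g ∈ N := by
  obtain ⟨c, hc⟩ := isConj_iff.1 h
  refine mem_of_sq_mem_of_odd_index N hodd ?_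
  rw [← QuotientGroup.eq_one_iff (N := N) (g * g)]
  have hc' := congrArg (QuotientGroup.mk' N) hc
  simp only [map_mul, map_inv, show (QuotientGroup.mk' N) n = 1 from (QuotientGroup.eq_one_iff n).2 hn,
    one_mul] at hc'
  set a := (QuotientGroup.mk' N) g
  set b := (QuotientGroup.mk' N) c
  -- `b` inverts `a`, so `b ^ 2` centralises `a`, and `b` is a power of `b ^ 2`
  have h2 : Commute (b ^ 2) a := by
    have h3 : b * a⁻¹ * b⁻¹ = a := by
      rw [show b * a⁻¹ * b⁻¹ = (b * a * b⁻¹)⁻¹ by group, hc', inv_inv]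
    have h4 : b ^ 2 * a * (b ^ 2)⁻¹ = a := by
      rw [pow_two, show b * b * a * (b * b)⁻¹ = b * (b * a * b⁻¹) * b⁻¹ by group, hc', h3]
    exact mul_inv_eq_iff_eq_mul.1 h4
  have hco : Nat.Coprime 2 (orderOf b) := (Nat.coprime_two_left.2 hodd).coprime_dvd_right (by
    rw [Subgroup.index_eq_card]; exact orderOf_dvd_natCard _)
  obtain ⟨m, hm⟩ := exists_pow_eq_self_of_coprime hco
  have h5 : Commute b a := hm ▸ h2.pow_left m
  have h6 : a = a⁻¹ := by rw [← hc', h5.eq, mul_inv_cancel_right]
  show a * a = 1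
  nth_rewrite 2 [h6]
  exact mul_inv_cancel a

end Cfsg.Agent.Char
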