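import Cfsg.Agent.Lib.Char.PPrimeOrbits
import Cfsg.Agent.Lib.Char.NormalAction
import Cfsg.Agent.Lib.Char.RealInduction
import Cfsg.Agent.Lib.OddDeg.Basic

/-!
# Real classes when the real characters have degree prime to `p`

If `K` is a normal `p'`-subgroup of odd index containing all 2-elements and all real irreducible
characters of `G` have degree prime to `p`, then every real element has class size prime to `p`.
-/

set_option autoImplicit false
set_option linter.style.haveILetI false

namespace Cfsg.Agent.Char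

open Cfsg
open scoped ComplexConjugate

universe u v w

section Counting

variable {A : Type v} [Group A] {X : Type w} [Finite X] [MulAction A X]

/-- The orbits with a property, counted with weights. -/
theorem card_orbits_eq_sum [Fintype X] (P : MulAction.orbitRel.Quotient A X → Prop)
    [DecidablePred P] :
    (Nat.card {q : MulAction.orbitRel.Quotient A X // P q} : ℚ) =
      ∑ x : X, if P (Quotient.mk'' x) then ((Nat.card (MulAction.orbit A x) : ℕ) : ℚ)⁻¹ else 0 := by
  classical
  haveI := Fintype.ofFinite (MulAction.orbitRel.Quotient A X)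
  rw [← Finset.sum_fiberwise Finset.univ (fun x : X => (Quotient.mk'' x : MulAction.orbitRel.Quotient A X)),
    Nat.card_eq_fintype_card, Fintype.card_subtype, Finset.natCast_card_filter]
  refine Finset.sum_congr rfl fun q _ => ?_
  induction q using Quotient.inductionOn' with
  | h x₀ =>
    have hfib : Finset.univ.filter (fun x : X =>
        (Quotient.mk'' x : MulAction.orbitRel.Quotient A X) = Quotient.mk'' x₀) =
        Finset.univ.filter (fun x : X => x ∈ MulAction.orbit A x₀) := by
      refine Finset.filter_congr fun x _ => ?_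
      rw [Quotient.eq'', MulAction.orbitRel_apply]
    rw [Finset.sum_congr rfl (g := fun _ => if P (Quotient.mk'' x₀) then
      ((Nat.card (MulAction.orbit A x₀) : ℕ) : ℚ)⁻¹ else 0) fun x hx => ?_, Finset.sum_const, hfib]
    · rw [← Fintype.card_subtype, ← Nat.card_eq_fintype_card]
      have hpos : ((Nat.card (MulAction.orbit A x₀) : ℕ) : ℚ) ≠ 0 := by
        haveI : Nonempty (MulAction.orbit A x₀) := ⟨⟨x₀, MulAction.mem_orbit_self x₀⟩⟩
        exact Nat.cast_ne_zero.2 Nat.card_pos.ne'
      split_ifs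
      · rw [nsmul_eq_mul]
        exact (mul_inv_cancel₀ hpos).symm
      · rw [smul_zero]
    · rw [(Finset.mem_filter.1 hx).2]
      have : MulAction.orbit A x = MulAction.orbit A x₀ := MulAction.orbit_eq_iff.2
        ((MulAction.orbitRel_apply).1 (Quotient.exact' (Finset.mem_filter.1 hx).2))
      rw [this]

/-- The product of `A` with `ℤˣ` acting through an involution which commutes with `A`. -/
@[instance_reducible]
def signedAction (T : X → X) (hT : Function.Involutive T) (hc : ∀ (a : A) x, T (a • x) = a • T x) :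
    MulAction (ℤˣ × A) X where
  smul b x := if b.1 = 1 then b.2 • x else T (b.2 • x)
  one_smul x := by show (if (1 : ℤˣ) = 1 then (1 : A) • x else _) = x; simp
  mul_smul b b' x := by
    show (if b.1 * b'.1 = 1 then (b.2 * b'.2) • x else T ((b.2 * b'.2) • x)) =
      (if b.1 = 1 then b.2 • (if b'.1 = 1 then b'.2 • x else T (b'.2 • x))
        else T (b.2 • (if b'.1 = 1 then b'.2 • x else T (b'.2 • x))))
    rcases Int.units_eq_one_or b.1 with h | h <;> rcases Int.units_eq_one_or b'.1 with h' | h' <;>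
      simp [h, h', mul_smul, hc, hT _]

/-- Fixed orbits from the two orbit counts. -/
theorem fixed_orbit_sum [Fintype X] [DecidableEq X] (T : X → X) (hT : Function.Involutive T)
    (hc : ∀ (a : A) x, T (a • x) = a • T x) (hsep : ∀ (a : A) x, a • x = T x → T x = x)
    (good : ℕ → Prop) [DecidablePred good] (hgood : ∀ n, good (2 * n) ↔ good n) :
    letI := signedAction (A := A) T hT hc
    (∑ x : X, if T x = x ∧ good (Nat.card (MulAction.orbit A x)) then
        ((Nat.card (MulAction.orbit A x) : ℕ) : ℚ)⁻¹ else 0) =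
      2 * (∑ x : X, if good (Nat.card (MulAction.orbit (ℤˣ × A) x)) then
        ((Nat.card (MulAction.orbit (ℤˣ × A) x) : ℕ) : ℚ)⁻¹ else 0) -
      ∑ x : X, if good (Nat.card (MulAction.orbit A x)) then
        ((Nat.card (MulAction.orbit A x) : ℕ) : ℚ)⁻¹ else 0 := by
  classical
  letI := signedAction (A := A) T hT hc
  rw [Finset.mul_sum, ← Finset.sum_sub_distrib]
  refine Finset.sum_congr rfl fun x _ => ?_
  have horb : MulAction.orbit (ℤˣ × A) x = MulAction.orbit A x ∪ T '' MulAction.orbit A x := by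
    ext y
    constructor
    · rintro ⟨⟨e, a⟩, rfl⟩
      rcases Int.units_eq_one_or e with rfl | rfl
      · exact Or.inl ⟨a, (if_pos rfl).symm⟩
      · exact Or.inr ⟨a • x, ⟨a, rfl⟩, (if_neg (by decide : ¬ ((-1 : ℤˣ) = 1))).symm⟩
    · rintro (⟨a, rfl⟩ | ⟨_, ⟨a, rfl⟩, rfl⟩)
      · exact ⟨(1, a), if_pos rfl⟩
      · exact ⟨(-1, a), if_neg (by decide : ¬ ((-1 : ℤˣ) = 1))⟩
  by_cases hx : T x = x
  · have hsame : T '' MulAction.orbit A x ⊆ MulAction.orbit A x := by
      rintro _ ⟨_, ⟨a, rfl⟩, rfl⟩
      exact ⟨a, by simp only; rw [hc, hx]⟩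
    rw [horb, Set.union_eq_self_of_subset_right hsame]
    simp only [hx, true_and]
    split_ifs <;> ring
  · have hdis : Disjoint (MulAction.orbit A x) (T '' MulAction.orbit A x) := by
      rw [Set.disjoint_left]
      rintro _ ⟨a, rfl⟩ ⟨_, ⟨b, rfl⟩, hb⟩
      refine hx (hsep (b⁻¹ * a) x ?_)
      simp only at hb
      rw [mul_smul, ← hb, hc, inv_smul_smul]
    have hcard : Nat.card (MulAction.orbit (ℤˣ × A) x) = 2 * Nat.card (MulAction.orbit A x) := by
      rw [horb, Nat.card_coe_set_eq, Set.ncard_union_eq hdis, Set.ncard_image_of_injective _ hT.injective,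
        Nat.card_coe_set_eq, two_mul]
    rw [hcard]
    simp only [hx, false_and, if_false, hgood]
    split_ifs
    · push_cast
      rw [mul_inv, ← mul_assoc, mul_inv_cancel₀ (by norm_num : (2 : ℚ) ≠ 0), one_mul, sub_self]
    · ring

end Counting

variable {G : Type u} [Group G]

/-- A real irreducible character of a normal subgroup of odd index lies below a real one. -/
theorem exists_real_irr_over_of_odd_index [Fintype G] (K : Subgroup G) [K.Normal] [Fintype K]
    (hodd : Odd K.index) (θ : IrrCharacter K) (hθ : ∀ g, (θ.1 g).im = 0) :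
    ∃ χ : IrrCharacter G, (∀ g, (χ.1 g).im = 0) ∧ classInner (resFun K χ.1) θ.1 ≠ 0 := by
  classical
  haveI := Fintype.ofFinite (inertia K θ.1)
  obtain ⟨m, hm, hm'⟩ := IsCharacter.exists_decomp
    (isCharacter_indFun K (IsIrrCharacter.isCharacter θ.2))
  have hres : ∀ χ : IrrCharacter G, classInner (resFun K χ.1) θ.1 = (m χ : ℂ) := fun χ => by
    rw [← conj_classInner θ.1, show resFun K χ.1 = fun h : K => χ.1 h from rfl, ← classInner_indFun K θ.1 (IsCharacter.isClassFunction (irr_isCharacter χ)),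
      hm' χ, map_natCast]
  have hsym : ∀ χ, m (conjIrr χ) = m χ := by
    intro χ
    have h : classInner (resFun K (conjIrr χ).1) θ.1 = conj (classInner (resFun K χ.1) θ.1) := by
      simp only [classInner, map_mul, map_inv₀, map_natCast, map_sum, resFun_apply, conjIrr_apply,
        Complex.conj_eq_iff_im.2 (hθ _)]
    rw [hres, hres, map_natCast] at h
    exact_mod_cast h
  have hsq : ((∑ χ, m χ * m χ : ℕ) : ℂ) = (Nat.card (inertia K θ.1) : ℂ) / Nat.card K := by
    have h1 : classInner (resFun K (indFun K θ.1)) θ.1 =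
        (Nat.card (inertia K θ.1) : ℂ) / Nat.card K := by
      rw [resFun_indFun, classInner_smul_left, classInner_sum_left,
        Finset.sum_congr rfl (g := fun x => if x ∈ inertia K θ.1 then (1 : ℂ) else 0) fun x _ => ?_,
        Finset.sum_boole, ← Fintype.card_subtype, ← Nat.card_eq_fintype_card, inv_mul_eq_div]
      split_ifs with hx
      · rw [show conjFun K θ.1 x = θ.1 from hx]; exact classInner_irr_self θ.2
      · exact classInner_irr_of_ne (isIrrCharacter_conjFun K θ.2 x) θ.2 hx
    rw [← h1, hm, show resFun K (∑ ψ, (m ψ : ℂ) • ψ.1) = ∑ ψ, (m ψ : ℂ) • resFun K ψ.1 from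
      funext fun n => by simp, classInner_sum_left]
    push_cast
    exact Finset.sum_congr rfl fun ψ _ => by rw [classInner_smul_left, hres]
  have hdvd : Nat.card K * K.relIndex (inertia K θ.1) = Nat.card (inertia K θ.1) := by
    have := Subgroup.card_mul_index (K.subgroupOf (inertia K θ.1))
    rwa [Nat.card_congr (Subgroup.subgroupOfEquivOfLe (irr_le_inertia K θ)).toEquiv] at this
  have hsum : ∑ χ, m χ * m χ = K.relIndex (inertia K θ.1) := by
    have : ((∑ χ, m χ * m χ : ℕ) : ℂ) = (K.relIndex (inertia K θ.1) : ℂ) := by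
      rw [hsq, ← hdvd, Nat.cast_mul, mul_div_cancel_left₀]
      exact card_ne_zero
    exact_mod_cast this
  obtain ⟨χ, -, hχ, hodd'⟩ := OddDeg.exists_fixed_of_odd Finset.univ (conjIrr (G := G))
    (fun _ _ => Finset.mem_univ _) (fun a _ => conjIrr_conjIrr a) (fun χ => m χ * m χ)
    (fun a _ => by rw [hsym]) (hsum ▸ hodd.of_dvd_nat (Subgroup.relIndex_dvd_index_of_normal ..))
  refine ⟨χ, (conjIrr_eq_self_iff χ).1 hχ, ?_⟩
  rw [hres, Nat.cast_ne_zero]
  rintro h0
  simp [h0] at hodd'

/-- Real elements have class size prime to `p`. -/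
theorem real_class_pPrime [Fintype G] {p : ℕ} [hp : Fact p.Prime] (hp2 : p ≠ 2) (K : Subgroup G)
    [K.Normal] (hodd : Odd K.index) (h2 : ∀ g : G, (∃ j : ℕ, orderOf g = 2 ^ j) → g ∈ K)
    (hK : ¬ p ∣ Nat.card K)
    (hreal : ∀ χ : IrrCharacter G, (∀ g, (χ.1 g).im = 0) → ¬ p ∣ charDegree χ.1)
    (x : G) (hx : IsConj x x⁻¹) : ¬ p ∣ (Subgroup.centralizer ({x} : Set G)).index := by
  classical
  haveI := Fintype.ofFinite K
  haveI : Finite (ConjClasses K) := Finite.of_surjective _ ConjClasses.mk_surjective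
  haveI := Fintype.ofFinite (ConjClasses K)
  letI := irrConjAction K
  letI := classConjAction K
  -- separation: `g` fixes every point it sends to its partner
  have hsep : ∀ {Z : Type u} [MulAction G Z] (T : Z → Z), Function.Involutive T →
      (∀ (g : G) z, T (g • z) = g • T z) → (∀ g ∈ K, ∀ z : Z, g • z = z) →
      ∀ (g : G) z, g • z = T z → T z = z := by
    intro Z _ T hT hc hK' g z hg
    obtain ⟨a, m, hm, hgo⟩ := Nat.exists_eq_pow_mul_and_not_dvd (orderOf_pos g).ne' 2 (by norm_num)
    have hmodd : Odd m := Nat.odd_iff.2 (Nat.two_dvd_ne_zero.1 hm)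
    have hgm : g ^ m ∈ K := h2 _ ⟨a, by
      rw [orderOf_pow, hgo, Nat.gcd_eq_right (dvd_mul_left _ _), Nat.mul_div_cancel _ hmodd.pos]⟩
    have hpow : ∀ k : ℕ, g ^ (2 * k + 1) • z = T z := by
      intro k
      induction k with
      | zero => simpa using hg
      | succ k ih =>
        rw [show 2 * (k + 1) + 1 = 2 * k + 1 + 1 + 1 by ring, pow_succ', pow_succ', mul_smul,
          mul_smul, ih, ← hc, hg, hT, hg]
    obtain ⟨k, rfl⟩ := hmodd
    rw [← hpow k, hK' _ hgm]
  -- the two involutions
  have hcχ : ∀ (g : G) (χ : IrrCharacter K), conjIrr (g • χ) = g • conjIrr χ := fun g χ =>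
    Subtype.ext (funext fun n => rfl)
  have hcc : ∀ (g : G) (c : ConjClasses K), classInvPerm (g • c) = g • classInvPerm c := by
    intro g c
    obtain ⟨k, rfl⟩ := ConjClasses.mk_surjective c
    rw [classConjAction_smul_mk, classInvPerm_mk, classInvPerm_mk, classConjAction_smul_mk, map_inv]
  have hinvI : Function.Involutive (conjIrr (G := K)) := conjIrr_conjIrr
  have hinvC : Function.Involutive (classInvPerm (G := K)) := fun c => by
    obtain ⟨k, rfl⟩ := ConjClasses.mk_surjective c
    rw [classInvPerm_mk, classInvPerm_mk, inv_inv]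
  have hsepI := hsep (conjIrr (G := K)) hinvI hcχ fun g hg θ => by
    rw [irrConjAction_smul, conjChar_of_mem K θ (K.inv_mem hg)]
  have hsepC := hsep (classInvPerm (G := K)) hinvC hcc fun g hg c => classConj_of_mem K c hg
  have hgoodT : ∀ n : ℕ, (fun _ : ℕ => True) (2 * n) ↔ (fun _ : ℕ => True) n := fun n => Iff.rfl
  have hgoodP : ∀ n : ℕ, (fun n : ℕ => ¬ p ∣ n) (2 * n) ↔ (fun n : ℕ => ¬ p ∣ n) n := fun n =>
    not_congr ⟨fun h => ((Nat.Prime.dvd_mul hp.out).1 h).resolve_left fun h' => hp2
      ((Nat.prime_dvd_prime_iff_eq hp.out Nat.prime_two).1 h'), fun h => h.mul_left 2⟩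
  -- compatibility
  have hA : ∀ (g : G) (θ : IrrCharacter K) (c : ConjClasses K),
      classValue (g • θ) (g • c) = classValue θ c := classValue_conj_smul K
  letI := signedAction (A := G) (conjIrr (G := K)) hinvI hcχ
  letI := signedAction (A := G) (classInvPerm (G := K)) hinvC hcc
  have hB : ∀ (b : ℤˣ × G) (θ : IrrCharacter K) (c : ConjClasses K),
      classValue (b • θ) (b • c) = classValue θ c := by
    rintro ⟨e, g⟩ θ c
    show classValue (if e = 1 then g • θ else conjIrr (g • θ))
      (if e = 1 then g • c else classInvPerm (g • c)) = _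
    by_cases he : e = 1
    · rw [if_pos he, if_pos he]; exact hA g θ c
    · rw [if_neg he, if_neg he, ← conjPerm_apply, classValue_conjPerm]; exact hA g θ c
  have horbX : ∀ {B : Type u} [Group B] {Z : Type u} [MulAction B Z] (z : Z),
      Nat.card {y : Z // (Quotient.mk'' y : MulAction.orbitRel.Quotient B Z) = Quotient.mk'' z} =
        Nat.card (MulAction.orbit B z) := fun {B} _ {Z} _ z =>
    Nat.card_congr (Equiv.subtypeEquivRight fun y => by
      rw [Quotient.eq'', MulAction.orbitRel_apply])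
  -- equal weighted counts
  have hAp : (∑ θ : IrrCharacter K, if ¬ p ∣ Nat.card (MulAction.orbit G θ) then
      ((Nat.card (MulAction.orbit G θ) : ℕ) : ℚ)⁻¹ else 0) =
      ∑ c : ConjClasses K, if ¬ p ∣ Nat.card (MulAction.orbit G c) then
      ((Nat.card (MulAction.orbit G c) : ℕ) : ℚ)⁻¹ else 0 := by
    have h := congrArg (fun n : ℕ => (n : ℚ)) (card_pPrime_orbits_eq hK hA)
    simp only [card_orbits_eq_sum, horbX] at h
    exact h
  have hBp : (∑ θ : IrrCharacter K, if ¬ p ∣ Nat.card (MulAction.orbit (ℤˣ × G) θ) then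
      ((Nat.card (MulAction.orbit (ℤˣ × G) θ) : ℕ) : ℚ)⁻¹ else 0) =
      ∑ c : ConjClasses K, if ¬ p ∣ Nat.card (MulAction.orbit (ℤˣ × G) c) then
      ((Nat.card (MulAction.orbit (ℤˣ × G) c) : ℕ) : ℚ)⁻¹ else 0 := by
    have h := congrArg (fun n : ℕ => (n : ℚ)) (card_pPrime_orbits_eq hK hB)
    simp only [card_orbits_eq_sum] at h
    have hfib : ∀ {Z : Type u} [MulAction (ℤˣ × G) Z] (z : Z),
        Nat.card {y : Z // (Quotient.mk'' y : MulAction.orbitRel.Quotient (ℤˣ × G) Z) = Quotient.mk'' z} =
          Nat.card (MulAction.orbit (ℤˣ × G) z) := fun {Z} _ z =>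
      Nat.card_congr (Equiv.subtypeEquivRight fun y => by
        rw [Quotient.eq'', MulAction.orbitRel_apply])
    simp only [hfib] at h
    exact h
  have htot : ∀ {B : Type u} [Group B] [Finite B] [MulAction B (IrrCharacter K)]
      [MulAction B (ConjClasses K)],
      (∀ (b : B) (θ : IrrCharacter K) (c : ConjClasses K),
        classValue (b • θ) (b • c) = classValue θ c) →
      (∑ θ : IrrCharacter K, if True then ((Nat.card (MulAction.orbit B θ) : ℕ) : ℚ)⁻¹ else 0) =
      ∑ c : ConjClasses K, if True then ((Nat.card (MulAction.orbit B c) : ℕ) : ℚ)⁻¹ else 0 := by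
    intro B _ _ _ _ h
    rw [← card_orbits_eq_sum (fun _ : MulAction.orbitRel.Quotient B (IrrCharacter K) => True),
      ← card_orbits_eq_sum (fun _ : MulAction.orbitRel.Quotient B (ConjClasses K) => True)]
    have := card_orbits_irr_eq_classes h
    rw [Nat.card_congr (Equiv.subtypeUnivEquiv fun _ => trivial),
      Nat.card_congr (Equiv.subtypeUnivEquiv fun _ => trivial)]
    exact_mod_cast this
  have eP1 := fixed_orbit_sum (A := G) (conjIrr (G := K)) hinvI hcχ hsepI (fun n : ℕ => ¬ p ∣ n) hgoodP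
  have eP2 := fixed_orbit_sum (A := G) (classInvPerm (G := K)) hinvC hcc hsepC (fun n : ℕ => ¬ p ∣ n) hgoodP
  have eT1 := fixed_orbit_sum (A := G) (conjIrr (G := K)) hinvI hcχ hsepI (fun _ : ℕ => True) hgoodT
  have eT2 := fixed_orbit_sum (A := G) (classInvPerm (G := K)) hinvC hcc hsepC (fun _ : ℕ => True) hgoodT
  -- real characters have orbits of size prime to `p`
  have hθgood : ∀ θ : IrrCharacter K, conjIrr θ = θ → ¬ p ∣ Nat.card (MulAction.orbit G θ) := by
    intro θ hθ hd
    obtain ⟨χ, hχr, hχ⟩ := exists_real_irr_over_of_odd_index K hodd θ ((conjIrr_eq_self_iff θ).1 hθ)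
    refine hreal χ hχr ?_
    obtain ⟨m, hm⟩ := IsCharacter.exists_nat_classInner (IsCharacter.restrict (irr_isCharacter χ) K)
      (irr_isCharacter θ)
    have h1 := apply_one_eq_mul_card_orbit K χ θ hχ
    rw [show classInner (resFun K χ.1) θ.1 = (m : ℂ) from hm, ← charDegree_cast, ← charDegree_cast] at h1
    have h2 : charDegree χ.1 = m * ((orbitFinset K θ).card * charDegree θ.1) := by exact_mod_cast h1
    rw [h2]
    refine Dvd.dvd.mul_left (Dvd.dvd.mul_right ?_ _) m
    rw [← index_inertia K θ]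
    have hst : MulAction.stabilizer G θ = inertia K θ.1 := by
      ext g
      rw [MulAction.mem_stabilizer_iff, mem_inertia, irrConjAction_smul, Subtype.ext_iff, conjChar_coe,
        ← conjFun_eq_iff]
    rwa [← hst, MulAction.index_stabilizer, ← Nat.card_coe_set_eq]
  -- the real element
  have hxK : x ∈ K := mem_of_conj_inv_of_odd_index K hodd K.one_mem (by rwa [one_mul])
  obtain ⟨g, hg⟩ := isConj_iff.1 hx
  obtain ⟨a, m, hm, hgo⟩ := Nat.exists_eq_pow_mul_and_not_dvd (orderOf_pos g).ne' 2 (by norm_num)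
  have hmodd : Odd m := Nat.odd_iff.2 (Nat.two_dvd_ne_zero.1 hm)
  have hgm : g ^ m ∈ K := h2 _ ⟨a, by
    rw [orderOf_pow, hgo, Nat.gcd_eq_right (dvd_mul_left _ _), Nat.mul_div_cancel _ hmodd.pos]⟩
  have hinv : ∀ k : ℕ, g ^ (2 * k + 1) * x * (g ^ (2 * k + 1))⁻¹ = x⁻¹ := by
    intro k
    induction k with
    | zero => simpa using hg
    | succ k ih =>
      have e : g * x⁻¹ * g⁻¹ = x := by
        rw [show g * x⁻¹ * g⁻¹ = (g * x * g⁻¹)⁻¹ by group, hg, inv_inv]
      calc g ^ (2 * (k + 1) + 1) * x * (g ^ (2 * (k + 1) + 1))⁻¹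
          = g * (g * (g ^ (2 * k + 1) * x * (g ^ (2 * k + 1))⁻¹) * g⁻¹) * g⁻¹ := by
            rw [show 2 * (k + 1) + 1 = 2 * k + 1 + 1 + 1 by ring, pow_succ', pow_succ']; group
        _ = g * x * g⁻¹ := by rw [ih, e]
        _ = x⁻¹ := hg
  set c : ConjClasses K := ConjClasses.mk ⟨x, hxK⟩ with hc
  have hcT : classInvPerm c = c := by
    obtain ⟨k, hk⟩ := hmodd
    rw [hc, classInvPerm_mk, ConjClasses.mk_eq_mk_iff_isConj]
    refine (isConj_iff.2 ⟨⟨g ^ m, hgm⟩, Subtype.ext ?_⟩).symm
    simpa [hk] using hinv k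
  -- every real class has an orbit of size prime to `p`
  have hgoodc : ¬ p ∣ Nat.card (MulAction.orbit G c) := by
    intro hd
    have hall : (∑ θ : IrrCharacter K, if conjIrr θ = θ ∧ ¬ p ∣ Nat.card (MulAction.orbit G θ) then
          ((Nat.card (MulAction.orbit G θ) : ℕ) : ℚ)⁻¹ else 0) =
        ∑ θ : IrrCharacter K, if conjIrr θ = θ ∧ True then
          ((Nat.card (MulAction.orbit G θ) : ℕ) : ℚ)⁻¹ else 0 :=
      Finset.sum_congr rfl fun θ _ => by
        by_cases h : conjIrr θ = θ
        · rw [if_pos ⟨h, hθgood θ h⟩, if_pos ⟨h, trivial⟩]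
        · rw [if_neg fun h' => h h'.1, if_neg fun h' => h h'.1]
    have hlt : (∑ d : ConjClasses K, if classInvPerm d = d ∧ ¬ p ∣ Nat.card (MulAction.orbit G d) then
          ((Nat.card (MulAction.orbit G d) : ℕ) : ℚ)⁻¹ else 0) <
        ∑ d : ConjClasses K, if classInvPerm d = d ∧ True then
          ((Nat.card (MulAction.orbit G d) : ℕ) : ℚ)⁻¹ else 0 := by
      refine Finset.sum_lt_sum (fun d _ => ?_) ⟨c, Finset.mem_univ c, ?_⟩
      · by_cases h : classInvPerm d = d
        · rw [if_pos (⟨h, trivial⟩ : classInvPerm d = d ∧ True)]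
          split_ifs
          · exact le_rfl
          · positivity
        · rw [if_neg fun h' => h h'.1, if_neg fun h' => h h'.1]
      · rw [if_neg fun h' => h'.2 hd, if_pos ⟨hcT, trivial⟩]
        haveI : Nonempty (MulAction.orbit G c) := ⟨⟨c, MulAction.mem_orbit_self c⟩⟩
        exact inv_pos.2 (Nat.cast_pos.2 Nat.card_pos)
    rw [eP2, eT2, ← hAp, ← hBp, ← htot hA, ← htot hB, ← eP1, ← eT1, hall] at hlt
    exact lt_irrefl _ hlt
  -- from the orbit to the element
  set C := Subgroup.centralizer ({x} : Set G) with hC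
  set St := MulAction.stabilizer G c with hSt
  have hCSt : C ≤ St := by
    intro y hy
    rw [hSt, MulAction.mem_stabilizer_iff, hc, classConjAction_smul_mk]
    refine congrArg ConjClasses.mk (Subtype.ext ?_)
    rw [MulAut.conjNormal_apply]
    exact mul_inv_eq_iff_eq_mul.2 (Subgroup.mem_centralizer_singleton_iff.1 hy)
  have hStK : ∀ y ∈ St, ∃ k ∈ K, k * y ∈ C := by
    intro y hy
    rw [hSt, MulAction.mem_stabilizer_iff, hc, classConjAction_smul_mk,
      ConjClasses.mk_eq_mk_iff_isConj] at hy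
    obtain ⟨k, hk⟩ := isConj_iff.1 hy
    have hk' : (k : G) * (y * x * y⁻¹) * (k : G)⁻¹ = x := by
      simpa [MulAut.conjNormal_apply] using congrArg Subtype.val hk
    refine ⟨k, k.2, Subgroup.mem_centralizer_singleton_iff.2 ?_⟩
    calc (k : G) * y * x = ((k : G) * (y * x * y⁻¹) * (k : G)⁻¹) * ((k : G) * y) := by group
      _ = x * ((k : G) * y) := by rw [hk']
  have hKSt : K ≤ St := fun y hy => by
    rw [hSt, MulAction.mem_stabilizer_iff]; exact classConj_of_mem K c hy
  have hindex : C.index = C.relIndex St * Nat.card (MulAction.orbit G c) := by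
    rw [← Subgroup.relIndex_mul_index hCSt, MulAction.index_stabilizer, Nat.card_coe_set_eq]
  have hrel : C.relIndex St ∣ Nat.card K := by
    have hSteq : St = K ⊔ C := le_antisymm (fun y hy => by
      obtain ⟨k, hk, hky⟩ := hStK y hy
      rw [show y = k⁻¹ * (k * y) by group]
      exact Subgroup.mul_mem_sup (K.inv_mem hk) hky) (sup_le hKSt hCSt)
    have h1 : Nat.card C * C.relIndex St = Nat.card St := by
      have := Subgroup.card_mul_index (C.subgroupOf St)
      rwa [Nat.card_congr (Subgroup.subgroupOfEquivOfLe hCSt).toEquiv] at this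
    have h2 : Nat.card K * K.relIndex St = Nat.card St := by
      have := Subgroup.card_mul_index (K.subgroupOf St)
      rwa [Nat.card_congr (Subgroup.subgroupOfEquivOfLe hKSt).toEquiv] at this
    have h3 : Nat.card ↥(K ⊓ C : Subgroup G) * K.relIndex C = Nat.card C := by
      rw [← Subgroup.inf_relIndex_right]
      have := Subgroup.card_mul_index ((K ⊓ C).subgroupOf C)
      rwa [Nat.card_congr (Subgroup.subgroupOfEquivOfLe (inf_le_right : K ⊓ C ≤ C)).toEquiv] at this
    have hrel0 : K.relIndex St = K.relIndex C := by rw [hSteq, Subgroup.relIndex_sup_left]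
    have hr0 : 0 < K.relIndex C := Nat.pos_of_ne_zero Subgroup.index_ne_zero_of_finite
    refine Dvd.intro_left (Nat.card ↥(K ⊓ C : Subgroup G)) (Nat.eq_of_mul_eq_mul_right hr0 ?_)
    rw [hrel0] at h2
    calc Nat.card ↥(K ⊓ C : Subgroup G) * C.relIndex St * K.relIndex C
        = (Nat.card ↥(K ⊓ C : Subgroup G) * K.relIndex C) * C.relIndex St := by ring
      _ = Nat.card K * K.relIndex C := by rw [h3, h1, h2]
  rw [hindex]
  intro hd
  rcases (Nat.Prime.dvd_mul hp.out).1 hd with h | h
  · exact hK (h.trans hrel)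
  · exact hgoodc h

end Cfsg.Agent.Char
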