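import Cfsg.Agent.Lib.Char.RealAbove
import Cfsg.Agent.Lib.Char.CliffordCorrespondence
import Cfsg.Agent.Lib.Char.KernelSum
import Cfsg.Agent.Lib.Char.Descend
import Mathlib.NumberTheory.MulChar.Duality
import Mathlib.GroupTheory.Nilpotent

/-!
# Groups whose real irreducible characters have degree prime to `p`

A normal subgroup of `G` inside the derived subgroup of a `p`-subgroup is centralised by every
2-element (p odd).
-/

set_option autoImplicit false
set_option linter.style.haveILetI false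

namespace Cfsg.Agent.Char

open scoped ComplexConjugate commutatorElement

universe u

variable {G : Type u} [Group G]

/-- A linear character of a normal subgroup inside `[P, P]` below a character of degree prime to
`p` is trivial. -/
theorem linear_trivial_of_coprime_degree [Fintype G] {p : ℕ} [hp : Fact p.Prime]
    (χ : IrrCharacter G) (hχ : ¬ p ∣ charDegree χ.1) {P : Subgroup G} (hP : IsPGroup p P)
    (M : Subgroup G) [M.Normal] [Fintype M] (hMP : M ≤ ⁅P, P⁆) (nu : M →* ℂ)
    (hnu : classInner (resFun M χ.1) (nu : M → ℂ) ≠ 0) (n : M) : nu n = 1 := by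
  classical
  haveI := Fintype.ofFinite P
  obtain ⟨m, hm, -⟩ := IsCharacter.exists_decomp (IsCharacter.restrict (irr_isCharacter χ) P)
  obtain ⟨k, hk⟩ := hP.exists_card_eq
  have hdeg : charDegree χ.1 = ∑ η, m η * charDegree η.1 := by
    have := congrFun hm 1
    simp only [Subgroup.coe_one, Finset.sum_apply, Pi.smul_apply, smul_eq_mul,
      ← charDegree_cast] at this
    exact_mod_cast this
  obtain ⟨η, hη⟩ : ∃ η : IrrCharacter P, ¬ p ∣ m η * charDegree η.1 := by
    by_contra hno
    push Not at hno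
    exact hχ (hdeg ▸ Finset.dvd_sum fun η _ => hno η)
  have hη1 : η.1 1 = 1 := by
    have hd : charDegree η.1 ∣ p ^ k := hk ▸ charDegree_dvd_card η
    obtain ⟨j, -, hj⟩ := (Nat.dvd_prime_pow hp.out).1 hd
    rw [← charDegree_cast η, hj]
    rcases j with _ | j
    · simp
    · exact absurd (Dvd.dvd.mul_left (hj ▸ dvd_pow_self p j.succ_ne_zero) (m η)) hη
  obtain ⟨mu, hmu⟩ := IsCharacter.exists_monoidHom (irr_isCharacter η) hη1
  have hMle : M ≤ P := hMP.trans (Subgroup.commutator_le.2 fun a ha b hb =>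
    P.mul_mem (P.mul_mem (P.mul_mem ha hb) (P.inv_mem ha)) (P.inv_mem hb))
  have hker : ∀ a : G, a ∈ ⁅P, P⁆ → ∀ ha : a ∈ P, mu ⟨a, ha⟩ = 1 := by
    intro a ha
    rw [Subgroup.commutator_def] at ha
    induction ha using Subgroup.closure_induction with
    | mem x hx =>
      obtain ⟨a, ha, b, hb, rfl⟩ := hx
      intro hx'
      rw [show (⟨⁅a, b⁆, hx'⟩ : P) = ⟨a, ha⟩ * ⟨b, hb⟩ * ⟨a, ha⟩⁻¹ * ⟨b, hb⟩⁻¹ from Subtype.ext rfl,
        map_mul, map_mul, map_mul, mul_comm (mu ⟨a, ha⟩) (mu ⟨b, hb⟩), mul_assoc (mu ⟨b, hb⟩),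
        ← map_mul, mul_inv_cancel, map_one, mul_one, ← map_mul, mul_inv_cancel, map_one]
    | one => intro hx'; exact map_one mu
    | mul x y hx hy hx1 hy1 =>
      intro hxy
      have hxP : x ∈ P := Subgroup.commutator_le.2 (fun a ha b hb =>
        P.mul_mem (P.mul_mem (P.mul_mem ha hb) (P.inv_mem ha)) (P.inv_mem hb)) (by
          rw [Subgroup.commutator_def]; exact hx)
      have hyP : y ∈ P := Subgroup.commutator_le.2 (fun a ha b hb =>
        P.mul_mem (P.mul_mem (P.mul_mem ha hb) (P.inv_mem ha)) (P.inv_mem hb)) (by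
          rw [Subgroup.commutator_def]; exact hy)
      rw [show (⟨x * y, hxy⟩ : P) = ⟨x, hxP⟩ * ⟨y, hyP⟩ from rfl, map_mul, hx1 hxP, hy1 hyP, mul_one]
    | inv x hx hx1 =>
      intro hxi
      have hxP : x ∈ P := by simpa using P.inv_mem hxi
      have h := map_mul mu ⟨x, hxP⟩ ⟨x⁻¹, hxi⟩
      rw [hx1 hxP, one_mul, show (⟨x, hxP⟩ : P) * ⟨x⁻¹, hxi⟩ = 1 from Subtype.ext (mul_inv_cancel x),
        map_one] at h
      exact h.symm
  have h1 : classInner (resFun M χ.1) (trivialChar M).1 ≠ 0 := by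
    have hres : resFun M χ.1 = ∑ ψ : IrrCharacter P, (m ψ : ℂ) •
        (fun x : M => ψ.1 (Subgroup.inclusion hMle x)) := by
      funext x
      have := congrFun hm (Subgroup.inclusion hMle x)
      simpa using this
    choose e he using fun ψ : IrrCharacter P => IsCharacter.exists_nat_classInner
      (IsCharacter.comp (irr_isCharacter ψ) (Subgroup.inclusion hMle)) (irr_isCharacter (trivialChar M))
    rw [hres, classInner_sum_left,
      Finset.sum_congr rfl (g := fun ψ => ((m ψ * e ψ : ℕ) : ℂ)) fun ψ _ => by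
        rw [classInner_smul_left, he, Nat.cast_mul],
      ← Nat.cast_sum, Nat.cast_ne_zero]
    intro h0
    have h2 := Finset.sum_eq_zero_iff.1 h0 η (Finset.mem_univ η)
    have heta : e η = 1 := by
      have h3 := he η
      rw [show (fun x : M => η.1 (Subgroup.inclusion hMle x)) = (trivialChar M).1 from funext fun x =>
        by rw [← hmu, trivialChar_apply]; exact hker _ (hMP x.2) _,
        classInner_irr_self (trivialChar M).2] at h3
      exact_mod_cast h3.symm
    rw [heta, mul_one] at h2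
    exact hη (by rw [h2, zero_mul]; exact dvd_zero p)
  obtain ⟨x, hx⟩ := exists_conjChar_of_constituents M χ (trivialChar M) (linIrr nu) h1 hnu
  rw [← linIrr_apply nu n, hx]
  rfl

/-- Separation by linear characters. -/
theorem mem_commutator_of_forall_linear {H : Type*} [Group H] [Finite H] {a : H}
    (h : ∀ lam : H →* ℂ, lam a = 1) : a ∈ commutator H := by
  haveI : Finite (Abelianization H) := Finite.of_surjective (Abelianization.of (G := H))
    QuotientGroup.mk_surjective
  haveI : NeZero (Monoid.exponent (Abelianization H) : ℂ) :=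
    ⟨Nat.cast_ne_zero.2 Monoid.exponent_ne_zero_of_finite⟩
  by_contra ha
  obtain ⟨φ, hφ⟩ := CommGroup.exists_apply_ne_one_of_hasEnoughRootsOfUnity (Abelianization H) ℂ
    (a := Abelianization.of a) (fun h1 => ha ((QuotientGroup.eq_one_iff a).1 h1))
  exact hφ (Units.ext (h (((Units.coeHom ℂ).comp φ).comp Abelianization.of)))

/-- If the real irreducible characters have degree prime to the odd prime `p`, every 2-element
centralises every normal subgroup contained in `[P, P]`, for a `p`-subgroup `P`. -/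
theorem commute_of_le_commutator [Finite G] {p : ℕ} [hp : Fact p.Prime] (hp2 : p ≠ 2)
    (hreal : ∀ χ : IrrCharacter G, (∀ g, (χ.1 g).im = 0) → ¬ p ∣ charDegree χ.1)
    {P : Subgroup G} (hP : IsPGroup p P) :
    ∀ (N : ℕ) (M : Subgroup G), M.Normal → M ≤ ⁅P, P⁆ → Nat.card M = N →
      ∀ g : G, (∃ j : ℕ, orderOf g = 2 ^ j) → ∀ x ∈ M, g * x = x * g := by
  classical
  haveI := Fintype.ofFinite G
  intro N
  induction N using Nat.strong_induction_on with
  | _ N ih =>
  intro M hMn hM hN
  haveI := hMn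
  haveI := Fintype.ofFinite M
  have hPP : ⁅P, P⁆ ≤ P := Subgroup.commutator_le.2 fun a ha b hb =>
    P.mul_mem (P.mul_mem (P.mul_mem ha hb) (P.inv_mem ha)) (P.inv_mem hb)
  have hMp : IsPGroup p M := hP.to_le (hM.trans hPP)
  obtain ⟨k, hk⟩ := hMp.exists_card_eq
  have hodd : Odd (Nat.card M) := hk ▸ (hp.out.odd_of_ne_two hp2).pow
  -- linear characters of `M` are invariant under 2-elements
  have hlin : ∀ (j : ℕ) (g : G), g ^ 2 ^ j = 1 → ∀ (lam : M →* ℂ) (x : M),
      lam ⟨g * (x : G) * g⁻¹, hMn.conj_mem x.1 x.2 g⟩ = lam x := by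
    intro j
    induction j with
    | zero =>
      intro g hg lam x
      rw [pow_zero, pow_one] at hg
      exact congrArg lam (Subtype.ext (by simp [hg]))
    | succ j ihj =>
      intro g hg lam x
      have h2 : ∀ x : M, lam ⟨g * g * (x : G) * (g * g)⁻¹, hMn.conj_mem x.1 x.2 _⟩ = lam x :=
        fun x => ihj (g * g) (by rw [← pow_two, ← pow_mul, mul_comm, ← pow_succ]; exact hg) lam x
      let mu : M →* ℂ := lam.comp (MulAut.conjNormal g : MulAut M).toMonoidHom
      have hmu : ∀ y : M, mu y = lam ⟨g * (y : G) * g⁻¹, hMn.conj_mem y.1 y.2 g⟩ := fun y =>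
        congrArg lam (Subtype.ext (MulAut.conjNormal_apply g y))
      let nu : M →* ℂ := lam * (starRingEnd ℂ).toMonoidHom.comp mu
      have hnu : ∀ y : M, nu y = lam y * conj (mu y) := fun y => rfl
      have hinv : ∀ y : M, nu ⟨g * (y : G) * g⁻¹, hMn.conj_mem y.1 y.2 g⟩ = conj (nu y) := by
        intro y
        rw [hnu, hnu, map_mul, Complex.conj_conj, hmu, hmu, mul_comm]
        congr 1
        rw [← h2 y]
        exact congrArg (fun z => conj (lam z)) (Subtype.ext (by simp [mul_assoc]))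
      have hm : ∀ y : M, nu y ^ Nat.card M = 1 := fun y => by
        rw [← map_pow, pow_card_eq_one', map_one]
      have hg2 : ∃ i : ℕ, orderOf g = 2 ^ i := by
        obtain ⟨i, -, hi⟩ := (Nat.dvd_prime_pow Nat.prime_two).1 (orderOf_dvd_of_pow_eq_one hg)
        exact ⟨i, hi⟩
      obtain ⟨χ, hχr, hχ⟩ := exists_real_irr_over_of_odd M nu hodd hm hg2 hinv
      have h1 := linear_trivial_of_coprime_degree χ (hreal χ hχr) hP M hM nu hχ x
      rw [hnu, hmu] at h1
      have h3 := normSq_linear lam (⟨g * (x : G) * g⁻¹, hMn.conj_mem x.1 x.2 g⟩ : M)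
      calc lam ⟨g * (x : G) * g⁻¹, _⟩ = lam x * conj (lam ⟨g * (x : G) * g⁻¹, hMn.conj_mem x.1 x.2 g⟩) *
            lam ⟨g * (x : G) * g⁻¹, hMn.conj_mem x.1 x.2 g⟩ := by rw [h1, one_mul]
        _ = lam x := by rw [mul_assoc, mul_comm (conj _), h3, mul_one]
  intro g hg x hx
  obtain ⟨j, hj⟩ := hg
  have hgj : g ^ 2 ^ j = 1 := hj ▸ pow_orderOf_eq_one g
  have hc : ⁅g, x⁆ ∈ ⁅M, M⁆ := by
    rw [← Subgroup.map_subtype_commutator]
    refine ⟨⟨g * x * g⁻¹, hMn.conj_mem x hx g⟩ * ⟨x, hx⟩⁻¹, mem_commutator_of_forall_linear fun lam => ?_, ?_⟩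
    · rw [map_mul, hlin j g hgj lam ⟨x, hx⟩, ← map_mul, mul_inv_cancel, map_one]
    · rfl
  rcases eq_or_ne M ⊥ with rfl | hne
  · rw [Subgroup.mem_bot.1 hx, mul_one, one_mul]
  have hlt : ⁅M, M⁆ < M := by
    haveI : Group.IsNilpotent M := hMp.isNilpotent
    haveI : Nontrivial M := (Subgroup.nontrivial_iff_ne_bot M).2 hne
    refine lt_of_le_of_ne (Subgroup.commutator_le.2 fun a ha b hb =>
      M.mul_mem (M.mul_mem (M.mul_mem ha hb) (M.inv_mem ha)) (M.inv_mem hb)) fun heq => ?_
    have htop : commutator M = ⊤ := by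
      apply Subgroup.map_injective M.subtype_injective
      rw [Subgroup.map_subtype_commutator, heq, ← MonoidHom.range_eq_map, Subgroup.range_subtype]
    exact (ne_of_lt (Group.IsSolvable.commutator_lt_top_of_nontrivial M)) htop
  have hcard : Nat.card ↥⁅M, M⁆ < N := hN ▸ Set.Finite.card_lt_card (Set.toFinite _) hlt
  have hcomm := ih _ hcard ⁅M, M⁆ inferInstance (hlt.le.trans hM) rfl g ⟨j, hj⟩ _ hc
  set c := ⁅g, x⁆ with hcdef
  have hconj : g * x * g⁻¹ = c * x := by rw [hcdef]; simp [commutatorElement_def, mul_assoc]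
  have hpow : ∀ i : ℕ, g ^ i * x * (g ^ i)⁻¹ = c ^ i * x := by
    intro i
    induction i with
    | zero => simp
    | succ i ihi =>
      have h1 : Commute g (c ^ i) := (show Commute g c from hcomm).pow_right i
      calc g ^ (i + 1) * x * (g ^ (i + 1))⁻¹ = g * (g ^ i * x * (g ^ i)⁻¹) * g⁻¹ := by
            rw [pow_succ']; group
        _ = g * c ^ i * x * g⁻¹ := by rw [ihi]; group
        _ = c ^ i * (g * x * g⁻¹) := by rw [h1.eq]; group
        _ = c ^ (i + 1) * x := by rw [hconj, pow_succ]; group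
  have hc2 : c ^ 2 ^ j = 1 := by
    have := hpow (2 ^ j)
    rw [hgj] at this
    simpa using this
  have hc1 : c = 1 := by
    have hdvd : orderOf c ∣ Nat.card M := M.orderOf_dvd_natCard (hlt.le hc)
    exact orderOf_eq_one_iff.1 (Nat.eq_one_of_dvd_coprimes
      ((Nat.coprime_two_left.2 hodd).pow_left j) (orderOf_dvd_of_pow_eq_one hc2) hdvd)
  exact commutatorElement_eq_one_iff_mul_comm.1 hc1

end Cfsg.Agent.Char
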