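import Cfsg.Agent.Lib.Char.RealPPrimeDegree
import Cfsg.Agent.Lib.PrimeParts.Basic
import Mathlib.GroupTheory.GroupAction.ConjAct

/-!
# Real characters of degree prime to `p`: the Sylow `p`-subgroup of the subgroup generated by the
2-elements is normal
-/

set_option autoImplicit false
set_option linter.style.haveILetI false

namespace Cfsg.Agent.Char

open scoped ComplexConjugate

universe u

variable {G : Type u} [Group G]

/-- The subgroup generated by the elements of `q`-power order. -/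
def powGen (G : Type u) [Group G] (q : ℕ) : Subgroup G :=
  Subgroup.closure {g : G | ∃ k : ℕ, orderOf g = q ^ k}

theorem powGen_normal (q : ℕ) : (powGen G q).Normal := by
  refine ⟨fun n hn g => ?_⟩
  have h := Subgroup.mem_map_of_mem (MulAut.conj g).toMonoidHom hn
  rw [powGen, MonoidHom.map_closure] at h
  refine Subgroup.closure_mono ?_ (by simpa using h)
  rintro _ ⟨x, ⟨k, hk⟩, rfl⟩
  exact ⟨k, by rw [← hk]; exact MulEquiv.orderOf_eq (MulAut.conj g) x⟩

theorem map_powGen [Finite G] {H : Type u} [Group H] (f : G →* H) (hf : Function.Surjective f)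
    {q : ℕ} (hq : q.Prime) : powGen H q = (powGen G q).map f := by
  rw [powGen, powGen, MonoidHom.map_closure]
  refine le_antisymm (Subgroup.closure_mono ?_) (Subgroup.closure_mono ?_)
  · intro y hy
    obtain ⟨b, hb⟩ := hy
    obtain ⟨x, c, rfl, hx⟩ := PrimeParts.exists_primePow_lift f hf hq hb
    exact ⟨x, ⟨c, hx⟩, rfl⟩
  · rintro _ ⟨x, ⟨k, hk⟩, rfl⟩
    obtain ⟨j, -, hj⟩ := (Nat.dvd_prime_pow hq).1 (hk ▸ orderOf_map_dvd f x)
    exact ⟨j, hj⟩

/-- The complement step: a minimal abelian normal `p'`-subgroup with a complement. -/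
theorem centralizes_of_complement [Fintype G] {p : ℕ} [hp : Fact p.Prime]
    (hreal : ∀ χ : IrrCharacter G, (∀ g, (χ.1 g).im = 0) → ¬ p ∣ charDegree χ.1)
    (N : Subgroup G) [N.Normal] [Fintype N] (hab : ∀ a b : N, a * b = b * a)
    (hNp : (Nat.card N).Coprime p) (R : Subgroup G) (hR : IsPGroup p R)
    [hJ : (R ⊔ N).Normal]
    (H : Subgroup G) (hdis : ∀ x ∈ N, x ∈ H → x = 1)
    (hsup : H ⊔ N = ⊤)
    (hfix : ∀ n : N, (∀ r ∈ R, r * (n : G) * r⁻¹ = n) → n = 1)
    {g : G} {j : ℕ} (hg : g ^ 2 ^ j = 1) {x : G} (hx : x ∈ N) : g * x = x * g := by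
  classical
  haveI := Fintype.ofFinite R
  have hHN : ∀ y : G, ∃ h ∈ H, ∀ n : N, y * (n : G) * y⁻¹ = h * (n : G) * h⁻¹ := by
    intro y
    obtain ⟨h, hh, m, hm, rfl⟩ := Subgroup.mem_sup_of_normal_right.1 (hsup ▸ Subgroup.mem_top y :
      y ∈ H ⊔ N)
    refine ⟨h, hh, fun n => ?_⟩
    have := congrArg Subtype.val (hab ⟨m, hm⟩ n)
    simp only [Subgroup.coe_mul] at this
    calc h * m * (n : G) * (h * m)⁻¹ = h * (m * (n : G)) * m⁻¹ * h⁻¹ := by group
      _ = h * (n : G) * h⁻¹ := by rw [this]; group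
  have hNT : ∀ (lam : N →* ℂ) (m : G) (hm : m ∈ N) (n : N),
      lam ⟨m * (n : G) * m⁻¹, ‹N.Normal›.conj_mem n.1 n.2 m⟩ = lam n := by
    intro lam m hm n
    rw [show (⟨m * (n : G) * m⁻¹, ‹N.Normal›.conj_mem n.1 n.2 m⟩ : N) = ⟨m, hm⟩ * n * ⟨m, hm⟩⁻¹
      from Subtype.ext rfl, hab ⟨m, hm⟩ n, mul_inv_cancel_right]
  -- inverted characters are trivial
  have hkey : ∀ (nu : N →* ℂ) (h : G), h ∈ H →
      (∀ n : N, nu ⟨h * (n : G) * h⁻¹, ‹N.Normal›.conj_mem n.1 n.2 h⟩ = conj (nu n)) →
      ∀ n : N, nu n = 1 := by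
    intro nu h hh hinv
    set T := inertia N (nu : N → ℂ) with hTdef
    have hT : ∀ x : G, x ∈ T ↔
        ∀ n : N, nu ⟨x * (n : G) * x⁻¹, ‹N.Normal›.conj_mem n.1 n.2 x⟩ = nu n := by
      intro x
      rw [hTdef, mem_inertia, funext_iff]
      refine forall_congr' fun n => ?_
      rw [show conjFun N (nu : N → ℂ) x n = nu (MulAut.conjNormal x n) from rfl,
        show MulAut.conjNormal x n = (⟨x * (n : G) * x⁻¹, ‹N.Normal›.conj_mem n.1 n.2 x⟩ : N) from
          Subtype.ext (MulAut.conjNormal_apply x n)]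
    have hhT : ∀ t ∈ T, h * t * h⁻¹ ∈ T := by
      intro t ht
      rw [hT]
      intro n
      have h1 := hinv ⟨h⁻¹ * (n : G) * h, by simpa using ‹N.Normal›.conj_mem n.1 n.2 h⁻¹⟩
      have h3 := hinv ⟨t * (h⁻¹ * (n : G) * h) * t⁻¹, ‹N.Normal›.conj_mem _
        (by simpa using ‹N.Normal›.conj_mem n.1 n.2 h⁻¹) t⟩
      have h2 := (hT t).1 ht ⟨h⁻¹ * (n : G) * h, by simpa using ‹N.Normal›.conj_mem n.1 n.2 h⁻¹⟩
      rw [h2, ← h1] at h3
      convert h3 using 2 <;> exact Subtype.ext (by group)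
    have hS : h ∈ Subgroup.normalizer ((T ⊓ H : Subgroup G) : Set G) :=
      Subgroup.mem_normalizer_fintype fun t ht =>
        ⟨hhT t ht.1, H.mul_mem (H.mul_mem hh ht.2) (H.inv_mem hh)⟩
    have hTcard : Nat.card T = Nat.card N * Nat.card ↥(T ⊓ H) := by
      rw [← Nat.card_prod]
      refine (Nat.card_eq_of_bijective (fun q : N × ↥(T ⊓ H) => (⟨(q.2 : G) * q.1,
        T.mul_mem q.2.2.1 ((hT _).2 (hNT nu _ q.1.2))⟩ : T)) ⟨fun a b hab' => ?_, fun t => ?_⟩).symm
      · have e : (a.2 : G) * a.1 = (b.2 : G) * b.1 := congrArg Subtype.val hab'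
        have e1 : (b.2 : G)⁻¹ * a.2 = (b.1 : G) * (a.1 : G)⁻¹ := by
          calc (b.2 : G)⁻¹ * a.2 = (b.2 : G)⁻¹ * ((a.2 : G) * a.1) * (a.1 : G)⁻¹ := by group
            _ = _ := by rw [e]; group
        have e2 := hdis _ (N.mul_mem b.1.2 (N.inv_mem a.1.2))
          (e1 ▸ H.mul_mem (H.inv_mem b.2.2.2) a.2.2.2)
        have e3 : b.1 = a.1 := Subtype.ext (mul_inv_eq_one.1 e2)
        refine Prod.ext e3.symm (Subtype.ext ?_)
        rw [e3] at e
        exact mul_right_cancel e
      · obtain ⟨k, hk, m, hm, hkm⟩ := Subgroup.mem_sup_of_normal_right.1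
          (hsup ▸ Subgroup.mem_top (t : G) : (t : G) ∈ H ⊔ N)
        refine ⟨(⟨m, hm⟩, ⟨k, ?_, hk⟩), Subtype.ext hkm⟩
        have : k = (t : G) * m⁻¹ := by rw [← hkm, mul_inv_cancel_right]
        rw [this]
        exact T.mul_mem t.2 (T.inv_mem ((hT _).2 (hNT nu m hm)))
    have hbot : Nat.card ↥(N ⊓ (T ⊓ H) : Subgroup G) = 1 := by
      rw [Subgroup.card_eq_one, eq_bot_iff]
      exact fun y hy => Subgroup.mem_bot.2 (hdis y hy.1 hy.2.2)
    obtain ⟨χ, hχr, hχ⟩ := exists_real_irr_over N nu (T ⊓ H) T hT inf_le_left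
      (fun n hn => by rw [show n = 1 from Subtype.ext (hdis _ n.2 hn.2), map_one]) hS hinv
      (k := 1) (by rw [hbot, hTcard, mul_one, one_mul]) odd_one
    have hindex : ¬ p ∣ T.index := by
      intro hd
      refine hreal χ hχr ?_
      obtain ⟨m, hm⟩ := IsCharacter.exists_nat_classInner (IsCharacter.restrict (irr_isCharacter χ) N)
        (irr_isCharacter (linIrr nu))
      have h1 := apply_one_eq_mul_card_orbit N χ (linIrr nu) hχ
      rw [show classInner (resFun N χ.1) (linIrr nu).1 = (m : ℂ) from hm, linIrr_apply, map_one,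
        mul_one, ← charDegree_cast] at h1
      have h2 : charDegree χ.1 = m * (orbitFinset N (linIrr nu)).card := by exact_mod_cast h1
      rw [h2]
      refine Dvd.dvd.mul_left ?_ m
      rw [← index_inertia N (linIrr nu)]
      exact hd
    have hJT : R ⊔ N ≤ T := by
      rw [← Subgroup.relIndex_eq_one]
      have hN : N ≤ T := fun y hy => (hT y).2 (hNT nu y hy)
      have h1 : T.relIndex (R ⊔ N) ∣ T.index := PrimeParts.relIndex_dvd_index_of_normal' _ _
      have h2 : T.relIndex (R ⊔ N) ∣ Nat.card R := by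
        refine (Subgroup.relIndex_dvd_of_le_left (R ⊔ N) hN).trans ?_
        rw [Subgroup.relIndex_sup_right]
        exact Subgroup.relIndex_dvd_card N R
      obtain ⟨k, hk⟩ := hR.exists_card_eq
      obtain ⟨i, -, hi⟩ := (Nat.dvd_prime_pow hp.out).1 (hk ▸ h2)
      rcases i with _ | i
      · simpa using hi
      · exact absurd ((hi ▸ dvd_pow_self p i.succ_ne_zero).trans h1) hindex
    intro n
    letI : CommGroup N := { (inferInstance : Group N) with mul_comm := hab }
    let act : R → N → N := fun r m => ⟨(r : G) * (m : G) * (r : G)⁻¹, ‹N.Normal›.conj_mem m.1 m.2 r⟩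
    have hprod : ∏ r : R, act r n = 1 := by
      refine hfix _ fun r hr => ?_
      have e : MulAut.conjNormal r (∏ s : R, act s n) = ∏ s : R, act s n := by
        rw [map_prod]
        refine Fintype.prod_equiv (Equiv.mulLeft ⟨r, hr⟩) _ _ fun s => Subtype.ext ?_
        simp [act, MulAut.conjNormal_apply, mul_assoc]
      have e' := congrArg Subtype.val e
      rwa [MulAut.conjNormal_apply] at e'
    have hval : nu n ^ Nat.card R = 1 := by
      have h1 := congrArg nu hprod
      rw [map_prod, map_one, Finset.prod_congr rfl (g := fun _ => nu n) fun r _ => ?_,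
        Finset.prod_const, Finset.card_univ, ← Nat.card_eq_fintype_card] at h1
      · exact h1
      · exact (hT r).1 (hJT (Subgroup.mem_sup_left r.2)) n
    obtain ⟨k, hk⟩ := hR.exists_card_eq
    have hN' : nu n ^ Nat.card N = 1 := by rw [← map_pow, pow_card_eq_one', map_one]
    exact orderOf_eq_one_iff.1 (Nat.eq_one_of_dvd_coprimes (hNp.pow_right k)
      (orderOf_dvd_of_pow_eq_one hN') (hk ▸ orderOf_dvd_of_pow_eq_one hval))
  -- linear characters are invariant under 2-elements
  have hlin : ∀ (j : ℕ) (g : G), g ^ 2 ^ j = 1 → ∀ (lam : N →* ℂ) (x : N),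
      lam ⟨g * (x : G) * g⁻¹, ‹N.Normal›.conj_mem x.1 x.2 g⟩ = lam x := by
    intro j
    induction j with
    | zero =>
      intro g hg lam x
      rw [pow_zero, pow_one] at hg
      exact congrArg lam (Subtype.ext (by simp [hg]))
    | succ j ihj =>
      intro g hg lam x
      have h2 : ∀ x : N, lam ⟨g * g * (x : G) * (g * g)⁻¹, ‹N.Normal›.conj_mem x.1 x.2 _⟩ = lam x :=
        fun x => ihj (g * g) (by rw [← pow_two, ← pow_mul, mul_comm, ← pow_succ]; exact hg) lam x
      let mu : N →* ℂ := lam.comp (MulAut.conjNormal g : MulAut N).toMonoidHom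
      have hmu : ∀ y : N, mu y = lam ⟨g * (y : G) * g⁻¹, ‹N.Normal›.conj_mem y.1 y.2 g⟩ := fun y =>
        congrArg lam (Subtype.ext (MulAut.conjNormal_apply g y))
      let nu : N →* ℂ := lam * (starRingEnd ℂ).toMonoidHom.comp mu
      have hnu : ∀ y : N, nu y = lam y * conj (mu y) := fun y => rfl
      obtain ⟨h, hh, hhg⟩ := hHN g
      have hinv : ∀ y : N, nu ⟨h * (y : G) * h⁻¹, ‹N.Normal›.conj_mem y.1 y.2 h⟩ = conj (nu y) := by
        intro y
        rw [show (⟨h * (y : G) * h⁻¹, ‹N.Normal›.conj_mem y.1 y.2 h⟩ : N) =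
          ⟨g * (y : G) * g⁻¹, ‹N.Normal›.conj_mem y.1 y.2 g⟩ from Subtype.ext (hhg y).symm]
        rw [hnu, hnu, map_mul, Complex.conj_conj, hmu, hmu, mul_comm]
        congr 1
        rw [← h2 y]
        exact congrArg (fun z => conj (lam z)) (Subtype.ext (by simp [mul_assoc]))
      have h1 := hkey nu h hh hinv x
      rw [hnu, hmu] at h1
      have h3 := normSq_linear lam (⟨g * (x : G) * g⁻¹, ‹N.Normal›.conj_mem x.1 x.2 g⟩ : N)
      calc lam ⟨g * (x : G) * g⁻¹, _⟩
          = lam x * conj (lam ⟨g * (x : G) * g⁻¹, ‹N.Normal›.conj_mem x.1 x.2 g⟩) *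
            lam ⟨g * (x : G) * g⁻¹, ‹N.Normal›.conj_mem x.1 x.2 g⟩ := by rw [h1, one_mul]
        _ = lam x := by rw [mul_assoc, mul_comm (conj _), h3, mul_one]
  have hmem : (⟨g * x * g⁻¹, ‹N.Normal›.conj_mem x hx g⟩ : N) * ⟨x, hx⟩⁻¹ ∈ commutator N :=
    mem_commutator_of_forall_linear fun lam => by
      rw [map_mul, hlin j g hg lam ⟨x, hx⟩, ← map_mul, mul_inv_cancel, map_one]
  have hbot : commutator N = ⊥ := by
    rw [commutator_def, eq_bot_iff, Subgroup.commutator_le]
    exact fun a _ b _ => Subgroup.mem_bot.2 (commutatorElement_eq_one_iff_mul_comm.2 (hab a b))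
  rw [hbot, Subgroup.mem_bot, mul_inv_eq_one] at hmem
  exact mul_inv_eq_iff_eq_mul.1 (congrArg Subtype.val hmem)

/-- Every irreducible character of a quotient gives one of the group with the same degree. -/
theorem hreal_quotient [Finite G] {p : ℕ} (N : Subgroup G) [N.Normal]
    (hreal : ∀ χ : IrrCharacter G, (∀ g, (χ.1 g).im = 0) → ¬ p ∣ charDegree χ.1)
    (χ : IrrCharacter (G ⧸ N)) (hχ : ∀ g, (χ.1 g).im = 0) : ¬ p ∣ charDegree χ.1 := by
  have h := hreal ⟨_, IsIrrCharacter.comp_surjective χ.2 (QuotientGroup.mk' N)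
    (QuotientGroup.mk'_surjective N)⟩ (fun g => hχ _)
  intro hd
  refine h ?_
  convert hd using 1
  unfold charDegree
  simp

/-- If `G` has a normal subgroup generated by all `p`-elements which is solvable and all real
irreducible characters have degree prime to `p`, then the Sylow `p`-subgroups of the subgroup
generated by the 2-elements are normal in it. -/
theorem sylow_normal_of_real_pPrime {p : ℕ} [hp : Fact p.Prime] :
    ∀ (n : ℕ) (G : Type u) [Group G] [Finite G], Nat.card G = n →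
      Group.IsSolvable ↥(powGen G p) →
      (∀ χ : IrrCharacter G, (∀ g, (χ.1 g).im = 0) → ¬ p ∣ charDegree χ.1) →
      ∀ Q : Sylow p ↥(powGen G 2), ((Q : Subgroup ↥(powGen G 2)).map (powGen G 2).subtype).Normal := by
  intro n
  induction n using Nat.strong_induction_on with
  | _ n ih =>
  intro G _ _ hn hsolv hreal
  classical
  haveI := Fintype.ofFinite G
  haveI hKn := powGen_normal (G := G) 2
  set K := powGen G 2 with hK
  set L := powGen G p with hL
  intro Q
  set R := (Q : Subgroup K).map K.subtype with hR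
  have hRK : R ≤ K := Subgroup.map_subtype_le _
  have hRp : IsPGroup p R := Q.isPGroup'.map _
  have hmax : ∀ R' : Subgroup G, R' ≤ K → IsPGroup p R' → R ≤ R' → R' = R := by
    intro R' hR'K hR'p hle
    have h1 : R'.subgroupOf K = (Q : Subgroup K) := by
      refine Q.is_maximal' (hR'p.comap_subtype) ?_
      intro y hy
      exact hle ⟨y, hy, rfl⟩
    rw [hR, ← h1, Subgroup.map_subgroupOf_eq_of_le hR'K]
  have hRL : R ≤ L := fun y hy => Subgroup.subset_closure (by
    obtain ⟨j, hj⟩ := IsPGroup.iff_orderOf.1 hRp ⟨y, hy⟩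
    exact ⟨j, by rw [← hj, ← Subgroup.orderOf_coe]⟩)
  by_cases hL0 : L = ⊥
  · have : R = ⊥ := le_bot_iff.1 (hL0 ▸ hRL)
    rw [this]; infer_instance
  obtain ⟨N, ⟨hNn, hN0, hNL⟩, hmin⟩ : ∃ N : Subgroup G, (N.Normal ∧ N ≠ ⊥ ∧ N ≤ L) ∧
      ∀ N' : Subgroup G, N'.Normal ∧ N' ≠ ⊥ ∧ N' ≤ L → Nat.card N ≤ Nat.card N' := by
    obtain ⟨N, hN, hmin⟩ := Set.exists_min_image
      {N : Subgroup G | N.Normal ∧ N ≠ ⊥ ∧ N ≤ L} (fun N => Nat.card N) (Set.toFinite _)
      ⟨L, powGen_normal p, hL0, le_rfl⟩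
    exact ⟨N, hN, hmin⟩
  haveI := hNn
  have hminbot : ∀ N' : Subgroup G, N'.Normal → N' ≤ N → N' = ⊥ ∨ N' = N := by
    intro N' hN' hle
    by_cases h0 : N' = ⊥
    · exact Or.inl h0
    · exact Or.inr (SetLike.coe_injective (Set.eq_of_subset_of_ncard_le hle
        (by simpa [← Nat.card_coe_set_eq] using hmin N' ⟨hN', h0, hle.trans hNL⟩) (Set.toFinite _)))
  have hab : ∀ a b : N, a * b = b * a := by
    rcases hminbot ⁅N, N⁆ inferInstance (Subgroup.commutator_le_right N N) with h | h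
    · intro a b
      refine Subtype.ext (commutatorElement_eq_one_iff_mul_comm.1 (Subgroup.mem_bot.1 ?_))
      rw [← h]
      exact Subgroup.commutator_mem_commutator a.2 b.2
    · exfalso
      haveI : Group.IsSolvable N :=
        Group.isSolvable_of_isSolvable_injective (f := Subgroup.inclusion hNL) (Subgroup.inclusion_injective hNL)
      haveI : Nontrivial N := (Subgroup.nontrivial_iff_ne_bot N).2 hN0
      have htop : commutator N = ⊤ := by
        apply Subgroup.map_injective N.subtype_injective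
        rw [Subgroup.map_subtype_commutator, h, ← MonoidHom.range_eq_map, Subgroup.range_subtype]
      exact (ne_of_lt (Group.IsSolvable.commutator_lt_top_of_nontrivial N)) htop
  have hN' : IsPGroup p N ∨ (Nat.card N).Coprime p := by
    letI : CommGroup N := { (inferInstance : Group N) with mul_comm := hab }
    let S : Sylow p N := default
    haveI : (S : Subgroup N).Normal := ⟨fun a ha b => by rwa [hab b a, mul_inv_cancel_right]⟩
    haveI := S.characteristic_of_normal inferInstance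
    rcases hminbot ((S : Subgroup N).map N.subtype) inferInstance (Subgroup.map_subtype_le _) with h | h
    · right
      rw [Nat.coprime_comm, hp.out.coprime_iff_not_dvd]
      intro hd
      refine S.ne_bot_of_dvd_card hd ?_
      exact (Subgroup.map_eq_bot_iff_of_injective _ N.subtype_injective).1 h
    · exact Or.inl (h ▸ S.isPGroup'.map _)
  -- the quotient
  let f := QuotientGroup.mk' N
  have hf : Function.Surjective f := QuotientGroup.mk'_surjective N
  have hlt : Nat.card (G ⧸ N) < n := by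
    rw [← hn, Subgroup.card_eq_card_quotient_mul_card_subgroup N]
    exact lt_mul_of_one_lt_right Nat.card_pos (N.one_lt_card_iff_ne_bot.2 hN0)
  have hsolv' : Group.IsSolvable ↥(powGen (G ⧸ N) p) := by
    rw [map_powGen f hf hp.out]
    exact Group.isSolvable_of_surjective (f := f.subgroupMap L) (MonoidHom.subgroupMap_surjective _ _)
  let ψ : K →* ↥(powGen (G ⧸ N) 2) :=
    (Subgroup.inclusion (map_powGen f hf Nat.prime_two).ge).comp (f.subgroupMap K)
  have hψ : Function.Surjective ψ := by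
    rintro ⟨y, hy⟩
    obtain ⟨x, hx, rfl⟩ := (map_powGen f hf Nat.prime_two).le hy
    exact ⟨⟨x, hx⟩, rfl⟩
  have hbar := ih _ hlt (G ⧸ N) rfl hsolv' (hreal_quotient N hreal) (Q.mapSurjective hψ)
  have hJeq : R ⊔ N = (((Q.mapSurjective hψ : Sylow p _) : Subgroup _).map
      (powGen (G ⧸ N) 2).subtype).comap f := by
    rw [Sylow.coe_mapSurjective, Subgroup.map_map,
      show (powGen (G ⧸ N) 2).subtype.comp ψ = f.comp K.subtype from rfl, ← Subgroup.map_map, ← hR,
      Subgroup.comap_map_eq, QuotientGroup.ker_mk']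
  haveI hJ : (R ⊔ N).Normal := hJeq ▸ hbar.comap f
  rcases hN' with hNp | hNp
  · have h1 : (R ⊔ N) ⊓ K = R :=
      hmax _ inf_le_right ((hRp.to_sup_of_normal_right hNp).to_le inf_le_left) (le_inf le_sup_left hRK)
    rw [← h1]
    infer_instance
  -- the complement
  set H := Subgroup.normalizer (R : Set G) with hH
  let P : Sylow p ↥(R ⊔ N) := IsPGroup.toSylow (G := ↥(R ⊔ N))
    (P := R.subgroupOf (R ⊔ N)) (hRp.comap_subtype) (by
      intro hd
      replace hd : p ∣ R.relIndex (R ⊔ N) := hd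
      have h1 : R.relIndex (R ⊔ N) ∣ Nat.card N := by
        have hcopRN : (R ⊓ N : Subgroup G) = ⊥ := by
          rw [← Subgroup.card_eq_one]
          obtain ⟨k, hk⟩ := hRp.exists_card_eq
          exact Nat.eq_one_of_dvd_coprimes (hNp.symm.pow_left k)
            (hk ▸ Subgroup.card_dvd_of_le inf_le_left) (Subgroup.card_dvd_of_le inf_le_right)
        have e1 := Subgroup.card_mul_index (R.subgroupOf (R ⊔ N))
        rw [Nat.card_congr (Subgroup.subgroupOfEquivOfLe (le_sup_left : R ≤ R ⊔ N)).toEquiv] at e1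
        have e2 := Subgroup.card_mul_index (N.subgroupOf (R ⊔ N))
        rw [Nat.card_congr (Subgroup.subgroupOfEquivOfLe (le_sup_right : N ≤ R ⊔ N)).toEquiv,
          ← e1] at e2
        have e3 : N.relIndex (R ⊔ N) = Nat.card R := by
          rw [Subgroup.relIndex_sup_right, ← Subgroup.inf_relIndex_right, inf_comm, hcopRN,
            Subgroup.relIndex_bot_left]
        rw [show (N.subgroupOf (R ⊔ N)).index = N.relIndex (R ⊔ N) from rfl, e3, mul_comm] at e2
        exact (Nat.eq_of_mul_eq_mul_left Nat.card_pos e2).symm.dvd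
      exact (hp.out.coprime_iff_not_dvd.1 hNp.symm) (hd.trans h1))
  have hfr : H ⊔ (R ⊔ N) = ⊤ := by
    have := Sylow.normalizer_sup_eq_top P
    rwa [show (P : Subgroup ↥(R ⊔ N)).map (R ⊔ N).subtype = R from
      Subgroup.map_subgroupOf_eq_of_le (H := R) (K := R ⊔ N) le_sup_left] at this
  have hsup : H ⊔ N = ⊤ := by
    rw [← hfr]
    refine le_antisymm (sup_le_sup_left le_sup_right _) (sup_le le_sup_left (sup_le ?_ le_sup_right))
    exact Subgroup.le_normalizer.trans le_sup_left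
  have hnorm : ∀ m ∈ N, m ∈ H → ∀ r ∈ R, r * m * r⁻¹ = m := by
    intro m hm hmH r hr
    have h1 : r * m * r⁻¹ * m⁻¹ ∈ N := N.mul_mem (hNn.conj_mem m hm r) (N.inv_mem hm)
    have h2 : r * (m * r⁻¹ * m⁻¹) ∈ R := R.mul_mem hr
      ((Subgroup.mem_normalizer_iff.1 hmH _).1 (R.inv_mem hr))
    rw [show r * (m * r⁻¹ * m⁻¹) = r * m * r⁻¹ * m⁻¹ by group] at h2
    obtain ⟨k, hk⟩ := hRp.exists_card_eq
    have h3 : orderOf (r * m * r⁻¹ * m⁻¹) = 1 := Nat.eq_one_of_dvd_coprimes (hNp.symm.pow_left k)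
      (hk ▸ Subgroup.orderOf_dvd_natCard R h2) (Subgroup.orderOf_dvd_natCard N h1)
    exact mul_inv_eq_one.1 (orderOf_eq_one_iff.1 h3)
  set C := N ⊓ Subgroup.centralizer (R : Set G) with hC
  haveI hCn : C.Normal := by
    refine ⟨fun y hy w => ?_⟩
    obtain ⟨h, hh, m, hm, rfl⟩ := Subgroup.mem_sup_of_normal_right.1
      (hsup ▸ Subgroup.mem_top w : w ∈ H ⊔ N)
    have hmy : m * y * m⁻¹ = y := mul_inv_eq_iff_eq_mul.2
      (congrArg Subtype.val (hab ⟨m, hm⟩ ⟨y, hy.1⟩))
    rw [show h * m * y * (h * m)⁻¹ = h * (m * y * m⁻¹) * h⁻¹ by group, hmy]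
    refine ⟨hNn.conj_mem y hy.1 h, fun r hr => ?_⟩
    have h2 : h⁻¹ * r * h ∈ R := by
      have := (Subgroup.mem_normalizer_iff.1 (Subgroup.inv_mem _ hh) r).1 hr
      simpa using this
    have h3 := hy.2 _ h2
    calc r * (h * y * h⁻¹) = h * ((h⁻¹ * r * h) * y) * h⁻¹ := by group
      _ = h * (y * (h⁻¹ * r * h)) * h⁻¹ := by rw [h3]
      _ = h * y * h⁻¹ * r := by group
  rcases hminbot C hCn inf_le_left with hC0 | hCN
  swap
  · have hNH : N ≤ H := fun y hy => by
      have hyC : y ∈ Subgroup.centralizer (R : Set G) := (hCN.ge hy).2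
      exact Subgroup.centralizer_le_normalizer _ hyC
    rw [← Subgroup.normalizer_eq_top_iff, ← hH, ← top_le_iff, ← hsup]
    exact sup_le le_rfl hNH
  exfalso
  have hdis : ∀ y ∈ N, y ∈ H → y = 1 := fun y hy hyH => by
    rw [← Subgroup.mem_bot, ← hC0]
    exact ⟨hy, fun r hr => (mul_inv_eq_iff_eq_mul.1 (hnorm y hy hyH r hr))⟩
  have hcent : K ≤ Subgroup.centralizer (N : Set G) := by
    rw [hK, powGen, Subgroup.closure_le]
    intro g ⟨j, hj⟩
    rw [SetLike.mem_coe, Subgroup.mem_centralizer_iff]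
    intro y hy
    exact (centralizes_of_complement hreal N hab hNp R hRp H hdis hsup (fun m hm => by
      refine Subtype.ext (hdis m m.2 ?_)
      refine Subgroup.centralizer_le_normalizer _ ?_
      exact fun r hr => mul_inv_eq_iff_eq_mul.1 (hm r hr)) (j := j) (hj ▸ pow_orderOf_eq_one g) hy).symm
  refine hN0 (eq_bot_iff.2 fun y hy => ?_)
  rw [← hC0]
  exact ⟨hy, fun r hr => ((hcent (hRK hr)) y hy).symm⟩

end Cfsg.Agent.Char
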