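import Cfsg.Agent.Lib.Char.Induction
import Cfsg.Agent.Lib.Char.PermChar
import Mathlib.GroupTheory.Sylow
import Mathlib.Data.Nat.Prime.Int
import Mathlib.GroupTheory.SpecificGroups.Cyclic

/-!
# Solomon's induction theorem, local form

For a prime `p`, some multiple `m · 1_G` with `p ∤ m` is an integer combination of permutation
characters on the cosets of `p`-quasi-elementary subgroups.
-/

namespace Cfsg.Agent.Char

open scoped ComplexConjugate
open MulAction

set_option linter.style.haveILetI false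

universe u

variable {G : Type u} [Group G]

/-- `H` has a normal cyclic `p'`-subgroup of `p`-power index. -/
def IsQuasiElem (p : ℕ) (H : Subgroup G) : Prop :=
  ∃ C : Subgroup G, C ≤ H ∧ H ≤ Subgroup.normalizer (C : Set G) ∧ IsCyclic C ∧
    Nat.Coprime (Nat.card C) p ∧ ∃ k : ℕ, C.relIndex H = p ^ k

theorem IsQuasiElem.mono {p : ℕ} (hp : p.Prime) {H H' : Subgroup G} (h : IsQuasiElem p H)
    (hle : H' ≤ H) : IsQuasiElem p H' := by
  obtain ⟨C, hC, hn, hcyc, hcop, k, hk⟩ := h
  haveI := hcyc
  refine ⟨C ⊓ H', inf_le_right, fun a ha => Subgroup.mem_normalizer_iff.2 fun b => ?_,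
    isCyclic_of_injective (Subgroup.inclusion (inf_le_left : C ⊓ H' ≤ C))
      (Subgroup.inclusion_injective _),
    Nat.Coprime.coprime_dvd_left (Subgroup.card_dvd_of_le inf_le_left) hcop, ?_⟩
  · have hb := Subgroup.mem_normalizer_iff.1 (hn (hle ha)) b
    simp only [Subgroup.mem_inf, hb, and_congr_right_iff]
    intro _
    rw [Subgroup.mul_mem_cancel_right H' (H'.inv_mem ha), Subgroup.mul_mem_cancel_left H' ha]
  · haveI : (C.subgroupOf H).Normal := Subgroup.normal_subgroupOf_of_le_normalizer hn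
    have h1 : C.relIndex H' ∣ C.relIndex H := by
      rw [← Subgroup.relIndex_subgroupOf (H := C) hle]
      exact Subgroup.relIndex_dvd_index_of_normal _ _
    rw [hk, Nat.dvd_prime_pow hp] at h1
    obtain ⟨i, -, hi⟩ := h1
    exact ⟨i, by rw [Subgroup.inf_relIndex_right, hi]⟩

theorem IsQuasiElem.map_conj {p : ℕ} {H : Subgroup G} (h : IsQuasiElem p H) (g : G) :
    IsQuasiElem p (H.map (MulAut.conj g).toMonoidHom) := by
  obtain ⟨C, hC, hn, hcyc, hcop, k, hk⟩ := h
  haveI := hcyc
  have hinj : Function.Injective (MulAut.conj g).toMonoidHom := (MulAut.conj g).injective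
  refine ⟨C.map (MulAut.conj g).toMonoidHom, Subgroup.map_mono hC, ?_,
    isCyclic_of_surjective (C.equivMapOfInjective _ hinj).toMonoidHom
      (C.equivMapOfInjective _ hinj).surjective, ?_, k, ?_⟩
  · exact (Subgroup.map_mono hn).trans (Subgroup.le_normalizer_map _)
  · rwa [Subgroup.card_map_of_injective hinj]
  · rw [Subgroup.relIndex_map_map_of_injective _ _ hinj, hk]

variable (G) in
/-- The permutation characters whose point stabilisers satisfy `Q`. -/
def permSet (Q : Subgroup G → Prop) : Set (G → ℂ) :=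
  {f | ∃ (X : Type u) (_ : MulAction G X) (_ : Finite X), (∀ x : X, Q (stabilizer G x)) ∧
    f = fun g => (Nat.card (fixedBy X g) : ℂ)}

theorem card_fixedBy_prod' (X Y : Type u) [MulAction G X] [MulAction G Y] (g : G) :
    Nat.card (fixedBy (X × Y) g) = Nat.card (fixedBy X g) * Nat.card (fixedBy Y g) := by
  rw [← Nat.card_prod]
  exact Nat.card_congr
    { toFun := fun p => (⟨p.1.1, congrArg Prod.fst p.2⟩, ⟨p.1.2, congrArg Prod.snd p.2⟩)
      invFun := fun p => ⟨(p.1.1, p.2.1), Prod.ext p.1.2 p.2.2⟩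
      left_inv := fun _ => rfl
      right_inv := fun _ => rfl }

theorem permSet_mul {Q : Subgroup G → Prop} (hQ : ∀ H H', Q H → H' ≤ H → Q H') {f f' : G → ℂ}
    (hf : f ∈ permSet G Q) (hf' : f' ∈ permSet G Q) : f * f' ∈ permSet G Q := by
  obtain ⟨X, _, _, hX, rfl⟩ := hf
  obtain ⟨Y, _, _, hY, rfl⟩ := hf'
  refine ⟨X × Y, inferInstance, inferInstance, fun z => hQ _ _ (hX z.1) fun g hg => ?_, ?_⟩
  · rw [mem_stabilizer_iff] at hg ⊢
    exact congrArg Prod.fst hg
  · funext g
    rw [Pi.mul_apply, card_fixedBy_prod', Nat.cast_mul]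

theorem closure_mul_mem {G : Type*} {S : Set (G → ℂ)} (hS : ∀ f ∈ S, ∀ f' ∈ S, f * f' ∈ S) {a b : G → ℂ}
    (ha : a ∈ AddSubgroup.closure S) (hb : b ∈ AddSubgroup.closure S) :
    a * b ∈ AddSubgroup.closure S := by
  induction ha using AddSubgroup.closure_induction with
  | mem f hf =>
    induction hb using AddSubgroup.closure_induction with
    | mem f' hf' => exact AddSubgroup.subset_closure (hS f hf f' hf')
    | zero => simp
    | add x y _ _ hx hy => rw [mul_add]; exact add_mem hx hy
    | neg x _ hx => rw [mul_neg]; exact neg_mem hx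
  | zero => simp
  | add x y _ _ hx hy => rw [add_mul]; exact add_mem hx hy
  | neg x _ hx => rw [neg_mul]; exact neg_mem hx

/-- Banaschewski's lemma. -/
theorem exists_int_const_mem [Fintype G] {p : ℕ} (hp : p.Prime) (R : AddSubgroup (G → ℂ))
    (hmul : ∀ a ∈ R, ∀ b ∈ R, a * b ∈ R)
    (h : ∀ x : G, ∃ f ∈ R, ∃ m : ℤ, f x = m ∧ ¬ (p : ℤ) ∣ m) :
    ∃ m : ℤ, ¬ (p : ℤ) ∣ m ∧ (fun _ => (m : ℂ)) ∈ R := by
  classical
  choose f hf m hfm hm using h
  suffices H : ∀ s : Finset G, ∃ M : ℤ, ¬ (p : ℤ) ∣ M ∧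
      ∃ r ∈ R, ∀ y, (y ∈ s → (M : ℂ) - r y = 0) by
    obtain ⟨M, hM, r, hr, hy⟩ := H Finset.univ
    refine ⟨M, hM, ?_⟩
    have : (fun _ => (M : ℂ)) = r := funext fun y => sub_eq_zero.1 (hy y (Finset.mem_univ y))
    rwa [this]
  intro s
  induction s using Finset.induction with
  | empty =>
    refine ⟨1, ?_, 0, zero_mem R, by simp⟩
    exact fun h1 => hp.ne_one (by exact_mod_cast Int.eq_one_of_dvd_one (by positivity) h1)
  | insert x s hx ih =>
    obtain ⟨M, hM, r, hr, hy⟩ := ih
    refine ⟨m x * M, fun h1 => ((Nat.prime_iff_prime_int.1 hp).dvd_or_dvd h1).elim (hm x) hM,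
      M • f x + m x • r - f x * r,
      sub_mem (add_mem (zsmul_mem (hf x) _) (zsmul_mem hr _)) (hmul _ (hf x) _ hr), fun y hys => ?_⟩
    have e : ((m x * M : ℤ) : ℂ) - (M • f x + m x • r - f x * r) y =
        ((m x : ℂ) - f x y) * ((M : ℂ) - r y) := by
      simp [zsmul_eq_mul]
      ring
    rw [e]
    rcases Finset.mem_insert.1 hys with rfl | hys
    · rw [hfm, sub_self, zero_mul]
    · rw [hy y hys, mul_zero]

/-- Every element is a `p'`-fixed point of some coset space of a quasi-elementary subgroup. -/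
theorem exists_quasiElem_not_dvd [Finite G] {p : ℕ} (hp : p.Prime) (x : G) :
    ∃ H : Subgroup G, IsQuasiElem p H ∧ ¬ p ∣ Nat.card (fixedBy (G ⧸ H) x) := by
  haveI := Fact.mk hp
  obtain ⟨a, m, hm, hxm⟩ := Nat.exists_eq_pow_mul_and_not_dvd (orderOf_pos x).ne' p hp.ne_one
  set c := x ^ (p ^ a) with hc
  have hoc : orderOf c = m := by
    rw [hc, orderOf_pow' _ (pow_ne_zero _ hp.ne_zero), hxm,
      Nat.gcd_eq_right (dvd_mul_right _ _), Nat.mul_div_cancel_left _ (pow_pos hp.pos _)]
  have hcm : m.Coprime p := (hp.coprime_iff_not_dvd.2 hm).symm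
  set C := Subgroup.zpowers c with hC
  set N := Subgroup.normalizer (C : Set G) with hN
  have hCN : C ≤ N := Subgroup.le_normalizer
  have hxN : x ∈ N := by
    rw [hN, Subgroup.mem_normalizer_iff]
    intro b
    have hb : ∀ z ∈ C, x * z * x⁻¹ = z := by
      intro z hz
      obtain ⟨i, rfl⟩ := Subgroup.mem_zpowers_iff.1 hz
      have : Commute x (c ^ i) := ((Commute.refl x).pow_right _).zpow_right i
      rw [this.eq, mul_assoc, mul_inv_cancel, mul_one]
    constructor
    · intro h; rw [hb b h]; exact h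
    · intro h
      have := hb _ h
      simp only [mul_left_cancel_iff, mul_right_cancel_iff] at this
      rwa [← this]
  haveI : (C.subgroupOf N).Normal := Subgroup.normal_in_normalizer
  set C' := C.subgroupOf N with hC'
  let q : N →* N ⧸ C' := QuotientGroup.mk' C'
  have hq : IsPGroup p (Subgroup.zpowers (q ⟨x, hxN⟩)) := by
    have : orderOf (q ⟨x, hxN⟩) ∣ p ^ a := by
      refine orderOf_dvd_of_pow_eq_one ?_
      rw [← map_pow, QuotientGroup.mk'_apply, QuotientGroup.eq_one_iff, hC',
        Subgroup.mem_subgroupOf]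
      exact Subgroup.mem_zpowers c
    obtain ⟨i, -, hi⟩ := (Nat.dvd_prime_pow hp).1 this
    exact IsPGroup.of_card (by rw [Nat.card_zpowers, hi])
  obtain ⟨P, hP⟩ := hq.exists_le_sylow
  set H' : Subgroup N := (P : Subgroup (N ⧸ C')).comap q with hH'
  set H := H'.map N.subtype with hH
  have hHN : H ≤ N := Subgroup.map_subtype_le _
  have hsub : H.subgroupOf N = H' := Subgroup.comap_map_eq_self_of_injective N.subtype_injective _
  have hC'H' : C' ≤ H' := fun z hz => by
    show q z ∈ (P : Subgroup (N ⧸ C'))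
    rw [show q z = 1 from (QuotientGroup.eq_one_iff z).2 hz]
    exact one_mem _
  have hCH : C ≤ H := fun z hz => ⟨⟨z, hCN hz⟩, hC'H' hz, rfl⟩
  have hxH : x ∈ H := ⟨⟨x, hxN⟩, hP (Subgroup.mem_zpowers _), rfl⟩
  have hsurj : Function.Surjective q := QuotientGroup.mk'_surjective _
  have hrel : C.relIndex H = Nat.card P := by
    rw [← Subgroup.relIndex_subgroupOf (H := C) hHN, hsub, ← hC']
    have hker : (⊥ : Subgroup (N ⧸ C')).comap q = C' := QuotientGroup.ker_mk' C'
    refine (congrArg (fun K : Subgroup N => K.relIndex H') hker).symm.trans ?_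
    show ((⊥ : Subgroup (N ⧸ C')).comap q).relIndex H' = _
    rw [Subgroup.relIndex_comap, hH', Subgroup.map_comap_eq_self_of_surjective hsurj,
      Subgroup.relIndex_bot_left]
  obtain ⟨k, hk⟩ := P.2.exists_card_eq
  refine ⟨H, ⟨C, hCH, hHN, inferInstance, by rw [Nat.card_zpowers, hoc]; exact hcm, k,
    hrel.trans hk⟩, ?_⟩
  -- the fixed points of `c`
  have hfixmem : ∀ g : G, (g : G ⧸ H) ∈ fixedBy (G ⧸ H) c ↔ g⁻¹ * c * g ∈ H := by
    intro g
    rw [mem_fixedBy, Quotient.smul_mk, eq_comm, QuotientGroup.eq, smul_eq_mul, mul_assoc]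
  have hnorm : ∀ g : G, g⁻¹ * c * g ∈ H → g ∈ N := by
    intro g hg
    have hmem : g⁻¹ * c * g ∈ C := by
      obtain ⟨⟨z, hzN⟩, hz, hze⟩ := hg
      change z = g⁻¹ * c * g at hze
      have ho : orderOf z = m := by
        rw [hze, ← hoc]
        simpa using orderOf_injective (MulAut.conj g⁻¹).toMonoidHom (MulAut.conj g⁻¹).injective c
      have h1 : orderOf (q ⟨z, hzN⟩) ∣ m := by
        refine (orderOf_map_dvd q _).trans ?_
        rw [← Subgroup.orderOf_coe]
        exact ho.dvd
      obtain ⟨i, hi⟩ := P.2 ⟨q ⟨z, hzN⟩, hz⟩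
      have h2 : orderOf (q ⟨z, hzN⟩) ∣ p ^ i :=
        orderOf_dvd_of_pow_eq_one (congrArg Subtype.val hi)
      have h3 : q ⟨z, hzN⟩ = 1 :=
        orderOf_eq_one_iff.1 (Nat.dvd_one.1 ((hcm.pow_right i) ▸ Nat.dvd_gcd h1 h2))
      rw [← hze]
      exact (QuotientGroup.eq_one_iff (⟨z, hzN⟩ : N)).1 h3
    have hle : C.map (MulAut.conj g⁻¹).toMonoidHom ≤ C := by
      rw [hC, MonoidHom.map_zpowers, Subgroup.zpowers_le]
      simpa [hC] using hmem
    have heq : C.map (MulAut.conj g⁻¹).toMonoidHom = C :=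
      Subgroup.eq_of_le_of_card_ge hle
        (le_of_eq (Subgroup.card_map_of_injective (MulAut.conj g⁻¹).injective).symm)
    have : g⁻¹ ∈ N := by
      rw [hN, Subgroup.mem_normalizer_iff]
      intro b
      constructor
      · intro hb
        rw [← heq]
        exact ⟨b, hb, by simp⟩
      · intro hb
        rw [← heq] at hb
        obtain ⟨b', hb', e⟩ := hb
        simp at e
        rwa [← e]
    simpa using N.inv_mem this
  let F : SubMulAction (Subgroup.zpowers (x ^ m)) (G ⧸ H) :=
    { carrier := fixedBy (G ⧸ H) c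
      smul_mem' := fun z y hy => by
        obtain ⟨i, hi⟩ := Subgroup.mem_zpowers_iff.1 z.2
        have hcomm : Commute c (z : G) := by
          rw [← hi]; exact ((Commute.refl x).pow_pow _ _).zpow_right i
        show c • ((z : G) • y) = (z : G) • y
        rw [smul_smul, hcomm.eq, ← smul_smul, show c • y = y from hy] }
  have hcardF : Nat.card F = H.relIndex N := by
    let φ : N ⧸ H.subgroupOf N → F := fun z =>
      ⟨Quotient.map' (Subtype.val : N → G) (fun a b hab => by
          rw [QuotientGroup.leftRel_apply] at hab ⊢; exact hab) z, by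
        induction z using Quotient.inductionOn' with
        | h n =>
          refine (hfixmem (n : G)).2 (hCH ?_)
          have h2 : ((n : G))⁻¹ ∈ Subgroup.normalizer (C : Set G) := N.inv_mem n.2
          have h3 := (Subgroup.mem_normalizer_iff.1 h2 c).1 (Subgroup.mem_zpowers c)
          rwa [inv_inv] at h3⟩
    refine (Nat.card_congr (Equiv.ofBijective φ ⟨fun a b hab => ?_, fun y => ?_⟩)).symm
    · induction a using Quotient.inductionOn' with
      | h a =>
        induction b using Quotient.inductionOn' with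
        | h b =>
          have e := congrArg Subtype.val hab
          exact QuotientGroup.eq.2 (QuotientGroup.eq (s := H) |>.1 e)
    · obtain ⟨y, hy⟩ := y
      obtain ⟨g, rfl⟩ := QuotientGroup.mk_surjective y
      exact ⟨QuotientGroup.mk ⟨g, hnorm g ((hfixmem g).1 hy)⟩, rfl⟩
  have hK : IsPGroup p (Subgroup.zpowers (x ^ m)) :=
    IsPGroup.of_card (n := a) (by
      rw [Nat.card_zpowers, orderOf_pow' _ (by rintro rfl; simp at hm), hxm,
        Nat.gcd_eq_right (dvd_mul_left _ _), Nat.mul_div_cancel _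
          (Nat.pos_of_ne_zero (by rintro rfl; simp at hm))])
  have hmod := hK.card_modEq_card_fixedPoints F
  have hfix : Nat.card (fixedPoints (Subgroup.zpowers (x ^ m)) F) =
      Nat.card (fixedBy (G ⧸ H) x) := by
    have hgcd : ∀ y : G ⧸ H, x • y = y ↔ c • y = y ∧ (x ^ m) • y = y := by
      intro y
      simp only [← mem_stabilizer_iff (G := G)]
      refine ⟨fun h => ⟨pow_mem h _, pow_mem h _⟩, fun ⟨h1, h2⟩ => ?_⟩
      have hcop : Nat.Coprime (p ^ a) m := (hcm.pow_right a).symm
      have := Nat.gcd_eq_gcd_ab (p ^ a) m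
      rw [hcop, Nat.cast_one] at this
      rw [← zpow_one x, this, zpow_add, zpow_mul, zpow_mul, zpow_natCast, zpow_natCast]
      exact mul_mem (zpow_mem h1 _) (zpow_mem h2 _)
    refine Nat.card_congr
      { toFun := fun y => ⟨y.1.1, (hgcd _).2 ⟨y.1.2, congrArg Subtype.val
          (y.2 ⟨x ^ m, Subgroup.mem_zpowers _⟩)⟩⟩
        invFun := fun y => ⟨⟨y.1, ((hgcd _).1 y.2).1⟩, fun z => Subtype.ext ?_⟩
        left_inv := fun y => rfl
        right_inv := fun y => rfl }
    show (z : G) • (y : G ⧸ H) = (y : G ⧸ H)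
    have h2 : x ^ m ∈ stabilizer G (y : G ⧸ H) := ((hgcd _).1 y.2).2
    exact (Subgroup.zpowers_le.2 h2) z.2
  rw [hfix, hcardF] at hmod
  intro hdvd
  have h4 : p ∣ H.relIndex N := (Nat.modEq_zero_iff_dvd).1 (hmod.trans (Nat.modEq_zero_iff_dvd.2 hdvd))
  rw [show H.relIndex N = H'.index by rw [Subgroup.relIndex, hsub], hH',
    Subgroup.index_comap_of_surjective _ hsurj] at h4
  exact P.not_dvd_index h4

/-- A permutation character is the sum over orbits of the characters induced from stabilisers. -/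
theorem fixedBy_eq_sum_indFun [Fintype G] (X : Type u) [MulAction G X] [Fintype X]
    [Fintype (Quotient (orbitRel G X))] :
    (fun g : G => (Nat.card (fixedBy X g) : ℂ)) =
      ∑ ω : Quotient (orbitRel G X), indFun (stabilizer G ω.out) (fun _ => 1) := by
  classical
  funext g
  rw [Finset.sum_apply]
  have key : ∀ ω : Quotient (orbitRel G X), indFun (stabilizer G ω.out) (fun _ => (1 : ℂ)) g =
      ∑ x ∈ Finset.univ.filter (fun x : X => Quotient.mk (orbitRel G X) x = ω),
        (if g • x = x then (1 : ℂ) else 0) := by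
    intro ω
    set x₀ := ω.out with hx₀
    have h1 : ∀ y : G, extendByZero (stabilizer G x₀) (fun _ => (1 : ℂ)) (y⁻¹ * g * y) =
        if g • (y • x₀) = y • x₀ then 1 else 0 := by
      intro y
      have : y⁻¹ * g * y ∈ stabilizer G x₀ ↔ g • (y • x₀) = y • x₀ := by
        rw [mem_stabilizer_iff, mul_smul, mul_smul, inv_smul_eq_iff]
      split_ifs with h
      · rw [extendByZero_of_mem _ _ (this.2 h)]
      · rw [extendByZero_of_notMem _ _ (fun h' => h (this.1 h'))]
    simp only [indFun, h1]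
    have hmaps : ∀ y ∈ (Finset.univ : Finset G), y • x₀ ∈
        Finset.univ.filter (fun x : X => Quotient.mk (orbitRel G X) x = ω) := fun y _ => by
      rw [Finset.mem_filter]
      refine ⟨Finset.mem_univ _, ?_⟩
      rw [← Quotient.out_eq ω]
      exact Quotient.sound ⟨y, rfl⟩
    rw [← Finset.sum_fiberwise_of_maps_to hmaps, Finset.mul_sum]
    refine Finset.sum_congr rfl fun x hx => ?_
    have hx' := (Finset.mem_filter.1 hx).2
    obtain ⟨y₀, hy₀⟩ : ∃ y₀ : G, y₀ • x₀ = x := by
      rw [← Quotient.out_eq ω] at hx'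
      exact Quotient.exact hx'
    rw [Finset.sum_congr rfl fun y hy => by rw [(Finset.mem_filter.1 hy).2], Finset.sum_const,
      nsmul_eq_mul]
    have hcard : (Finset.univ.filter fun y : G => y • x₀ = x).card = Nat.card (stabilizer G x₀) := by
      rw [Nat.card_eq_fintype_card, ← Finset.card_univ]
      refine (Finset.card_bij (s := (Finset.univ : Finset (stabilizer G x₀)))
        (t := Finset.univ.filter fun y : G => y • x₀ = x) (fun s _ => y₀ * (s : G)) ?_ ?_ ?_).symm
      · intro s _
        rw [Finset.mem_filter, mul_smul, show (s : G) • x₀ = x₀ from s.2]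
        exact ⟨Finset.mem_univ _, hy₀⟩
      · intro s _ t _ hst
        exact Subtype.ext (mul_left_cancel hst)
      · intro y hy
        refine ⟨⟨y₀⁻¹ * y, ?_⟩, Finset.mem_univ _, mul_inv_cancel_left _ _⟩
        rw [mem_stabilizer_iff, mul_smul, (Finset.mem_filter.1 hy).2, inv_smul_eq_iff, hy₀]
    rw [hcard, ← mul_assoc, inv_mul_cancel₀ (Nat.cast_ne_zero.2 Nat.card_pos.ne'), one_mul]
  rw [Finset.sum_congr rfl fun ω _ => key ω,
    Finset.sum_fiberwise, Finset.sum_boole, Nat.card_eq_fintype_card, Fintype.card_subtype]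
  congr 2

/-- The additive group generated by the `1_H^G`, `H` running over subgroups satisfying `Q`. -/
theorem closure_permSet_le [Fintype G] (Q : Subgroup G → Prop) {R : AddSubgroup (G → ℂ)}
    (hR : ∀ H : Subgroup G, Q H → indFun H (fun _ => 1) ∈ R) :
    AddSubgroup.closure (permSet G Q) ≤ R := by
  refine (AddSubgroup.closure_le _).2 ?_
  rintro f ⟨X, _, _, hX, rfl⟩
  classical
  haveI := Fintype.ofFinite X
  rw [SetLike.mem_coe, fixedBy_eq_sum_indFun]
  exact sum_mem fun ω _ => hR _ (hX _)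

/-- Solomon's theorem, local form: if an additive group contains all `1_H^G` for `p`-quasi-elementary
`H`, it contains some `m · 1_G` with `p ∤ m`. -/
theorem exists_int_const_mem_of_quasiElem [Fintype G] {p : ℕ} (hp : p.Prime)
    {R : AddSubgroup (G → ℂ)}
    (hR : ∀ H : Subgroup G, IsQuasiElem p H → indFun H (fun _ => 1) ∈ R) :
    ∃ m : ℤ, ¬ (p : ℤ) ∣ m ∧ (fun _ => (m : ℂ)) ∈ R := by
  let Q : Subgroup G → Prop := fun H => IsQuasiElem p H
  obtain ⟨m, hm, hmem⟩ := exists_int_const_mem (G := G) hp (AddSubgroup.closure (permSet G Q))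
    (fun a ha b hb => closure_mul_mem
      (fun f hf f' hf' => permSet_mul (fun H H' h hle => IsQuasiElem.mono hp h hle) hf hf') ha hb)
    (fun x => by
      obtain ⟨H, hH, hfix⟩ := exists_quasiElem_not_dvd hp x
      refine ⟨fun g => (Nat.card (fixedBy (G ⧸ H) g) : ℂ),
        AddSubgroup.subset_closure ⟨G ⧸ H, inferInstance, inferInstance, fun z => ?_, rfl⟩,
        Nat.card (fixedBy (G ⧸ H) x), by simp, fun h => hfix (Int.natCast_dvd_natCast.1 h)⟩
      obtain ⟨g, rfl⟩ := QuotientGroup.mk_surjective z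
      have : ((g : G ⧸ H)) = g • ((1 : G) : G ⧸ H) := by
        rw [Quotient.smul_mk, smul_eq_mul, mul_one]
      show IsQuasiElem p (stabilizer G (g : G ⧸ H))
      rw [this, stabilizer_smul_eq_stabilizer_map_conj, stabilizer_quotient]
      exact IsQuasiElem.map_conj hH g)
  exact ⟨m, hm, closure_permSet_le Q hR hmem⟩

end Cfsg.Agent.Char
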