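import Cfsg.Agent.Lib.Char.KernelSum
import Cfsg.Agent.Lib.Char.Linear
import Mathlib.Analysis.SpecialFunctions.Pow.Real

/-!
# Feit–Thompson's bound for abelian subgroups with a centralizer uniqueness property
-/

namespace Cfsg.Agent.Char.TIBound

open scoped ComplexConjugate
open Complex (normSq)

set_option linter.style.haveILetI false
set_option linter.unusedSectionVars false

universe u

variable {G : Type u} [Group G] [Fintype G] (H : Subgroup G)

/-- The hypothesis: a non-central centralizer meets at most one conjugate of `H`. -/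
def Unique : Prop :=
  ∀ g : G, g ∉ Subgroup.center G → ∀ a b : G,
    Subgroup.centralizer ({g} : Set G) ⊓ H.map (MulAut.conj a).toMonoidHom ≠ ⊥ →
    Subgroup.centralizer ({g} : Set G) ⊓ H.map (MulAut.conj b).toMonoidHom ≠ ⊥ →
    H.map (MulAut.conj a).toMonoidHom = H.map (MulAut.conj b).toMonoidHom

variable {H}

theorem mem_normalizer_of_commute (hone : Unique H) {g x : G} (hg : g ∉ Subgroup.center G)
    {h k : G} (hh : h ∈ H) (hh1 : h ≠ 1) (hgh : Commute g h) (hk : k ∈ H) (hk1 : k ≠ 1)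
    (hgk : Commute g (x * k * x⁻¹)) : x ∈ Subgroup.normalizer (H : Set G) := by
  have h1 : Subgroup.centralizer ({g} : Set G) ⊓ H.map (MulAut.conj (1 : G)).toMonoidHom ≠ ⊥ :=
    fun hb => hh1 ((Subgroup.eq_bot_iff_forall _).1 hb h
      ⟨Subgroup.mem_centralizer_singleton_iff.2 hgh.symm, ⟨h, hh, by simp⟩⟩)
  have h2 : Subgroup.centralizer ({g} : Set G) ⊓ H.map (MulAut.conj x).toMonoidHom ≠ ⊥ :=
    fun hb => hk1 (by
      have := (Subgroup.eq_bot_iff_forall _).1 hb (x * k * x⁻¹)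
        ⟨Subgroup.mem_centralizer_singleton_iff.2 hgk.symm, ⟨k, hk, rfl⟩⟩
      simpa using this)
  have h3 := hone g hg 1 x h1 h2
  rw [Subgroup.mem_normalizer_iff_map_conj_eq]
  refine h3.symm.trans ?_
  ext y
  simp [Subgroup.mem_map]

theorem not_mem_center (hZ : H ⊓ Subgroup.center G = ⊥) {h : G} (hh : h ∈ H) (hh1 : h ≠ 1) :
    h ∉ Subgroup.center G :=
  fun hc => hh1 ((Subgroup.eq_bot_iff_forall _).1 hZ h ⟨hh, hc⟩)

variable [Fintype H]

theorem apply_mul_eq (hab : ∀ a ∈ H, ∀ b ∈ H, a * b = b * a) {χ : G → ℂ}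
    (hχ : IsCharacter G χ) {g : G} (hg : g ∈ Subgroup.normalizer (H : Set G))
    (hfree : ∀ h ∈ H, Commute g h → h = 1) (h : H) : χ (g * h) = χ g := by
  have hmem : ∀ k : H, g⁻¹ * k * g * (k : G)⁻¹ ∈ H := fun k =>
    H.mul_mem (by simpa using (Subgroup.mem_normalizer_iff.1 (Subgroup.inv_mem _ hg) (k : G)).1 k.2)
      (H.inv_mem k.2)
  let f : H → H := fun k => ⟨_, hmem k⟩
  have hinj : Function.Injective f := by
    intro k l hkl
    have e : g⁻¹ * k * g * (k : G)⁻¹ = g⁻¹ * l * g * (l : G)⁻¹ := congrArg Subtype.val hkl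
    set w := (l : G)⁻¹ * k with hw
    have hwH : w ∈ H := H.mul_mem (H.inv_mem l.2) k.2
    have h1 : g⁻¹ * w * g = w := by
      calc g⁻¹ * w * g = (g⁻¹ * (l : G) * g)⁻¹ * (g⁻¹ * k * g) := by rw [hw]; group
        _ = (g⁻¹ * (l : G) * g)⁻¹ * (g⁻¹ * l * g * (l : G)⁻¹ * k) := by rw [← e]; group
        _ = w := by rw [hw]; group
    have h2 : w = 1 := hfree w hwH (by
      show g * w = w * g
      conv_lhs => rw [← h1]
      group)
    exact Subtype.ext (inv_mul_eq_one.1 h2).symm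
  obtain ⟨k, hk⟩ := (Finite.injective_iff_surjective.1 hinj) h
  rw [← hk]
  show χ (g * (g⁻¹ * k * g * (k : G)⁻¹)) = χ g
  rw [show g * (g⁻¹ * k * g * (k : G)⁻¹) = k * g * (k : G)⁻¹ by group,
    IsCharacter.isClassFunction hχ g k]

/-- The norm of a combination of distinct irreducible characters. -/
theorem sum_normSq_comb {K : Type u} [Group K] [Fintype K] (s : Finset (IrrCharacter K))
    (m : IrrCharacter K → ℕ) :
    ∑ x : K, normSq (∑ ψ ∈ s, (m ψ : ℂ) * ψ.1 x) =
      (Nat.card K : ℝ) * ∑ ψ ∈ s, (m ψ : ℝ) ^ 2 := by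
  classical
  have key : classInner (fun x => ∑ ψ ∈ s, (m ψ : ℂ) * ψ.1 x)
      (fun x => ∑ ψ ∈ s, (m ψ : ℂ) * ψ.1 x) = ((∑ ψ ∈ s, (m ψ : ℝ) ^ 2 : ℝ) : ℂ) := by
    have e : (fun x => ∑ ψ ∈ s, (m ψ : ℂ) * ψ.1 x) = ∑ ψ ∈ s, (m ψ : ℂ) • ψ.1 := by
      funext x; simp
    rw [e, classInner_sum_left, Complex.ofReal_sum]
    refine Finset.sum_congr rfl fun ψ hψ => ?_
    rw [classInner_smul_left, classInner_sum_right, Finset.sum_eq_single ψ]
    · rw [classInner_smul_right, classInner_irr_self ψ.2, map_natCast]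
      push_cast; ring
    · intro φ _ hne
      rw [classInner_smul_right, classInner_eq_zero_of_ne (Ne.symm hne), mul_zero]
    · exact fun h => absurd hψ h
  rw [classInner_self, Complex.ofReal_inj] at key
  rw [← key, ← mul_assoc, mul_inv_cancel₀ (Nat.cast_ne_zero.2 Nat.card_pos.ne'), one_mul]

/-- The bound on the number of fixed vectors of `H`. -/
theorem degree_sq_gt (hab : ∀ a ∈ H, ∀ b ∈ H, a * b = b * a)
    (hZ : H ⊓ Subgroup.center G = ⊥) (hone : Unique H) (χ : IrrCharacter G)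
    (hker : ∃ h ∈ H, χ.1 h ≠ χ.1 1) {c : ℕ}
    (hc : classInner (fun h : H => χ.1 h) (fun _ => 1) = c) :
    (Nat.card H : ℝ) * (c : ℝ) ^ 2 < (degree χ : ℝ) ^ 2 := by
  classical
  obtain ⟨h₀, hh₀, hχh₀⟩ := hker
  have hh₀1 : h₀ ≠ 1 := fun h => hχh₀ (h ▸ rfl)
  set N := Subgroup.normalizer (H : Set G) with hN
  set n := degree χ with hn
  let Zs : Finset G := Finset.univ.filter fun g => g ∈ Subgroup.center G
  let D : Finset G := Finset.univ.filter fun g =>
    g ∉ Subgroup.center G ∧ ∃ h ∈ H, h ≠ 1 ∧ Commute g h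
  have hDN : ∀ g ∈ D, g ∈ N := fun g hg => by
    obtain ⟨hgZ, h, hh, hh1, hgh⟩ := (Finset.mem_filter.1 hg).2
    exact mem_normalizer_of_commute hone hgZ hh hh1 hgh hh hh1 (by
      rw [hgh.eq, mul_inv_cancel_right]; exact hgh)
  -- sums
  set SD := ∑ g ∈ D, normSq (χ.1 g) with hSD
  have hz : ∀ g ∈ Subgroup.center G, normSq (χ.1 g) = (n : ℝ) ^ 2 := by
    intro g hg
    obtain ⟨k, ρ, hρ, hρχ⟩ := χ.2
    haveI := hρ
    have hc' : IsClassFunction G (fun x => if x = g then (1 : ℂ) else 0) := fun a b => by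
      have : b * a * b⁻¹ = g ↔ a = g := by
        rw [mul_inv_eq_iff_eq_mul, ← Subgroup.mem_center_iff.1 hg b]
        exact mul_right_inj b
      simp [this]
    obtain ⟨l, hl⟩ := exists_opSum_eq_smul hc' ρ
    have hop : ρ g = l • 1 := LinearMap.ext fun v => by
      have := hl v
      rw [opSum_apply] at this
      simpa [ite_smul] using this
    have h1 := (CharInt.norm_eq_iff_scalar ρ g).2 ⟨l, hop⟩
    rw [hρχ, apply_one_eq_degree, Complex.norm_natCast] at h1
    rw [Complex.normSq_eq_norm_sq, h1]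
  have htot : ∑ g : G, normSq (χ.1 g) = (Nat.card G : ℝ) := by
    have h := classInner_irr_self χ.2
    rw [classInner_self, ← Complex.ofReal_one, Complex.ofReal_inj,
      inv_mul_eq_one₀ (Nat.cast_ne_zero.2 Nat.card_pos.ne')] at h
    exact h.symm
  -- the conjugates of `D` are disjoint
  have h1 : (Nat.card G : ℝ) * SD ≤
      (Nat.card N : ℝ) * ((Nat.card G : ℝ) - (Zs.card : ℝ) * (n : ℝ) ^ 2) := by
    have hnotZ : ∀ q ∈ (Finset.univ : Finset G) ×ˢ D, q.1 * q.2 * q.1⁻¹ ∈ Finset.univ \ Zs := by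
      intro q hq
      obtain ⟨hgZ, -⟩ := (Finset.mem_filter.1 (Finset.mem_product.1 hq).2).2
      simp only [Zs, Finset.mem_sdiff, Finset.mem_univ, Finset.mem_filter, true_and]
      intro hc
      exact hgZ (by simpa [mul_assoc] using
        (inferInstance : (Subgroup.center G).Normal).conj_mem _ hc q.1⁻¹)
    have e1 : (Nat.card G : ℝ) * SD =
        ∑ q ∈ (Finset.univ : Finset G) ×ˢ D, normSq (χ.1 (q.1 * q.2 * q.1⁻¹)) := by
      rw [Finset.sum_product, Finset.sum_congr rfl (g := fun _ => SD) fun x _ => ?_,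
        Finset.sum_const, Finset.card_univ, nsmul_eq_mul, ← Nat.card_eq_fintype_card]
      exact Finset.sum_congr rfl fun g _ => by
        rw [IsCharacter.isClassFunction (irr_isCharacter χ) g x]
    rw [e1, ← Finset.sum_fiberwise_of_maps_to hnotZ]
    have e2 : (Nat.card G : ℝ) - (Zs.card : ℝ) * (n : ℝ) ^ 2 =
        ∑ g ∈ Finset.univ \ Zs, normSq (χ.1 g) := by
      rw [← htot, ← Finset.sum_sdiff (Finset.subset_univ Zs),
        Finset.sum_congr rfl fun g hg => hz g (Finset.mem_filter.1 hg).2, Finset.sum_const,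
        nsmul_eq_mul, add_sub_cancel_right]
    rw [e2, Finset.mul_sum]
    refine Finset.sum_le_sum fun k _ => ?_
    rw [Finset.sum_congr rfl (g := fun _ => normSq (χ.1 k)) fun q hq => by
      rw [(Finset.mem_filter.1 hq).2], Finset.sum_const, nsmul_eq_mul]
    refine mul_le_mul_of_nonneg_right ?_ (Complex.normSq_nonneg _)
    rw [Nat.cast_le]
    rcases (((Finset.univ : Finset G) ×ˢ D).filter
      (fun q => q.1 * q.2 * q.1⁻¹ = k)).eq_empty_or_nonempty with h0 | ⟨q₀, hq₀⟩
    · simp [h0]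
    rw [show Nat.card N = (Finset.univ.filter fun x : G => x ∈ N).card from
      Nat.subtype_card _ fun x => by simp]
    refine Finset.card_le_card_of_injOn (fun q => q₀.1⁻¹ * q.1) ?_ ?_
    · intro q hq
      simp only [Finset.coe_filter, Set.mem_ofPred_eq, Finset.mem_product, Finset.mem_univ,
        true_and] at hq ⊢
      simp only [Finset.mem_filter, Finset.mem_product, Finset.mem_univ, true_and] at hq₀
      obtain ⟨hgZ, a, ha, ha1, hga⟩ := (Finset.mem_filter.1 hq.1).2
      obtain ⟨hgZ', b, hb, hb1, hgb⟩ := (Finset.mem_filter.1 hq₀.1).2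
      refine mem_normalizer_of_commute hone hgZ' hb hb1 hgb ha ha1 ?_
      have e : q₀.2 = q₀.1⁻¹ * q.1 * q.2 * (q₀.1⁻¹ * q.1)⁻¹ := by
        have := hq.2.trans hq₀.2.symm
        calc q₀.2 = q₀.1⁻¹ * (q₀.1 * q₀.2 * q₀.1⁻¹) * q₀.1 := by group
          _ = _ := by rw [← this]; group
      rw [e]
      show _ = _
      calc q₀.1⁻¹ * q.1 * q.2 * (q₀.1⁻¹ * q.1)⁻¹ * (q₀.1⁻¹ * q.1 * a * (q₀.1⁻¹ * q.1)⁻¹)
          = q₀.1⁻¹ * q.1 * (q.2 * a) * (q₀.1⁻¹ * q.1)⁻¹ := by group
        _ = q₀.1⁻¹ * q.1 * (a * q.2) * (q₀.1⁻¹ * q.1)⁻¹ := by rw [hga.eq]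
        _ = _ := by group
    · intro q hq q' hq' he
      simp only [Finset.coe_filter, Set.mem_ofPred_eq] at hq hq'
      have h1 : q.1 = q'.1 := mul_left_cancel he
      refine Prod.ext h1 ?_
      have := hq.2.trans hq'.2.symm
      rw [h1] at this
      exact mul_left_cancel (mul_right_cancel this)
  -- decomposition on `N`
  let HN : Subgroup N := H.subgroupOf N
  have hleN : H ≤ N := Subgroup.le_normalizer
  haveI : HN.Normal := Subgroup.normal_in_normalizer
  obtain ⟨m, hm, -⟩ := IsCharacter.exists_decomp (IsCharacter.restrict (irr_isCharacter χ) N)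
  let T : Finset (IrrCharacter N) := Finset.univ.filter fun ψ => TrivOn HN ψ.1
  let χ0 : G → ℂ := fun g => (Nat.card H : ℂ)⁻¹ * ∑ h : H, χ.1 (g * h)
  have hH0 : (Nat.card H : ℂ) ≠ 0 := card_ne_zero
  have hm' : ∀ x : N, χ.1 (x : G) = ∑ ψ, (m ψ : ℂ) * ψ.1 x := fun x => by
    simpa using congrFun hm x
  have hχ0 : ∀ x : N, χ0 x = ∑ ψ ∈ T, (m ψ : ℂ) * ψ.1 x := by
    intro x
    have e : ∀ h : H, χ.1 ((x : G) * h) =
        ∑ ψ, (m ψ : ℂ) * ψ.1 (x * ⟨h, hleN h.2⟩) := fun h => hm' (x * ⟨h, hleN h.2⟩)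
    simp only [χ0, e]
    rw [Finset.sum_comm, Finset.mul_sum, Finset.sum_filter]
    refine Finset.sum_congr rfl fun ψ _ => ?_
    rw [← Finset.mul_sum, Fintype.sum_equiv (Subgroup.subgroupOfEquivOfLe hleN).symm.toEquiv
      (fun h : H => ψ.1 (x * ⟨h, hleN h.2⟩)) (fun k : HN => ψ.1 (x * k)) fun h => rfl]
    split_ifs with hT
    · rw [Finset.sum_congr rfl fun k _ => apply_mul_of_trivOn hT x k.2, Finset.sum_const,
        Finset.card_univ, ← Nat.card_eq_fintype_card,
        Nat.card_congr (Subgroup.subgroupOfEquivOfLe hleN).toEquiv, nsmul_eq_mul]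
      field_simp
    · rw [sum_coset_eq_zero_of_not_trivOn HN ψ hT x, mul_zero, mul_zero]
  have hA : ∑ x : N, normSq (χ.1 (x : G)) = (Nat.card N : ℝ) * ∑ ψ, (m ψ : ℝ) ^ 2 := by
    simp only [hm']; exact sum_normSq_comb _ m
  have hB : ∑ x : N, normSq (χ0 x) = (Nat.card N : ℝ) * ∑ ψ ∈ T, (m ψ : ℝ) ^ 2 := by
    simp only [hχ0]; exact sum_normSq_comb _ m
  have h2 : (Nat.card N : ℝ) + ∑ x : N, normSq (χ0 x) ≤ ∑ x : N, normSq (χ.1 (x : G)) := by
    obtain ⟨ψ, hψT, hψm⟩ : ∃ ψ, ψ ∉ T ∧ m ψ ≠ 0 := by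
      by_contra hno
      push Not at hno
      refine hχh₀ ?_
      have e : ∀ x : N, χ.1 (x : G) = ∑ ψ ∈ T, (m ψ : ℂ) * ψ.1 x := fun x => by
        rw [hm', ← Finset.sum_subset (Finset.subset_univ T) fun ψ _ hψ => by
          rw [hno ψ hψ, Nat.cast_zero, zero_mul]]
      have e1 := e ⟨h₀, hleN hh₀⟩
      have e2 := e 1
      rw [Subgroup.coe_one] at e2
      refine e1.trans (Eq.trans (Finset.sum_congr rfl fun ψ hψ => ?_) e2.symm)
      rw [(Finset.mem_filter.1 hψ).2 ⟨h₀, hleN hh₀⟩ hh₀]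
    rw [hA, hB, ← mul_one_add]
    refine mul_le_mul_of_nonneg_left ?_ (Nat.cast_nonneg _)
    rw [← Finset.sum_sdiff (Finset.subset_univ T)]
    refine add_le_add (le_trans ?_ (Finset.single_le_sum (fun φ _ => sq_nonneg _)
      (Finset.mem_sdiff.2 ⟨Finset.mem_univ ψ, hψT⟩))) le_rfl
    exact one_le_pow₀ (Nat.one_le_cast.2 (Nat.pos_of_ne_zero hψm))
  -- the three parts of `N`
  let Ns : Finset G := Finset.univ.filter fun g => g ∈ N
  let R : Finset G := Ns \ (D ∪ Zs)
  let ZH : Finset G := (Zs ×ˢ (Finset.univ : Finset H)).image fun q => q.1 * (q.2 : G)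
  have hZN : ∀ z ∈ Zs, z ∈ N := fun z hz => Subgroup.mem_normalizer_iff.2 fun y => by
    rw [← Subgroup.mem_center_iff.1 (Finset.mem_filter.1 hz).2 y, mul_inv_cancel_right]
  have hdisj : Disjoint D Zs := Finset.disjoint_left.2 fun g hg hg' =>
    ((Finset.mem_filter.1 hg).2).1 (Finset.mem_filter.1 hg').2
  have h3 : ∑ x : N, normSq (χ.1 (x : G)) =
      SD + (Zs.card : ℝ) * (n : ℝ) ^ 2 + ∑ g ∈ R, normSq (χ.1 g) := by
    rw [← Finset.sum_subtype (p := (· ∈ N)) Ns (fun g => by simp [Ns]) fun g => normSq (χ.1 g),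
      ← Finset.sum_sdiff (s₁ := D ∪ Zs) (s₂ := Ns) (fun g hg => by
        simp only [Ns, Finset.mem_filter, Finset.mem_univ, true_and]
        exact (Finset.mem_union.1 hg).elim (hDN g) (hZN g)),
      Finset.sum_union hdisj, Finset.sum_congr rfl fun g hg => hz g (Finset.mem_filter.1 hg).2,
      Finset.sum_const, nsmul_eq_mul, add_comm]
  have hc0 : ∀ q ∈ Zs ×ˢ (Finset.univ : Finset H),
      normSq (χ0 (q.1 * (q.2 : G))) = (c : ℝ) ^ 2 := by
    rintro ⟨z, k⟩ hq
    have hzc := (Finset.mem_filter.1 (Finset.mem_product.1 hq).1).2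
    have hnz : ‖χ.1 z‖ = ‖χ.1 1‖ := by
      have := hz z hzc
      rw [Complex.normSq_eq_norm_sq] at this
      rw [apply_one_eq_degree, Complex.norm_natCast]
      exact (pow_left_inj₀ (norm_nonneg _) (Nat.cast_nonneg _) two_ne_zero).1 this
    have e : χ0 (z * (k : G)) * χ.1 1 = χ.1 z * (c : ℂ) := by
      simp only [χ0, mul_assoc (_⁻¹ : ℂ), Finset.sum_mul]
      rw [← hc, classInner]
      simp only [map_one, mul_one, Finset.mul_sum]
      refine Fintype.sum_equiv (Equiv.mulLeft k) _ _ fun h => ?_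
      rw [show z * (k : G) * h = z * ((k * h : H) : G) by rw [Subgroup.coe_mul, mul_assoc],
        CharInt.char_mul_of_mem_centre (irr_isCharacter χ) hnz]
      simp only [Equiv.coe_mulLeft]
      ring
    have e' := congrArg normSq e
    rw [map_mul normSq (χ0 (z * (k : G))) (χ.1 1), map_mul normSq (χ.1 z) (c : ℂ), hz z hzc,
      apply_one_eq_degree, Complex.normSq_natCast,
      Complex.normSq_natCast] at e'
    have hn0 : (n : ℝ) ≠ 0 := Nat.cast_ne_zero.2 (degree_pos χ).ne'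
    refine mul_right_cancel₀ (mul_ne_zero hn0 hn0) ?_
    rw [e']
    ring
  have h4 : ∑ g ∈ R, normSq (χ.1 g) + (Zs.card : ℝ) * (Nat.card H : ℝ) * (c : ℝ) ^ 2 ≤
      ∑ x : N, normSq (χ0 x) := by
    rw [← Finset.sum_subtype (p := (· ∈ N)) Ns (fun g => by simp [Ns]) fun g => normSq (χ0 g),
      Finset.sum_congr rfl (g := fun g => normSq (χ0 g)) fun g hg => ?_]
    · have hdis : Disjoint R ZH := Finset.disjoint_left.2 fun g hg hg' => by
        obtain ⟨⟨z, h⟩, hzh, rfl⟩ := Finset.mem_image.1 hg'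
        have hzc := (Finset.mem_filter.1 (Finset.mem_product.1 hzh).1).2
        obtain ⟨-, hnot⟩ := Finset.mem_sdiff.1 hg
        apply hnot
        by_cases hcen : z * (h : G) ∈ Subgroup.center G
        · exact Finset.mem_union_right _ (Finset.mem_filter.2 ⟨Finset.mem_univ _, hcen⟩)
        · refine Finset.mem_union_left _ (Finset.mem_filter.2 ⟨Finset.mem_univ _, hcen, h, h.2,
            fun h1 => hcen ?_, ?_⟩)
          · show z * (h : G) ∈ Subgroup.center G
            rw [h1, mul_one]; exact hzc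
          · exact (show Commute z (h : G) from (Subgroup.mem_center_iff.1 hzc h).symm).mul_left
              (Commute.refl _)
      have hsub : R ∪ ZH ⊆ Ns := by
        intro g hg
        rcases Finset.mem_union.1 hg with hg | hg
        · exact (Finset.mem_sdiff.1 hg).1
        · obtain ⟨⟨z, h⟩, hzh, rfl⟩ := Finset.mem_image.1 hg
          exact Finset.mem_filter.2 ⟨Finset.mem_univ _,
            N.mul_mem (hZN z (Finset.mem_product.1 hzh).1) (hleN h.2)⟩
      refine le_trans (le_of_eq ?_)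
        (Finset.sum_le_sum_of_subset_of_nonneg hsub fun g _ _ => Complex.normSq_nonneg _)
      rw [Finset.sum_union hdis, add_right_inj, Finset.sum_image, Finset.sum_congr rfl hc0,
        Finset.sum_const, Finset.card_product, Finset.card_univ, ← Nat.card_eq_fintype_card,
        nsmul_eq_mul, Nat.cast_mul]
      rintro ⟨z, h⟩ hq ⟨z', h'⟩ hq' (he : z * (h : G) = z' * (h' : G))
      have hzc := (Finset.mem_filter.1 (Finset.mem_product.1 hq).1).2
      have hzc' := (Finset.mem_filter.1 (Finset.mem_product.1 hq').1).2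
      have hw : (h : G) * (h' : G)⁻¹ = z⁻¹ * z' := by
        rw [eq_inv_mul_iff_mul_eq, ← mul_assoc, he, mul_inv_cancel_right]
      have h5 : (h : G) * (h' : G)⁻¹ = 1 := (Subgroup.eq_bot_iff_forall _).1 hZ _
        ⟨H.mul_mem h.2 (H.inv_mem h'.2), hw ▸ Subgroup.mul_mem _ (Subgroup.inv_mem _ hzc) hzc'⟩
      have hh : h = h' := Subtype.ext (mul_inv_eq_one.1 h5)
      subst hh
      exact Prod.ext (mul_right_cancel he) rfl
    · obtain ⟨hgN, hnot⟩ := Finset.mem_sdiff.1 hg
      have hfree : ∀ h ∈ H, Commute g h → h = 1 := fun h hh hgh => by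
        by_contra hh1
        refine hnot ?_
        by_cases hgc : g ∈ Subgroup.center G
        · exact Finset.mem_union_right _ (Finset.mem_filter.2 ⟨Finset.mem_univ _, hgc⟩)
        · exact Finset.mem_union_left _
            (Finset.mem_filter.2 ⟨Finset.mem_univ _, hgc, h, hh, hh1, hgh⟩)
      congr 1
      simp only [χ0, apply_mul_eq hab (irr_isCharacter χ) (Finset.mem_filter.1 hgN).2 hfree,
        Finset.sum_const, Finset.card_univ, ← Nat.card_eq_fintype_card, nsmul_eq_mul]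
      field_simp
  have hNpos : (0 : ℝ) < Nat.card N := by exact_mod_cast Nat.card_pos
  have hGpos : (0 : ℝ) < Nat.card G := by exact_mod_cast Nat.card_pos
  have hZpos : (0 : ℝ) < Zs.card := by
    exact_mod_cast Finset.card_pos.2 ⟨1, Finset.mem_filter.2 ⟨Finset.mem_univ _, one_mem _⟩⟩
  have hnpos : (0 : ℝ) < (n : ℝ) ^ 2 := pow_pos (by exact_mod_cast degree_pos χ) 2
  have h5 : (Nat.card N : ℝ) + (Zs.card : ℝ) * (Nat.card H : ℝ) * (c : ℝ) ^ 2 ≤
      SD + (Zs.card : ℝ) * (n : ℝ) ^ 2 := by linarith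
  have h6 := mul_le_mul_of_nonneg_left h5 hGpos.le
  have h7 : (Nat.card G : ℝ) * (Zs.card : ℝ) * ((Nat.card H : ℝ) * (c : ℝ) ^ 2) <
      (Nat.card G : ℝ) * (Zs.card : ℝ) * (n : ℝ) ^ 2 := by
    nlinarith [mul_pos hNpos (mul_pos hZpos hnpos)]
  exact lt_of_mul_lt_mul_left h7 (mul_nonneg hGpos.le hZpos.le)

/-- The bound on the order of `H`. -/
theorem card_lt_degree_succ_sq (hab : ∀ a ∈ H, ∀ b ∈ H, a * b = b * a)
    (hZ : H ⊓ Subgroup.center G = ⊥) (hone : Unique H) (χ : IrrCharacter G)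
    (hne : χ.1 1 ≠ 1) (hgen : ∀ M : Subgroup G, M.Normal → H ≤ M → M = ⊤) :
    (Nat.card H : ℝ) < (1 + (degree χ : ℝ)) ^ 2 := by
  classical
  set n := degree χ with hn
  have hn2 : 2 ≤ n := by
    have := degree_pos χ
    by_contra h
    exact hne (by rw [apply_one_eq_degree, show degree χ = 1 by omega, Nat.cast_one])
  have hkerφ : ∀ φ : IrrCharacter G, φ ≠ trivialChar G → ∃ h ∈ H, φ.1 h ≠ φ.1 1 := by
    intro φ hφ
    by_contra hno
    push Not at hno
    have hK := hgen _ (CharInt.charKernel_normal (irr_isCharacter φ))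
      fun h hh => (CharInt.mem_charKernel _).2 (hno h hh)
    have hall : ∀ g, φ.1 g = φ.1 1 := fun g =>
      (CharInt.mem_charKernel (irr_isCharacter φ)).1 (hK ▸ Subgroup.mem_top g)
    have h0 := sum_apply_eq_zero hφ
    rw [Finset.sum_congr rfl fun g _ => hall g, Finset.sum_const, Finset.card_univ,
      nsmul_eq_mul, ← Nat.card_eq_fintype_card, mul_eq_zero] at h0
    exact h0.elim card_ne_zero (IsIrrCharacter.apply_one_ne_zero φ.2)
  choose cf hcf using fun φ : IrrCharacter G => IsCharacter.exists_nat_classInner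
    (IsCharacter.restrict (irr_isCharacter φ) H) isCharacter_one
  set s := Real.sqrt (Nat.card H : ℝ) with hs
  have hs2 : s ^ 2 = (Nat.card H : ℝ) := Real.sq_sqrt (Nat.cast_nonneg _)
  have hs0 : 0 ≤ s := Real.sqrt_nonneg _
  have hlt : ∀ φ, φ ≠ trivialChar G → s * (cf φ : ℝ) < (degree φ : ℝ) := by
    intro φ hφ
    have := degree_sq_gt hab hZ hone φ (hkerφ φ hφ) (hcf φ)
    rw [← hs2, ← mul_pow] at this
    exact lt_of_pow_lt_pow_left₀ 2 (Nat.cast_nonneg _) this
  -- `χ * conj χ`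
  set ω : G → ℂ := χ.1 * fun g => conj (χ.1 g) with hω
  obtain ⟨m, hm, hm'⟩ := IsCharacter.exists_decomp
    (IsCharacter.mul (irr_isCharacter χ) (IsCharacter.conj (irr_isCharacter χ)))
  have hm1 : m (trivialChar G) = 1 := by
    have h := hm' (trivialChar G)
    have h2 := classInner_irr_self χ.2
    simp only [classInner, trivialChar_apply, map_one, mul_one, Pi.mul_apply] at h h2
    rw [h2] at h
    exact_mod_cast h.symm
  have hω1 : ∀ g, ω g = ∑ φ, (m φ : ℂ) * φ.1 g := fun g => by simpa [hω] using congrFun hm g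
  have hdeg : (n : ℝ) ^ 2 = 1 + ∑ φ ∈ Finset.univ.erase (trivialChar G),
      (m φ : ℝ) * (degree φ : ℝ) := by
    have h := hω1 1
    simp only [hω, Pi.mul_apply, apply_one_eq_degree, map_natCast] at h
    rw [← Finset.add_sum_erase _ _ (Finset.mem_univ (trivialChar G)), hm1,
      show degree (trivialChar G) = 1 from Nat.cast_injective (R := ℂ) (by
        rw [← apply_one_eq_degree, trivialChar_apply, Nat.cast_one])] at h
    have h' : ((n * n : ℕ) : ℂ) = ((1 + ∑ φ ∈ Finset.univ.erase (trivialChar G),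
        m φ * degree φ : ℕ) : ℂ) := by push_cast; simpa using h
    have h'' := congrArg (fun k : ℕ => (k : ℝ)) (Nat.cast_injective h')
    push_cast at h''
    rw [sq]; exact h''
  obtain ⟨m₂, hmH, hmH'⟩ := IsCharacter.exists_decomp (IsCharacter.restrict (irr_isCharacter χ) H)
  have hlin : ∀ ψ : IrrCharacter H, ψ.1 1 = 1 := apply_one_of_comm fun a b =>
    Subtype.ext (hab a a.2 b b.2)
  have hlow : (n : ℝ) ≤ 1 + ∑ φ ∈ Finset.univ.erase (trivialChar G),
      (m φ : ℝ) * (cf φ : ℝ) := by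
    have e1 : classInner (fun h : H => χ.1 h) (fun h : H => χ.1 h) =
        ((∑ φ, m φ * cf φ : ℕ) : ℂ) := by
      have : classInner (fun h : H => χ.1 h) (fun h : H => χ.1 h) =
          classInner (fun h : H => ω h) (fun _ => 1) := by
        simp [classInner, hω]
      rw [this, show (fun h : H => ω h) = ∑ φ, (m φ : ℂ) • fun h : H => φ.1 h from
        funext fun h => by simp [hω1], classInner_sum_left]
      push_cast
      exact Finset.sum_congr rfl fun φ _ => by rw [classInner_smul_left, hcf]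
    have e2 : classInner (fun h : H => χ.1 h) (fun h : H => χ.1 h) =
        ((∑ ψ, m₂ ψ * m₂ ψ : ℕ) : ℂ) := by
      rw [classInner_eq_sum (IsCharacter.isClassFunction
        (IsCharacter.restrict (irr_isCharacter χ) H))]
      push_cast
      exact Finset.sum_congr rfl fun ψ _ => by
        rw [← conj_classInner (fun h : H => χ.1 h) ψ.1, hmH', map_natCast]
    have e3 : n = ∑ ψ, m₂ ψ := by
      have := congrFun hmH 1
      simp only [Subgroup.coe_one, Finset.sum_apply, Pi.smul_apply, hlin, smul_eq_mul, mul_one,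
        apply_one_eq_degree] at this
      exact_mod_cast this
    have e4 : n ≤ ∑ φ, m φ * cf φ := by
      rw [show (∑ φ, m φ * cf φ) = ∑ ψ, m₂ ψ * m₂ ψ by exact_mod_cast e1.symm.trans e2, e3]
      exact Finset.sum_le_sum fun ψ _ => Nat.le_mul_self _
    have hcf1 : cf (trivialChar G) = 1 := by
      have h := hcf (trivialChar G)
      simp only [classInner, trivialChar_apply, map_one, mul_one, Finset.sum_const,
        Finset.card_univ, nsmul_one, ← Nat.card_eq_fintype_card,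
        inv_mul_cancel₀ (card_ne_zero (G := H))] at h
      exact_mod_cast h.symm
    rw [← Finset.add_sum_erase _ _ (Finset.mem_univ (trivialChar G)), hm1, hcf1, one_mul] at e4
    exact_mod_cast e4
  have hn1 : (2 : ℝ) ≤ n := by exact_mod_cast hn2
  obtain ⟨φ₀, hφ₀, hmφ₀⟩ : ∃ φ ∈ Finset.univ.erase (trivialChar G), m φ ≠ 0 := by
    by_contra hno
    push Not at hno
    rw [Finset.sum_eq_zero fun φ hφ => by rw [hno φ hφ, Nat.cast_zero, zero_mul], add_zero] at hdeg
    nlinarith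
  have hfin : s * ((n : ℝ) - 1) < (n : ℝ) ^ 2 - 1 := by
    calc s * ((n : ℝ) - 1) ≤ s * ∑ φ ∈ Finset.univ.erase (trivialChar G), (m φ : ℝ) * cf φ :=
          mul_le_mul_of_nonneg_left (by linarith) hs0
      _ = ∑ φ ∈ Finset.univ.erase (trivialChar G), (m φ : ℝ) * (s * cf φ) := by
          rw [Finset.mul_sum]; exact Finset.sum_congr rfl fun φ _ => by ring
      _ < ∑ φ ∈ Finset.univ.erase (trivialChar G), (m φ : ℝ) * (degree φ : ℝ) := by
          refine Finset.sum_lt_sum (fun φ hφ => mul_le_mul_of_nonneg_left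
            (hlt φ (Finset.ne_of_mem_erase hφ)).le (Nat.cast_nonneg _)) ⟨φ₀, hφ₀, ?_⟩
          exact mul_lt_mul_of_pos_left (hlt φ₀ (Finset.ne_of_mem_erase hφ₀))
            (Nat.cast_pos.2 (Nat.pos_of_ne_zero hmφ₀))
      _ = _ := by linarith
  have hsn : s < 1 + n := by nlinarith
  rw [← hs2]
  exact pow_lt_pow_left₀ hsn hs0 two_ne_zero

end Cfsg.Agent.Char.TIBound
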