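import Cfsg.Agent.Lib.Clifford.GallagherExtension
import Cfsg.Agent.Lib.Char.KernelSum
import Cfsg.Agent.Lib.Transfer.Residual
import Cfsg.Agent.S4455

/-!
# Thompson's theorem on character degrees

If `p` divides every degree greater than one, then `O^p(G)` has order prime to `p`.
-/

set_option autoImplicit false
set_option linter.style.haveILetI false
set_option linter.unusedSectionVars false

namespace Cfsg.Agent.Char

variable {G : Type*} [Group G] [Finite G]

theorem detChar_linIrr (f : G →* ℂ) : Clifford.detChar (linIrr f) = f := by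
  refine MonoidHom.ext fun g => ?_
  let ρ : Representation ℂ G ℂ := (algebraMap ℂ (Module.End ℂ ℂ) : ℂ →* Module.End ℂ ℂ).comp f
  have hρ : ρ.character = (linIrr f).1 := funext fun x => by
    show LinearMap.trace ℂ ℂ (algebraMap ℂ (Module.End ℂ ℂ) (f x)) = f x
    rw [Algebra.algebraMap_eq_smul_one, map_smul, LinearMap.trace_one, Module.finrank_self,
      Nat.cast_one, smul_eq_mul, mul_one]
  rw [Clifford.detChar_eq (linIrr f) ρ hρ g]
  show LinearMap.det (algebraMap ℂ (Module.End ℂ ℂ) (f g)) = f g
  rw [Algebra.algebraMap_eq_smul_one, LinearMap.det_smul, map_one, Module.finrank_self, pow_one,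
    mul_one]

theorem detOrder_linIrr (f : G →* ℂˣ) :
    Cfsg.detOrder (linIrr ((Units.coeHom ℂ).comp f)).1 = orderOf f := by
  rw [Cfsg.detOrder, Clifford.detChar_fun_eq, detChar_linIrr]
  refine orderOf_eq_orderOf_iff.2 fun n => ?_
  constructor
  · intro h
    refine MonoidHom.ext fun g => Units.ext ?_
    have := congrFun h g
    simpa using this
  · intro h
    funext g
    have := congrArg (fun u : G →* ℂˣ => ((u g : ℂˣ) : ℂ)) h
    simpa using this

/-- Thompson: if every nonlinear degree is divisible by `p` then `O^p(G)` has order prime to `p`. -/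
theorem not_dvd_card_pResidual_of_dvd_degree (p : ℕ) (hp : p.Prime)
    (h : ∀ χ : IrrCharacter G, degree χ ≠ 1 → p ∣ degree χ) :
    ¬ p ∣ Nat.card (Cfsg.pResidual p G) := by
  classical
  haveI := Fact.mk hp
  haveI := Fintype.ofFinite G
  haveI : Finite (G →* ℂˣ) := Finite.of_injective
    (fun f : G →* ℂˣ => linIrr ((Units.coeHom ℂ).comp f)) fun a b hab => by
      refine MonoidHom.ext fun g => Units.ext ?_
      exact congrFun (congrArg Subtype.val hab) g
  let L : Subgroup (G →* ℂˣ) :=
    { carrier := {f | Nat.Coprime (orderOf f) p}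
      one_mem' := by simp
      mul_mem' := fun {a b} ha hb => Nat.Coprime.coprime_dvd_left
        ((Commute.all a b).orderOf_mul_dvd_mul_orderOf) (Nat.Coprime.mul_left ha hb)
      inv_mem' := fun {a} ha => by simpa using ha }
  haveI : Fintype L := Fintype.ofFinite L
  have hL : ¬ p ∣ Nat.card L := fun hd => by
    obtain ⟨x, hx⟩ := exists_prime_orderOf_dvd_card' p hd
    have h1 : Nat.Coprime (orderOf (x : G →* ℂˣ)) p := x.2
    rw [Subgroup.orderOf_coe, hx] at h1
    exact hp.one_lt.ne' ((Nat.coprime_self p).1 h1)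
  have hS := Cfsg.Agent.S4455.result (G := G) p hp
  set S := (Finset.univ : Finset (IrrCharacter G)).filter
    fun χ => ¬ p ∣ degree χ ∧ ¬ p ∣ Cfsg.detOrder χ.1 with hSdef
  rw [show {χ : IrrCharacter G | ¬ p ∣ Cfsg.charDegree (χ : G → ℂ) ∧
      ¬ p ∣ Cfsg.detOrder (χ : G → ℂ)} = ↑S from Set.ext fun χ => by
        simp [hSdef, charDegree_eq_degree], finsum_mem_coe_finset] at hS
  have hone : ∀ χ ∈ S, degree χ = 1 := fun χ hχ =>
    by_contra fun hne => (Finset.mem_filter.1 hχ).2.1 (h χ hne)
  rw [Finset.sum_congr rfl fun (χ : IrrCharacter G) hχ => show (Cfsg.charDegree (χ : G → ℂ) : ℤ) ^ 2 = 1 by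
    rw [charDegree_eq_degree, hone χ hχ]; rfl, Finset.sum_const, nsmul_one] at hS
  have hcard : S.card = Nat.card L := by
    rw [Nat.card_eq_fintype_card, ← Finset.card_univ]
    refine (Finset.card_bij (fun (f : L) _ => linIrr ((Units.coeHom ℂ).comp (f : G →* ℂˣ)))
      (fun f _ => ?_) (fun a _ b _ hab => ?_) (fun χ hχ => ?_)).symm
    · refine Finset.mem_filter.2 ⟨Finset.mem_univ _, ?_, ?_⟩
      · have h1 : degree (linIrr ((Units.coeHom ℂ).comp (f : G →* ℂˣ))) = 1 := by
          have h2 := apply_one_eq_degree (linIrr ((Units.coeHom ℂ).comp (f : G →* ℂˣ)))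
          rw [linIrr_apply, map_one] at h2
          exact_mod_cast h2.symm
        rw [h1]
        exact hp.not_dvd_one
      · rw [detOrder_linIrr]
        exact hp.coprime_iff_not_dvd.1 (Nat.Coprime.symm f.2)
    · refine Subtype.ext (MonoidHom.ext fun g => Units.ext ?_)
      exact congrFun (congrArg Subtype.val hab) g
    · obtain ⟨f, hf⟩ := IsCharacter.exists_monoidHom (irr_isCharacter χ)
        (by rw [apply_one_eq_degree, hone χ hχ, Nat.cast_one])
      have he : linIrr ((Units.coeHom ℂ).comp f.toHomUnits) = χ :=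
        Subtype.ext (funext fun g => congrFun hf g)
      refine ⟨⟨f.toHomUnits, ?_⟩, Finset.mem_univ _, he⟩
      show Nat.Coprime (orderOf f.toHomUnits) p
      rw [← detOrder_linIrr, he]
      exact (hp.coprime_iff_not_dvd.2 (Finset.mem_filter.1 hχ).2.2).symm
  rw [hcard] at hS
  intro hd
  refine hL (Int.natCast_dvd_natCast.1 ?_)
  have h0 : (p : ℤ) ∣ (Nat.card (Cfsg.pResidual p G) : ℤ) := Int.natCast_dvd_natCast.2 hd
  exact (dvd_iff_dvd_of_dvd_sub (Int.modEq_iff_dvd.1 hS)).2 h0

end Cfsg.Agent.Char
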