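import Cfsg.Agent.Lib.Char.ThompsonDegree
import Cfsg.Agent.Lib.Char.CliffordCorrespondence
import Cfsg.Agent.Lib.Char.Descend
import Cfsg.Agent.Lib.Char.Linear
import Cfsg.Agent.Lib.Transfer.Residual
import Cfsg.Agent.Lib.Glauberman.Solvable
import Cfsg.Agent.S0887
import Mathlib.GroupTheory.SchurZassenhaus

/-!
# Groups with two character degrees

* `commutator_le_of_index`: if all degrees are `1` or `m`, a subgroup of index `m` contains the
  derived subgroup;
* `exists_abelian_index_or_central`: Isaacs 12.5 — an abelian normal subgroup of index `m`, or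
  `m` is a power of a prime `p` and a central abelian `p'`-subgroup has `p`-power index.
-/

set_option autoImplicit false
set_option linter.style.haveILetI false
set_option linter.unusedSectionVars false

open scoped Classical ComplexConjugate commutatorElement

namespace Cfsg.Agent.Char

universe u

variable {G : Type u} [Group G] [Fintype G]

theorem degree_eq_of_apply_one {χ : IrrCharacter G} {n : ℕ} (h : χ.1 1 = n) : degree χ = n := by
  rw [apply_one_eq_degree] at h
  exact_mod_cast h

/-- If all degrees are `1` or `m`, then the subgroups of index `m` contain the derived subgroup. -/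
theorem commutator_le_of_index {m : ℕ} (hm : 1 < m)
    (hcd : ∀ χ : IrrCharacter G, degree χ = 1 ∨ degree χ = m) (T : Subgroup G)
    (hT : T.index = m) : commutator G ≤ T := by
  haveI := Fintype.ofFinite T
  intro g hg
  set f := Cfsg.indFun T (fun _ => (1 : ℂ)) with hf
  have hfc : Cfsg.IsCharacter G f :=
    isCharacter_indFun T (IsIrrCharacter.isCharacter (trivialChar T).2)
  obtain ⟨c, hc, hc'⟩ := IsCharacter.exists_decomp hfc
  have h1 : c (trivialChar G) = 1 := by
    have := hc' (trivialChar G)
    rw [hf, classInner_indFun T _ (IsCharacter.isClassFunction (irr_isCharacter _))] at this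
    have h2 : classInner (fun _ : T => (1 : ℂ)) (fun t : T => (trivialChar G).1 t) = 1 :=
      classInner_irr_self (trivialChar T).2
    rw [h2] at this
    exact_mod_cast this.symm
  have hdeg : ∑ χ : IrrCharacter G, c χ * degree χ = m := by
    have := congrFun hc 1
    rw [hf, indFun_apply_one, mul_one, hT] at this
    simp only [Finset.sum_apply, Pi.smul_apply, smul_eq_mul, apply_one_eq_degree] at this
    exact_mod_cast this.symm
  have hlin : ∀ χ : IrrCharacter G, c χ ≠ 0 → degree χ = 1 := by
    intro χ hχ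
    refine (hcd χ).resolve_right fun hd => ?_
    by_cases he : χ = trivialChar G
    · subst he
      have : degree (trivialChar G) = 1 := degree_eq_of_apply_one (by simp [trivialChar])
      omega
    · have h3 : c (trivialChar G) * degree (trivialChar G) + c χ * degree χ ≤ m := by
        rw [← hdeg]
        exact Finset.add_le_sum (f := fun ψ => c ψ * degree ψ) (fun _ _ => Nat.zero_le _)
          (Finset.mem_univ _) (Finset.mem_univ _) (Ne.symm he)
      rw [h1, one_mul, hd] at h3
      have h4 := degree_pos (trivialChar G)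
      have h5 := Nat.le_mul_of_pos_left m (Nat.pos_of_ne_zero hχ)
      omega
  have hval : f g = f 1 := by
    rw [hc]
    simp only [Finset.sum_apply, Pi.smul_apply, smul_eq_mul]
    refine Finset.sum_congr rfl fun χ _ => ?_
    by_cases h : c χ = 0
    · simp [h]
    · obtain ⟨lam, hl⟩ := IsCharacter.exists_monoidHom (irr_isCharacter χ)
        (by rw [apply_one_eq_degree, hlin χ h, Nat.cast_one])
      rw [← hl, map_one, show lam g = 1 from congrArg Units.val
        (MonoidHom.mem_ker.1 (Abelianization.commutator_subset_ker lam.toHomUnits hg))]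
  by_contra hgT
  rw [hf, indFun_apply_one, mul_one, indFun] at hval
  have hT0 : (Nat.card T : ℂ) ≠ 0 := card_ne_zero
  rw [inv_mul_eq_iff_eq_mul₀ hT0, ← Nat.cast_mul, T.card_mul_index] at hval
  have hsum : ∑ x : G, extendByZero T (fun _ => (1 : ℂ)) (x⁻¹ * g * x) =
      ((Finset.univ.filter fun x : G => x⁻¹ * g * x ∈ T).card : ℂ) := by
    rw [Finset.natCast_card_filter]
    refine Finset.sum_congr rfl fun x _ => ?_
    by_cases hx : x⁻¹ * g * x ∈ T
    · rw [extendByZero_of_mem _ _ hx, if_pos hx]
    · rw [extendByZero_of_notMem _ _ hx, if_neg hx]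
  rw [hsum, Nat.card_eq_fintype_card, Nat.cast_inj] at hval
  have h1 := Finset.mem_univ (1 : G)
  rw [← (Finset.card_eq_iff_eq_univ _).1 hval] at h1
  exact hgT (by simpa using (Finset.mem_filter.1 h1).2)

/-- Extensions of an invariant linear character across a complemented normal subgroup and twists by
characters of the complement: the degrees of the characters over the linear character. -/
theorem degree_over_linear {m : ℕ} (hcd : ∀ χ : IrrCharacter G, degree χ = 1 ∨ degree χ = m)
    (H Q : Subgroup G) [H.Normal] [Fintype H] (π : G →* Q) (hπQ : ∀ q : Q, π q = q)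
    (hπH : π.ker = H) (v : H →* ℂˣ) (T : Subgroup Q) [Fintype T]
    (hT : ∀ q : Q, q ∈ T ↔ ∀ h : H, v (MulAut.conjNormal (q : G) h) = v h) :
    ∀ β : IrrCharacter T, T.index * degree β = 1 ∨ T.index * degree β = m := by
  intro β
  have hmem : ∀ x : G, x * ((π x : Q) : G)⁻¹ ∈ H := fun x => by
    rw [← hπH, MonoidHom.mem_ker, map_mul, map_inv, hπQ, mul_inv_cancel]
  let hp : G → H := fun x => ⟨x * ((π x : Q) : G)⁻¹, hmem x⟩
  have hv : ∀ {a b : H}, a = b → v a = v b := fun h => congrArg v h
  have hmul : ∀ x y : G, hp (x * y) = hp x * MulAut.conjNormal ((π x : Q) : G) (hp y) := by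
    intro x y
    refine Subtype.ext ?_
    simp only [hp, Subgroup.coe_mul, MulAut.conjNormal_apply, map_mul, mul_inv_rev]
    group
  set θ : IrrCharacter H := linIrr ((Units.coeHom ℂ).comp v) with hθ
  have hI : ∀ g : G, g ∈ inertia H θ.1 ↔ π g ∈ T := by
    intro g
    rw [mem_inertia, hT]
    have hcomm : ∀ a b : H, v (a * b * a⁻¹) = v b := fun a b => by
      simp [mul_comm (v a) (v b)]
    have key : ∀ h : H,
        v (MulAut.conjNormal g h) = v (MulAut.conjNormal ((π g : Q) : G) h) := by
      intro h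
      refine Eq.trans ?_ (hcomm (hp g) _)
      refine hv (Subtype.ext ?_)
      simp only [hp, Subgroup.coe_mul, Subgroup.coe_inv, MulAut.conjNormal_apply, mul_inv_rev]
      group
    constructor
    · intro h x
      rw [← key]
      exact Units.ext (congrFun h x)
    · intro h
      funext x
      exact congrArg Units.val ((key x).trans (h x))
  set I := inertia H θ.1
  haveI := Fintype.ofFinite I
  let πI : I →* T :=
    { toFun := fun x => ⟨π x, (hI x).1 x.2⟩
      map_one' := Subtype.ext (map_one π)
      map_mul' := fun x y => Subtype.ext (map_mul π _ _) }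
  have hsurj : Function.Surjective πI := fun t =>
    ⟨⟨((t : Q) : G), (hI _).2 (by rw [hπQ]; exact t.2)⟩, Subtype.ext (hπQ t)⟩
  let w : I →* ℂ :=
    { toFun := fun x => (v (hp x) : ℂ)
      map_one' := by
        rw [show hp ((1 : I) : G) = 1 from Subtype.ext (by simp [hp]), map_one, Units.val_one]
      map_mul' := fun x y => by
        rw [Subgroup.coe_mul, hmul, map_mul, (hT _).1 ((hI x).1 x.2) _, Units.val_mul] }
  let ψ : IrrCharacter I := ⟨⇑w * fun x => β.1 (πI x),
    IsIrrCharacter.mul_linear (IsIrrCharacter.comp_surjective β.2 πI hsurj) w⟩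
  have hres : resIncl H (irr_le_inertia H θ) ψ.1 = (β.1 1) • θ.1 := by
    funext n
    have h1 : π (n : G) = 1 := by rw [← MonoidHom.mem_ker, hπH]; exact n.2
    have h2 : πI (Subgroup.inclusion (irr_le_inertia H θ) n) = 1 := Subtype.ext h1
    have h3 : w (Subgroup.inclusion (irr_le_inertia H θ) n) = θ.1 n := by
      show ((v (hp n) : ℂˣ) : ℂ) = _
      rw [show hp (n : G) = n from Subtype.ext (by simp [hp, h1])]
      rfl
    simp only [resIncl_apply, ψ, Pi.mul_apply, h2, h3, Pi.smul_apply, smul_eq_mul]
    ring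
  have hne : classInner (resIncl H (irr_le_inertia H θ) ψ.1) θ.1 ≠ 0 := by
    rw [hres, classInner_smul_left, classInner_irr_self θ.2, mul_one]
    exact IsIrrCharacter.apply_one_ne_zero β.2
  have hdeg : degree (cliffordInduce H θ ⟨ψ, hne⟩) = T.index * degree β := by
    refine degree_eq_of_apply_one ?_
    rw [cliffordInduce_apply_one, Nat.cast_mul, ← apply_one_eq_degree β]
    congr 1
    · congr 1
      rw [show inertia H θ.1 = T.comap π from Subgroup.ext hI,
        Subgroup.index_comap_of_surjective T fun q => ⟨(q : G), hπQ q⟩]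
    · show w 1 * β.1 (πI 1) = _
      rw [map_one, map_one, one_mul]
  rw [← hdeg]
  exact hcd _

/-- An action on an abelian group of coprime exponent all of whose non-trivial stabilisers have
the same index: a normal stabiliser fixes everything. -/
theorem common_stabilizer_aux {m k : ℕ} {V : Type*} [CommGroup V] {Q : Type*} [Group Q] [Finite Q]
    (act : Q → V →* V) (hact : ∀ g g' v, act g (act g' v) = act (g' * g) v)
    (hexp : ∀ v : V, v ^ k = 1) (hco : k.Coprime (Nat.card Q)) (stab : V → Subgroup Q)
    (hstab : ∀ v q, q ∈ stab v ↔ act q v = v) (hm : m ≠ 0)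
    (hidx : ∀ v, stab v ≠ ⊤ → (stab v).index = m) (v₀ : V) (hv₀ : stab v₀ ≠ ⊤)
    (hnorm : (stab v₀).Normal) : ∀ v, stab v₀ ≤ stab v := by
  set T := stab v₀ with hTdef
  haveI := Fintype.ofFinite T
  let N : V →* V := ∏ t : T, act (t : Q)
  have hN : ∀ v, N v = ∏ t : T, act (t : Q) v := fun v => MonoidHom.finsetProd_apply _ _ _
  have hNfix : ∀ v, ∀ s : T, act (s : Q) (N v) = N v := fun v s => by
    rw [hN, map_prod]
    simp only [hact]
    exact Fintype.prod_equiv (Equiv.mulRight s) _ _ fun t => rfl
  have hNq : ∀ v, ∀ q : Q, act q (N v) = N (act q v) := fun v q => by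
    rw [hN, hN, map_prod]
    simp only [hact]
    refine Fintype.prod_equiv ((MulAut.conjNormal (H := T) q⁻¹).toEquiv) _ _ fun t => ?_
    congr 2
    simp [mul_assoc]
  have hNT : ∀ v, (∀ t : T, act (t : Q) v = v) → N v = v ^ Nat.card T := fun v hv => by
    rw [hN, Finset.prod_congr rfl fun t _ => hv t, Finset.prod_const, Finset.card_univ,
      Nat.card_eq_fintype_card]
  have hcoT : k.Coprime (Nat.card T) := hco.coprime_dvd_right (Subgroup.card_subgroup_dvd_card T)
  have hroot : ∀ v : V, v ^ Nat.card T = 1 → v = 1 := fun v hv => by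
    rw [← orderOf_eq_one_iff]
    exact Nat.eq_one_of_dvd_coprimes hcoT (orderOf_dvd_of_pow_eq_one (hexp v))
      (orderOf_dvd_of_pow_eq_one hv)
  intro w
  set n := Nat.card T
  set w2 := w ^ n / N w with hw2
  have hNw2 : N w2 = 1 := by
    rw [hw2, map_div, map_pow, hNT (N w) (hNfix w), div_self']
  by_cases hfix : ∀ t : T, act (t : Q) w2 = w2
  · have h1 : w2 = 1 := hroot _ (by rw [← hNT w2 hfix, hNw2])
    rw [hw2, div_eq_one] at h1
    intro q hq
    rw [hstab]
    have h2 : (act q w / w) ^ n = 1 := by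
      rw [div_pow, ← map_pow, h1, hNfix w ⟨q, hq⟩, div_self']
    exact div_eq_one.1 (hroot _ h2)
  · exfalso
    push Not at hfix
    obtain ⟨t, ht⟩ := hfix
    have hv₀T : ∀ s : T, act (s : Q) v₀ = v₀ := fun s => (hstab v₀ s).1 s.2
    set u := v₀ * w2
    have hut : act (t : Q) u ≠ u := by
      rw [map_mul, hv₀T]
      exact fun h => ht (mul_left_cancel h)
    have hu : stab u ≠ ⊤ := fun h => hut ((hstab u t).1 (h ▸ Subgroup.mem_top _))
    have hle : stab u ≤ T := fun q hq => by
      have h1 : act q u = u := (hstab u q).1 hq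
      have h2 : N u = v₀ ^ n := by rw [map_mul, hNw2, mul_one, hNT _ hv₀T]
      have h3 : act q (v₀ ^ n) = v₀ ^ n := by rw [← h2, hNq, h1]
      rw [hstab]
      refine div_eq_one.1 (hroot _ ?_)
      rw [div_pow, ← map_pow, h3, div_self']
    have heq : stab u = T := by
      refine Subgroup.eq_of_le_of_card_ge hle (le_of_eq ?_)
      have e1 := (stab u).card_mul_index
      have e2 := T.card_mul_index
      rw [hidx u hu] at e1
      rw [hidx v₀ hv₀] at e2
      exact Nat.eq_of_mul_eq_mul_right (Nat.pos_of_ne_zero hm) (e2.trans e1.symm)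
    exact hut ((hstab u t).1 (by rw [heq]; exact t.2))

/-- The same, for the action on the linear characters of a normal subgroup. -/
theorem common_stabilizer {m : ℕ} (hm : 1 < m) (H Q : Subgroup G) [H.Normal]
    (hco : (Nat.card H).Coprime (Nat.card Q)) (stab : (H →* ℂˣ) → Subgroup Q)
    (hstab : ∀ v q, q ∈ stab v ↔ v.comp (MulAut.conjNormal (q : G) : H ≃* H).toMonoidHom = v)
    (hidx : ∀ v, stab v ≠ ⊤ → (stab v).index = m) (v₀ : H →* ℂˣ) (hv₀ : stab v₀ ≠ ⊤)
    (hnorm : (stab v₀).Normal) : ∀ v, stab v₀ ≤ stab v :=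
  common_stabilizer_aux (k := Nat.card H)
    (fun q : Q =>
      { toFun := fun v => v.comp (MulAut.conjNormal (q : G) : H ≃* H).toMonoidHom
        map_one' := rfl
        map_mul' := fun _ _ => rfl })
    (fun g g' v => MonoidHom.ext fun h => by
      show v (MulAut.conjNormal (g' : G) (MulAut.conjNormal (g : G) h)) = _
      rw [← MulAut.mul_apply, ← map_mul]
      rfl)
    (fun v => MonoidHom.ext fun h => by
      rw [MonoidHom.pow_apply, ← map_pow, pow_card_eq_one', map_one, MonoidHom.one_apply])
    hco stab hstab (by omega) hidx v₀ hv₀ hnorm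

/-- Linear characters separate an abelian group. -/
theorem eq_one_of_forall_hom {H : Type u} [Group H] [Finite H] (hab : ∀ a b : H, a * b = b * a)
    {h : H} (hh : ∀ v : H →* ℂˣ, v h = 1) : h = 1 := by
  haveI := Fintype.ofFinite H
  by_contra hne
  have h1 := sum_irr_degree_mul h
  rw [if_neg hne] at h1
  have h2 : ∀ χ : IrrCharacter H, χ.1 1 * χ.1 h = 1 := fun χ => by
    obtain ⟨l, hl⟩ := IsCharacter.exists_monoidHom (irr_isCharacter χ) (apply_one_of_comm hab χ)
    have h3 : l h = 1 := congrArg Units.val (hh l.toHomUnits)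
    rw [← hl, map_one, one_mul, h3]
  rw [Finset.sum_congr rfl fun χ _ => h2 χ, Finset.sum_const, nsmul_eq_mul, mul_one,
    Nat.cast_eq_zero, Finset.card_eq_zero] at h1
  exact (Finset.univ_nonempty_iff.2 ⟨trivialChar H⟩).ne_empty h1

/-- Isaacs 12.5. -/
theorem exists_abelian_index_or_central {m : ℕ} (hm : 1 < m)
    (hcd : ∀ χ : IrrCharacter G, degree χ = 1 ∨ degree χ = m)
    (hex : ∃ χ : IrrCharacter G, degree χ = m) :
    (∃ A : Subgroup G, A.Normal ∧ (∀ a ∈ A, ∀ b ∈ A, a * b = b * a) ∧ A.index = m) ∨
      ∃ p e : ℕ, p.Prime ∧ m = p ^ e ∧ ∃ H : Subgroup G, H ≤ Subgroup.center G ∧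
        ¬ p ∣ Nat.card H ∧ ∃ k : ℕ, H.index = p ^ k := by
  have hm0 : m ≠ 0 := by omega
  set K : ℕ → Subgroup G := fun p => Cfsg.pResidual p G with hKdef
  have hKn : ∀ p, (K p).Normal := fun p => Transfer.pResidual_normal p
  have hKcard : ∀ p ∈ m.primeFactors, ¬ p ∣ Nat.card (K p) := fun p hp =>
    not_dvd_card_pResidual_of_dvd_degree p (Nat.prime_of_mem_primeFactors hp) fun χ hχ =>
      ((hcd χ).resolve_left hχ).symm ▸ Nat.dvd_of_mem_primeFactors hp
  have hquot : ∀ p ∈ m.primeFactors, ∀ x : G, ∃ k : ℕ, x ^ p ^ k ∈ K p := fun p hp x => by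
    haveI := Fact.mk (Nat.prime_of_mem_primeFactors hp)
    haveI := hKn p
    obtain ⟨k, hk⟩ := Transfer.isPGroup_quotient_pResidual (G := G) p (x : G ⧸ K p)
    exact ⟨k, (QuotientGroup.eq_one_iff _).1 (by rw [QuotientGroup.mk_pow]; exact hk)⟩
  set H : Subgroup G := ⨅ p : m.primeFactors, K p with hHdef
  haveI hHn : H.Normal := Subgroup.normal_iInf_normal fun p => hKn p
  have hHle : ∀ p ∈ m.primeFactors, H ≤ K p := fun p hp =>
    iInf_le (fun p : m.primeFactors => K p) ⟨p, hp⟩
  have hHcard : ∀ p ∈ m.primeFactors, ¬ p ∣ Nat.card H := fun p hp hd =>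
    hKcard p hp (hd.trans (Subgroup.card_dvd_of_le (hHle p hp)))
  have hHidx : ∀ q : ℕ, q.Prime → q ∣ H.index → q ∈ m.primeFactors := by
    intro q hq hd
    haveI := Fact.mk hq
    by_contra hqm
    rw [Subgroup.index_eq_card] at hd
    obtain ⟨y, hy⟩ := exists_prime_orderOf_dvd_card' q hd
    obtain ⟨x, rfl⟩ := QuotientGroup.mk_surjective y
    have hx : x ^ q ∈ H := (QuotientGroup.eq_one_iff _).1
      (by rw [QuotientGroup.mk_pow, ← hy, pow_orderOf_eq_one])
    have hxH : x ∈ H := by
      rw [hHdef, Subgroup.mem_iInf]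
      intro p
      haveI := hKn p
      obtain ⟨k, hk⟩ := hquot p p.2 x
      rw [← QuotientGroup.eq_one_iff (N := K p), ← orderOf_eq_one_iff]
      have hne : q ≠ p := fun h => hqm (h ▸ p.2)
      refine Nat.eq_one_of_dvd_coprimes
        (((Nat.coprime_primes hq (Nat.prime_of_mem_primeFactors p.2)).2 hne).pow_right k)
        (orderOf_dvd_of_pow_eq_one ?_) (orderOf_dvd_of_pow_eq_one ?_)
      · rw [← QuotientGroup.mk_pow]
        exact (QuotientGroup.eq_one_iff _).2 (hHle p p.2 hx)
      · rw [← QuotientGroup.mk_pow]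
        exact (QuotientGroup.eq_one_iff _).2 hk
    rw [(QuotientGroup.eq_one_iff x).2 hxH, orderOf_one] at hy
    exact hq.one_lt.ne hy
  have hcop : (Nat.card H).Coprime H.index := Nat.coprime_of_dvd fun q hq h1 h2 =>
    hHcard q (hHidx q hq h2) h1
  -- `H` is abelian
  haveI := Fintype.ofFinite H
  have hHab : ∀ a b : H, a * b = b * a := by
    rw [← forall_apply_one_iff_comm]
    intro θ
    obtain ⟨χ, hχ⟩ := Glauberman.exists_over H.subtype H.subtype_injective θ
    obtain ⟨hd, -⟩ := S0887.result H χ.1 χ.2 θ.1 θ.2 hχ (degree χ) (degree θ)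
      (apply_one_eq_degree χ) (apply_one_eq_degree θ)
    have hdc : degree θ ∣ Nat.card H := by rw [← charDegree_eq_degree]; exact charDegree_dvd_card θ
    have : degree θ = 1 := by
      rcases hcd χ with h | h
      · exact Nat.dvd_one.1 (h ▸ hd)
      · by_contra h1
        obtain ⟨q, hq, hqd⟩ := Nat.exists_prime_and_dvd h1
        exact hHcard q (hq.mem_primeFactors (hqd.trans (h ▸ hd)) hm0) (hqd.trans hdc)
    rw [apply_one_eq_degree, this, Nat.cast_one]
  obtain ⟨Q, hQ⟩ := Subgroup.exists_right_complement'_of_coprime hcop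
  haveI := Fintype.ofFinite Q
  -- projection on the complement
  have hbij : Function.Bijective fun q : Q => ((q : G) : G ⧸ H) := by
    refine ⟨fun a b hab => ?_, fun y => ?_⟩
    · have h1 : (a : G)⁻¹ * b ∈ H ⊓ Q :=
        ⟨QuotientGroup.eq.1 hab, Q.mul_mem (Q.inv_mem a.2) b.2⟩
      rw [hQ.disjoint.eq_bot, Subgroup.mem_bot, inv_mul_eq_one] at h1
      exact Subtype.ext h1
    · obtain ⟨x, rfl⟩ := QuotientGroup.mk_surjective y
      obtain ⟨⟨⟨a, ha⟩, b⟩, hab⟩ := hQ.existsUnique x |>.exists
      refine ⟨b, ?_⟩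
      rw [← show a * (b : G) = x from hab]
      show ((b : G) : G ⧸ H) = _
      rw [QuotientGroup.mk_mul, (QuotientGroup.eq_one_iff a).2 ha, one_mul]
  let eQ : Q ≃* G ⧸ H := MulEquiv.ofBijective ((QuotientGroup.mk' H).comp Q.subtype) hbij
  let π : G →* Q := eQ.symm.toMonoidHom.comp (QuotientGroup.mk' H)
  have hπQ : ∀ q : Q, π q = q := fun q => eQ.symm_apply_apply q
  have hπH : π.ker = H := by
    ext x
    simp [π, MonoidHom.mem_ker]
  have hπmem : ∀ x : G, x * ((π x : Q) : G)⁻¹ ∈ H := fun x => by
    rw [← hπH, MonoidHom.mem_ker, map_mul, map_inv, hπQ, mul_inv_cancel]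
  have hπsurj : Function.Surjective π := fun q => ⟨q, hπQ q⟩
  let stab : (H →* ℂˣ) → Subgroup Q := fun v =>
    { carrier := {q | v.comp (MulAut.conjNormal (q : G) : H ≃* H).toMonoidHom = v}
      one_mem' := MonoidHom.ext fun h => by simp
      mul_mem' := fun {a b} ha hb => MonoidHom.ext fun h => by
        have h1 := DFunLike.congr_fun ha (MulAut.conjNormal (b : G) h)
        have h2 := DFunLike.congr_fun hb h
        simp only [MonoidHom.comp_apply, MulEquiv.coe_toMonoidHom] at h1 h2 ⊢
        rw [Subgroup.coe_mul, map_mul, MulAut.mul_apply, h1, h2]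
      inv_mem' := fun {a} ha => MonoidHom.ext fun h => by
        have h1 := DFunLike.congr_fun ha (MulAut.conjNormal ((a : G)⁻¹) h)
        simp only [MonoidHom.comp_apply, MulEquiv.coe_toMonoidHom] at h1 ⊢
        rw [← MulAut.mul_apply, ← map_mul, mul_inv_cancel, map_one, MulAut.one_apply] at h1
        rw [Subgroup.coe_inv, h1] }
  have hstab : ∀ v q, q ∈ stab v ↔
      v.comp (MulAut.conjNormal (q : G) : H ≃* H).toMonoidHom = v := fun _ _ => Iff.rfl
  have hover : ∀ v, ∀ β : IrrCharacter (stab v),
      (stab v).index * degree β = 1 ∨ (stab v).index * degree β = m := fun v =>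
    haveI := Fintype.ofFinite (stab v)
    degree_over_linear hcd H Q π hπQ hπH v (stab v) fun q => MonoidHom.ext_iff
  have hidx : ∀ v, stab v ≠ ⊤ → (stab v).index = m := by
    intro v hv
    haveI := Fintype.ofFinite (stab v)
    have h1 : degree (trivialChar (stab v)) = 1 := degree_eq_of_apply_one (by simp [trivialChar])
    rcases hover v (trivialChar _) with h | h <;> rw [h1, mul_one] at h
    · exact absurd (Subgroup.index_eq_one.1 h) hv
    · exact h
  have hcdQ : ∀ β : IrrCharacter Q, degree β = 1 ∨ degree β = m := fun β => by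
    have := hcd ⟨fun x => β.1 (π x), IsIrrCharacter.comp_surjective β.2 π hπsurj⟩
    rwa [degree_eq_of_apply_one (n := degree β) (χ := ⟨fun x => β.1 (π x), _⟩)
      (by simp [apply_one_eq_degree])] at this
  by_cases hmove : ∃ v, stab v ≠ ⊤
  · left
    obtain ⟨v₀, hv₀⟩ := hmove
    set T := stab v₀ with hTdef
    haveI := Fintype.ofFinite T
    haveI hTn : T.Normal := ⟨fun t ht q => by
      have h1 : ⁅q, t⁆ ∈ T := commutator_le_of_index hm hcdQ T (hidx v₀ hv₀)
        (Subgroup.commutator_mem_commutator (Subgroup.mem_top q) (Subgroup.mem_top t))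
      have h2 : q * t * q⁻¹ = ⁅q, t⁆ * t := by rw [commutatorElement_def]; group
      rw [h2]
      exact T.mul_mem h1 ht⟩
    have hTab : ∀ a b : T, a * b = b * a := by
      rw [← forall_apply_one_iff_comm]
      intro β
      have h1 : degree β = 1 := by
        rcases hover v₀ β with h | h <;> rw [hidx v₀ hv₀] at h
        · exact absurd (Nat.eq_one_of_mul_eq_one_right h) (by omega)
        · exact (mul_eq_left₀ hm0).1 h
      rw [apply_one_eq_degree, h1, Nat.cast_one]
    have hco : (Nat.card H).Coprime (Nat.card Q) := by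
      rwa [← Nat.card_congr eQ.toEquiv.symm, ← Subgroup.index_eq_card]
    have hall := common_stabilizer hm H Q hco stab hstab hidx v₀ hv₀ hTn
    have hcent : ∀ t ∈ T, ∀ h : H, (t : G) * h = h * t := by
      intro t ht h
      have h1 : MulAut.conjNormal (t : G) h * h⁻¹ = 1 := eq_one_of_forall_hom hHab fun v => by
        have := DFunLike.congr_fun ((hstab v t).1 (hall v ht)) h
        simp only [MonoidHom.comp_apply, MulEquiv.coe_toMonoidHom] at this
        rw [map_mul, map_inv, this, mul_inv_cancel]
      rw [mul_inv_eq_one] at h1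
      have h2 := congrArg Subtype.val h1
      rw [MulAut.conjNormal_apply] at h2
      exact mul_inv_eq_iff_eq_mul.1 h2
    refine ⟨T.comap π, inferInstance, fun a ha b hb => ?_, ?_⟩
    · have hdec : ∀ x : G, x = x * ((π x : Q) : G)⁻¹ * (π x : Q) := fun x => by group
      rw [hdec a, hdec b]
      have c1 : Commute (⟨_, hπmem a⟩ : H).1 (⟨_, hπmem b⟩ : H).1 :=
        congrArg Subtype.val (hHab ⟨_, hπmem a⟩ ⟨_, hπmem b⟩)
      have c2 : Commute ((π a : Q) : G) ((π b : Q) : G) :=
        congrArg (fun z : T => ((z : Q) : G)) (hTab ⟨_, ha⟩ ⟨_, hb⟩)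
      have c3 : Commute ((π a : Q) : G) (⟨_, hπmem b⟩ : H).1 := hcent _ ha _
      have c4 : Commute ((π b : Q) : G) (⟨_, hπmem a⟩ : H).1 := hcent _ hb _
      exact ((c1.mul_right c4.symm).mul_left (c3.mul_right c2)).eq
    · rw [Subgroup.index_comap_of_surjective T hπsurj, hidx v₀ hv₀]
  · push Not at hmove
    -- `H` is central
    have hHQ : ∀ (q : Q) (h : H), (q : G) * h = h * q := fun q h => by
      have h1 : MulAut.conjNormal (q : G) h * h⁻¹ = 1 := eq_one_of_forall_hom hHab fun v => by
        have := DFunLike.congr_fun ((hstab v q).1 (hmove v ▸ Subgroup.mem_top q)) h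
        simp only [MonoidHom.comp_apply, MulEquiv.coe_toMonoidHom] at this
        rw [map_mul, map_inv, this, mul_inv_cancel]
      rw [mul_inv_eq_one] at h1
      have h2 := congrArg Subtype.val h1
      rw [MulAut.conjNormal_apply] at h2
      exact mul_inv_eq_iff_eq_mul.1 h2
    have hHZ : H ≤ Subgroup.center G := fun h hh => by
      rw [Subgroup.mem_center_iff]
      intro x
      have h1 := congrArg Subtype.val (hHab ⟨_, hπmem x⟩ ⟨h, hh⟩)
      simp only [Subgroup.coe_mul] at h1
      calc x * h = x * ((π x : Q) : G)⁻¹ * ((π x : Q) * h) := by group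
        _ = x * ((π x : Q) : G)⁻¹ * (h * (π x : Q)) := by rw [hHQ (π x) ⟨h, hh⟩]
        _ = h * (x * ((π x : Q) : G)⁻¹) * (π x : Q) := by rw [← mul_assoc, h1]
        _ = h * x := by group
    right
    -- some Sylow quotient is not abelian
    obtain ⟨p, hp, hnab⟩ : ∃ p ∈ m.primeFactors, ¬ commutator G ≤ K p := by
      by_contra! hall
      have hcomm : ∀ a b : G, ⁅a, b⁆ ∈ H := fun a b => by
        rw [hHdef, Subgroup.mem_iInf]
        exact fun p => hall p p.2 (Subgroup.commutator_mem_commutator (Subgroup.mem_top a) (Subgroup.mem_top b))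
      have key : ∀ p ∈ m.primeFactors, ∀ P : Sylow p G, (P : Subgroup G) ≤ Subgroup.center G := by
        intro p hp P x hx
        rw [Subgroup.mem_center_iff]
        intro y
        obtain ⟨a, ha⟩ := P.2 ⟨x, hx⟩
        have hxa : x ^ p ^ a = 1 := congrArg Subtype.val ha
        set c := ⁅x, y⁆ with hc
        have hcH : c ∈ H := hcomm x y
        have hpow : ∀ i : ℕ, x ^ i * y * (x ^ i)⁻¹ = c ^ i * y := by
          intro i
          induction i with
          | zero => simp
          | succ i ih =>
            have hcc := Subgroup.mem_center_iff.1 (hHZ (H.pow_mem hcH i)) x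
            calc x ^ (i + 1) * y * (x ^ (i + 1))⁻¹
                = x * (x ^ i * y * (x ^ i)⁻¹) * x⁻¹ := by rw [pow_succ']; group
              _ = c ^ i * (x * y * x⁻¹) := by rw [ih, ← mul_assoc, hcc]; group
              _ = c ^ (i + 1) * y := by rw [pow_succ, hc, commutatorElement_def]; group
        have hc1 : c = 1 := by
          have h1 := hpow (p ^ a)
          rw [hxa, one_mul, inv_one, mul_one, right_eq_mul] at h1
          rw [← orderOf_eq_one_iff]
          refine Nat.eq_one_of_dvd_coprimes
            (((Nat.prime_of_mem_primeFactors hp).coprime_iff_not_dvd.2 (hHcard p hp)).pow_left a)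
            (orderOf_dvd_of_pow_eq_one h1) ?_
          have h2 := orderOf_dvd_natCard (⟨c, hcH⟩ : H)
          rwa [← Subgroup.orderOf_coe] at h2
        exact (commutatorElement_eq_one_iff_commute.1 hc1).eq.symm
      have hZ : (Subgroup.center G).index = 1 := by
        by_contra hne
        obtain ⟨q, hq, hqd⟩ := Nat.exists_prime_and_dvd hne
        have hqH : q ∈ m.primeFactors := hHidx q hq (hqd.trans (Subgroup.index_dvd_of_le hHZ))
        haveI := Fact.mk hq
        let P : Sylow q G := default
        exact P.not_dvd_index (hqd.trans (Subgroup.index_dvd_of_le (key q hqH P)))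
      obtain ⟨χ, hχ⟩ := hex
      have habG : ∀ a b : G, a * b = b * a := fun a b => by
        rw [Subgroup.index_eq_one] at hZ
        exact Subgroup.mem_center_iff.1 (hZ ▸ Subgroup.mem_top b) a
      have := degree_eq_of_apply_one (χ := χ) (n := 1) (by rw [apply_one_of_comm habG χ, Nat.cast_one])
      omega
    have hpp := Nat.prime_of_mem_primeFactors hp
    haveI := Fact.mk hpp
    haveI := hKn p
    haveI : Fintype (G ⧸ K p) := Fintype.ofFinite _
    obtain ⟨ψ, hψ⟩ : ∃ ψ : IrrCharacter (G ⧸ K p), ψ.1 1 ≠ 1 := by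
      by_contra! hall
      refine hnab ?_
      rw [commutator_def, Subgroup.commutator_le]
      intro a _ b _
      rw [← QuotientGroup.eq_one_iff, ← QuotientGroup.mk'_apply, map_commutatorElement]
      exact commutatorElement_eq_one_iff_commute.2 (forall_apply_one_iff_comm.1 hall _ _)
    have hdψ : degree ψ = m := by
      have h1 : degree (inflate (K p) ψ) = degree ψ :=
        degree_eq_of_apply_one (by simp [apply_one_eq_degree])
      rcases hcd (inflate (K p) ψ) with h | h
      · exact absurd (by rw [apply_one_eq_degree, ← h1, h, Nat.cast_one]) hψ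
      · rw [← h1, h]
    obtain ⟨a, ha⟩ := (IsPGroup.iff_card (p := p)).1 (Transfer.isPGroup_quotient_pResidual (G := G) p)
    obtain ⟨e, -, he⟩ := (Nat.dvd_prime_pow hpp).1 (by
      rw [← ha]; exact charDegree_dvd_card ψ : charDegree ψ.1 ∣ p ^ a)
    rw [charDegree_eq_degree] at he
    rw [hdψ] at he
    refine ⟨p, e, hpp, he, H, hHZ, hHcard p hp, H.index.primeFactorsList.length, ?_⟩
    rw [← Nat.eq_prime_pow_of_unique_prime_dvd Subgroup.index_ne_zero_of_finite fun {q} hq hqd => ?_]
    have h1 := Nat.dvd_of_mem_primeFactors (hHidx q hq hqd)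
    rw [he] at h1
    exact (Nat.prime_dvd_prime_iff_eq hq hpp).1 (hq.dvd_of_dvd_pow h1)

end Cfsg.Agent.Char
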